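import Mathlib.Topology.KrullDimension
import Mathlib.Topology.NoetherianSpace
import Groth.Prelude.Def_Flat

/-!
# Helper library (helper9): combinatorial (Krull) dimension of topological spaces
-/

set_option autoImplicit false

open TopologicalSpace Order Topology

namespace Groth.Agent.Lib.Helper9

section
variable {X : Type*} [TopologicalSpace X]

lemma isPreirreducible_preimage_val {S V : Set X} (hVS : V ⊆ S) (hV : IsPreirreducible V) :
    IsPreirreducible (Subtype.val ⁻¹' V : Set S) := by
  intro u v hu hv hau hbv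
  obtain ⟨a, haV, hau⟩ := hau
  obtain ⟨b, hbV, hbv⟩ := hbv
  obtain ⟨u', hu', rfl⟩ := isOpen_induced_iff.mp hu
  obtain ⟨v', hv', rfl⟩ := isOpen_induced_iff.mp hv
  obtain ⟨z, hzV, hzu, hzv⟩ := hV u' v' hu' hv' ⟨a.1, haV, hau⟩ ⟨b.1, hbV, hbv⟩
  exact ⟨⟨z, hVS hzV⟩, hzV, hzu, hzv⟩

/-- Key lemma: a chain of irreducible closed subsets of `X` whose traces on `S` are irreducible and
dense in the members gives a chain of the same length in `S`. -/
lemma length_le_topologicalKrullDim_of_forall (S : Set X) (p : LTSeries (IrreducibleCloseds X))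
    (h1 : ∀ i, IsIrreducible (Subtype.val ⁻¹' (p i : Set X) : Set S))
    (h2 : ∀ i, (p i : Set X) ⊆ closure ((p i : Set X) ∩ S)) :
    (p.length : WithBot ℕ∞) ≤ topologicalKrullDim S := by
  have key : ∀ j, (p j : Set X) =
      closure (Subtype.val '' (Subtype.val ⁻¹' (p j : Set X) : Set S)) := by
    intro j
    rw [Subtype.image_preimage_coe]
    apply subset_antisymm
    · rw [Set.inter_comm]; exact h2 j
    · exact closure_minimal Set.inter_subset_right (p j).isClosed
  let q0 : Fin (p.length + 1) → IrreducibleCloseds S := fun i =>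
    ⟨Subtype.val ⁻¹' (p i : Set X), h1 i, (p i).isClosed.preimage continuous_subtype_val⟩
  have hq : ∀ i : Fin p.length, q0 i.castSucc < q0 i.succ := by
    intro i
    have hlt : p i.castSucc < p i.succ := p.step i
    refine lt_of_le_of_ne (SetLike.le_def.mpr fun x hx => SetLike.le_def.mp hlt.le hx) ?_
    intro heq
    apply hlt.ne
    apply IrreducibleCloseds.ext
    rw [key i.castSucc, key i.succ]
    have : (Subtype.val ⁻¹' (p i.castSucc : Set X) : Set S) =
        Subtype.val ⁻¹' (p i.succ : Set X) :=
      congrArg (fun Z : IrreducibleCloseds S => (Z : Set S)) heq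
    rw [this]
  let q : LTSeries (IrreducibleCloseds S) := { length := p.length, toFun := q0, step := hq }
  exact Order.LTSeries.length_le_krullDim q

lemma length_le_topologicalKrullDim_of_isOpen {U : Set X} (hU : IsOpen U)
    (p : LTSeries (IrreducibleCloseds X)) (h : ((p.head : Set X) ∩ U).Nonempty) :
    (p.length : WithBot ℕ∞) ≤ topologicalKrullDim U := by
  have hne : ∀ i, ((p i : Set X) ∩ U).Nonempty := fun i =>
    h.mono (Set.inter_subset_inter_left _ (fun z hz => SetLike.le_def.mp (p.head_le i) hz))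
  refine length_le_topologicalKrullDim_of_forall U p (fun i => ?_) (fun i => ?_)
  · refine (p i).isIrreducible.preimage hU.isOpenEmbedding_subtypeVal ?_
    rw [Subtype.range_coe]; exact hne i
  · exact subset_closure_inter_of_isPreirreducible_of_isOpen
      (p i).isIrreducible.isPreirreducible hU (hne i)

lemma length_le_topologicalKrullDim_of_last_subset (S : Set X)
    (p : LTSeries (IrreducibleCloseds X)) (h : (p.last : Set X) ⊆ S) :
    (p.length : WithBot ℕ∞) ≤ topologicalKrullDim S := by
  have hsub : ∀ i, (p i : Set X) ⊆ S := fun i =>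
    Set.Subset.trans (fun z hz => SetLike.le_def.mp (p.monotone (Fin.le_last i)) hz) h
  refine length_le_topologicalKrullDim_of_forall S p
    (fun i => ⟨?_, isPreirreducible_preimage_val (hsub i) (p i).isIrreducible.isPreirreducible⟩)
    (fun i => ?_)
  · obtain ⟨z, hz⟩ := (p i).isIrreducible.nonempty
    exact ⟨⟨z, hsub i hz⟩, hz⟩
  · intro z hz; exact subset_closure ⟨hz, hsub i hz⟩

lemma topologicalKrullDim_le_of_forall {c : WithBot ℕ∞}
    (h : ∀ p : LTSeries (IrreducibleCloseds X), (p.length : WithBot ℕ∞) ≤ c) :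
    topologicalKrullDim X ≤ c := by
  unfold topologicalKrullDim
  rw [Order.krullDim]
  exact iSup_le h

lemma topologicalKrullDim_nonneg_of_nonempty [Nonempty X] : 0 ≤ topologicalKrullDim X := by
  obtain ⟨x⟩ := ‹Nonempty X›
  have : Nonempty (IrreducibleCloseds X) :=
    ⟨⟨closure {x}, isIrreducible_singleton.closure, isClosed_closure⟩⟩
  exact Order.krullDim_nonneg

lemma length_le_localDim (p : LTSeries (IrreducibleCloseds X)) {x : X}
    (hx : x ∈ (p.head : Set X)) : (p.length : WithBot ℕ∞) ≤ FlatMor.localDim X x := by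
  unfold FlatMor.localDim
  exact le_iInf fun U => length_le_topologicalKrullDim_of_isOpen U.1.isOpen p ⟨x, hx, U.2⟩

lemma localDim_le_topologicalKrullDim (x : X) : FlatMor.localDim X x ≤ topologicalKrullDim X :=
  iInf_le_of_le ⟨⊤, trivial⟩ (topologicalKrullDim_subspace_le X _)

lemma localDim_le_of_mem (U : Opens X) {x : X} (hx : x ∈ U) :
    FlatMor.localDim X x ≤ topologicalKrullDim (U : Set X) :=
  iInf_le (fun U : {U : Opens X // x ∈ U} => topologicalKrullDim (U.1 : Set X)) ⟨U, hx⟩

/-- The local dimension is attained on some open neighbourhood. -/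
lemma exists_opens_localDim_eq (x : X) :
    ∃ U : {U : Opens X // x ∈ U}, topologicalKrullDim (U.1 : Set X) = FlatMor.localDim X x := by
  have : Nonempty {U : Opens X // x ∈ U} := ⟨⟨⊤, trivial⟩⟩
  exact ciInf_mem (fun U : {U : Opens X // x ∈ U} => topologicalKrullDim (U.1 : Set X))

theorem topologicalKrullDim_eq_iSup_localDim :
    topologicalKrullDim X = ⨆ x : X, FlatMor.localDim X x := by
  apply le_antisymm
  · apply topologicalKrullDim_le_of_forall; intro p
    obtain ⟨x, hx⟩ := p.head.isIrreducible.nonempty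
    exact (length_le_localDim p hx).trans (le_iSup (fun x => FlatMor.localDim X x) x)
  · exact iSup_le fun x => localDim_le_topologicalKrullDim x

theorem topologicalKrullDim_eq_iSup_of_finite_closed_cover {ι : Type*} [Finite ι]
    (Y : ι → Set X) (hY : ∀ i, IsClosed (Y i)) (hcov : ⋃ i, Y i = Set.univ) :
    topologicalKrullDim X = ⨆ i, topologicalKrullDim (Y i) := by
  classical
  apply le_antisymm
  · apply topologicalKrullDim_le_of_forall; intro p
    have := Fintype.ofFinite ι
    obtain ⟨z, hz, hsub⟩ := (isIrreducible_iff_sUnion_isClosed.mp p.last.isIrreducible)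
      (Finset.univ.image Y)
      (by
        intro z hz
        obtain ⟨i, -, rfl⟩ := Finset.mem_image.mp hz
        exact hY i)
      (by
        rw [Finset.coe_image, Finset.coe_univ, Set.image_univ, Set.sUnion_range, hcov]
        exact Set.subset_univ _)
    obtain ⟨i, -, rfl⟩ := Finset.mem_image.mp hz
    exact (length_le_topologicalKrullDim_of_last_subset (Y i) p hsub).trans
      (le_iSup (fun i => topologicalKrullDim (Y i)) i)
  · exact iSup_le fun i => topologicalKrullDim_subspace_le X (Y i)

theorem topologicalKrullDim_eq_iSup_of_locallyFinite_closed_cover {ι : Type*}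
    (Y : ι → Set X) (hY : ∀ i, IsClosed (Y i)) (hlf : LocallyFinite Y)
    (hcov : ⋃ i, Y i = Set.univ) :
    topologicalKrullDim X = ⨆ i, topologicalKrullDim (Y i) := by
  classical
  apply le_antisymm
  · apply topologicalKrullDim_le_of_forall; intro p
    obtain ⟨x, hx⟩ := p.head.isIrreducible.nonempty
    obtain ⟨t, ht, hfin⟩ := hlf x
    obtain ⟨U, hUt, hUo, hxU⟩ := mem_nhds_iff.mp ht
    have hxlast : x ∈ (p.last : Set X) := SetLike.le_def.mp p.head_le_last hx
    have hcl : IsClosed (⋃ i ∈ {i | (Y i ∩ t).Nonempty}, Y i) :=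
      hfin.isClosed_biUnion (fun i _ => hY i)
    have h1 : (p.last : Set X) ∩ U ⊆ ⋃ i ∈ {i | (Y i ∩ t).Nonempty}, Y i := by
      rintro z ⟨-, hzU⟩
      have hz : z ∈ ⋃ i, Y i := by rw [hcov]; trivial
      obtain ⟨i, hi⟩ := Set.mem_iUnion.mp hz
      exact Set.mem_biUnion (show i ∈ {i | (Y i ∩ t).Nonempty} from ⟨z, hi, hUt hzU⟩) hi
    have h2 : (p.last : Set X) ⊆ ⋃ i ∈ {i | (Y i ∩ t).Nonempty}, Y i :=
      (subset_closure_inter_of_isPreirreducible_of_isOpen p.last.isIrreducible.isPreirreducible
        hUo ⟨x, hxlast, hxU⟩).trans (closure_minimal h1 hcl)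
    obtain ⟨z, hz, hsub⟩ := (isIrreducible_iff_sUnion_isClosed.mp p.last.isIrreducible)
      (hfin.toFinset.image Y)
      (by
        intro z hz
        obtain ⟨i, -, rfl⟩ := Finset.mem_image.mp hz
        exact hY i)
      (by
        rw [Finset.coe_image, Set.Finite.coe_toFinset, Set.sUnion_image]
        exact h2)
    obtain ⟨i, -, rfl⟩ := Finset.mem_image.mp hz
    exact (length_le_topologicalKrullDim_of_last_subset (Y i) p hsub).trans
      (le_iSup (fun i => topologicalKrullDim (Y i)) i)
  · exact iSup_le fun i => topologicalKrullDim_subspace_le X (Y i)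

/-- A Noetherian Kolmogoroff space of dimension `≤ 0` is finite and discrete. -/
theorem finite_discrete_of_topologicalKrullDim_le_zero [NoetherianSpace X] [T0Space X]
    (h : topologicalKrullDim X ≤ 0) : Finite X ∧ DiscreteTopology X := by
  have hmax : ∀ Z : IrreducibleCloseds X, IsMax Z := Order.krullDim_nonpos_iff_forall_isMax.mp h
  have hpt : ∀ (Z : IrreducibleCloseds X) (x : X), x ∈ Z → (Z : Set X) = closure {x} := by
    intro Z x hx
    let W : IrreducibleCloseds X := ⟨closure {x}, isIrreducible_singleton.closure, isClosed_closure⟩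
    have hWZ : W ≤ Z := SetLike.le_def.mpr fun z hz =>
      closure_minimal (Set.singleton_subset_iff.mpr hx) Z.isClosed hz
    have hZW : Z ≤ W := hmax W hWZ
    exact subset_antisymm (fun z hz => SetLike.le_def.mp hZW hz)
      (fun z hz => SetLike.le_def.mp hWZ hz)
  have hsing : ∀ (Z : IrreducibleCloseds X) (x : X), x ∈ Z → (Z : Set X) = {x} := by
    intro Z x hx
    apply subset_antisymm
    · intro y hy
      have h1 := hpt Z x hx
      have h2 := hpt Z y hy
      have h3 : closure ({x} : Set X) = closure {y} := h1.symm.trans h2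
      have h4 : Inseparable x y := inseparable_iff_closure_eq.mpr h3
      exact h4.eq.symm
    · exact Set.singleton_subset_iff.mpr hx
  have hT1 : T1Space X := ⟨fun x => by
    have h5 := hsing ⟨closure {x}, isIrreducible_singleton.closure, isClosed_closure⟩ x
      (subset_closure rfl)
    have h6 : closure ({x} : Set X) = {x} := h5
    rw [← h6]
    exact isClosed_closure⟩
  have hfin : Finite X := by
    have hcomp := NoetherianSpace.finite_irreducibleComponents (α := X)
    rw [← Set.finite_univ_iff, ← sUnion_irreducibleComponents]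
    refine hcomp.sUnion (fun Z hZ => ?_)
    obtain ⟨x, hx⟩ := hZ.prop.nonempty
    have h7 := hsing ⟨Z, hZ.prop, isClosed_of_mem_irreducibleComponents Z hZ⟩ x hx
    have h8 : Z = {x} := h7
    rw [h8]
    exact Set.finite_singleton x
  exact ⟨hfin, inferInstance⟩


lemma topdim_iSup_add_one_le {ι : Sort*} [Nonempty ι] (f : ι → ℕ∞) (D : WithBot ℕ∞)
    (h : ∀ i, ((f i : ℕ∞) : WithBot ℕ∞) + 1 ≤ D) : ((⨆ i, f i : ℕ∞) : WithBot ℕ∞) + 1 ≤ D := by
  obtain ⟨i0⟩ := ‹Nonempty ι›
  have hD : D ≠ ⊥ := by
    intro hD
    have h1 := h i0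
    rw [hD] at h1
    have h2 : ((f i0 : ℕ∞) : WithBot ℕ∞) + 1 = ((f i0 + 1 : ℕ∞) : WithBot ℕ∞) := by norm_cast
    rw [h2] at h1
    exact WithBot.coe_ne_bot (le_bot_iff.mp h1)
  obtain ⟨D', rfl⟩ := WithBot.ne_bot_iff_exists.mp hD
  have h' : ∀ i, f i + 1 ≤ D' := fun i => by exact_mod_cast h i
  have h3 : (⨆ i, f i) + 1 ≤ D' := by
    rw [ENat.iSup_add]; exact iSup_le h'
  exact_mod_cast h3

lemma topdim_lt_of_add_one_le {a : ℕ∞} {b : WithBot ℕ∞} (h : (a : WithBot ℕ∞) + 1 ≤ b)
    (hb : b ≠ ⊤) : (a : WithBot ℕ∞) < b := by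
  have hb' : b ≠ ⊥ := by
    intro hb'
    rw [hb'] at h
    have h2 : ((a : ℕ∞) : WithBot ℕ∞) + 1 = ((a + 1 : ℕ∞) : WithBot ℕ∞) := by norm_cast
    rw [h2] at h
    exact WithBot.coe_ne_bot (le_bot_iff.mp h)
  obtain ⟨b', rfl⟩ := WithBot.ne_bot_iff_exists.mp hb'
  have hb'' : b' ≠ ⊤ := fun h' => hb (by rw [h']; rfl)
  have h1 : a + 1 ≤ b' := by exact_mod_cast h
  exact_mod_cast (ENat.add_one_le_iff' hb'').mp h1

/-- In an irreducible space of finite dimension a proper closed subset has smaller dimension. -/
theorem topologicalKrullDim_lt_of_isClosed_of_ne_univ [IrreducibleSpace X]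
    (hfin : topologicalKrullDim X ≠ ⊤) (Y : Set X) (hY : IsClosed Y) (hYX : Y ≠ Set.univ) :
    topologicalKrullDim ↥Y < topologicalKrullDim X := by
  have hXnn : (0 : WithBot ℕ∞) ≤ topologicalKrullDim X := topologicalKrullDim_nonneg_of_nonempty
  let T : IrreducibleCloseds X :=
    ⟨Set.univ, IrreducibleSpace.isIrreducible_univ X, isClosed_univ⟩
  have key : ∀ p : LTSeries (IrreducibleCloseds Y),
      ((p.length : ℕ∞) : WithBot ℕ∞) + 1 ≤ topologicalKrullDim X := by
    intro p
    let p' : LTSeries (IrreducibleCloseds X) :=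
      p.map (IrreducibleCloseds.map Subtype.val continuous_subtype_val)
        (IrreducibleCloseds.map_strictMono_of_isInducing IsInducing.subtypeVal)
    have hlast : p'.last < T := by
      refine lt_of_le_of_ne (SetLike.le_def.mpr fun x _ => Set.mem_univ x) ?_
      intro heq
      apply hYX
      have h1 : (p'.last : Set X) ⊆ Y := by
        rw [LTSeries.last_map]
        exact closure_minimal (by rintro _ ⟨y, -, rfl⟩; exact y.2) hY
      rw [heq] at h1
      exact Set.eq_univ_of_univ_subset h1
    have h2 := Order.LTSeries.length_le_krullDim (p'.snoc T hlast)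
    have h3 : (p'.snoc T hlast).length = p.length + 1 := rfl
    rw [h3] at h2
    exact_mod_cast h2
  rcases isEmpty_or_nonempty (LTSeries (IrreducibleCloseds Y)) with hE | hN
  · have h4 : topologicalKrullDim ↥Y = ⊥ := by
      unfold topologicalKrullDim
      rw [Order.krullDim]
      exact iSup_of_empty _
    rw [h4]
    exact lt_of_lt_of_le (WithBot.bot_lt_coe 0) hXnn
  · have h1 := topdim_iSup_add_one_le
      (fun p : LTSeries (IrreducibleCloseds Y) => (p.length : ℕ∞)) _ key
    have h2 : topologicalKrullDim ↥Y =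
        ((⨆ p : LTSeries (IrreducibleCloseds Y), (p.length : ℕ∞) : ℕ∞) : WithBot ℕ∞) := by
      unfold topologicalKrullDim
      have : Nonempty (IrreducibleCloseds Y) := ⟨hN.some.head⟩
      exact Order.krullDim_eq_iSup_length
    rw [h2]
    exact topdim_lt_of_add_one_le h1 hfin

theorem topologicalKrullDim_eq_iSup_irreducibleComponents :
    topologicalKrullDim X = ⨆ Y ∈ irreducibleComponents X, topologicalKrullDim ↥Y := by
  apply le_antisymm
  · apply topologicalKrullDim_le_of_forall; intro p
    obtain ⟨Y, hY, hsub⟩ := exists_mem_irreducibleComponents_subset_of_isIrreducible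
      (p.last : Set X) p.last.isIrreducible
    exact (length_le_topologicalKrullDim_of_last_subset Y p hsub).trans
      (le_iSup₂ (f := fun Y (_ : Y ∈ irreducibleComponents X) => topologicalKrullDim ↥Y) Y hY)
  · exact iSup₂_le fun Y _ => topologicalKrullDim_subspace_le X Y

end

end Groth.Agent.Lib.Helper9
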