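import Groth.Agent.Lib.Helper9.GeomLib2

/-!
# Descent of geometric properties along field extensions
-/

namespace Groth.Agent.Lib.Helper9.GeomLib

open TensorProduct Module

universe u

/-- Properties of commutative rings that descend along injective maps and are preserved by base
change to an arbitrary extension field of an algebraically closed base field. -/
structure GoodProp (P : ∀ (T : Type u) [CommRing T], Prop) : Prop where
  inj : ∀ {T T' : Type u} [CommRing T] [CommRing T'] (f : T →+* T'),
    Function.Injective f → P T' → P T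
  algClosed : ∀ {k K R : Type u} [Field k] [IsAlgClosed k] [Field K] [Algebra k K] [CommRing R]
    [Algebra k R], P R → P (K ⊗[k] R)

/-- Properties preserved by purely inseparable base field extension. -/
structure InsepProp (P : ∀ (T : Type u) [CommRing T], Prop) : Prop where
  insep : ∀ {k K R : Type u} [Field k] [Field K] [Algebra k K] [IsPurelyInseparable k K]
    [CommRing R] [Algebra k R], P R → P (K ⊗[k] R)

theorem goodProp_trivIdem : GoodProp.{u} (fun T _ => TrivIdem T) :=
  ⟨fun f hf h => TrivIdem.of_injective f hf h, fun h => trivIdem_tensor_of_isAlgClosed h⟩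

theorem goodProp_nilradical : GoodProp.{u} (fun T _ => (nilradical T).IsPrime) :=
  ⟨fun f hf h => nilradical_isPrime_of_injective f hf h,
    fun h => nilradical_isPrime_tensor_of_isAlgClosed h⟩

theorem goodProp_isDomain : GoodProp.{u} (fun T _ => IsDomain T) :=
  ⟨fun f hf h => by haveI := h; exact hf.isDomain f,
    fun h => by haveI := h; exact isDomain_tensor_of_isAlgClosed⟩

theorem insepProp_trivIdem : InsepProp.{u} (fun T _ => TrivIdem T) :=
  ⟨fun h => trivIdem_tensor_of_isPurelyInseparable h⟩

theorem insepProp_nilradical : InsepProp.{u} (fun T _ => (nilradical T).IsPrime) :=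
  ⟨fun h => nilradical_isPrime_tensor_of_isPurelyInseparable h⟩

theorem GoodProp.of_ringEquiv {P : ∀ (T : Type u) [CommRing T], Prop} (hP : GoodProp P)
    {T T' : Type u} [CommRing T] [CommRing T'] (e : T ≃+* T') (h : P T') : P T :=
  hP.inj e.toRingHom e.injective h

/-- `k ⊆ M ⊆ L ⊇ k'` with `M` algebraically closed: `P (M ⊗ R)` implies `P (k' ⊗ R)`. -/
theorem GoodProp.of_tower {P : ∀ (T : Type u) [CommRing T], Prop} (hP : GoodProp P)
    {k : Type u} [Field k] (R : Type u) [CommRing R] [Algebra k R]
    (k' : Type u) [Field k'] [Algebra k k']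
    (L : Type u) [Field L] [Algebra k L] [Algebra k' L] [IsScalarTower k k' L]
    (M : Type u) [Field M] [Algebra k M] [Algebra M L] [IsScalarTower k M L]
    [IsAlgClosed M] (h1 : P (M ⊗[k] R)) : P (k' ⊗[k] R) := by
  have h2 : P (L ⊗[M] (M ⊗[k] R)) := hP.algClosed h1
  have h3 : P (L ⊗[k] R) :=
    hP.of_ringEquiv (Algebra.TensorProduct.cancelBaseChange k M M L R).symm.toRingEquiv h2
  exact hP.inj (Algebra.TensorProduct.map (IsScalarTower.toAlgHom k k' L) (AlgHom.id k R)).toRingHom
    (map_injective (R := R) (IsScalarTower.toAlgHom k k' L) (algebraMap k' L).injective) h3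

/-- `k ⊆ M ⊆ L` with `L / M` purely inseparable: `P (M ⊗ R)` implies `P (L ⊗ R)`. -/
theorem InsepProp.of_tower {P : ∀ (T : Type u) [CommRing T], Prop} (hP : GoodProp P)
    (hP' : InsepProp P) {k : Type u} [Field k] (R : Type u) [CommRing R] [Algebra k R]
    (M L : Type u) [Field M] [Field L] [Algebra k M] [Algebra k L] [Algebra M L]
    [IsScalarTower k M L] [IsPurelyInseparable M L] (h : P (M ⊗[k] R)) : P (L ⊗[k] R) := by
  have h2 : P (L ⊗[M] (M ⊗[k] R)) := hP'.insep h
  exact hP.of_ringEquiv (Algebra.TensorProduct.cancelBaseChange k M M L R).symm.toRingEquiv h2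

theorem GoodProp.of_algebraicClosure {P : ∀ (T : Type u) [CommRing T], Prop} (hP : GoodProp P)
    {k : Type u} [Field k] (R : Type u) [CommRing R] [Algebra k R]
    (h : P (AlgebraicClosure k ⊗[k] R)) (k' : Type u) [Field k'] [Algebra k k'] :
    P (k' ⊗[k] R) := by
  let M : IntermediateField k (AlgebraicClosure k') := algebraicClosure k (AlgebraicClosure k')
  haveI : IsAlgClosure k M := algebraicClosure.isAlgClosure k (AlgebraicClosure k')
  haveI : IsAlgClosed M := IsAlgClosure.isAlgClosed k
  let e : M ≃ₐ[k] AlgebraicClosure k := IsAlgClosure.equiv k M (AlgebraicClosure k)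
  have h1 : P (M ⊗[k] R) :=
    hP.of_ringEquiv (Algebra.TensorProduct.congr e (AlgEquiv.refl : R ≃ₐ[k] R)).toRingEquiv h
  exact hP.of_tower R k' (AlgebraicClosure k') M h1

theorem GoodProp.of_isSepClosed {P : ∀ (T : Type u) [CommRing T], Prop} (hP : GoodProp P)
    (hP' : InsepProp P) {k : Type u} [Field k] [IsSepClosed k] (K R : Type u) [Field K]
    [Algebra k K] [CommRing R] [Algebra k R] (h : P R) : P (K ⊗[k] R) := by
  let M : IntermediateField k (AlgebraicClosure K) := algebraicClosure k (AlgebraicClosure K)
  haveI : IsAlgClosure k M := algebraicClosure.isAlgClosure k (AlgebraicClosure K)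
  haveI : IsAlgClosed M := IsAlgClosure.isAlgClosed k
  haveI : Algebra.IsAlgebraic k M := IsAlgClosure.isAlgebraic
  have h1 : P (M ⊗[k] R) := hP'.insep h
  exact hP.of_tower R K (AlgebraicClosure K) M h1

theorem trivIdem_tensor_of_isSepClosed {k : Type u} [Field k] [IsSepClosed k] (K R : Type u)
    [Field K] [Algebra k K] [CommRing R] [Algebra k R] (h : TrivIdem R) : TrivIdem (K ⊗[k] R) :=
  goodProp_trivIdem.of_isSepClosed insepProp_trivIdem K R h

theorem nilradical_isPrime_tensor_of_isSepClosed {k : Type u} [Field k] [IsSepClosed k]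
    (K R : Type u) [Field K] [Algebra k K] [CommRing R] [Algebra k R]
    (h : (nilradical R).IsPrime) : (nilradical (K ⊗[k] R)).IsPrime :=
  goodProp_nilradical.of_isSepClosed insepProp_nilradical K R h

section Subextensions

variable {k E R : Type u} [Field k] [Field E] [Algebra k E] [Algebra.IsAlgebraic k E]
  [CommRing R] [Algebra k R]

theorem exists_intermediateField (x y : E ⊗[k] R) :
    ∃ F : IntermediateField k E, FiniteDimensional k F ∧
      x ∈ Set.range (Algebra.TensorProduct.map F.val (AlgHom.id k R)) ∧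
      y ∈ Set.range (Algebra.TensorProduct.map F.val (AlgHom.id k R)) := by
  classical
  obtain ⟨s, hs⟩ := exists_finset_range x
  obtain ⟨t, ht⟩ := exists_finset_range y
  refine ⟨IntermediateField.adjoin k ((s ∪ t : Finset E) : Set E), ?_, ?_, ?_⟩
  · exact IntermediateField.finiteDimensional_adjoin
      (fun z _ => Algebra.IsIntegral.isIntegral z)
  · apply hs
    intro z hz
    exact ⟨⟨z, IntermediateField.subset_adjoin k _
      (Finset.mem_coe.mpr (Finset.mem_union_left _ (Finset.mem_coe.mp hz)))⟩, rfl⟩
  · apply ht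
    intro z hz
    exact ⟨⟨z, IntermediateField.subset_adjoin k _
      (Finset.mem_coe.mpr (Finset.mem_union_right _ (Finset.mem_coe.mp hz)))⟩, rfl⟩

theorem noZeroDivisors_of_finite_subextensions
    (h : ∀ F : IntermediateField k E, FiniteDimensional k F → NoZeroDivisors (F ⊗[k] R)) :
    NoZeroDivisors (E ⊗[k] R) := by
  refine ⟨fun {x y} hxy => ?_⟩
  obtain ⟨F, hF, ⟨xF, rfl⟩, ⟨yF, rfl⟩⟩ := exists_intermediateField x y
  have hinj := map_injective (R := R) F.val Subtype.val_injective
  have h0 : xF * yF = 0 := hinj (by rw [map_mul, hxy, map_zero])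
  haveI := h F hF
  rcases mul_eq_zero.mp h0 with h | h
  · left
    rw [h, map_zero]
  · right
    rw [h, map_zero]

theorem nilradical_isPrime_of_finite_subextensions [Nontrivial R]
    (h : ∀ F : IntermediateField k E, FiniteDimensional k F →
      (nilradical (F ⊗[k] R)).IsPrime) :
    (nilradical (E ⊗[k] R)).IsPrime := by
  refine ⟨?_, ?_⟩
  · haveI : Nontrivial (E ⊗[k] R) :=
      Algebra.TensorProduct.nontrivial_of_algebraMap_injective_of_flat_right k E R
        (algebraMap k E).injective
    rw [Ne, Ideal.eq_top_iff_one, mem_nilradical]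
    rintro ⟨N, hN⟩
    rw [one_pow] at hN
    exact one_ne_zero hN
  · intro x y hxy
    obtain ⟨F, hF, ⟨xF, rfl⟩, ⟨yF, rfl⟩⟩ := exists_intermediateField x y
    have hinj := map_injective (R := R) F.val Subtype.val_injective
    have h0 : xF * yF ∈ nilradical (F ⊗[k] R) := by
      rw [mem_nilradical] at hxy ⊢
      obtain ⟨N, hN⟩ := hxy
      exact ⟨N, hinj (by rw [map_pow, map_mul, hN, map_zero])⟩
    rcases (h F hF).mem_or_mem h0 with h | h
    · left
      exact mem_nilradical.mpr ((mem_nilradical.mp h).map _)
    · right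
      exact mem_nilradical.mpr ((mem_nilradical.mp h).map _)

end Subextensions

end Groth.Agent.Lib.Helper9.GeomLib
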