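import Mathlib
import Groth.Agent.Lib.Helper9.GeomLib3

/-!
# Separably generated field extensions are geometrically reduced; MacLane's criterion (one direction)
-/

namespace Groth.Agent.Lib.Helper9.SepGen

open TensorProduct Module

universe u

/-- `K ⊗[k] k'` is reduced when `K/k` is a finite separable field extension. -/
theorem isReduced_tensor_fin (k : Type*) [Field k] (K : Type*) [Field K] [Algebra k K]
    [FiniteDimensional k K] [Algebra.IsSeparable k K] (k' : Type*) [Field k'] [Algebra k k'] :
    IsReduced (K ⊗[k] k') := by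
  haveI : Algebra.FormallyUnramified k K := Algebra.FormallyUnramified.of_isSeparable k K
  haveI : IsReduced (k' ⊗[k] K) := Algebra.FormallyUnramified.isReduced_of_field k' (k' ⊗[k] K)
  exact isReduced_of_injective (Algebra.TensorProduct.comm k K k')
    (Algebra.TensorProduct.comm k K k').injective

/-- `K ⊗[F] Ω` is reduced when `K/F` is separable algebraic and `Ω` is a field. -/
theorem isReduced_tensor_of_isSeparable (F K Ω : Type u) [Field F] [Field K] [Field Ω]
    [Algebra F K] [Algebra F Ω] [Algebra.IsSeparable F K] : IsReduced (K ⊗[F] Ω) := by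
  haveI : Algebra.IsAlgebraic F K := Algebra.IsSeparable.isAlgebraic F K
  refine ⟨fun z hz => ?_⟩
  obtain ⟨E, hE, ⟨zE, rfl⟩, -⟩ := GeomLib.exists_intermediateField z z
  haveI := hE
  haveI : IsReduced (E ⊗[F] Ω) := isReduced_tensor_fin F E Ω
  have hinj := GeomLib.map_injective (R := Ω) E.val Subtype.val_injective
  have hnil : IsNilpotent zE := by
    obtain ⟨n, hn⟩ := hz
    exact ⟨n, hinj (by rw [map_pow, hn, map_zero])⟩
  rw [hnil.eq_zero, map_zero]

/-- The rational function field tensored with any field is a domain. -/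
theorem isDomain_fractionRing_tensor (k L : Type*) [Field k] [Field L] [Algebra k L] (ι : Type*) :
    IsDomain (FractionRing (MvPolynomial ι k) ⊗[k] L) := by
  haveI hS : IsDomain (MvPolynomial ι k ⊗[k] L) :=
    ((Algebra.TensorProduct.comm k (MvPolynomial ι k) L).toRingEquiv.trans
      (MvPolynomial.algebraTensorAlgEquiv k L).toRingEquiv).injective.isDomain _
  haveI : IsLocalization (Algebra.algebraMapSubmonoid (MvPolynomial ι k ⊗[k] L)
      (nonZeroDivisors (MvPolynomial ι k)))
      ((MvPolynomial ι k ⊗[k] L) ⊗[MvPolynomial ι k] FractionRing (MvPolynomial ι k)) :=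
    IsLocalization.tensor (FractionRing (MvPolynomial ι k)) (nonZeroDivisors (MvPolynomial ι k))
  have hinj : Function.Injective (algebraMap (MvPolynomial ι k) (MvPolynomial ι k ⊗[k] L)) :=
    Algebra.TensorProduct.includeLeft_injective (S := MvPolynomial ι k)
      (algebraMap k L).injective
  have hle : Algebra.algebraMapSubmonoid (MvPolynomial ι k ⊗[k] L)
      (nonZeroDivisors (MvPolynomial ι k)) ≤ nonZeroDivisors (MvPolynomial ι k ⊗[k] L) := by
    rintro _ ⟨a, ha, rfl⟩
    apply mem_nonZeroDivisors_of_ne_zero
    rw [Ne, map_eq_zero_iff _ hinj]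
    exact nonZeroDivisors.ne_zero ha
  haveI : IsDomain ((MvPolynomial ι k ⊗[k] L) ⊗[MvPolynomial ι k]
      FractionRing (MvPolynomial ι k)) :=
    IsLocalization.isDomain_of_le_nonZeroDivisors ((MvPolynomial ι k ⊗[k] L) ⊗[MvPolynomial ι k]
      FractionRing (MvPolynomial ι k)) hle
  let e : FractionRing (MvPolynomial ι k) ⊗[k] L ≃+*
      (MvPolynomial ι k ⊗[k] L) ⊗[MvPolynomial ι k] FractionRing (MvPolynomial ι k) :=
    ((Algebra.TensorProduct.cancelBaseChange k (MvPolynomial ι k) (MvPolynomial ι k)
      (FractionRing (MvPolynomial ι k)) L).symm.toRingEquiv).trans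
      (Algebra.TensorProduct.comm (MvPolynomial ι k) (FractionRing (MvPolynomial ι k))
        (MvPolynomial ι k ⊗[k] L)).toRingEquiv
  exact e.injective.isDomain e

/-- Tower lemma: `K/F` separable algebraic and `F ⊗[k] L` a domain imply `K ⊗[k] L` reduced. -/
theorem isReduced_tensor_of_tower (k F K L : Type u) [Field k] [Field F] [Field K] [Field L]
    [Algebra k F] [Algebra F K] [Algebra k K] [IsScalarTower k F K] [Algebra k L]
    [Algebra.IsSeparable F K] (hD : IsDomain (F ⊗[k] L)) : IsReduced (K ⊗[k] L) := by
  haveI := hD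
  haveI : IsReduced (K ⊗[F] FractionRing (F ⊗[k] L)) :=
    isReduced_tensor_of_isSeparable F K (FractionRing (F ⊗[k] L))
  have hinj : Function.Injective (Algebra.TensorProduct.map (AlgHom.id F K)
      (IsScalarTower.toAlgHom F (F ⊗[k] L) (FractionRing (F ⊗[k] L)))) :=
    Module.Flat.lTensor_preserves_injective_linearMap _
      (IsFractionRing.injective (F ⊗[k] L) (FractionRing (F ⊗[k] L)))
  haveI : IsReduced (K ⊗[F] (F ⊗[k] L)) := isReduced_of_injective _ hinj
  exact isReduced_of_injective (Algebra.TensorProduct.cancelBaseChange k F F K L).symm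
    (AlgEquiv.injective _)

/-- A separably generated field extension is geometrically reduced. -/
theorem isReduced_tensor_of_sepGen {k K : Type u} [Field k] [Field K] [Algebra k K] {ι : Type u}
    (x : ι → K) (hx : AlgebraicIndependent k x)
    [hs : Algebra.IsSeparable (IntermediateField.adjoin k (Set.range x)) K]
    (L : Type u) [Field L] [Algebra k L] : IsReduced (K ⊗[k] L) := by
  let e : FractionRing (MvPolynomial ι k) ≃ₐ[k] IntermediateField.adjoin k (Set.range x) :=
    hx.aevalEquivField
  let φ : FractionRing (MvPolynomial ι k) →ₐ[k] K :=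
    (IntermediateField.val _).comp e.toAlgHom
  letI : Algebra (FractionRing (MvPolynomial ι k)) K := φ.toRingHom.toAlgebra
  haveI : IsScalarTower k (FractionRing (MvPolynomial ι k)) K :=
    IsScalarTower.of_algebraMap_eq (fun a => (φ.commutes a).symm)
  haveI : Algebra.IsSeparable (FractionRing (MvPolynomial ι k)) K :=
    Algebra.IsSeparable.of_equiv_equiv e.symm.toRingEquiv (RingEquiv.refl K) (by
      ext a
      show φ (e.symm a) = (a : K)
      simp [φ])
  exact isReduced_tensor_of_tower k (FractionRing (MvPolynomial ι k)) K L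
    (isDomain_fractionRing_tensor k L ι)

/-- MacLane: if `L ⊗[k] K` is reduced with `L` algebraically closed, then `p`-th powers of
`k`-linearly independent families stay linearly independent. -/
theorem linearIndependent_pow_of_isReduced {k K : Type*} [Field k] [Field K] [Algebra k K]
    (p : ℕ) [hp : Fact p.Prime] [CharP k p]
    (L : Type*) [Field L] [Algebra k L] [IsAlgClosed L] (hred : IsReduced (L ⊗[k] K))
    {ι : Type*} [Fintype ι] (v : ι → K) (hv : LinearIndependent k v) :
    LinearIndependent k (fun i => v i ^ p) := by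
  classical
  haveI : Nontrivial (L ⊗[k] K) :=
    Algebra.TensorProduct.nontrivial_of_algebraMap_injective_of_flat_right k L K
      (algebraMap k L).injective
  haveI : CharP (L ⊗[k] K) p :=
    charP_of_injective_algebraMap (algebraMap k (L ⊗[k] K)).injective p
  rw [Fintype.linearIndependent_iff]
  intro c hc
  choose d hd using fun i => IsAlgClosed.exists_pow_nat_eq (algebraMap k L (c i)) hp.out.pos
  have hz : (∑ i, d i ⊗ₜ[k] v i) ^ p = 0 := by
    rw [sum_pow_char]
    have h1 : ∀ i, (d i ⊗ₜ[k] v i) ^ p = (1 : L) ⊗ₜ[k] (c i • v i ^ p) := by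
      intro i
      rw [Algebra.TensorProduct.tmul_pow, hd i, Algebra.algebraMap_eq_smul_one,
        TensorProduct.smul_tmul]
    simp_rw [h1]
    rw [← TensorProduct.tmul_sum, hc, TensorProduct.tmul_zero]
  have hz0 : (∑ i, d i ⊗ₜ[k] v i) = 0 := (IsNilpotent.eq_zero ⟨p, hz⟩)
  have hli : LinearIndependent L (fun i => (1 : L) ⊗ₜ[k] v i) :=
    Module.Flat.linearIndependent_one_tmul hv
  rw [Fintype.linearIndependent_iff] at hli
  have hd0 := hli d (by
    rw [← hz0]
    refine Finset.sum_congr rfl (fun i _ => ?_)
    rw [TensorProduct.smul_tmul', smul_eq_mul, mul_one])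
  intro i
  have h2 : algebraMap k L (c i) = 0 := by rw [← hd i, hd0 i, zero_pow hp.out.ne_zero]
  exact (map_eq_zero_iff _ (algebraMap k L).injective).mp h2

end Groth.Agent.Lib.Helper9.SepGen
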