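import Mathlib
import Groth.Agent.Lib.Helper9.SepGen

/-!
# Geometric reducedness: test fields, towers, separable base change
-/

namespace Groth.Agent.Lib.Helper9.GeomRed

open TensorProduct Module Groth.Agent.Lib.Helper9 Groth.Agent.Lib.Helper9.GeomLib

universe u

/-- coordinates with respect to the base-changed basis commute with change of coefficients -/
theorem repr_map {F R R' A : Type*} [Field F] [CommRing R] [Algebra F R] [CommRing R']
    [Algebra F R'] [CommRing A] [Algebra F A] {ι : Type*} (b : Basis ι F A) (φ : R →ₐ[F] R')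
    (z : R ⊗[F] A) (i : ι) :
    (Algebra.TensorProduct.basis R' b).repr (Algebra.TensorProduct.map φ (AlgHom.id F A) z) i
      = φ ((Algebra.TensorProduct.basis R b).repr z i) := by
  induction z using TensorProduct.induction_on with
  | zero => simp
  | tmul r a =>
    simp only [Algebra.TensorProduct.map_tmul, AlgHom.coe_id, id_eq,
      Algebra.TensorProduct.basis_repr_tmul, Finsupp.smul_apply, Finsupp.mapRange_apply,
      smul_eq_mul, map_mul, AlgHom.commutes]
  | add x y hx hy => simp only [map_add, Finsupp.add_apply, hx, hy]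

/-- If `Ω ⊗[F] A` is reduced for all extension fields `Ω` of `F`, then `R ⊗[F] A` is reduced for every
reduced `F`-algebra `R`. -/
theorem isReduced_tensor_of_forall_field (F R A : Type u) [Field F] [CommRing R] [Algebra F R]
    [IsReduced R] [CommRing A] [Algebra F A]
    (h : ∀ (Ω : Type u) [Field Ω] [Algebra F Ω], IsReduced (Ω ⊗[F] A)) :
    IsReduced (R ⊗[F] A) := by
  classical
  let b := Module.Free.chooseBasis F A
  refine ⟨fun z hz => ?_⟩
  have key : ∀ i, (Algebra.TensorProduct.basis R b).repr z i = 0 := by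
    intro i
    have hmem : (Algebra.TensorProduct.basis R b).repr z i ∈ nilradical R := by
      rw [nilradical_eq_sInf, Ideal.mem_sInf]
      intro p hp
      haveI : p.IsPrime := hp
      let φ : R →ₐ[F] FractionRing (R ⧸ p) :=
        (IsScalarTower.toAlgHom F (R ⧸ p) (FractionRing (R ⧸ p))).comp (Ideal.Quotient.mkₐ F p)
      haveI := h (FractionRing (R ⧸ p))
      have h1 : Algebra.TensorProduct.map φ (AlgHom.id F A) z = 0 := (hz.map _).eq_zero
      have h2 := repr_map b φ z i
      rw [h1, map_zero, Finsupp.zero_apply] at h2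
      have h3 : Ideal.Quotient.mk p ((Algebra.TensorProduct.basis R b).repr z i) = 0 := by
        apply IsFractionRing.injective (R ⧸ p) (FractionRing (R ⧸ p))
        rw [map_zero]
        exact h2.symm
      exact Ideal.Quotient.eq_zero_iff_mem.mp h3
    rw [nilradical_eq_zero] at hmem
    exact hmem
  apply (Algebra.TensorProduct.basis R b).repr.injective
  ext i
  rw [key i]
  simp

theorem goodProp_isReduced : GoodProp.{u} (fun T _ => IsReduced T) where
  inj := by
    intro T T' _ _ f hf h
    haveI := h
    exact isReduced_of_injective f hf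
  algClosed := by
    intro k K R _ _ _ _ _ _ h
    haveI := h
    haveI : IsReduced (R ⊗[k] K) := isReduced_tensor_of_forall_field k R K (fun Ω _ _ => by
      haveI : IsDomain (Ω ⊗[k] K) := isDomain_tensor_of_isAlgClosed
      infer_instance)
    exact isReduced_of_injective (Algebra.TensorProduct.comm k K R) (AlgEquiv.injective _)

/-- Mathlib's geometric reducedness implies reducedness of all field base changes. -/
theorem isReduced_tensor_of_isGeometricallyReduced {k S : Type u} [Field k] [CommRing S]
    [Algebra k S] [Algebra.IsGeometricallyReduced k S] (K : Type u) [Field K] [Algebra k K] :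
    IsReduced (K ⊗[k] S) :=
  goodProp_isReduced.of_algebraicClosure S
    ((Algebra.isGeometricallyReduced_field_iff k S).mp inferInstance) K

/-- Purely inseparable base change is reduced as soon as all finite purely inseparable ones are. -/
theorem isReduced_tensor_of_isPurelyInseparable {k S : Type u} [Field k] [CommRing S] [Algebra k S]
    (h1 : ∀ (k' : Type u) [Field k'] [Algebra k k'] [Module.Finite k k']
      [IsPurelyInseparable k k'], IsReduced (k' ⊗[k] S))
    (P : Type u) [Field P] [Algebra k P] [IsPurelyInseparable k P] : IsReduced (P ⊗[k] S) := by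
  haveI : Algebra.IsAlgebraic k P := inferInstance
  refine ⟨fun z hz => ?_⟩
  obtain ⟨E, hE, ⟨zE, rfl⟩, -⟩ := GeomLib.exists_intermediateField z z
  haveI := hE
  haveI : IsPurelyInseparable k E := IsPurelyInseparable.tower_bot k E P
  haveI : IsReduced (E ⊗[k] S) := h1 E
  have hinj := GeomLib.map_injective (R := S) E.val Subtype.val_injective
  have hnil : IsNilpotent zE := by
    obtain ⟨n, hn⟩ := hz
    exact ⟨n, hinj (by rw [map_pow, hn, map_zero])⟩
  rw [hnil.eq_zero, map_zero]

/-- tower lemma: `P ⊗[k] S` reduced and `L/P` separable algebraic imply `L ⊗[k] S` reduced. -/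
theorem isReduced_tensor_of_sep_tower (k P L S : Type u) [Field k] [Field P] [Field L] [CommRing S]
    [Algebra k P] [Algebra P L] [Algebra k L] [IsScalarTower k P L] [Algebra k S]
    [Algebra.IsSeparable P L] [IsReduced (P ⊗[k] S)] : IsReduced (L ⊗[k] S) := by
  haveI : IsReduced ((P ⊗[k] S) ⊗[P] L) :=
    isReduced_tensor_of_forall_field P (P ⊗[k] S) L (fun Ω _ _ => by
      haveI := SepGen.isReduced_tensor_of_isSeparable P L Ω
      exact isReduced_of_injective (Algebra.TensorProduct.comm P Ω L) (AlgEquiv.injective _))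
  haveI : IsReduced (L ⊗[P] (P ⊗[k] S)) :=
    isReduced_of_injective (Algebra.TensorProduct.comm P L (P ⊗[k] S)) (AlgEquiv.injective _)
  exact isReduced_of_injective (Algebra.TensorProduct.cancelBaseChange k P P L S).symm
    (AlgEquiv.injective _)

/-- (1) ⇒ (4) -/
theorem isGeometricallyReduced_of_finite_insep {k S : Type u} [Field k] [CommRing S] [Algebra k S]
    (h1 : ∀ (k' : Type u) [Field k'] [Algebra k k'] [Module.Finite k k']
      [IsPurelyInseparable k k'], IsReduced (k' ⊗[k] S)) :
    Algebra.IsGeometricallyReduced k S := by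
  rw [Algebra.isGeometricallyReduced_field_iff]
  haveI : IsReduced (↥(perfectClosure k (AlgebraicClosure k)) ⊗[k] S) :=
    isReduced_tensor_of_isPurelyInseparable h1 ↥(perfectClosure k (AlgebraicClosure k))
  haveI : Algebra.IsAlgebraic ↥(perfectClosure k (AlgebraicClosure k)) (AlgebraicClosure k) :=
    Algebra.IsAlgebraic.tower_top (K := k) ↥(perfectClosure k (AlgebraicClosure k))
  haveI : Algebra.IsSeparable ↥(perfectClosure k (AlgebraicClosure k)) (AlgebraicClosure k) :=
    Algebra.IsAlgebraic.isSeparable_of_perfectField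
  exact isReduced_tensor_of_sep_tower k ↥(perfectClosure k (AlgebraicClosure k))
    (AlgebraicClosure k) S

/-- geometric reducedness over a separable algebraic extension implies it over the base. -/
theorem isReduced_tensor_of_geomRed_top {k k' A : Type u} [Field k] [Field k'] [Algebra k k']
    [Algebra.IsSeparable k k'] [CommRing A] [Algebra k' A] [Algebra k A] [IsScalarTower k k' A]
    (h : ∀ (K : Type u) [Field K] [Algebra k' K], IsReduced (K ⊗[k'] A))
    (K : Type u) [Field K] [Algebra k K] : IsReduced (K ⊗[k] A) := by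
  haveI : IsReduced (k' ⊗[k] K) := SepGen.isReduced_tensor_of_isSeparable k k' K
  haveI : IsReduced ((k' ⊗[k] K) ⊗[k'] A) :=
    isReduced_tensor_of_forall_field k' (k' ⊗[k] K) A h
  haveI : IsReduced (A ⊗[k'] (k' ⊗[k] K)) :=
    isReduced_of_injective (Algebra.TensorProduct.comm k' A (k' ⊗[k] K)) (AlgEquiv.injective _)
  haveI : IsReduced (A ⊗[k] K) :=
    isReduced_of_injective (Algebra.TensorProduct.cancelBaseChange k k' k' A K).symm
      (AlgEquiv.injective _)
  exact isReduced_of_injective (Algebra.TensorProduct.comm k K A) (AlgEquiv.injective _)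

/-- separability idempotent transported to `K ⊗[k] A` -/
theorem exists_sep_elem (k E : Type u) [Field k] [Field E] [Algebra k E] [FiniteDimensional k E]
    [Algebra.IsSeparable k E] {K A : Type u} [CommRing K] [CommRing A] [Algebra k K] [Algebra k A]
    (f : E →ₐ[k] K) (g : E →ₐ[k] A) :
    ∃ ε : K ⊗[k] A, (∀ s : E, (f s ⊗ₜ[k] (1 : A) - (1 : K) ⊗ₜ[k] g s) * ε = 0) ∧
      ∀ {W : Type u} [CommRing W] (π : K ⊗[k] A →+* W),
        (∀ s : E, π (f s ⊗ₜ[k] (1 : A)) = π ((1 : K) ⊗ₜ[k] g s)) → π ε = 1 := by
  haveI : Algebra.FormallyUnramified k E := Algebra.FormallyUnramified.of_isSeparable k E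
  refine ⟨Algebra.TensorProduct.map f g (Algebra.FormallyUnramified.elem k E),
    fun s => ?_, fun {W} _ π hπ => ?_⟩
  · have h := Algebra.FormallyUnramified.one_tmul_sub_tmul_one_mul_elem (R := k) (S := E) s
    have h2 := congrArg (Algebra.TensorProduct.map f g) h
    rw [map_mul, map_sub, map_zero] at h2
    simp only [Algebra.TensorProduct.map_tmul, map_one] at h2
    rw [← neg_sub, neg_mul, h2, neg_zero]
  · have key : ∀ u : E ⊗[k] E, π (Algebra.TensorProduct.map f g u) =
        π (Algebra.TensorProduct.map f g ((Algebra.TensorProduct.lmul' k u) ⊗ₜ[k] (1 : E))) := by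
      intro u
      induction u using TensorProduct.induction_on with
      | zero => simp
      | tmul x y =>
        simp only [Algebra.TensorProduct.map_tmul, Algebra.TensorProduct.lmul'_apply_tmul, map_one,
          map_mul]
        have e1 : f x ⊗ₜ[k] g y = (f x ⊗ₜ[k] (1 : A)) * ((1 : K) ⊗ₜ[k] g y) := by simp
        have e2 : (f x * f y) ⊗ₜ[k] (1 : A) = (f x ⊗ₜ[k] (1 : A)) * (f y ⊗ₜ[k] (1 : A)) := by
          simp
        rw [e1, e2, map_mul, map_mul, hπ y]
      | add a b ha hb => simp only [map_add, TensorProduct.add_tmul, ha, hb]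
    rw [key, Algebra.FormallyUnramified.lmul_elem]
    simp only [Algebra.TensorProduct.map_tmul, map_one]
    rw [← Algebra.TensorProduct.one_def, map_one]

/-- geometric reducedness descends from the base to a separable algebraic extension. -/
theorem isReduced_tensor_of_sep_base {k k' A : Type u} [Field k] [Field k'] [Algebra k k']
    [Algebra.IsSeparable k k'] [CommRing A] [Algebra k' A] [Algebra k A] [IsScalarTower k k' A]
    (K : Type u) [Field K] [Algebra k' K] [Algebra k K] [IsScalarTower k k' K]
    [IsReduced (K ⊗[k] A)] : IsReduced (K ⊗[k'] A) := by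
  classical
  let π : K ⊗[k] A →ₐ[k'] K ⊗[k'] A := Algebra.TensorProduct.mapOfCompatibleSMul k' k k' K A
  have hπ_surj : Function.Surjective π :=
    Algebra.TensorProduct.mapOfCompatibleSMul_surjective k' k k' K A
  let D : k' → K ⊗[k] A := fun c =>
    (algebraMap k' K c) ⊗ₜ[k] (1 : A) - (1 : K) ⊗ₜ[k] (algebraMap k' A c)
  have hker : ∀ y : K ⊗[k] A,
      y ∈ LinearMap.ker (TensorProduct.mapOfCompatibleSMul k' k k' K A) →
      ∃ s : Finset k', ∀ ε : K ⊗[k] A, (∀ c ∈ s, D c * ε = 0) → y * ε = 0 := by
    intro y hy'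
    rw [TensorProduct.AlgebraTensorModule.ker_mapOfCompatibleSMul] at hy'
    induction hy' using Submodule.span_induction with
    | mem y hy =>
      obtain ⟨c, x, a, rfl⟩ := hy
      refine ⟨{c}, fun ε hε => ?_⟩
      have e1 : (c • x) ⊗ₜ[k] a - x ⊗ₜ[k] (c • a) = (x ⊗ₜ[k] a) * D c := by
        simp only [D, mul_sub, Algebra.TensorProduct.tmul_mul_tmul, mul_one, Algebra.smul_def]
        rw [mul_comm x, mul_comm a]
      rw [e1, mul_assoc, hε c (Finset.mem_singleton_self c), mul_zero]
    | zero => exact ⟨∅, fun ε _ => zero_mul ε⟩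
    | add x y _ _ ihx ihy =>
      obtain ⟨s, hs⟩ := ihx
      obtain ⟨t, ht⟩ := ihy
      refine ⟨s ∪ t, fun ε hε => ?_⟩
      rw [add_mul, hs ε (fun c hc => hε c (Finset.mem_union_left t hc)),
        ht ε (fun c hc => hε c (Finset.mem_union_right s hc)), add_zero]
    | smul a x _ ih =>
      obtain ⟨s, hs⟩ := ih
      refine ⟨s, fun ε hε => ?_⟩
      rw [smul_mul_assoc, hs ε hε, smul_zero]
  refine ⟨fun w hw => ?_⟩
  obtain ⟨z, rfl⟩ := hπ_surj w
  obtain ⟨n, hn⟩ := hw
  have hzn : π (z ^ n) = 0 := by rw [map_pow, hn]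
  obtain ⟨s, hs⟩ := hker (z ^ n) hzn
  haveI : FiniteDimensional k (IntermediateField.adjoin k (s : Set k')) :=
    IntermediateField.finiteDimensional_adjoin (fun x _ => Algebra.IsIntegral.isIntegral x)
  haveI : Algebra.IsSeparable k (IntermediateField.adjoin k (s : Set k')) :=
    Algebra.isSeparable_tower_bot_of_isSeparable k _ k'
  obtain ⟨ε, hε1, hε2⟩ := exists_sep_elem k (IntermediateField.adjoin k (s : Set k'))
    ((IsScalarTower.toAlgHom k k' K).comp (IntermediateField.adjoin k (s : Set k')).val)
    ((IsScalarTower.toAlgHom k k' A).comp (IntermediateField.adjoin k (s : Set k')).val)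
  have h1 : z ^ n * ε = 0 :=
    hs ε (fun c hc => hε1 ⟨c, IntermediateField.subset_adjoin k _ hc⟩)
  have h2 : (z * ε) ^ (n + 1) = 0 := by
    have : (z * ε) ^ (n + 1) = (z ^ n * ε) * (z * ε ^ n) := by ring
    rw [this, h1, zero_mul]
  have h3 : z * ε = 0 := IsNilpotent.eq_zero ⟨n + 1, h2⟩
  have h4 : π ε = 1 := by
    refine hε2 π.toRingHom (fun e => ?_)
    show (algebraMap k' K e) ⊗ₜ[k'] (1 : A) = (1 : K) ⊗ₜ[k'] (algebraMap k' A e)
    rw [Algebra.algebraMap_eq_smul_one, Algebra.algebraMap_eq_smul_one, TensorProduct.smul_tmul]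
  calc π z = π z * π ε := by rw [h4, mul_one]
    _ = π (z * ε) := (map_mul π z ε).symm
    _ = 0 := by rw [h3, map_zero]

end Groth.Agent.Lib.Helper9.GeomRed
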