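import Groth.Agent.Lib.Helper9.ProjDim
import Mathlib.RingTheory.Flat.FaithfullyFlat.Algebra
import Mathlib.RingTheory.Flat.EquationalCriterion
import Mathlib.Algebra.Module.FinitePresentation

/-!
# Projective dimension descends along faithfully flat base change (finite modules, Noetherian base)
-/

set_option autoImplicit false
universe u
open CategoryTheory TensorProduct

namespace Groth.Agent.Lib.Helper9

variable {A B : Type u} [CommRing A] [CommRing B] [Algebra A B]

lemma hasProjectiveDimensionLT_of_baseChange [IsNoetherianRing A] [Module.FaithfullyFlat A B]
    (n : ℕ) :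
    ∀ (N : Type u) [AddCommGroup N] [Module A N] [Module.Finite A N],
    HasProjectiveDimensionLT (ModuleCat.of B (B ⊗[A] N)) (n + 1) →
    HasProjectiveDimensionLT (ModuleCat.of A N) (n + 1) := by
  induction n with
  | zero =>
    intro N _ _ _ h
    have hP : Projective (ModuleCat.of B (B ⊗[A] N)) :=
      projective_iff_hasProjectiveDimensionLT_one.mpr h
    have hP' : Module.Projective B (B ⊗[A] N) :=
      (IsProjective.iff_projective (R := B) (B ⊗[A] N)).mpr hP
    have hF : Module.Flat B (B ⊗[A] N) := inferInstance
    have hFA : Module.Flat A N := Module.Flat.of_flat_tensorProduct A N B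
    have hfp : Module.FinitePresentation A N := Module.finitePresentation_of_finite A N
    have hPA : Module.Projective A N := Module.Flat.projective_of_finitePresentation
    have hPc : Projective (ModuleCat.of A N) := (IsProjective.iff_projective (R := A) N).mp hPA
    infer_instance
  | succ n ih =>
    intro N _ _ _ h
    obtain ⟨r, p, hp⟩ := Module.Finite.exists_fin' A N
    have hKfin : Module.Finite A ↥(LinearMap.ker p) :=
      Module.Finite.iff_fg.mpr (IsNoetherian.noetherian _)
    let S : ShortComplex (ModuleCat.{u} A) :=
      ModuleCat.shortComplexOfCompEqZero (LinearMap.ker p).subtype p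
        (LinearMap.exact_subtype_ker_map p).linearMap_comp_eq_zero
    have hS : S.ShortExact := ModuleCat.shortComplex_shortExact S
      (LinearMap.exact_subtype_ker_map p) (LinearMap.ker p).injective_subtype hp
    have hproj : Projective S.X₂ :=
      (IsProjective.iff_projective (R := A) (Fin r → A)).mp inferInstance
    have hex : Function.Exact ((LinearMap.ker p).subtype.baseChange B) (p.baseChange B) := by
      rw [LinearMap.baseChange_eq_ltensor, LinearMap.baseChange_eq_ltensor]
      exact Module.Flat.lTensor_exact B (LinearMap.exact_subtype_ker_map p)
    have hinj : Function.Injective ((LinearMap.ker p).subtype.baseChange B) := by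
      rw [LinearMap.baseChange_eq_ltensor]
      exact Module.Flat.lTensor_preserves_injective_linearMap _
        (LinearMap.ker p).injective_subtype
    have hsurj : Function.Surjective (p.baseChange B) := by
      rw [LinearMap.baseChange_eq_ltensor]
      exact LinearMap.lTensor_surjective B hp
    let S' : ShortComplex (ModuleCat.{u} B) :=
      ModuleCat.shortComplexOfCompEqZero ((LinearMap.ker p).subtype.baseChange B)
        (p.baseChange B) hex.linearMap_comp_eq_zero
    have hS' : S'.ShortExact := ModuleCat.shortComplex_shortExact S' hex hinj hsurj
    have hproj' : Projective S'.X₂ :=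
      (IsProjective.iff_projective (R := B) (B ⊗[A] (Fin r → A))).mp inferInstance
    have hK' : HasProjectiveDimensionLT S'.X₁ (n + 1) :=
      (hS'.hasProjectiveDimensionLT_X₃_iff n hproj').mp h
    have hK : HasProjectiveDimensionLT S.X₁ (n + 1) := ih ↥(LinearMap.ker p) hK'
    exact (hS.hasProjectiveDimensionLT_X₃_iff n hproj).mpr hK

end Groth.Agent.Lib.Helper9
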