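import Mathlib.RingTheory.RegularLocalRing.Polynomial
import Mathlib.RingTheory.Localization.LocalizationLocalization
import Mathlib.RingTheory.Localization.Submodule

/-!
# Localizations of regular rings are regular
-/

set_option autoImplicit false
universe u

namespace Groth.Agent.Lib.Helper9

lemma isRegularRing_localization (R : Type u) [CommRing R] [IsRegularRing R] (T : Submonoid R) :
    IsRegularRing (Localization T) := by
  haveI : IsNoetherianRing (Localization T) := IsLocalization.isNoetherianRing T _ inferInstance
  rw [isRegularRing_iff]
  intro p hp
  exact IsRegularLocalRing.of_ringEquiv
    (IsLocalization.localizationLocalizationAtPrimeIsoLocalization T p).toRingEquiv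

end Groth.Agent.Lib.Helper9
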