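import Mathlib.RingTheory.RegularLocalRing.Defs
import Mathlib.RingTheory.Ideal.Cotangent
import Mathlib.Algebra.Module.SpanRankOperations
import Mathlib.RingTheory.Nakayama
import Mathlib.RingTheory.Ideal.MinimalPrime.Noetherian
import Mathlib.LinearAlgebra.Dimension.Constructions
import Mathlib.LinearAlgebra.Dimension.OrzechProperty
import Mathlib.LinearAlgebra.FiniteDimensional.Lemmas
import Mathlib.RingTheory.Ideal.Operations

/-!
# Regular local rings: quotients by part of a regular system of parameters, and domains
-/

set_option autoImplicit false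
universe u

namespace Groth.Agent.Lib.Helper9.RegLocal

open IsLocalRing

lemma spanFinrank_span_range_le {R M : Type*} [Semiring R] [AddCommMonoid M] [Module R M] {n : ℕ}
    (f : Fin n → M) : (Submodule.span R (Set.range f)).spanFinrank ≤ n := by
  have h := Submodule.spanFinrank_span_le_ncard_of_finite (R := R) (Set.finite_range f)
  refine h.trans ?_
  rw [← Set.image_univ]
  calc (f '' Set.univ).ncard ≤ (Set.univ : Set (Fin n)).ncard :=
        Set.ncard_image_le Set.finite_univ
    _ = n := by rw [Set.ncard_univ, Nat.card_fin]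

lemma withBot_eq_of_le_of_add_le {D : WithBot ℕ∞} {e r : ℕ} (h1 : D ≤ e)
    (h2 : ((e + r : ℕ) : WithBot ℕ∞) ≤ D + r) : D = e := by
  induction D using WithBot.recBotCoe with
  | bot =>
    rw [WithBot.bot_add] at h2
    exact absurd (le_bot_iff.mp h2) (WithBot.natCast_ne_bot _)
  | coe a =>
    have h1' : a ≤ (e : ℕ∞) := by exact_mod_cast h1
    obtain ⟨n, rfl⟩ := ENat.ne_top_iff_exists.mp (ne_top_of_le_ne_top (ENat.natCast_ne_top e) h1')
    have h3 : n ≤ e := by exact_mod_cast h1'
    have h4 : e + r ≤ n + r := by exact_mod_cast h2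
    have h5 : n = e := by omega
    rw [h5]; rfl

section gens

variable {A : Type u} [CommRing A] [IsLocalRing A] [IsNoetherianRing A]

/-- Two families of elements of the maximal ideal generate it iff their classes span the cotangent
space. -/
lemma span_cotangent_sup_eq_top_iff {ι κ : Type*} (x : ι → maximalIdeal A)
    (y : κ → maximalIdeal A) :
    Submodule.span (ResidueField A) (Set.range fun i => (maximalIdeal A).toCotangent (x i)) ⊔
      Submodule.span (ResidueField A)
        (Set.range fun j => (maximalIdeal A).toCotangent (y j)) = ⊤ ↔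
    Ideal.span (Set.range fun i => (x i : A)) ⊔ Ideal.span (Set.range fun j => (y j : A)) =
      maximalIdeal A := by
  have h1 : (maximalIdeal A).toCotangent '' (Set.range x ∪ Set.range y) =
      (Set.range fun i => (maximalIdeal A).toCotangent (x i)) ∪
        (Set.range fun j => (maximalIdeal A).toCotangent (y j)) := by
    rw [Set.image_union, ← Set.range_comp, ← Set.range_comp]; rfl
  have h2 : (maximalIdeal A).subtype '' (Set.range x ∪ Set.range y) =
      (Set.range fun i => (x i : A)) ∪ (Set.range fun j => (y j : A)) := by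
    rw [Set.image_union, ← Set.range_comp, ← Set.range_comp]; rfl
  rw [← Submodule.span_union, ← h1, CotangentSpace.span_image_eq_top_iff,
    ← Ideal.submodule_span_eq, ← Ideal.submodule_span_eq, ← Submodule.span_union, ← h2,
    ← Submodule.map_span]
  constructor
  · intro h; rw [h, Submodule.map_top, Submodule.range_subtype]
  · intro h
    apply Submodule.map_injective_of_injective (maximalIdeal A).injective_subtype
    rw [h, Submodule.map_top, Submodule.range_subtype]

variable (J : Ideal A) [IsLocalRing (A ⧸ J)]

lemma maximalIdeal_quotient_eq_span {κ : Type*} (y : κ → A)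
    (h : J ⊔ Ideal.span (Set.range y) = maximalIdeal A) :
    maximalIdeal (A ⧸ J) = Ideal.span (Set.range fun j => Ideal.Quotient.mk J (y j)) := by
  rw [← map_maximalIdeal_of_surjective (Ideal.Quotient.mk J) Ideal.Quotient.mk_surjective, ← h,
    Ideal.map_sup, Ideal.map_quotient_self, bot_sup_eq, Ideal.map_span, ← Set.range_comp]
  rfl

lemma sup_span_eq_maximalIdeal_of_quotient {κ : Type*} (y : κ → A)
    (h : maximalIdeal (A ⧸ J) = Ideal.span (Set.range fun j => Ideal.Quotient.mk J (y j))) :
    J ⊔ Ideal.span (Set.range y) = maximalIdeal A := by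
  haveI := IsLocalHom.of_surjective (Ideal.Quotient.mk J) Ideal.Quotient.mk_surjective
  have h1 : (Set.range fun j => Ideal.Quotient.mk J (y j)) = Ideal.Quotient.mk J '' Set.range y := by
    rw [← Set.range_comp]; rfl
  rw [← maximalIdeal_comap (Ideal.Quotient.mk J), h, h1, ← Ideal.map_span,
    Ideal.comap_map_of_surjective _ Ideal.Quotient.mk_surjective, ← RingHom.ker_eq_comap_bot,
    Ideal.mk_ker, sup_comm]

end gens

/-- Quotient of a regular local ring by elements whose classes in `m/m²` are linearly independent. -/
theorem quotient_regular (A : Type u) [CommRing A] [IsRegularLocalRing A] (r : ℕ)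
    (x : Fin r → maximalIdeal A)
    (hx : LinearIndependent (ResidueField A) (fun i => (maximalIdeal A).toCotangent (x i))) :
    ringKrullDim (A ⧸ Ideal.span (Set.range fun i => (x i : A))) + r = ringKrullDim A ∧
      IsRegularLocalRing (A ⧸ Ideal.span (Set.range fun i => (x i : A))) := by
  classical
  set J := Ideal.span (Set.range fun i => (x i : A)) with hJ
  have hJm : J ≤ maximalIdeal A := by
    rw [hJ, Ideal.span_le]; rintro _ ⟨i, rfl⟩; exact (x i).2
  haveI : Nontrivial (A ⧸ J) := Ideal.Quotient.nontrivial_iff.mpr
    (ne_top_of_le_ne_top (maximalIdeal.isMaximal A).ne_top hJm)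
  haveI : IsLocalRing (A ⧸ J) :=
    IsLocalRing.of_surjective' (Ideal.Quotient.mk J) Ideal.Quotient.mk_surjective
  set W := Submodule.span (ResidueField A)
    (Set.range fun i => (maximalIdeal A).toCotangent (x i)) with hWdef
  have hW : Module.finrank (ResidueField A) W = r := by
    rw [hWdef, finrank_span_eq_card hx, Fintype.card_fin]
  set e := Module.finrank (ResidueField A) (CotangentSpace A ⧸ W) with hedef
  have he : e + r = Module.finrank (ResidueField A) (CotangentSpace A) := by
    rw [← hW]; exact Submodule.finrank_quotient_add_finrank W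
  let b := Module.finBasis (ResidueField A) (CotangentSpace A ⧸ W)
  have hlift : ∀ j : Fin e, ∃ y : maximalIdeal A,
      W.mkQ ((maximalIdeal A).toCotangent y) = b j := by
    intro j
    obtain ⟨v, hv⟩ := W.mkQ_surjective (b j)
    obtain ⟨y, rfl⟩ := (maximalIdeal A).toCotangent_surjective v
    exact ⟨y, hv⟩
  choose y hy using hlift
  have hspan : W ⊔ Submodule.span (ResidueField A)
      (Set.range fun j => (maximalIdeal A).toCotangent (y j)) = ⊤ := by
    rw [← Submodule.map_mkQ_eq_top, Submodule.map_span, ← Set.range_comp]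
    have : (W.mkQ ∘ fun j => (maximalIdeal A).toCotangent (y j)) = b := funext hy
    rw [this, b.span_eq]
  have hm : J ⊔ Ideal.span (Set.range fun j => (y j : A)) = maximalIdeal A :=
    (span_cotangent_sup_eq_top_iff x y).1 hspan
  have hmbar := maximalIdeal_quotient_eq_span J (fun j => (y j : A)) hm
  have h1 : (maximalIdeal (A ⧸ J)).spanFinrank ≤ e := by
    rw [hmbar]; exact spanFinrank_span_range_le _
  have hd1 : ringKrullDim (A ⧸ J) ≤ e :=
    (ringKrullDim_le_spanFinrank_maximalIdeal (A ⧸ J)).trans (by exact_mod_cast h1)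
  have hd2 : ringKrullDim A ≤ ringKrullDim (A ⧸ J) + r := by
    have h := ringKrullDim_le_ringKrullDim_quotient_add_card
      (Finset.univ.image fun i => (x i : A)) (by
        rw [Finset.coe_image, Finset.coe_univ, Set.image_univ, ringJacobson_eq_maximalIdeal]
        rintro _ ⟨i, rfl⟩; exact (x i).2)
    have hc : (Finset.univ.image fun i => (x i : A)).card ≤ r :=
      Finset.card_image_le.trans (by simp)
    rw [Finset.coe_image, Finset.coe_univ, Set.image_univ] at h
    exact h.trans (add_le_add le_rfl (by exact_mod_cast hc))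
  have hdA : ringKrullDim A = ((e + r : ℕ) : WithBot ℕ∞) := by
    rw [← IsRegularLocalRing.spanFinrank_maximalIdeal,
      spanFinrank_maximalIdeal_eq_finrank_cotangentSpace, he]
  rw [hdA] at hd2
  have hD := withBot_eq_of_le_of_add_le hd1 hd2
  refine ⟨?_, ?_⟩
  · rw [hD, hdA]; push_cast; rfl
  · apply IsRegularLocalRing.of_spanFinrank_maximalIdeal_le
    rw [hD]; exact_mod_cast h1

/-- Converse: if `A/J` is regular of the expected dimension, `A` is regular and the classes of the
generators of `J` are linearly independent. -/
theorem regular_of_quotient_regular (A : Type u) [CommRing A] [IsLocalRing A] [IsNoetherianRing A]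
    (r : ℕ) (x : Fin r → maximalIdeal A)
    (hdim : ringKrullDim (A ⧸ Ideal.span (Set.range fun i => (x i : A))) + r = ringKrullDim A)
    [hreg : IsRegularLocalRing (A ⧸ Ideal.span (Set.range fun i => (x i : A)))] :
    IsRegularLocalRing A ∧
      LinearIndependent (ResidueField A) (fun i => (maximalIdeal A).toCotangent (x i)) := by
  classical
  set J := Ideal.span (Set.range fun i => (x i : A)) with hJ
  set e := (maximalIdeal (A ⧸ J)).spanFinrank with hedef
  have he : (e : WithBot ℕ∞) = ringKrullDim (A ⧸ J) := hreg.spanFinrank_maximalIdeal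
  obtain ⟨s, hscard, hsspan⟩ := Submodule.FG.exists_span_finset_card_eq_spanFinrank
    ((maximalIdeal (A ⧸ J)).fg_of_isNoetherianRing)
  let eq := Finset.equivFinOfCardEq hscard
  have hlift : ∀ j : Fin e, ∃ a : A, Ideal.Quotient.mk J a = ((eq.symm j : s) : A ⧸ J) :=
    fun j => Ideal.Quotient.mk_surjective _
  choose y' hy' using hlift
  have hrange : (Set.range fun j => Ideal.Quotient.mk J (y' j)) = (s : Set (A ⧸ J)) := by
    ext t
    constructor
    · rintro ⟨j, rfl⟩
      show Ideal.Quotient.mk J (y' j) ∈ (s : Set (A ⧸ J))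
      rw [hy']; exact (eq.symm j).2
    · intro ht
      refine ⟨eq ⟨t, ht⟩, ?_⟩
      show Ideal.Quotient.mk J (y' (eq ⟨t, ht⟩)) = t
      rw [hy', Equiv.symm_apply_apply]
  have hmbar : maximalIdeal (A ⧸ J) =
      Ideal.span (Set.range fun j => Ideal.Quotient.mk J (y' j)) := by
    rw [hrange]; exact hsspan.symm
  have hm := sup_span_eq_maximalIdeal_of_quotient J y' hmbar
  have hy'm : ∀ j, y' j ∈ maximalIdeal A := fun j => by
    rw [← hm]; exact Ideal.mem_sup_right (Ideal.subset_span ⟨j, rfl⟩)
  let y : Fin e → maximalIdeal A := fun j => ⟨y' j, hy'm j⟩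
  set W := Submodule.span (ResidueField A)
    (Set.range fun i => (maximalIdeal A).toCotangent (x i)) with hWdef
  set W' := Submodule.span (ResidueField A)
    (Set.range fun j => (maximalIdeal A).toCotangent (y j)) with hW'def
  have hspan : W ⊔ W' = ⊤ := (span_cotangent_sup_eq_top_iff x y).2 hm
  have hW : Module.finrank (ResidueField A) W ≤ r := by
    have := finrank_range_le_card (R := ResidueField A)
      (fun i => (maximalIdeal A).toCotangent (x i))
    rwa [Fintype.card_fin] at this
  have hW' : Module.finrank (ResidueField A) W' ≤ e := by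
    have := finrank_range_le_card (R := ResidueField A)
      (fun j => (maximalIdeal A).toCotangent (y j))
    rwa [Fintype.card_fin] at this
  have hV : Module.finrank (ResidueField A) (CotangentSpace A) ≤
      Module.finrank (ResidueField A) W + Module.finrank (ResidueField A) W' := by
    rw [← finrank_top (ResidueField A) (CotangentSpace A), ← hspan]
    exact Submodule.finrank_add_le_finrank_add_finrank W W'
  have hdA : ringKrullDim A = ((e + r : ℕ) : WithBot ℕ∞) := by
    rw [← hdim, ← he]; push_cast; rfl
  have hge : e + r ≤ Module.finrank (ResidueField A) (CotangentSpace A) := by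
    have := ringKrullDim_le_spanFinrank_maximalIdeal A
    rw [hdA, spanFinrank_maximalIdeal_eq_finrank_cotangentSpace] at this
    exact_mod_cast this
  refine ⟨?_, ?_⟩
  · apply IsRegularLocalRing.of_spanFinrank_maximalIdeal_le
    rw [hdA, spanFinrank_maximalIdeal_eq_finrank_cotangentSpace]
    have : Module.finrank (ResidueField A) (CotangentSpace A) ≤ e + r := by omega
    exact_mod_cast this
  · rw [linearIndependent_iff_card_eq_finrank_span, Fintype.card_fin]
    show r = Module.finrank (ResidueField A) W
    omega

/-- A regular local ring is a domain. -/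
theorem isDomain_of_isRegularLocalRing (A : Type u) [CommRing A] [IsRegularLocalRing A] :
    IsDomain A := by
  classical
  suffices H : ∀ (n : ℕ) (A : Type u) [CommRing A] [IsRegularLocalRing A],
      (maximalIdeal A).spanFinrank = n → ∀ a b : A, a * b = 0 → a = 0 ∨ b = 0 by
    haveI : NoZeroDivisors A := ⟨fun {a b} hab => H _ A rfl a b hab⟩
    exact NoZeroDivisors.to_isDomain A
  intro n
  induction n with
  | zero =>
    intro A _ _ h0
    rw [Submodule.spanFinrank_eq_zero_iff_eq_bot (maximalIdeal A).fg_of_isNoetherianRing] at h0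
    haveI := ((isField_iff_maximalIdeal_eq).mpr h0).isDomain
    intro a b hab
    exact mul_eq_zero.mp hab
  | succ n ih =>
    intro A _ _ hn
    have hdim : ringKrullDim A = ((n + 1 : ℕ) : WithBot ℕ∞) := by
      rw [← IsRegularLocalRing.spanFinrank_maximalIdeal, hn]
    -- prime avoidance
    let T : Set (Ideal A) := insert (maximalIdeal A ^ 2) (minimalPrimes A)
    have hT : T.Finite := (minimalPrimes.finite_of_isNoetherianRing A).insert _
    have hnot : ¬ ((maximalIdeal A : Set A) ⊆ ⋃ P ∈ T, (P : Set A)) := by
      rw [Ideal.subset_union_prime_finite hT (maximalIdeal A ^ 2) (maximalIdeal A ^ 2)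
        (fun P hP h1 _ => by
          rcases hP with rfl | hP
          · exact absurd rfl h1
          · exact hP.1.1)]
      rintro ⟨P, hPT, hle⟩
      rcases hPT with rfl | hP
      · -- m ≤ m^2
        have h2 : (maximalIdeal A : Submodule A A) ≤ maximalIdeal A • (maximalIdeal A : Submodule A A) := by
          rw [smul_eq_mul, ← pow_two]; exact hle
        have h3 := Submodule.eq_bot_of_le_smul_of_le_jacobson_bot (maximalIdeal A)
          (maximalIdeal A : Submodule A A) (maximalIdeal A).fg_of_isNoetherianRing h2
          (jacobson_eq_maximalIdeal ⊥ bot_ne_top).ge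
        have h4 : (maximalIdeal A).spanFinrank = 0 := by
          rw [Submodule.spanFinrank_eq_zero_iff_eq_bot (maximalIdeal A).fg_of_isNoetherianRing]
          exact h3
        omega
      · -- m ≤ P minimal prime
        haveI := hP.1.1
        have h2 : P = maximalIdeal A :=
          le_antisymm (le_maximalIdeal hP.1.1.ne_top) hle
        have h3 : (maximalIdeal A).height = 0 := by
          rw [← h2]; exact Ideal.height_eq_zero_iff.mpr hP  -- check name
        have h4 := maximalIdeal_height_eq_ringKrullDim (R := A)
        rw [h3, hdim] at h4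
        exact absurd h4 (by norm_cast)
    obtain ⟨t, htm, htT⟩ := Set.not_subset.mp hnot
    have ht2 : t ∉ maximalIdeal A ^ 2 := fun h =>
      htT (Set.mem_biUnion (Set.mem_insert _ _) h)
    have htmin : ∀ P ∈ minimalPrimes A, t ∉ P := fun P hP h =>
      htT (Set.mem_biUnion (Set.mem_insert_of_mem _ hP) h)
    let x : Fin 1 → maximalIdeal A := fun _ => ⟨t, htm⟩
    have hx : LinearIndependent (ResidueField A)
        (fun i => (maximalIdeal A).toCotangent (x i)) := by
      rw [linearIndependent_unique_iff]
      show (maximalIdeal A).toCotangent ⟨t, htm⟩ ≠ 0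
      rw [Ne, Ideal.toCotangent_eq_zero]
      exact ht2
    obtain ⟨hq1, hq2⟩ := quotient_regular A 1 x hx
    have hJ : Ideal.span (Set.range fun i => (x i : A)) = Ideal.span {t} := by
      congr 1
      ext a
      simp [x]
    rw [hJ] at hq1 hq2
    haveI := hq2
    have hnq : (maximalIdeal (A ⧸ Ideal.span {t})).spanFinrank = n := by
      have h5 : ((maximalIdeal (A ⧸ Ideal.span {t})).spanFinrank : WithBot ℕ∞) + ((1 : ℕ) : WithBot ℕ∞) =
          ((n + 1 : ℕ) : WithBot ℕ∞) := by
        rw [IsRegularLocalRing.spanFinrank_maximalIdeal, hq1, hdim]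
      have h6 : (maximalIdeal (A ⧸ Ideal.span {t})).spanFinrank + 1 = n + 1 := by
        exact_mod_cast h5
      omega
    haveI hnzd : NoZeroDivisors (A ⧸ Ideal.span {t}) :=
      ⟨fun {a b} hab => ih (A ⧸ Ideal.span {t}) hnq a b hab⟩
    haveI hdomq : IsDomain (A ⧸ Ideal.span {t}) := NoZeroDivisors.to_isDomain _
    haveI hprime : (Ideal.span {t}).IsPrime := (Ideal.Quotient.isDomain_iff_prime _).mp hdomq
    obtain ⟨p, hp, hple⟩ := Ideal.exists_minimalPrimes_le (I := (⊥ : Ideal A))
      (J := Ideal.span {t}) bot_le
    have htp : t ∉ p := htmin p hp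
    haveI := hp.1.1
    have hpsm : (p : Submodule A A) ≤ maximalIdeal A • (p : Submodule A A) := by
      intro a ha
      obtain ⟨c, rfl⟩ := Ideal.mem_span_singleton'.mp (hple ha)
      have hc : c ∈ p := (hp.1.1.mem_or_mem ha).resolve_right htp
      rw [mul_comm]
      exact Submodule.smul_mem_smul htm hc
    have hp0 : p = ⊥ := Submodule.eq_bot_of_le_smul_of_le_jacobson_bot (maximalIdeal A) p
      p.fg_of_isNoetherianRing hpsm (jacobson_eq_maximalIdeal ⊥ bot_ne_top).ge
    have hbot : (⊥ : Ideal A).IsPrime := hp0 ▸ hp.1.1
    intro a b hab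
    have := hbot.mem_or_mem (Ideal.mem_bot.mpr hab)
    simpa [Ideal.mem_bot] using this

end Groth.Agent.Lib.Helper9.RegLocal
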