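import Groth.Agent.Lib.Helper4.Ischebeck
import Mathlib.RingTheory.Regular.ProjectiveDimension

/-!
# Bass-type lemma: over a Noetherian local ring, `Ext^i(k, L) = 0` for `i > n` implies
`Ext^i(N, L) = 0` for `i > n` and all finite `N` (for finite `L`); global dimension from `pd k`.
-/

set_option autoImplicit false
universe u

open RingTheory.Sequence CategoryTheory Abelian

namespace Groth.Agent.Lib.Helper9

open Groth.Agent.Lib.Helper4

variable {A : Type u} [CommRing A] [IsNoetherianRing A] [IsLocalRing A]

theorem bass_aux (L : ModuleCat.{u} A) [Module.Finite A L] (n : ℕ)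
    (hk : ∀ i, n < i →
      Subsingleton (Ext (ModuleCat.of A (A ⧸ IsLocalRing.maximalIdeal A)) L i)) :
    ∀ (r : ℕ) (N : Type u) [AddCommGroup N] [Module A N] [Module.Finite A N],
      Module.supportDim A N ≤ r → ∀ i : ℕ, n < i →
      Subsingleton (Ext (ModuleCat.of A N) L i) := by
  intro r
  induction r using Nat.strong_induction_on with
  | _ r IH =>
  intro N _ _ hfin
  induction hfin using IsNoetherianRing.induction_on_isQuotientEquivQuotientPrime A with
  | subsingleton N =>
    intro _ i _
    exact subsingleton_ext_of_subsingleton_left _ _ i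
  | quotient N p e =>
    intro hdim i hi
    have hp : p.asIdeal.IsPrime := p.2
    refine subsingleton_ext_of_iso_left (e.symm.toModuleIso) i ?_
    rw [Module.supportDim_eq_of_equiv e, Module.supportDim_quotient_eq_ringKrullDim] at hdim
    by_cases hpm : p.asIdeal = IsLocalRing.maximalIdeal A
    · rw [hpm]
      exact hk i hi
    · have hlt : p.asIdeal < IsLocalRing.maximalIdeal A :=
        lt_of_le_of_ne (IsLocalRing.le_maximalIdeal hp.ne_top) hpm
      obtain ⟨x, hxm, hxp⟩ := SetLike.exists_of_lt hlt
      have reg : IsSMulRegular (A ⧸ p.asIdeal) x := by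
        intro a b hab
        change x • a = x • b at hab
        rw [Algebra.smul_def, Algebra.smul_def] at hab
        refine mul_left_cancel₀ ?_ hab
        rw [Ideal.Quotient.algebraMap_eq, Ne, Ideal.Quotient.eq_zero_iff_mem]
        exact hxp
      have hdim2 := Module.supportDim_quotSMulTop_succ_eq_supportDim reg hxm
      rw [Module.supportDim_quotient_eq_ringKrullDim] at hdim2
      have hfinN : Module.Finite A (ModuleCat.of A (A ⧸ p.asIdeal)) :=
        inferInstanceAs (Module.Finite A (A ⧸ p.asIdeal))
      refine subsingleton_ext_of_quotSMulTop (ModuleCat.of A (A ⧸ p.asIdeal)) L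
        x hxm reg i ?_
      have hQ : Module.supportDim A (QuotSMulTop x (A ⧸ p.asIdeal)) + 1 ≤ r := hdim2.le.trans hdim
      have hnt : Nontrivial (QuotSMulTop x (A ⧸ p.asIdeal)) :=
        nontrivial_quotSMulTop_of_mem_maximalIdeal _ hxm
      obtain ⟨k, hk'⟩ := exists_nat_supportDim (R := A) (M := QuotSMulTop x (A ⧸ p.asIdeal))
      rw [hk'] at hQ
      have hkr : k + 1 ≤ r := by exact_mod_cast hQ
      obtain ⟨r', hr'⟩ : ∃ r', r = r' + 1 := ⟨r - 1, by omega⟩
      refine IH r' (by omega) (QuotSMulTop x (A ⧸ p.asIdeal)) ?_ (i + 1) (by omega)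
      rw [hk']
      have hk'' : k ≤ r' := by omega
      exact_mod_cast hk''
  | exact N₁ N₂ N₃ f g hf hg hfg h₁ h₃ =>
    intro hdim i hi
    let S : ShortComplex (ModuleCat.{u} A) :=
      ModuleCat.shortComplexOfCompEqZero f g (by ext x; simpa using hfg.apply_apply_eq_zero x)
    have hS : S.ShortExact := ModuleCat.shortComplex_shortExact S hfg hf hg
    exact subsingleton_ext_left_X₂ hS L i
      (h₁ ((Module.supportDim_le_of_injective f hf).trans hdim) i hi)
      (h₃ ((Module.supportDim_le_of_surjective g hg).trans hdim) i hi)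

/-- If `pd k ≤ n` over a Noetherian local ring, every finite module has `pd ≤ n`. -/
theorem hasProjectiveDimensionLT_of_finite_of_residueField (n : ℕ)
    (hk : HasProjectiveDimensionLT (ModuleCat.of A (IsLocalRing.ResidueField A)) (n + 1))
    (N : Type u) [AddCommGroup N] [Module A N] [Module.Finite A N] :
    HasProjectiveDimensionLT (ModuleCat.of A N) (n + 1) := by
  haveI : Module.Finite A (ModuleCat.of A N) := ‹Module.Finite A N›
  refine ModuleCat.hasProjectiveDimensionLT_of_forall_finite (ModuleCat.of A N) (n + 1)
    (fun L hL => ?_)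
  haveI := hL
  have hk' : ∀ i, n < i →
      Subsingleton (Ext (ModuleCat.of A (A ⧸ IsLocalRing.maximalIdeal A)) L i) :=
    fun i hi => HasProjectiveDimensionLT.subsingleton
      (ModuleCat.of A (IsLocalRing.ResidueField A)) (n + 1) i (by omega) L
  have hdim : Module.supportDim A N ≤
      (((IsLocalRing.maximalIdeal A).spanFinrank : ℕ) : WithBot ℕ∞) :=
    (Module.supportDim_le_ringKrullDim A N).trans (ringKrullDim_le_spanFinrank_maximalIdeal A)
  exact bass_aux L n hk' _ N hdim (n + 1) (by omega)

end Groth.Agent.Lib.Helper9
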