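import Mathlib.Algebra.Category.ModuleCat.InjectiveDimension
import Mathlib.Algebra.Category.ModuleCat.Ext.HasExt
import Mathlib.CategoryTheory.Abelian.Projective.Dimension
import Mathlib.CategoryTheory.Abelian.Injective.Ext
import Mathlib.Algebra.Module.Injective

/-!
# Injective dimension is detected by cyclic modules (Baer + dimension shifting)
-/

set_option autoImplicit false
universe u
open CategoryTheory

namespace Groth.Agent.Lib.Helper9

variable {A : Type u} [CommRing A]

/-- If `Ext^1(A/I, X) = 0` for every ideal `I`, then `X` satisfies Baer's criterion. -/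
lemma baer_of_ext_one (X : ModuleCat.{u} A)
    (h : ∀ I : Ideal A, Subsingleton (Abelian.Ext (ModuleCat.of A (A ⧸ I)) X 1)) :
    Module.Baer A X := by
  intro I g
  let S : ShortComplex (ModuleCat.{u} A) :=
    ModuleCat.shortComplexOfCompEqZero I.subtype I.mkQ
      (LinearMap.exact_subtype_mkQ I).linearMap_comp_eq_zero
  have hS : S.ShortExact := ModuleCat.shortComplex_shortExact S
    (LinearMap.exact_subtype_mkQ I) I.injective_subtype (Submodule.mkQ_surjective _)
  obtain ⟨φ, hφ⟩ := Abelian.Ext.contravariant_sequence_exact₁ hS X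
    (Abelian.Ext.mk₀ (ModuleCat.ofHom g)) (add_zero 1) ((h I).elim _ _)
  obtain ⟨φ, rfl⟩ := Abelian.Ext.homEquiv₀.symm.surjective φ
  have h2 : S.f ≫ φ = ModuleCat.ofHom g :=
    Abelian.Ext.homEquiv₀.symm.injective (by simpa using hφ)
  refine ⟨φ.hom, fun x hx => ?_⟩
  have h3 := congrArg (fun k => k.hom ⟨x, hx⟩) h2
  simpa [S] using h3

/-- Injective dimension `≤ n` is detected by the vanishing of `Ext^{n+1}(A/I, -)`. -/
lemma hasInjectiveDimensionLT_of_cyclic (n : ℕ) : ∀ (X : ModuleCat.{u} A),
    (∀ I : Ideal A, Subsingleton (Abelian.Ext (ModuleCat.of A (A ⧸ I)) X (n + 1))) →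
    HasInjectiveDimensionLT X (n + 1) := by
  induction n with
  | zero =>
    intro X h
    have hB : Module.Baer A X := baer_of_ext_one X h
    have hI : Module.Injective A X := hB.injective
    have hJ : Injective X := Module.injective_object_of_injective_module A X
    infer_instance
  | succ n ih =>
    intro X h
    let ⟨J, _, f, _⟩ := EnoughInjectives.presentation X
    have injf : Function.Injective f.hom := (ModuleCat.mono_iff_injective f).mp ‹_›
    let S : ShortComplex (ModuleCat.{u} A) :=
      ModuleCat.shortComplexOfCompEqZero _ _ f.hom.exact_map_mkQ_range.linearMap_comp_eq_zero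
    have hS := ModuleCat.shortComplex_shortExact S f.hom.exact_map_mkQ_range injf
      (Submodule.mkQ_surjective _)
    have hQ : HasInjectiveDimensionLT S.X₃ (n + 1) := by
      apply ih
      intro I
      suffices hx : ∀ x : Abelian.Ext (ModuleCat.of A (A ⧸ I)) S.X₃ (n + 1), x = 0 from
        ⟨fun x y => by rw [hx x, hx y]⟩
      intro x
      obtain ⟨x₂, rfl⟩ := Abelian.Ext.covariant_sequence_exact₃ _ hS x rfl ((h I).elim _ _)
      have : Injective S.X₂ := by assumption
      rw [x₂.eq_zero_of_injective, Abelian.Ext.zero_comp]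
    exact (hS.hasInjectiveDimensionLT_X₃_iff n (by assumption)).mp hQ

end Groth.Agent.Lib.Helper9
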