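import Groth.Agent.Lib.Helper9.ProjDim
import Mathlib.LinearAlgebra.TensorProduct.Quotient
import Mathlib.RingTheory.Regular.IsSMulRegular
import Mathlib.Algebra.Module.Pi
import Mathlib.Algebra.Module.Torsion.Basic

/-!
# Projective dimension of `E/aE` over `A/aA` for an `A`- and `E`-regular element `a`
-/

set_option autoImplicit false
universe u
open CategoryTheory TensorProduct
open scoped Pointwise

namespace Groth.Agent.Lib.Helper9

section

variable {A : Type u} [CommRing A] (I : Ideal A)

lemma isScalarTower_quot_smul_top (X : Type u) [AddCommGroup X] [Module A X] :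
    IsScalarTower A (A ⧸ I) (X ⧸ (I • ⊤ : Submodule A X)) :=
  IsScalarTower.of_algebraMap_smul (fun a x => by
    obtain ⟨x, rfl⟩ := Submodule.Quotient.mk_surjective _ x
    rfl)

/-- Functoriality of `X ↦ X/IX` as an `A/I`-module. -/
noncomputable def quotSMulTopMap {X Y : Type u} [AddCommGroup X] [Module A X] [AddCommGroup Y]
    [Module A Y] (f : X →ₗ[A] Y) :
    (X ⧸ (I • ⊤ : Submodule A X)) →ₗ[A ⧸ I] (Y ⧸ (I • ⊤ : Submodule A Y)) :=
  haveI := isScalarTower_quot_smul_top I X
  haveI := isScalarTower_quot_smul_top I Y
  (Submodule.mapQ _ _ f (Submodule.smul_top_le_comap_smul_top I f)).extendScalarsOfSurjective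
    Ideal.Quotient.mk_surjective

lemma quotSMulTopMap_mk {X Y : Type u} [AddCommGroup X] [Module A X] [AddCommGroup Y]
    [Module A Y] (f : X →ₗ[A] Y) (x : X) :
    quotSMulTopMap I f (Submodule.Quotient.mk x) = Submodule.Quotient.mk (f x) := rfl

lemma projective_quot_smul_top (X : Type u) [AddCommGroup X] [Module A X]
    [Module.Projective A X] : Module.Projective (A ⧸ I) (X ⧸ (I • ⊤ : Submodule A X)) := by
  haveI := isScalarTower_quot_smul_top I X
  let e : ((A ⧸ I) ⊗[A] X) ≃ₗ[A ⧸ I] (X ⧸ (I • ⊤ : Submodule A X)) :=
    (TensorProduct.quotTensorEquivQuotSMul X I).extendScalarsOfSurjective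
      Ideal.Quotient.mk_surjective
  exact Module.Projective.of_equiv' e

end

section

variable {A : Type u} [CommRing A] [IsNoetherianRing A] (a : A)

lemma mem_span_singleton_smul_top {X : Type u} [AddCommGroup X] [Module A X] (x : X) :
    x ∈ (Ideal.span {a} • ⊤ : Submodule A X) ↔ ∃ y : X, a • y = x := by
  rw [Submodule.ideal_span_singleton_smul, Submodule.mem_smul_pointwise_iff_exists]
  constructor
  · rintro ⟨y, -, hy⟩; exact ⟨y, hy⟩
  · rintro ⟨y, hy⟩; exact ⟨y, Submodule.mem_top, hy⟩

/-- Key step: projective dimension `< n + 1` passes to the quotient by a regular element. -/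
lemma hasProjectiveDimensionLT_quot_succ (hA : IsSMulRegular A a) (n : ℕ) :
    ∀ (E : Type u) [AddCommGroup E] [Module A E] [Module.Finite A E], IsSMulRegular E a →
      HasProjectiveDimensionLT (ModuleCat.of A E) (n + 1) →
      HasProjectiveDimensionLT (ModuleCat.of (A ⧸ Ideal.span {a})
        (E ⧸ (Ideal.span {a} • ⊤ : Submodule A E))) (n + 1) := by
  induction n with
  | zero =>
    intro E _ _ _ _ h
    have hP : Projective (ModuleCat.of A E) := projective_iff_hasProjectiveDimensionLT_one.mpr h
    have hP' : Module.Projective A E := (IsProjective.iff_projective (R := A) E).mpr hP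
    have hQ := projective_quot_smul_top (Ideal.span {a}) E
    have hQc : Projective (ModuleCat.of (A ⧸ Ideal.span {a})
        (E ⧸ (Ideal.span {a} • ⊤ : Submodule A E))) :=
      (IsProjective.iff_projective (R := A ⧸ Ideal.span {a}) _).mp hQ
    infer_instance
  | succ n ih =>
    intro E _ _ _ hE h
    obtain ⟨r, p, hp⟩ := Module.Finite.exists_fin' A E
    have hKfin : Module.Finite A ↥(LinearMap.ker p) :=
      Module.Finite.iff_fg.mpr (IsNoetherian.noetherian _)
    let S : ShortComplex (ModuleCat.{u} A) :=
      ModuleCat.shortComplexOfCompEqZero (LinearMap.ker p).subtype p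
        (LinearMap.exact_subtype_ker_map p).linearMap_comp_eq_zero
    have hS : S.ShortExact := ModuleCat.shortComplex_shortExact S
      (LinearMap.exact_subtype_ker_map p) (LinearMap.ker p).injective_subtype hp
    have hproj : Projective S.X₂ :=
      (IsProjective.iff_projective (R := A) (Fin r → A)).mp inferInstance
    have hK : HasProjectiveDimensionLT S.X₁ (n + 1) :=
      (hS.hasProjectiveDimensionLT_X₃_iff n hproj).mp h
    have hF : IsSMulRegular (Fin r → A) a := IsSMulRegular.pi fun _ => hA
    have hKreg : IsSMulRegular ↥(LinearMap.ker p) a := hF.submodule _ a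
    have hK' := ih ↥(LinearMap.ker p) hKreg hK
    -- the quotient sequence
    have hex : Function.Exact (quotSMulTopMap (Ideal.span {a}) (LinearMap.ker p).subtype)
        (quotSMulTopMap (Ideal.span {a}) p) := by
      intro y
      obtain ⟨f, rfl⟩ := Submodule.Quotient.mk_surjective _ y
      constructor
      · intro hy
        rw [quotSMulTopMap_mk, Submodule.Quotient.mk_eq_zero, mem_span_singleton_smul_top] at hy
        obtain ⟨e, he⟩ := hy
        obtain ⟨f', rfl⟩ := hp e
        have hk : f - a • f' ∈ LinearMap.ker p := by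
          rw [LinearMap.mem_ker, map_sub, map_smul, he, sub_self]
        refine ⟨Submodule.Quotient.mk ⟨f - a • f', hk⟩, ?_⟩
        rw [quotSMulTopMap_mk]
        show Submodule.Quotient.mk (f - a • f') = Submodule.Quotient.mk f
        rw [Submodule.Quotient.mk_sub, sub_eq_self, Submodule.Quotient.mk_eq_zero,
          mem_span_singleton_smul_top]
        exact ⟨f', rfl⟩
      · rintro ⟨z, hz⟩
        obtain ⟨k, rfl⟩ := Submodule.Quotient.mk_surjective _ z
        rw [← hz, quotSMulTopMap_mk, quotSMulTopMap_mk]
        show Submodule.Quotient.mk (p (k : Fin r → A)) = 0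
        rw [LinearMap.mem_ker.mp k.2, Submodule.Quotient.mk_zero]
    have hinj : Function.Injective (quotSMulTopMap (Ideal.span {a}) (LinearMap.ker p).subtype) := by
      rw [injective_iff_map_eq_zero]
      intro z hz
      obtain ⟨k, rfl⟩ := Submodule.Quotient.mk_surjective _ z
      rw [quotSMulTopMap_mk, Submodule.Quotient.mk_eq_zero, mem_span_singleton_smul_top] at hz
      obtain ⟨f, hf⟩ := hz
      have hf' : a • f = (k : Fin r → A) := hf
      have hpf : p f = 0 := by
        apply hE
        show a • p f = a • 0
        rw [← map_smul, hf', LinearMap.mem_ker.mp k.2, smul_zero]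
      rw [Submodule.Quotient.mk_eq_zero, mem_span_singleton_smul_top]
      exact ⟨⟨f, hpf⟩, Subtype.ext hf'⟩
    have hsurj : Function.Surjective (quotSMulTopMap (Ideal.span {a}) p) := by
      intro y
      obtain ⟨e, rfl⟩ := Submodule.Quotient.mk_surjective _ y
      obtain ⟨f, rfl⟩ := hp e
      exact ⟨Submodule.Quotient.mk f, rfl⟩
    let S' : ShortComplex (ModuleCat.{u} (A ⧸ Ideal.span {a})) :=
      ModuleCat.shortComplexOfCompEqZero _ _ hex.linearMap_comp_eq_zero
    have hS' : S'.ShortExact := ModuleCat.shortComplex_shortExact S' hex hinj hsurj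
    have hprojF := projective_quot_smul_top (Ideal.span {a}) (Fin r → A)
    have hproj' : Projective S'.X₂ :=
      (IsProjective.iff_projective (R := A ⧸ Ideal.span {a}) _).mp hprojF
    exact (hS'.hasProjectiveDimensionLT_X₃_iff n hproj').mpr hK'

lemma hasProjectiveDimensionLT_quot (hA : IsSMulRegular A a) (n : ℕ)
    (E : Type u) [AddCommGroup E] [Module A E] [Module.Finite A E] (hE : IsSMulRegular E a)
    (h : HasProjectiveDimensionLT (ModuleCat.of A E) n) :
    HasProjectiveDimensionLT (ModuleCat.of (A ⧸ Ideal.span {a})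
      (E ⧸ (Ideal.span {a} • ⊤ : Submodule A E))) n := by
  cases n with
  | zero =>
    rw [hasProjectiveDimensionLT_zero_iff_isZero, ModuleCat.isZero_of_iff_subsingleton] at h ⊢
    infer_instance
  | succ n => exact hasProjectiveDimensionLT_quot_succ a hA n E hE h

end

end Groth.Agent.Lib.Helper9
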