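import Mathlib
import Groth.Agent.Lib.Helper2.Stk.Sky
import Groth.Agent.Lib.Helper18.DRTorZ3
import Groth.Prelude.Def_DerSch

/-!
# The stalk of the structure module, and tor amplitude of `O_X[0]` relative to a morphism (helper9)

* `unitStalkEquiv x : (O_X as a module).presheaf.stalk x ≃ₗ[O_{X,x}] O_{X,x}`.
* `nonempty_stalkCxOver_unit_iso f x`: the complex of stalks of `O_X[0]` over `O_{Y,f x}` is `O_{X,x}[0]`.
* `hasTorAmplitudeAt_unit_iff`, `hasTorDimLE_iff`, `hasTorDimLE_zero_iff_flat`.
-/

set_option autoImplicit false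
set_option linter.style.haveILetI false
universe u
open CategoryTheory CategoryTheory.Limits AlgebraicGeometry TopologicalSpace Opposite
attribute [local instance] HasDerivedCategory.standard

namespace Groth.Agent.Lib.Helper9.StalkUnit

open Groth.Agent.Lib.Helper2.Stk

variable {X Y : Scheme.{u}}

section point

variable (x : X)

/-- germ of a section of the structure module, as an element of the local ring -/
noncomputable def secHom (U : X.Opens) (hx : x ∈ U) :
    ↑((Coh.structureModule X).presheaf.obj (op U)) →+ ↑(X.presheaf.stalk x) where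
  toFun s := X.presheaf.germ U x hx s
  map_zero' := map_zero (X.presheaf.germ U x hx).hom
  map_add' a b := map_add (X.presheaf.germ U x hx).hom a b

/-- the comparison map from the stalk of the structure module to the local ring -/
noncomputable def unitStalkHom :
    ↑((Coh.structureModule X).presheaf.stalk x) →+ ↑(X.presheaf.stalk x) :=
  stalkDesc x (Coh.structureModule X) (X.presheaf.stalk x) (secHom x) (by
    intro U V i hx s
    exact TopCat.Presheaf.germ_res_apply X.presheaf i x hx s)

lemma unitStalkHom_germ (U : X.Opens) (hx : x ∈ U)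
    (s : ↑((Coh.structureModule X).presheaf.obj (op U))) :
    unitStalkHom x ((Coh.structureModule X).presheaf.germ U x hx s) =
      X.presheaf.germ U x hx s :=
  stalkDesc_germ x (Coh.structureModule X) (X.presheaf.stalk x) (secHom x) _ U hx s

lemma unitStalkHom_smul (r : X.presheaf.stalk x)
    (a : ↑((Coh.structureModule X).presheaf.stalk x)) :
    unitStalkHom x (r • a) = r * unitStalkHom x a := by
  obtain ⟨U, hx, ρ, s, rfl, rfl⟩ := exists_rep_smul x (Coh.structureModule X) r a
  rw [← germ_smul', unitStalkHom_germ, unitStalkHom_germ]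
  exact map_mul (X.presheaf.germ U x hx).hom ρ s

lemma unitStalkHom_surjective : Function.Surjective (unitStalkHom x) := by
  intro r
  obtain ⟨U, hx, ρ, rfl⟩ := TopCat.Presheaf.exists_germ_eq X.presheaf r
  exact ⟨(Coh.structureModule X).presheaf.germ U x hx ρ, unitStalkHom_germ x U hx ρ⟩

lemma unitStalkHom_injective : Function.Injective (unitStalkHom x) := by
  rw [injective_iff_map_eq_zero]
  intro a ha
  obtain ⟨U, hx, s, rfl⟩ := TopCat.Presheaf.exists_germ_eq (Coh.structureModule X).presheaf a
  rw [unitStalkHom_germ] at ha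
  have h0 : X.presheaf.germ U x hx s = X.presheaf.germ U x hx (0 : X.presheaf.obj (op U)) := by
    rw [ha, map_zero]
  obtain ⟨W, hxW, iU, iV, e⟩ := TopCat.Presheaf.germ_eq X.presheaf x hx hx _ _ h0
  have e' : (Coh.structureModule X).presheaf.map iU.op s = 0 := by
    refine e.trans ?_
    exact map_zero (X.presheaf.map iV.op).hom
  rw [← TopCat.Presheaf.germ_res_apply (Coh.structureModule X).presheaf iU x hxW s, e', map_zero]

end point


section overBase

open Groth.Agent.Lib.Helper18.DR

variable (f : X ⟶ Y) (x : X)

/-- The stalk of the structure module of `X` at `x`, as a module over the local ring of `Y` at `f x`, is the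
local ring of `X` at `x`. -/
theorem nonempty_stalkOver_unit_iso :
    letI := (f.stalkMap x).hom.toAlgebra
    Nonempty ((DerSch.stalkOver f x).obj (Coh.structureModule X) ≅
      ModuleCat.of (Y.presheaf.stalk (f.base x)) (X.presheaf.stalk x)) := by
  letI := (f.stalkMap x).hom.toAlgebra
  let l : ↥((DerSch.stalkOver f x).obj (Coh.structureModule X)) →ₗ[Y.presheaf.stalk (f.base x)]
      (X.presheaf.stalk x) :=
    { toFun := fun a => unitStalkHom x a
      map_add' := fun a b => map_add (unitStalkHom x) a b
      map_smul' := fun r a => by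
        change unitStalkHom x ((f.stalkMap x).hom r •
          (show ↑((Coh.structureModule X).presheaf.stalk x) from a)) = _
        rw [unitStalkHom_smul]
        rfl }
  exact ⟨(LinearEquiv.ofBijective l
    ⟨unitStalkHom_injective x, unitStalkHom_surjective x⟩).toModuleIso⟩

/-- The complex of stalks of `O_X[0]` over the local ring of the base is the local ring of `X` in degree `0`. -/
theorem nonempty_stalkCxOver_unit_iso :
    letI := (f.stalkMap x).hom.toAlgebra
    Nonempty (DRing.toD ((DerSch.stalkCxOver f x).obj (DerSch.unitCx X)) ≅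
      Dual.inD (Y.presheaf.stalk (f.base x)) (X.presheaf.stalk x)) := by
  letI := (f.stalkMap x).hom.toAlgebra
  obtain ⟨e⟩ := nonempty_stalkOver_unit_iso f x
  let e1 := (HomologicalComplex.singleMapHomologicalComplex (DerSch.stalkOver f x)
    (ComplexShape.up ℤ) 0).app (Coh.structureModule X)
  let e2 := (DerivedCategory.singleFunctorIsoCompQ
    (ModuleCat.{u} (Y.presheaf.stalk (f.base x))) 0).app
      ((DerSch.stalkOver f x).obj (Coh.structureModule X))
  exact ⟨DerivedCategory.Q.mapIso e1 ≪≫ e2.symm ≪≫
    (DerivedCategory.singleFunctor _ 0).mapIso e⟩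

theorem hasTorAmplitudeAt_unit_iff (a b : ℤ) :
    letI := (f.stalkMap x).hom.toAlgebra
    DerSch.HasTorAmplitudeAt f a b (DerSch.unitCx X) x ↔
      DRing.HasTorAmplitudeIn (Y.presheaf.stalk (f.base x)) a b
        (Dual.inD (Y.presheaf.stalk (f.base x)) (X.presheaf.stalk x)) := by
  letI := (f.stalkMap x).hom.toAlgebra
  obtain ⟨e⟩ := nonempty_stalkCxOver_unit_iso f x
  exact ⟨fun h => hasTorAmplitudeIn_of_iso e h, fun h => hasTorAmplitudeIn_of_iso e.symm h⟩

end overBase

theorem hasTorDimLE_iff (f : X ⟶ Y) (n : ℕ) :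
    DerSch.HasTorDimLE f n ↔ ∀ x : X, letI := (f.stalkMap x).hom.toAlgebra
      DRing.HasTorDimLE (Y.presheaf.stalk (f.base x)) n (X.presheaf.stalk x) := by
  refine forall_congr' (fun x => ?_)
  letI := (f.stalkMap x).hom.toAlgebra
  exact (hasTorAmplitudeAt_unit_iff f x _ _).trans
    (Groth.Agent.Lib.Helper18.DR.hasTorDimLE_iff_hasTorAmplitudeIn_single _ _ n).1.symm

theorem hasTorDimLE_zero_iff_flat (f : X ⟶ Y) : DerSch.HasTorDimLE f 0 ↔ Flat f := by
  rw [hasTorDimLE_iff, Flat.iff_flat_stalkMap]
  refine forall_congr' (fun x => ?_)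
  letI := (f.stalkMap x).hom.toAlgebra
  exact (Groth.Agent.Lib.Helper18.DR.hasTorDimLE_iff_hasTorAmplitudeIn_single _ _ 0).2

end Groth.Agent.Lib.Helper9.StalkUnit
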