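import Mathlib
import Groth.Agent.Lib.Helper8.LocalCriterion3

/-!
# EGA 0_III 10.2.4 (helper9)

`injective_and_flat_coker`: `A → B` a local homomorphism of Noetherian local rings, `u : M → N` a
`B`-linear map of finite `B`-modules with `N` flat over `A`; if `u ⊗ k` is injective then `u` is
injective and `Coker u` is flat over `A`.

Also: `flat_of_exact_ker` (kernel of a surjection of flat modules is flat), the multiplication map
`mu I X : I ⊗ X → X`, and comparison of `I • ⊤` with `(I B) • ⊤`.
-/

set_option autoImplicit false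
universe u

open TensorProduct

namespace Groth.Agent.Lib.Helper9.FlatCoker

/-- The kernel of a surjection of flat modules is flat. -/
theorem flat_of_exact_ker {R : Type u} [CommRing R] {M' M M'' : Type u} [AddCommGroup M']
    [AddCommGroup M] [AddCommGroup M''] [Module R M'] [Module R M] [Module R M'']
    (g : M' →ₗ[R] M) (f : M →ₗ[R] M'')
    (hg : Function.Injective g) (hf : Function.Surjective f) (H : Function.Exact g f)
    [Module.Flat R M] [Module.Flat R M''] : Module.Flat R M' := by
  rw [Module.Flat.iff_rTensor_injective']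
  intro 𝔞
  have h1 : Function.Injective (g.lTensor 𝔞) :=
    LinearMap.lTensor_injective_of_exact_of_flat f hf g hg H 𝔞
  have h2 : Function.Injective (𝔞.subtype.rTensor M) :=
    Module.Flat.iff_rTensor_injective'.mp inferInstance 𝔞
  rw [injective_iff_map_eq_zero]
  intro x hx
  apply h1
  rw [map_zero]
  apply h2
  rw [map_zero]
  have hc : (𝔞.subtype.rTensor M) ∘ₗ (g.lTensor 𝔞) = (g.lTensor R) ∘ₗ (𝔞.subtype.rTensor M') := by
    rw [LinearMap.rTensor_comp_lTensor, LinearMap.lTensor_comp_rTensor]
  have h := congrArg (fun φ => φ x) hc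
  simp only [LinearMap.comp_apply] at h
  rw [h, hx, map_zero]

section mu

variable {A : Type u} [CommRing A] (I : Ideal A) (X : Type u) [AddCommGroup X] [Module A X]

/-- The multiplication map `I ⊗ X → X`. -/
noncomputable def mu : I ⊗[A] X →ₗ[A] X :=
  (TensorProduct.lid A X).toLinearMap ∘ₗ (I.subtype.rTensor X)

lemma mu_tmul (a : I) (x : X) : mu I X (a ⊗ₜ x) = (a : A) • x := by
  simp [mu]

lemma mu_mem (y : I ⊗[A] X) : mu I X y ∈ I • (⊤ : Submodule A X) := by
  induction y using TensorProduct.induction_on with
  | zero => simp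
  | tmul a x =>
    rw [mu_tmul]
    exact Submodule.smul_mem_smul a.2 Submodule.mem_top
  | add y z hy hz =>
    rw [map_add]
    exact add_mem hy hz

lemma exists_mu_eq {w : X} (hw : w ∈ I • (⊤ : Submodule A X)) : ∃ v : I ⊗[A] X, mu I X v = w := by
  refine Submodule.smul_induction_on hw ?_ ?_
  · intro a ha x _
    exact ⟨(⟨a, ha⟩ : I) ⊗ₜ x, mu_tmul I X _ _⟩
  · rintro x y ⟨v₁, rfl⟩ ⟨v₂, rfl⟩
    exact ⟨v₁ + v₂, map_add _ _ _⟩

lemma mu_injective_iff :
    Function.Injective (mu I X) ↔ Function.Injective (I.subtype.rTensor X) := by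
  unfold mu
  rw [LinearMap.coe_comp]
  exact (TensorProduct.lid A X).injective.of_comp_iff _

lemma mu_lTensor {Y : Type u} [AddCommGroup Y] [Module A Y] (f : X →ₗ[A] Y) (v : I ⊗[A] X) :
    mu I Y ((f.lTensor I) v) = f (mu I X v) := by
  induction v using TensorProduct.induction_on with
  | zero => simp
  | tmul a x => simp [mu_tmul]
  | add y z hy hz => simp only [map_add, hy, hz]

end mu

section conv

variable {A B : Type u} [CommRing A] [CommRing B] [Algebra A B] (I : Ideal A)
  {X : Type u} [AddCommGroup X] [Module A X] [Module B X] [IsScalarTower A B X]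

lemma mem_smul_top_of_mem_map_smul_top {x : X}
    (hx : x ∈ (I.map (algebraMap A B)) • (⊤ : Submodule B X)) : x ∈ I • (⊤ : Submodule A X) := by
  have key : ∀ b ∈ Ideal.span ((algebraMap A B) '' (I : Set A)), ∀ y : X,
      b • y ∈ I • (⊤ : Submodule A X) := by
    intro b hb
    induction hb using Submodule.span_induction with
    | mem b hb =>
      obtain ⟨a, ha, rfl⟩ := hb
      intro y
      rw [algebraMap_smul]
      exact Submodule.smul_mem_smul ha Submodule.mem_top
    | zero =>
      intro y
      rw [zero_smul]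
      exact zero_mem _
    | add b₁ b₂ _ _ h₁ h₂ =>
      intro y
      rw [add_smul]
      exact add_mem (h₁ y) (h₂ y)
    | smul c b _ h =>
      intro y
      rw [smul_eq_mul, mul_comm, mul_smul]
      exact h (c • y)
  refine Submodule.smul_induction_on hx ?_ ?_
  · intro b hb y _
    exact key b hb y
  · intro x y hx hy
    exact add_mem hx hy

lemma mem_map_smul_top_of_mem_smul_top {x : X} (hx : x ∈ I • (⊤ : Submodule A X)) :
    x ∈ (I.map (algebraMap A B)) • (⊤ : Submodule B X) := by
  refine Submodule.smul_induction_on hx ?_ ?_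
  · intro a ha y _
    rw [← algebraMap_smul B a y]
    exact Submodule.smul_mem_smul (Ideal.mem_map_of_mem _ ha) Submodule.mem_top
  · intro x y hx hy
    exact add_mem hx hy

lemma mem_map_smul_top_iff {x : X} :
    x ∈ (I.map (algebraMap A B)) • (⊤ : Submodule B X) ↔ x ∈ I • (⊤ : Submodule A X) :=
  ⟨mem_smul_top_of_mem_map_smul_top I, mem_map_smul_top_of_mem_smul_top I⟩

end conv

/-- EGA 0_III 10.2.4. -/
theorem injective_and_flat_coker {A B : Type u} [CommRing A] [CommRing B] [IsLocalRing A]
    [IsLocalRing B] [IsNoetherianRing A] [IsNoetherianRing B] [Algebra A B]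
    [IsLocalHom (algebraMap A B)]
    {M N : Type u} [AddCommGroup M] [Module B M] [Module A M] [IsScalarTower A B M]
    [Module.Finite B M]
    [AddCommGroup N] [Module B N] [Module A N] [IsScalarTower A B N] [Module.Finite B N]
    [Module.Flat A N] (u : M →ₗ[B] N)
    (hu : ∀ x : M, u x ∈ (IsLocalRing.maximalIdeal A) • (⊤ : Submodule A N) →
      x ∈ (IsLocalRing.maximalIdeal A) • (⊤ : Submodule A M)) :
    Function.Injective u ∧ Module.Flat A (N ⧸ LinearMap.range u) := by
  have hI : (IsLocalRing.maximalIdeal A).map (algebraMap A B) ≤ Ideal.jacobson ⊥ := by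
    rw [IsLocalRing.jacobson_eq_maximalIdeal ⊥ bot_ne_top]
    have hloc : IsLocalHom (algebraMap A B) := inferInstance
    exact ((IsLocalRing.local_hom_TFAE (algebraMap A B)).out 0 2).mp hloc
  have hπsurj : Function.Surjective ((LinearMap.range u).mkQ.restrictScalars A) :=
    Submodule.mkQ_surjective _
  have hπu : ((LinearMap.range u).mkQ.restrictScalars A) ∘ₗ (u.restrictScalars A) = 0 := by
    apply LinearMap.ext
    intro w
    show (LinearMap.range u).mkQ (u w) = 0
    rw [Submodule.mkQ_apply, Submodule.Quotient.mk_eq_zero]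
    exact LinearMap.mem_range_self u w
  have hNinj : Function.Injective (mu (IsLocalRing.maximalIdeal A) N) :=
    (mu_injective_iff _ N).mpr (Module.Flat.iff_rTensor_injective'.mp inferInstance _)
  have hC : Module.Flat A (N ⧸ LinearMap.range u) := by
    refine Groth.Agent.Lib.Helper8.flat_of_local_criterion_of_finite (A := A) (B := B)
      (IsLocalRing.maximalIdeal A) hI (N ⧸ LinearMap.range u) ?_ ?_
    · letI : Field (A ⧸ IsLocalRing.maximalIdeal A) := Ideal.Quotient.field _
      infer_instance
    · rw [← mu_injective_iff, injective_iff_map_eq_zero]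
      intro x hx
      obtain ⟨y, rfl⟩ := LinearMap.lTensor_surjective (IsLocalRing.maximalIdeal A) hπsurj x
      rw [mu_lTensor] at hx
      have h1 : mu (IsLocalRing.maximalIdeal A) N y ∈ LinearMap.range u :=
        (Submodule.Quotient.mk_eq_zero _).mp hx
      obtain ⟨w, hw⟩ := h1
      have h2 : w ∈ (IsLocalRing.maximalIdeal A) • (⊤ : Submodule A M) :=
        hu w (by rw [hw]; exact mu_mem _ N y)
      obtain ⟨v, rfl⟩ := exists_mu_eq _ M h2
      have h3 : mu (IsLocalRing.maximalIdeal A) N
          (((u.restrictScalars A).lTensor (IsLocalRing.maximalIdeal A)) v) =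
            mu (IsLocalRing.maximalIdeal A) N y := by
        rw [mu_lTensor]
        exact hw
      have h4 : ((u.restrictScalars A).lTensor (IsLocalRing.maximalIdeal A)) v = y := hNinj h3
      rw [← h4, ← LinearMap.comp_apply, ← LinearMap.lTensor_comp, hπu, LinearMap.lTensor_zero,
        LinearMap.zero_apply]
  refine ⟨?_, hC⟩
  haveI hIflat : Module.Flat A (LinearMap.range u) :=
    flat_of_exact_ker ((LinearMap.range u).subtype.restrictScalars A)
      ((LinearMap.range u).mkQ.restrictScalars A) (Submodule.subtype_injective _) hπsurj (by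
        intro n
        constructor
        · intro hn
          have h1 : n ∈ LinearMap.range u := (Submodule.Quotient.mk_eq_zero _).mp hn
          exact ⟨⟨n, h1⟩, rfl⟩
        · rintro ⟨⟨n, hn⟩, rfl⟩
          exact (Submodule.Quotient.mk_eq_zero _).mpr hn)
  have hu'surj : Function.Surjective (u.rangeRestrict.restrictScalars A) :=
    LinearMap.surjective_rangeRestrict u
  have hex' : Function.Exact ((LinearMap.ker u).subtype.restrictScalars A)
      (u.rangeRestrict.restrictScalars A) := by
    intro m
    constructor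
    · intro hm
      have h1 : m ∈ LinearMap.ker u := by
        rw [LinearMap.mem_ker]
        exact congrArg Subtype.val hm
      exact ⟨⟨m, h1⟩, rfl⟩
    · rintro ⟨⟨m, hm⟩, rfl⟩
      exact Subtype.ext (LinearMap.mem_ker.mp hm)
  have hκinj : Function.Injective
      (((LinearMap.ker u).subtype.restrictScalars A).lTensor (A ⧸ IsLocalRing.maximalIdeal A)) :=
    LinearMap.lTensor_injective_of_exact_of_flat (u.rangeRestrict.restrictScalars A) hu'surj
      ((LinearMap.ker u).subtype.restrictScalars A) (Submodule.subtype_injective _) hex'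
      (A ⧸ IsLocalRing.maximalIdeal A)
  have hKtop : (⊤ : Submodule B (LinearMap.ker u)) ≤
      ((IsLocalRing.maximalIdeal A).map (algebraMap A B)) • (⊤ : Submodule B (LinearMap.ker u)) := by
    intro k _
    apply mem_map_smul_top_of_mem_smul_top (IsLocalRing.maximalIdeal A)
    have hk1 : (k : M) ∈ (IsLocalRing.maximalIdeal A) • (⊤ : Submodule A M) :=
      hu k (by rw [LinearMap.mem_ker.mp k.2]; exact zero_mem _)
    have hk2 : ((1 : A ⧸ IsLocalRing.maximalIdeal A) ⊗ₜ[A] (k : M)) = 0 := by
      apply (TensorProduct.quotTensorEquivQuotSMul M (IsLocalRing.maximalIdeal A)).injective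
      rw [TensorProduct.quotTensorEquivQuotSMul_mk_one_tmul, map_zero,
        Submodule.Quotient.mk_eq_zero]
      exact hk1
    have hk3 : ((1 : A ⧸ IsLocalRing.maximalIdeal A) ⊗ₜ[A] k) =
        (0 : (A ⧸ IsLocalRing.maximalIdeal A) ⊗[A] (LinearMap.ker u)) := by
      apply hκinj
      rw [LinearMap.lTensor_tmul, map_zero]
      exact hk2
    have hk4 := congrArg
      (TensorProduct.quotTensorEquivQuotSMul (LinearMap.ker u) (IsLocalRing.maximalIdeal A)) hk3
    rw [TensorProduct.quotTensorEquivQuotSMul_mk_one_tmul, map_zero,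
      Submodule.Quotient.mk_eq_zero] at hk4
    exact hk4
  haveI : IsNoetherian B M := isNoetherian_of_isNoetherianRing_of_finite B M
  have hKfg : (⊤ : Submodule B (LinearMap.ker u)).FG := Module.Finite.fg_top
  have hKbot : (⊤ : Submodule B (LinearMap.ker u)) = ⊥ :=
    Submodule.eq_bot_of_le_smul_of_le_jacobson_bot _ _ hKfg hKtop hI
  rw [← LinearMap.ker_eq_bot, eq_bot_iff]
  intro m hm
  have h1 : (⟨m, hm⟩ : LinearMap.ker u) ∈ (⊤ : Submodule B (LinearMap.ker u)) := Submodule.mem_top
  rw [hKbot, Submodule.mem_bot] at h1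
  rw [Submodule.mem_bot]
  exact congrArg Subtype.val h1

end Groth.Agent.Lib.Helper9.FlatCoker
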