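import Mathlib
import Groth.Agent.Lib.Helper9.FlatCoker

/-!
# Associated primes of `N ⊗[R] M` for `N` flat over `R` (helper9)

Generic over an "Ass-like" assignment `A` (Mathlib's `associatedPrimes`, radical version, or the
annihilator version), we prove for `R` Noetherian, `N` an `S`-module flat over `R`, `M` a finite
`R`-module: `q ∈ A (N ⊗ M) → q ∈ A (N / 𝔭 N)` where `𝔭 = q ∩ R`.
-/

set_option autoImplicit false
universe u

open TensorProduct

namespace Groth.Agent.Lib.Helper9.AssTensor

open Groth.Agent.Lib.Helper9.FlatCoker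

section basic

variable {R S : Type u} [CommRing R] [CommRing S] [Algebra R S]
  (N : Type u) [AddCommGroup N] [Module S N] [Module R N] [IsScalarTower R S N]

/-- The `S`-linear map `N ⊗ M → N ⊗ M'` induced by `g : M → M'`. -/
noncomputable def lT {M M' : Type u} [AddCommGroup M] [Module R M] [AddCommGroup M'] [Module R M']
    (g : M →ₗ[R] M') : N ⊗[R] M →ₗ[S] N ⊗[R] M' :=
  TensorProduct.AlgebraTensorModule.map (LinearMap.id : N →ₗ[S] N) g

lemma lT_apply {M M' : Type u} [AddCommGroup M] [Module R M] [AddCommGroup M'] [Module R M']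
    (g : M →ₗ[R] M') (z : N ⊗[R] M) : lT (S := S) N g z = g.lTensor N z := by
  induction z using TensorProduct.induction_on with
  | zero => simp
  | tmul n m => simp [lT]
  | add x y hx hy => simp only [map_add, hx, hy]

variable {M : Type u} [AddCommGroup M] [Module R M]

/-- `n ↦ n ⊗ m`, as an `S`-linear map. -/
noncomputable def tmulRight (m : M) : N →ₗ[S] N ⊗[R] M where
  toFun n := n ⊗ₜ[R] m
  map_add' a b := TensorProduct.add_tmul a b m
  map_smul' s n := (TensorProduct.smul_tmul' s n m).symm

@[simp] lemma tmulRight_apply (m : M) (n : N) : tmulRight (R := R) (S := S) N m n = n ⊗ₜ[R] m := rfl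

lemma tmulRight_mem_ker (p : Ideal R) (m : M) (hm : ∀ a ∈ p, a • m = 0) :
    (p.map (algebraMap R S)) • (⊤ : Submodule S N) ≤ LinearMap.ker (tmulRight (R := R) (S := S) N m) := by
  intro x hx
  have hx' := mem_smul_top_of_mem_map_smul_top p hx
  rw [LinearMap.mem_ker]
  refine Submodule.smul_induction_on hx' ?_ ?_
  · intro a ha n _
    rw [tmulRight_apply, TensorProduct.smul_tmul, hm a ha, TensorProduct.tmul_zero]
  · intro x y hx hy
    rw [map_add, hx, hy, add_zero]

/-- `N/𝔭N → N ⊗ M`, `[n] ↦ n ⊗ m`, for `m` killed by `𝔭`. -/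
noncomputable def quotToTensor (p : Ideal R) (m : M) (hm : ∀ a ∈ p, a • m = 0) :
    (N ⧸ (p.map (algebraMap R S)) • (⊤ : Submodule S N)) →ₗ[S] N ⊗[R] M :=
  Submodule.liftQ _ (tmulRight (R := R) (S := S) N m) (tmulRight_mem_ker N p m hm)

lemma quotToTensor_mk (p : Ideal R) (m : M) (hm : ∀ a ∈ p, a • m = 0) (n : N) :
    quotToTensor (S := S) N p m hm (Submodule.Quotient.mk n) = n ⊗ₜ[R] m := rfl

theorem quotToTensor_injective [Module.Flat R N] (p : Ideal R) (m : M)
    (hm : ∀ a, a • m = 0 ↔ a ∈ p) :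
    Function.Injective (quotToTensor (S := S) N p m (fun a ha => (hm a).mpr ha)) := by
  rw [injective_iff_map_eq_zero]
  intro w hw
  obtain ⟨n, rfl⟩ := Submodule.mkQ_surjective _ w
  rw [Submodule.mkQ_apply, quotToTensor_mk] at hw
  let ψ : R ⧸ p →ₗ[R] M := Submodule.liftQ p (LinearMap.toSpanSingleton R M m) (by
    intro a ha
    rw [LinearMap.mem_ker, LinearMap.toSpanSingleton_apply]
    exact (hm a).mpr ha)
  have hψmk : ∀ a : R, ψ (Ideal.Quotient.mk p a) = a • m := fun a => rfl
  have hψ : Function.Injective ψ := by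
    rw [injective_iff_map_eq_zero]
    intro x hx
    obtain ⟨a, rfl⟩ := Ideal.Quotient.mk_surjective x
    rw [hψmk] at hx
    exact Ideal.Quotient.eq_zero_iff_mem.mpr ((hm a).mp hx)
  have h1 : Function.Injective (ψ.lTensor N) :=
    Module.Flat.lTensor_preserves_injective_linearMap ψ hψ
  have h2 : ψ.lTensor N (n ⊗ₜ (Ideal.Quotient.mk p 1)) = 0 := by
    rw [LinearMap.lTensor_tmul, hψmk, one_smul]
    exact hw
  have h3 : n ⊗ₜ[R] (Ideal.Quotient.mk p 1) = 0 := h1 (by rw [h2, map_zero])
  have h4 := congrArg (TensorProduct.tensorQuotEquivQuotSMul N p) h3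
  rw [TensorProduct.tensorQuotEquivQuotSMul_tmul_mk, map_zero, one_smul,
    Submodule.Quotient.mk_eq_zero] at h4
  rw [Submodule.mkQ_apply, Submodule.Quotient.mk_eq_zero]
  exact mem_map_smul_top_of_mem_smul_top p h4

/-- `N/𝔭N` is torsion-free over `R/𝔭` when `N` is flat. -/
theorem mem_of_smul_mem_of_flat [Module.Flat R N] (p : Ideal R) [p.IsPrime] {a : R} (ha : a ∉ p)
    {n : N} (h : a • n ∈ (p.map (algebraMap R S)) • (⊤ : Submodule S N)) :
    n ∈ (p.map (algebraMap R S)) • (⊤ : Submodule S N) := by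
  have hreg : IsSMulRegular (R ⧸ p) a := by
    intro x y hxy
    obtain ⟨x, rfl⟩ := Ideal.Quotient.mk_surjective x
    obtain ⟨y, rfl⟩ := Ideal.Quotient.mk_surjective y
    have h1 : Ideal.Quotient.mk p (a * (x - y)) = 0 := by
      have h2 : Ideal.Quotient.mk p (a * x) = Ideal.Quotient.mk p (a * y) := hxy
      rw [mul_sub, map_sub, h2, sub_self]
    rw [Ideal.Quotient.eq_zero_iff_mem] at h1
    have h3 := (Ideal.IsPrime.mem_or_mem inferInstance h1).resolve_left ha
    exact Ideal.Quotient.eq.mpr h3
  have hreg2 : IsSMulRegular (N ⊗[R] (R ⧸ p)) a := hreg.lTensor N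
  have hreg3 : IsSMulRegular (N ⧸ p • (⊤ : Submodule R N)) a :=
    ((TensorProduct.tensorQuotEquivQuotSMul N p).isSMulRegular_congr a).mp hreg2
  have h1 : a • n ∈ p • (⊤ : Submodule R N) := mem_smul_top_of_mem_map_smul_top p h
  have h2 : a • (Submodule.Quotient.mk n : N ⧸ p • (⊤ : Submodule R N)) = a • 0 := by
    rw [smul_zero, ← Submodule.Quotient.mk_smul, Submodule.Quotient.mk_eq_zero]
    exact h1
  have h3 := hreg3 h2
  exact mem_map_smul_top_of_mem_smul_top p ((Submodule.Quotient.mk_eq_zero _).mp h3)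

end basic

section generic

variable {S : Type u} [CommRing S]

/-- Axioms of an "associated primes" assignment on `S`-modules. -/
structure AssLike (A : ∀ (X : Type u) [AddCommGroup X] [Module S X], Set (Ideal S)) : Prop where
  isPrime : ∀ (X : Type u) [AddCommGroup X] [Module S X] (q : Ideal S), q ∈ A X → q.IsPrime
  of_injective : ∀ (X Y : Type u) [AddCommGroup X] [Module S X] [AddCommGroup Y] [Module S Y]
    (f : X →ₗ[S] Y), Function.Injective f → A X ⊆ A Y
  of_exact : ∀ (X Y Z : Type u) [AddCommGroup X] [Module S X] [AddCommGroup Y] [Module S Y]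
    [AddCommGroup Z] [Module S Z] (f : X →ₗ[S] Y) (g : Y →ₗ[S] Z), Function.Injective f →
    Function.Exact f g → A Y ⊆ A X ∪ A Z
  ann_le : ∀ (X : Type u) [AddCommGroup X] [Module S X] (q : Ideal S), q ∈ A X →
    ∀ s : S, (∀ x : X, s • x = 0) → s ∈ q
  not_regular : ∀ (X : Type u) [AddCommGroup X] [Module S X] (q : Ideal S), q ∈ A X →
    ∀ s ∈ q, ¬ IsSMulRegular X s

/-- Mathlib's `associatedPrimes` (radical of annihilators) is Ass-like. -/
theorem assLike_associatedPrimes :
    AssLike (S := S) (fun X _ _ => associatedPrimes S X) where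
  isPrime X _ _ q hq := hq.isPrime
  of_injective X Y _ _ _ _ f hf := associatedPrimes.subset_of_injective hf
  of_exact X Y Z _ _ _ _ _ _ f g hf hfg := associatedPrimes.subset_union_of_exact hf hfg
  ann_le X _ _ q hq s hs := by
    obtain ⟨_, x, hx⟩ := hq
    rw [hx]
    apply Ideal.le_radical
    rw [Submodule.mem_colon_singleton, Submodule.mem_bot]
    exact hs x
  not_regular X _ _ q hq s hsq hreg := by
    obtain ⟨hprime, x, hx⟩ := hq
    rw [hx] at hsq
    obtain ⟨k, hk⟩ := hsq
    rw [Submodule.mem_colon_singleton, Submodule.mem_bot] at hk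
    have hx0 : x = 0 := (IsSMulRegular.pow k hreg) (show s ^ k • x = s ^ k • 0 by
      rw [hk, smul_zero])
    apply hprime.ne_top
    rw [hx, hx0, Ideal.eq_top_iff_one]
    apply Ideal.le_radical
    rw [Submodule.mem_colon_singleton, smul_zero]
    exact zero_mem _

/-- Associated primes in the strict sense: primes equal to the annihilator of an element. -/
def assAnn (S : Type u) [CommRing S] (X : Type u) [AddCommGroup X] [Module S X] : Set (Ideal S) :=
  {p | p.IsPrime ∧ ∃ m : X, p = (Submodule.span S {m}).annihilator}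

theorem assLike_assAnn : AssLike (S := S) (fun X _ _ => assAnn S X) where
  isPrime X _ _ q hq := hq.1
  of_injective X Y _ _ _ _ f hf := by
    rintro q ⟨hq, x, rfl⟩
    refine ⟨hq, f x, ?_⟩
    ext s
    rw [Submodule.mem_annihilator_span_singleton, Submodule.mem_annihilator_span_singleton,
      ← map_smul]
    exact ⟨fun h => by rw [h, map_zero], fun h => hf (by rw [h, map_zero])⟩
  of_exact X Y Z _ _ _ _ _ _ f g hf hfg := by
    rintro q ⟨hq, y, rfl⟩
    by_cases h : ∃ s : S, s ∉ (Submodule.span S {y}).annihilator ∧ s • y ∈ Set.range f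
    · obtain ⟨s, hs, x, hx⟩ := h
      left
      refine ⟨hq, x, ?_⟩
      ext t
      rw [Submodule.mem_annihilator_span_singleton, Submodule.mem_annihilator_span_singleton]
      constructor
      · intro ht
        apply hf
        rw [map_smul, hx, map_zero, smul_comm, ht, smul_zero]
      · intro ht
        have h1 : (t * s) • y = 0 := by rw [mul_smul, ← hx, ← map_smul, ht, map_zero]
        have h2 : t * s ∈ (Submodule.span S {y}).annihilator :=
          (Submodule.mem_annihilator_span_singleton _ _).mpr h1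
        exact (Submodule.mem_annihilator_span_singleton _ _).mp
          ((hq.mem_or_mem h2).resolve_right hs)
    · right
      push Not at h
      refine ⟨hq, g y, ?_⟩
      ext t
      rw [Submodule.mem_annihilator_span_singleton, Submodule.mem_annihilator_span_singleton,
        ← map_smul]
      constructor
      · intro ht
        rw [ht, map_zero]
      · intro ht
        by_contra hne
        exact h t ((Submodule.mem_annihilator_span_singleton _ _).not.mpr hne) ((hfg _).mp ht)
  ann_le X _ _ q hq s hs := by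
    obtain ⟨_, x, rfl⟩ := hq
    rw [Submodule.mem_annihilator_span_singleton]
    exact hs x
  not_regular X _ _ q hq s hsq hreg := by
    obtain ⟨hprime, x, rfl⟩ := hq
    rw [Submodule.mem_annihilator_span_singleton] at hsq
    have hx0 : x = 0 := hreg (show s • x = s • 0 by rw [hsq, smul_zero])
    apply hprime.ne_top
    rw [Ideal.eq_top_iff_one, Submodule.mem_annihilator_span_singleton, hx0, smul_zero]

variable {A : ∀ (X : Type u) [AddCommGroup X] [Module S X], Set (Ideal S)} (hA : AssLike A)
  {R : Type u} [CommRing R] [Algebra R S]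
  (N : Type u) [AddCommGroup N] [Module S N] [Module R N] [IsScalarTower R S N]

include hA in
/-- Members of `A (N/𝔭N)` lie over `𝔭` when `N` is `R`-flat. -/
theorem comap_eq_of_mem_quot [Module.Flat R N] (p : Ideal R) [p.IsPrime] (q : Ideal S)
    (hq : q ∈ A (N ⧸ (p.map (algebraMap R S)) • (⊤ : Submodule S N))) :
    q.comap (algebraMap R S) = p := by
  apply le_antisymm
  · intro a ha
    by_contra hap
    apply hA.not_regular _ q hq (algebraMap R S a) ha
    intro x y hxy
    obtain ⟨x, rfl⟩ := Submodule.mkQ_surjective _ x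
    obtain ⟨y, rfl⟩ := Submodule.mkQ_surjective _ y
    have h1 : (algebraMap R S a) • (Submodule.Quotient.mk (x - y) :
        N ⧸ (p.map (algebraMap R S)) • (⊤ : Submodule S N)) = 0 := by
      have h2 : (algebraMap R S a) • (Submodule.Quotient.mk x :
          N ⧸ (p.map (algebraMap R S)) • (⊤ : Submodule S N)) =
          (algebraMap R S a) • Submodule.Quotient.mk y := hxy
      rw [Submodule.Quotient.mk_sub, smul_sub, h2, sub_self]
    rw [← Submodule.Quotient.mk_smul, Submodule.Quotient.mk_eq_zero, algebraMap_smul] at h1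
    have h3 := mem_of_smul_mem_of_flat N p hap h1
    exact (Submodule.Quotient.eq _).mpr h3
  · intro a ha
    rw [Ideal.mem_comap]
    apply hA.ann_le _ q hq
    intro x
    obtain ⟨n, rfl⟩ := Submodule.mkQ_surjective _ x
    rw [Submodule.mkQ_apply, ← Submodule.Quotient.mk_smul, Submodule.Quotient.mk_eq_zero]
    exact Submodule.smul_mem_smul (Ideal.mem_map_of_mem _ ha) Submodule.mem_top

include hA in
/-- Prime filtration argument. -/
theorem exists_mem_quot_of_mem_tensor [IsNoetherianRing R] [Module.Flat R N] (M : Type u)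
    [AddCommGroup M] [Module R M] [hfin : Module.Finite R M] :
    ∀ q ∈ A (N ⊗[R] M), ∃ p : Ideal R, p.IsPrime ∧
      q ∈ A (N ⧸ (p.map (algebraMap R S)) • (⊤ : Submodule S N)) := by
  induction hfin using IsNoetherianRing.induction_on_isQuotientEquivQuotientPrime R with
  | subsingleton M =>
    intro q hq
    exfalso
    exact hA.not_regular _ q hq 0 (zero_mem q) (fun x y _ => Subsingleton.elim x y)
  | quotient M p e =>
    intro q hq
    refine ⟨p.asIdeal, p.isPrime, ?_⟩
    have hm₀ : ∀ a : R, a • e.symm (Ideal.Quotient.mk p.asIdeal 1) = 0 ↔ a ∈ p.asIdeal := by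
      intro a
      rw [← map_smul, e.symm.map_eq_zero_iff, ← Ideal.Quotient.eq_zero_iff_mem]
      have : a • (Ideal.Quotient.mk p.asIdeal 1) = Ideal.Quotient.mk p.asIdeal a := by
        rw [← Ideal.Quotient.mk_eq_mk, ← Submodule.Quotient.mk_smul, smul_eq_mul, mul_one]
        rfl
      rw [this]
    have hinj := quotToTensor_injective (S := S) N p.asIdeal
      (e.symm (Ideal.Quotient.mk p.asIdeal 1)) hm₀
    have hsurj : Function.Surjective (quotToTensor (S := S) N p.asIdeal
        (e.symm (Ideal.Quotient.mk p.asIdeal 1)) (fun a ha => (hm₀ a).mpr ha)) := by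
      intro z
      induction z using TensorProduct.induction_on with
      | zero => exact ⟨0, map_zero _⟩
      | tmul n m =>
        obtain ⟨r, hr⟩ := Ideal.Quotient.mk_surjective (e m)
        have hm : m = r • e.symm (Ideal.Quotient.mk p.asIdeal 1) := by
          rw [← map_smul]
          have : r • (Ideal.Quotient.mk p.asIdeal 1) = Ideal.Quotient.mk p.asIdeal r := by
            rw [← Ideal.Quotient.mk_eq_mk, ← Submodule.Quotient.mk_smul, smul_eq_mul, mul_one]
            rfl
          rw [this, hr, LinearEquiv.symm_apply_apply]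
        refine ⟨Submodule.Quotient.mk (r • n), ?_⟩
        rw [quotToTensor_mk, hm, TensorProduct.smul_tmul]
      | add x y hx hy =>
        obtain ⟨a, rfl⟩ := hx
        obtain ⟨b, rfl⟩ := hy
        exact ⟨a + b, map_add _ _ _⟩
    let E := LinearEquiv.ofBijective _ ⟨hinj, hsurj⟩
    exact hA.of_injective _ _ E.symm.toLinearMap E.symm.injective hq
  | exact M₁ M₂ M₃ f g hf hg hfg ih₁ ih₃ =>
    intro q hq
    have hinj : Function.Injective (lT (S := S) N f) := by
      intro x y hxy
      rw [lT_apply, lT_apply] at hxy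
      exact Module.Flat.lTensor_preserves_injective_linearMap f hf hxy
    have hex : Function.Exact (lT (S := S) N f) (lT (S := S) N g) := by
      intro y
      rw [lT_apply]
      constructor
      · intro h
        obtain ⟨x, hx⟩ := (lTensor_exact N hfg hg y).mp h
        exact ⟨x, by rw [lT_apply]; exact hx⟩
      · rintro ⟨x, rfl⟩
        rw [lT_apply]
        exact (lTensor_exact N hfg hg _).mpr ⟨x, rfl⟩
    rcases hA.of_exact _ _ _ _ _ hinj hex hq with h | h
    · exact ih₁ q h
    · exact ih₃ q h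

include hA in
/-- `q ∈ A (N ⊗ M) → q ∈ A (N/𝔭N)` with `𝔭 = q ∩ R`, for `M` finite over Noetherian `R`. -/
theorem mem_quot_comap_of_mem_tensor [IsNoetherianRing R] [Module.Flat R N] (M : Type u)
    [AddCommGroup M] [Module R M] [Module.Finite R M] (q : Ideal S) (hq : q ∈ A (N ⊗[R] M)) :
    (q.comap (algebraMap R S)).IsPrime ∧
    q ∈ A (N ⧸ ((q.comap (algebraMap R S)).map (algebraMap R S)) • (⊤ : Submodule S N)) := by
  obtain ⟨p, hp, hqp⟩ := exists_mem_quot_of_mem_tensor hA N M q hq
  have h := comap_eq_of_mem_quot hA N p q hqp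
  rw [h]
  exact ⟨hp, hqp⟩

end generic

section gamma

variable {R : Type u} [CommRing R] (p : Ideal R) (M : Type u) [AddCommGroup M] [Module R M]

/-- `Γ_𝔭(M)`: the elements killed by a power of `𝔭`. -/
def gammaSub : Submodule R M where
  carrier := {m | ∃ k : ℕ, ∀ a ∈ p ^ k, a • m = 0}
  zero_mem' := ⟨0, fun a _ => smul_zero a⟩
  add_mem' := by
    rintro x y ⟨k, hk⟩ ⟨l, hl⟩
    refine ⟨max k l, fun a ha => ?_⟩
    rw [smul_add, hk a (Ideal.pow_le_pow_right (le_max_left k l) ha),
      hl a (Ideal.pow_le_pow_right (le_max_right k l) ha), add_zero]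
  smul_mem' := by
    rintro c x ⟨k, hk⟩
    exact ⟨k, fun a ha => by rw [smul_comm, hk a ha, smul_zero]⟩

lemma mem_gammaSub {m : M} : m ∈ gammaSub p M ↔ ∃ k : ℕ, ∀ a ∈ p ^ k, a • m = 0 := Iff.rfl

lemma exists_pow_kill [IsNoetherian R M] :
    ∃ k : ℕ, ∀ m ∈ gammaSub p M, ∀ a ∈ p ^ k, a • m = 0 := by
  obtain ⟨T, hT⟩ := (IsNoetherian.noetherian (gammaSub p M))
  have hmem : ∀ t ∈ T, ∃ k : ℕ, ∀ a ∈ p ^ k, a • t = 0 := fun t ht => by
    have h1 : t ∈ gammaSub p M := hT ▸ Submodule.subset_span ht
    exact h1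
  choose! kf hkf using hmem
  refine ⟨T.sup kf, fun m hm a ha => ?_⟩
  rw [← hT] at hm
  induction hm using Submodule.span_induction with
  | mem t ht => exact hkf t ht a (Ideal.pow_le_pow_right (Finset.le_sup ht) ha)
  | zero => exact smul_zero a
  | add x y _ _ hx hy => rw [smul_add, hx, hy, add_zero]
  | smul c x _ hx => rw [smul_comm, hx, smul_zero]

lemma mem_gammaSub_of_forall_smul_mem [IsNoetherian R M] {y : M}
    (hy : ∀ a ∈ p, a • y ∈ gammaSub p M) : y ∈ gammaSub p M := by
  obtain ⟨k, hk⟩ := exists_pow_kill p M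
  refine ⟨k + 1, fun c hc => ?_⟩
  rw [pow_succ] at hc
  refine Submodule.mul_induction_on hc ?_ ?_
  · intro b hb a ha
    rw [mul_smul]
    exact hk _ (hy a ha) b hb
  · intro x y hx hy
    rw [add_smul, hx, hy, add_zero]

theorem exists_not_mem_kill [IsNoetherianRing R] [Module.Finite R M] [hpp : p.IsPrime]
    (hp : p ∉ associatedPrimes R M) : ∃ s : R, s ∉ p ∧ ∀ m ∈ gammaSub p M, s • m = 0 := by
  haveI hNoeth : IsNoetherian R M := isNoetherian_of_isNoetherianRing_of_finite R M
  have hne : ({L : Submodule R M | ∃ s : R, s ∉ p ∧ ∀ m ∈ L, s • m = 0}).Nonempty :=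
    ⟨⊥, 1, fun h => hpp.ne_top ((Ideal.eq_top_iff_one p).mpr h), fun m hm => by
      rw [(Submodule.mem_bot R).mp hm, smul_zero]⟩
  obtain ⟨L, ⟨s, hsp, hsL⟩, hmax⟩ := set_has_maximal_iff_noetherian.mpr hNoeth _ hne
  refine ⟨s, hsp, fun m hm => ?_⟩
  by_contra hne0
  have hmL : m ∉ L := fun h => hne0 (hsL m h)
  have hx : L.mkQ m ≠ 0 := by
    rw [Submodule.mkQ_apply, Ne, Submodule.Quotient.mk_eq_zero]
    exact hmL
  obtain ⟨P, hP, hle⟩ := exists_le_isAssociatedPrime_of_isNoetherianRing R (L.mkQ m) hx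
  rw [isAssociatedPrime_iff] at hP
  obtain ⟨hPprime, ybar, hPy⟩ := hP
  obtain ⟨y, rfl⟩ := L.mkQ_surjective ybar
  have hPmem : ∀ a, a ∈ P ↔ a • y ∈ L := by
    intro a
    rw [hPy, Submodule.mem_colon_singleton, Submodule.mem_bot, ← map_smul, Submodule.mkQ_apply,
      Submodule.Quotient.mk_eq_zero]
  have hpP : p ≤ P := by
    obtain ⟨k, hk⟩ := hm
    have h1 : p ^ k ≤ P := fun a ha => hle (by
      rw [Submodule.mem_colon_singleton, Submodule.mem_bot, ← map_smul, hk a ha, map_zero])
    exact hPprime.le_of_pow_le h1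
  by_cases hPp : P ≤ p
  · have hPeq : P = p := le_antisymm hPp hpP
    apply hp
    refine ⟨hpp, s • y, ?_⟩
    have hcolon : (⊥ : Submodule R M).colon {s • y} = p := by
      ext a
      rw [Submodule.mem_colon_singleton, Submodule.mem_bot]
      constructor
      · intro h
        have h1 : (a * s) • y ∈ L := by
          rw [mul_smul, h]
          exact zero_mem _
        have h2 : a * s ∈ p := hPeq ▸ (hPmem _).mpr h1
        exact (hpp.mem_or_mem h2).resolve_right hsp
      · intro ha
        have h1 : a • y ∈ L := (hPmem a).mp (hPeq ▸ ha)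
        rw [smul_comm]
        exact hsL _ h1
    rw [hcolon]
    exact hpp.radical.symm
  · obtain ⟨t, htP, htp⟩ := Set.not_subset.mp hPp
    have hyL : y ∉ L := fun h => hPprime.ne_top ((Ideal.eq_top_iff_one P).mpr ((hPmem 1).mpr (by
      rwa [one_smul])))
    have hL' : L ⊔ Submodule.span R {y} ∈
        {L : Submodule R M | ∃ s : R, s ∉ p ∧ ∀ m ∈ L, s • m = 0} :=
      ⟨s * t, fun h => (hpp.mem_or_mem h).elim hsp htp, fun w hw => by
        obtain ⟨l, hl, z, hz, rfl⟩ := Submodule.mem_sup.mp hw
        obtain ⟨c, rfl⟩ := Submodule.mem_span_singleton.mp hz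
        have h1 : (s * t) • l = 0 := by rw [mul_comm, mul_smul, hsL l hl, smul_zero]
        have h2 : (s * t) • (c • y) = 0 := by
          rw [mul_smul, smul_comm t c y, hsL _ (L.smul_mem c ((hPmem t).mp htP))]
        rw [smul_add, h1, h2, add_zero]⟩
    refine hmax _ hL' (lt_of_le_of_ne le_sup_left (fun h => hyL ?_))
    rw [h]
    exact (le_sup_right : Submodule.span R {y} ≤ _) (Submodule.mem_span_singleton_self y)

theorem exists_mem_regular_quot [IsNoetherianRing R] [Module.Finite R M] [hpp : p.IsPrime] :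
    ∃ x ∈ p, IsSMulRegular (M ⧸ gammaSub p M) x := by
  haveI hNoeth : IsNoetherian R M := isNoetherian_of_isNoetherianRing_of_finite R M
  by_contra hcon
  push Not at hcon
  have hfin := associatedPrimes.finite R (M ⧸ gammaSub p M)
  have hsub : (p : Set R) ⊆ ⋃ P ∈ associatedPrimes R (M ⧸ gammaSub p M), ((id P : Ideal R) : Set R) := by
    intro x hx
    have h1 : x ∈ {r : R | ∃ w : M ⧸ gammaSub p M, w ≠ 0 ∧ r • w = 0} := by
      have h2 := hcon x hx
      unfold IsSMulRegular at h2
      rw [Function.Injective] at h2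
      push Not at h2
      obtain ⟨u, v, huv, hne⟩ := h2
      exact ⟨u - v, sub_ne_zero.mpr hne, by rw [smul_sub]; exact sub_eq_zero.mpr huv⟩
    rw [← biUnion_associatedPrimes_eq_zero_divisors] at h1
    exact h1
  obtain ⟨P, hP, hpP⟩ := (Ideal.subset_union_prime_finite hfin (f := id) 0 0
    (fun P hP _ _ => hP.isPrime)).mp hsub
  have hP' : IsAssociatedPrime P (M ⧸ gammaSub p M) := hP
  rw [isAssociatedPrime_iff] at hP'
  obtain ⟨hPprime, ybar, hPy⟩ := hP'
  obtain ⟨y, rfl⟩ := (gammaSub p M).mkQ_surjective ybar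
  have hy : y ∈ gammaSub p M := by
    apply mem_gammaSub_of_forall_smul_mem
    intro a ha
    have h1 : a ∈ P := hpP ha
    rw [hPy, Submodule.mem_colon_singleton, Submodule.mem_bot, ← map_smul, Submodule.mkQ_apply,
      Submodule.Quotient.mk_eq_zero] at h1
    exact h1
  apply hPprime.ne_top
  rw [Ideal.eq_top_iff_one, hPy, Submodule.mem_colon_singleton, Submodule.mem_bot, one_smul,
    Submodule.mkQ_apply, Submodule.Quotient.mk_eq_zero]
  exact hy

end gamma

section assocTensor

variable {R S : Type u} [CommRing R] [CommRing S] [Algebra R S]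
  (N : Type u) [AddCommGroup N] [Module S N] [Module R N] [IsScalarTower R S N]

/-- Reduction to a finitely generated submodule of `M`. -/
theorem exists_fg_mem_associatedPrimes [Module.Flat R N] (M : Type u) [AddCommGroup M]
    [Module R M] (q : Ideal S) (hq : q ∈ associatedPrimes S (N ⊗[R] M)) :
    ∃ M₀ : Submodule R M, Module.Finite R M₀ ∧ q ∈ associatedPrimes S (N ⊗[R] M₀) := by
  obtain ⟨hprime, z, hz⟩ := hq
  obtain ⟨M₀, hfin, hsub⟩ := TensorProduct.exists_finite_submodule_right_of_setFinite
    ({z} : Set (N ⊗[R] M)) (Set.finite_singleton z)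
  obtain ⟨z₀, hz₀⟩ := hsub (Set.mem_singleton z)
  refine ⟨M₀, hfin, hprime, z₀, ?_⟩
  rw [hz]
  congr 1
  ext s
  rw [Submodule.mem_colon_singleton, Submodule.mem_bot, Submodule.mem_colon_singleton,
    Submodule.mem_bot]
  have hinj : Function.Injective (lT (S := S) N M₀.subtype) := by
    intro x y hxy
    rw [lT_apply, lT_apply] at hxy
    exact Module.Flat.lTensor_preserves_injective_linearMap _ M₀.injective_subtype hxy
  rw [← hz₀, ← lT_apply (S := S), ← map_smul]
  exact ⟨fun h => hinj (by rw [h, map_zero]), fun h => by rw [h, map_zero]⟩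

/-- The contraction of an associated prime of `N ⊗ M` is an associated prime of `M`
(`R` Noetherian, `M` finite, `N` flat). -/
theorem comap_mem_associatedPrimes [IsNoetherianRing R] [Module.Flat R N] (M : Type u)
    [AddCommGroup M] [Module R M] [Module.Finite R M] (q : Ideal S)
    (hq : q ∈ associatedPrimes S (N ⊗[R] M)) :
    q.comap (algebraMap R S) ∈ associatedPrimes R M := by
  obtain ⟨hqprime, z, hqz⟩ := hq
  haveI hpp : (q.comap (algebraMap R S)).IsPrime := Ideal.comap_isPrime _ _
  by_contra hp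
  obtain ⟨s, hsp, hs⟩ := exists_not_mem_kill (q.comap (algebraMap R S)) M hp
  obtain ⟨x, hxp, hx⟩ := exists_mem_regular_quot (q.comap (algebraMap R S)) M
  have hxq : algebraMap R S x ∈ q := hxp
  rw [hqz] at hxq
  obtain ⟨k, hk⟩ := hxq
  rw [Submodule.mem_colon_singleton, Submodule.mem_bot, ← map_pow, algebraMap_smul] at hk
  have hreg : IsSMulRegular (N ⊗[R] (M ⧸ gammaSub (q.comap (algebraMap R S)) M)) (x ^ k) :=
    IsSMulRegular.pow k (hx.lTensor N)
  have hzbar : (gammaSub (q.comap (algebraMap R S)) M).mkQ.lTensor N z = 0 := by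
    apply hreg
    show x ^ k • _ = x ^ k • 0
    rw [smul_zero, ← map_smul, hk, map_zero]
  obtain ⟨z', hz'⟩ := (lTensor_exact N
    (LinearMap.exact_subtype_mkQ (gammaSub (q.comap (algebraMap R S)) M))
    (Submodule.mkQ_surjective _) z).mp hzbar
  have hsz' : ∀ w : N ⊗[R] (gammaSub (q.comap (algebraMap R S)) M), s • w = 0 := by
    intro w
    induction w using TensorProduct.induction_on with
    | zero => exact smul_zero s
    | tmul n m =>
      rw [← TensorProduct.tmul_smul]
      have : s • m = 0 := Subtype.ext (hs m.1 m.2)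
      rw [this, TensorProduct.tmul_zero]
    | add a b ha hb => rw [smul_add, ha, hb, add_zero]
  have hsz : s • z = 0 := by rw [← hz', ← map_smul, hsz' z', map_zero]
  apply hsp
  show algebraMap R S s ∈ q
  rw [hqz]
  apply Ideal.le_radical
  rw [Submodule.mem_colon_singleton, Submodule.mem_bot, algebraMap_smul]
  exact hsz

/-- `Ass_S(N ⊗_R M) = ⋃_{𝔭 ∈ Ass_R M} Ass_S(N/𝔭N)` for `R` Noetherian and `N` flat over `R`. -/
theorem associatedPrimes_tensor_eq [IsNoetherianRing R] [Module.Flat R N] (M : Type u)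
    [AddCommGroup M] [Module R M] :
    associatedPrimes S (N ⊗[R] M) =
      ⋃ p ∈ associatedPrimes R M,
        associatedPrimes S (N ⧸ p.map (algebraMap R S) • (⊤ : Submodule S N)) := by
  ext q
  simp only [Set.mem_iUnion]
  constructor
  · intro hq
    obtain ⟨M₀, hfin, hq₀⟩ := exists_fg_mem_associatedPrimes N M q hq
    refine ⟨q.comap (algebraMap R S), ?_, ?_⟩
    · exact associatedPrimes.subset_of_injective M₀.injective_subtype
        (comap_mem_associatedPrimes N M₀ q hq₀)
    · exact (mem_quot_comap_of_mem_tensor (S := S) (R := R) assLike_associatedPrimes N M₀ q hq₀).2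
  · rintro ⟨p, hp, hq⟩
    have hp' : IsAssociatedPrime p M := hp
    rw [isAssociatedPrime_iff] at hp'
    obtain ⟨hpp, m, hpm⟩ := hp'
    have hm : ∀ a, a • m = 0 ↔ a ∈ p := by
      intro a
      rw [hpm, Submodule.mem_colon_singleton, Submodule.mem_bot]
    exact associatedPrimes.subset_of_injective (quotToTensor_injective (S := S) N p m hm) hq

end assocTensor

section fgstage

variable {R : Type u} [CommRing R] {M : Type u} [AddCommGroup M] [Module R M]
  {N : Type u} [AddCommGroup N] [Module R N]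

/-- `lTensor` version of `TensorProduct.eq_zero_of_fg_of_subtype_eq_zero`. -/
theorem eq_zero_of_fg_l {Q : Submodule R M} (hQ : Q.FG) {t : N ⊗[R] Q}
    (h : LinearMap.lTensor N Q.subtype t = 0) :
    ∃ (Q' : Submodule R M) (hQQ' : Q ≤ Q'), Q'.FG ∧
      LinearMap.lTensor N (Submodule.inclusion hQQ') t = 0 := by
  classical
  have h' : LinearMap.lTensor N Q.subtype t = LinearMap.lTensor N Q.subtype 0 := by
    rw [h, map_zero]
  simp only [← Submodule.FG.lTensor.directLimit_apply' R N M Q hQ,
    EmbeddingLike.apply_eq_iff_eq] at h'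
  obtain ⟨Q', hQQ', h''⟩ := Module.DirectLimit.exists_eq_of_of_eq h'
  refine ⟨Q'.val, Subtype.coe_le_coe.mpr hQQ', Q'.property, ?_⟩
  rw [map_zero] at h''
  exact h''

end fgstage

section lTcomp

variable {R S : Type u} [CommRing R] [CommRing S] [Algebra R S]
  (N : Type u) [AddCommGroup N] [Module S N] [Module R N] [IsScalarTower R S N]

lemma lT_comp {M₁ M₂ M₃ : Type u} [AddCommGroup M₁] [Module R M₁] [AddCommGroup M₂] [Module R M₂]
    [AddCommGroup M₃] [Module R M₃] (f : M₁ →ₗ[R] M₂) (g : M₂ →ₗ[R] M₃) (z : N ⊗[R] M₁) :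
    lT (S := S) N (g ∘ₗ f) z = lT (S := S) N g (lT (S := S) N f z) := by
  rw [lT_apply, lT_apply, lT_apply, LinearMap.lTensor_comp, LinearMap.comp_apply]

/-- `S` Noetherian: an annihilator-associated prime of `N ⊗ M` is already associated to
`N ⊗ M'` for a finitely generated `M' ≤ M`. -/
theorem exists_fg_mem_assAnn [IsNoetherianRing S] (M : Type u) [AddCommGroup M] [Module R M]
    (q : Ideal S) (h : q ∈ assAnn S (N ⊗[R] M)) :
    ∃ M' : Submodule R M, M'.FG ∧ q ∈ assAnn S (N ⊗[R] ↥M') := by
  classical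
  obtain ⟨hqp, z, hqz⟩ := h
  obtain ⟨T, hT⟩ := (IsNoetherian.noetherian q : q.FG)
  have hT' : Ideal.span (T : Set S) = q := hT
  obtain ⟨M₀, hfin, hsub⟩ := TensorProduct.exists_finite_submodule_right_of_setFinite
    ({z} : Set (N ⊗[R] M)) (Set.finite_singleton z)
  obtain ⟨z₀, hz₀⟩ := hsub (Set.mem_singleton z)
  have hM₀fg : M₀.FG := Module.Finite.iff_fg.mp hfin
  have hqz' : ∀ s : S, s ∈ q ↔ s • z = 0 := fun s => by
    rw [hqz, Submodule.mem_annihilator_span_singleton]
  have hzM : ∀ (M₁ : Submodule R M) (h01 : M₀ ≤ M₁),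
      lT (S := S) N M₁.subtype (lT (S := S) N (Submodule.inclusion h01) z₀) = z := by
    intro M₁ h01
    rw [← lT_comp, Submodule.subtype_comp_inclusion, lT_apply]
    exact hz₀
  have key : ∀ T' : Finset S, (∀ s ∈ T', s ∈ q) → ∃ (M₁ : Submodule R M) (h01 : M₀ ≤ M₁),
      M₁.FG ∧ ∀ s ∈ T', s • (lT (S := S) N (Submodule.inclusion h01) z₀) = 0 := by
    intro T'
    induction T' using Finset.induction_on with
    | empty =>
      intro _
      exact ⟨M₀, le_rfl, hM₀fg, fun s hs => absurd hs (Finset.notMem_empty s)⟩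
    | insert a T' ha ih =>
      intro hT'
      obtain ⟨M₁, h01, hfg1, hkill⟩ := ih (fun s hs => hT' s (Finset.mem_insert_of_mem hs))
      have ha0 : LinearMap.lTensor N M₁.subtype
          (a • lT (S := S) N (Submodule.inclusion h01) z₀) = 0 := by
        rw [← lT_apply (S := S), map_smul, hzM M₁ h01]
        exact (hqz' a).mp (hT' a (Finset.mem_insert_self a T'))
      obtain ⟨M₂, h12, hfg2, h0⟩ := eq_zero_of_fg_l hfg1 ha0
      refine ⟨M₂, h01.trans h12, hfg2, ?_⟩
      intro s hs
      have hcomp : lT (S := S) N (Submodule.inclusion (h01.trans h12)) z₀ =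
          lT (S := S) N (Submodule.inclusion h12)
            (lT (S := S) N (Submodule.inclusion h01) z₀) := by
        rw [← lT_comp]
        rfl
      rw [hcomp, ← map_smul]
      rcases Finset.mem_insert.mp hs with rfl | hs'
      · rw [lT_apply]
        exact h0
      · rw [hkill s hs', map_zero]
  obtain ⟨M₁, h01, hfg1, hkill⟩ := key T (fun s hs => by
    have h1 : s ∈ Ideal.span (T : Set S) := Submodule.subset_span hs
    rw [hT'] at h1
    exact h1)
  refine ⟨M₁, hfg1, hqp, lT (S := S) N (Submodule.inclusion h01) z₀, ?_⟩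
  apply le_antisymm
  · have h1 : Ideal.span (T : Set S) ≤
        (Submodule.span S {lT (S := S) N (Submodule.inclusion h01) z₀}).annihilator := by
      rw [Ideal.span_le]
      intro s hs
      exact (Submodule.mem_annihilator_span_singleton _ _).mpr (hkill s hs)
    rw [hT'] at h1
    exact h1
  · intro s hs
    rw [Submodule.mem_annihilator_span_singleton] at hs
    rw [hqz' s, ← hzM M₁ h01, ← map_smul, hs, map_zero]

end lTcomp

end Groth.Agent.Lib.Helper9.AssTensor
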