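import Mathlib.RingTheory.Ideal.KrullsHeightTheorem
import Mathlib.RingTheory.KrullDimension.NonZeroDivisors

/-!
# Helper library (helper9): commutative algebra lemmas on Krull dimension

* `dim_le_of_localHom`: for a local homomorphism `f : A → B` of Noetherian local rings,
  `dim B ≤ dim A + dim (B / m_A B)`.
* `absurd_add_one_le`: `d + 1 ≤ d` is impossible for a finite `d : WithBot ℕ∞`.
-/

set_option autoImplicit false

universe u

namespace Groth.Agent.Lib.Helper9

theorem dim_le_of_localHom (A B : Type u) [CommRing A] [CommRing B] [IsLocalRing A] [IsLocalRing B]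
    [IsNoetherianRing A] [IsNoetherianRing B] (f : A →+* B) [IsLocalHom f] :
    ringKrullDim B ≤ ringKrullDim A + ringKrullDim (B ⧸ (IsLocalRing.maximalIdeal A).map f) := by
  let _ : Algebra A B := f.toAlgebra
  have hcomap : (IsLocalRing.maximalIdeal B).comap f = IsLocalRing.maximalIdeal A :=
    ((IsLocalRing.local_hom_TFAE f).out 0 4).mp ‹_›
  have hlo : (IsLocalRing.maximalIdeal B).LiesOver (IsLocalRing.maximalIdeal A) :=
    ⟨by rw [Ideal.under_def]; exact hcomap.symm⟩
  have h := Ideal.height_le_height_add_of_liesOver (IsLocalRing.maximalIdeal A)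
    (IsLocalRing.maximalIdeal B)
  have hle : (IsLocalRing.maximalIdeal A).map f ≤ IsLocalRing.maximalIdeal B := by
    rw [Ideal.map_le_iff_le_comap, hcomap]
  have : ((IsLocalRing.maximalIdeal B).map
      (Ideal.Quotient.mk ((IsLocalRing.maximalIdeal A).map f))).IsPrime :=
    Ideal.isPrime_map_quotientMk_of_isPrime hle
  have h2 : ((((IsLocalRing.maximalIdeal B).map
      (Ideal.Quotient.mk ((IsLocalRing.maximalIdeal A).map f))).height : ℕ∞) : WithBot ℕ∞) ≤
      ringKrullDim (B ⧸ (IsLocalRing.maximalIdeal A).map f) :=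
    Ideal.height_le_ringKrullDim_of_ne_top Ideal.IsPrime.ne_top'
  rw [← IsLocalRing.maximalIdeal_height_eq_ringKrullDim (R := B),
    ← IsLocalRing.maximalIdeal_height_eq_ringKrullDim (R := A)]
  calc (((IsLocalRing.maximalIdeal B).height : ℕ∞) : WithBot ℕ∞)
      ≤ (((IsLocalRing.maximalIdeal A).height + ((IsLocalRing.maximalIdeal B).map
          (Ideal.Quotient.mk ((IsLocalRing.maximalIdeal A).map f))).height : ℕ∞) : WithBot ℕ∞) :=
        WithBot.coe_le_coe.mpr h
    _ = (((IsLocalRing.maximalIdeal A).height : ℕ∞) : WithBot ℕ∞) +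
        ((((IsLocalRing.maximalIdeal B).map
          (Ideal.Quotient.mk ((IsLocalRing.maximalIdeal A).map f))).height : ℕ∞) : WithBot ℕ∞) :=
        WithBot.coe_add _ _
    _ ≤ _ := add_le_add le_rfl h2

theorem absurd_add_one_le {d : WithBot ℕ∞} (h1 : d ≠ ⊥) (h2 : d ≠ ⊤) (h : d + 1 ≤ d) : False := by
  obtain ⟨e, rfl⟩ := WithBot.ne_bot_iff_exists.mp h1
  have h2' : e ≠ ⊤ := fun he => h2 (by rw [he]; rfl)
  obtain ⟨n, rfl⟩ := ENat.ne_top_iff_exists.mp h2'
  have h' : ((n + 1 : ℕ) : WithBot ℕ∞) ≤ ((n : ℕ) : WithBot ℕ∞) := by exact_mod_cast h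
  have : n + 1 ≤ n := by exact_mod_cast h'
  omega

end Groth.Agent.Lib.Helper9
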