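import Mathlib.RingTheory.KrullDimension.Regular
import Mathlib.RingTheory.Ideal.KrullsHeightTheorem
import Mathlib.RingTheory.Jacobson.Ideal
import Mathlib.RingTheory.HopkinsLevitzki
import Mathlib.RingTheory.KrullDimension.Field
import Mathlib.RingTheory.FiniteLength
import Mathlib.RingTheory.Ideal.MinimalPrime.Noetherian
import Mathlib.RingTheory.Regular.RegularSequence
import Groth.Agent.Lib.Helper9.CommAlg

/-!
# Helper library (helper9): dimension theory of finite modules over semi-local Noetherian rings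
-/

set_option autoImplicit false

universe u v

namespace Groth.Agent.Lib.Helper9

/-- `a < b → a + 1 ≤ b` in `WithBot ℕ∞`. -/
lemma withBot_add_one_le_of_lt {a b : WithBot ℕ∞} (h : a < b) : a + 1 ≤ b := by
  induction a using WithBot.recBotCoe with
  | bot => rw [WithBot.bot_add]; exact bot_le
  | coe a =>
    induction b using WithBot.recBotCoe with
    | bot => exact absurd h (not_lt_bot)
    | coe b =>
      have h1 : a < b := WithBot.coe_lt_coe.mp h
      have h2 := Order.add_one_le_of_lt h1
      exact_mod_cast h2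

lemma withBot_iSup_add_one_le {ι : Sort*} [Nonempty ι] (f : ι → ℕ∞) (D : WithBot ℕ∞)
    (h : ∀ i, ((f i : ℕ∞) : WithBot ℕ∞) + 1 ≤ D) : ((⨆ i, f i : ℕ∞) : WithBot ℕ∞) + 1 ≤ D := by
  obtain ⟨i0⟩ := ‹Nonempty ι›
  have hD : D ≠ ⊥ := by
    intro hD
    have h1 := h i0
    rw [hD] at h1
    have h2 : ((f i0 : ℕ∞) : WithBot ℕ∞) + 1 = ((f i0 + 1 : ℕ∞) : WithBot ℕ∞) := by norm_cast
    rw [h2] at h1
    exact WithBot.coe_ne_bot (le_bot_iff.mp h1)
  obtain ⟨D', rfl⟩ := WithBot.ne_bot_iff_exists.mp hD
  have h' : ∀ i, f i + 1 ≤ D' := fun i => by exact_mod_cast h i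
  have h3 : (⨆ i, f i) + 1 ≤ D' := by
    rw [ENat.iSup_add]; exact iSup_le h'
  exact_mod_cast h3

/-- A semi-local Noetherian ring has finite Krull dimension. -/
theorem exists_nat_ringKrullDim_le (A : Type u) [CommRing A] [IsNoetherianRing A]
    [Finite (MaximalSpectrum A)] : ∃ N : ℕ, ringKrullDim A ≤ N := by
  obtain ⟨N, hN⟩ := Finite.bddAbove_range (fun m : MaximalSpectrum A => m.asIdeal.height.toNat)
  refine ⟨N, (ringKrullDim_le_iff_isMaximal_height_le _).mpr fun m hm => ?_⟩
  have h1 : m.height.toNat ≤ N := hN ⟨⟨m, hm⟩, rfl⟩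
  have h2 : m.height ≠ ⊤ := Ideal.height_ne_top hm.ne_top
  have h3 : m.height = (m.height.toNat : ℕ∞) := (ENat.natCast_toNat h2).symm
  rw [h3]
  exact_mod_cast h1

theorem supportDim_ne_top_of_semilocal (A : Type u) [CommRing A] [IsNoetherianRing A]
    [Finite (MaximalSpectrum A)] (M : Type v) [AddCommGroup M] [Module A M] :
    Module.supportDim A M ≠ ⊤ := by
  obtain ⟨N, hN⟩ := exists_nat_ringKrullDim_le A
  intro h
  have h1 := (Module.supportDim_le_ringKrullDim A M).trans hN
  rw [h, top_le_iff] at h1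
  exact absurd (WithBot.coe_injective
    (h1 : ((N : ℕ∞) : WithBot ℕ∞) = ((⊤ : ℕ∞) : WithBot ℕ∞))) (ENat.natCast_ne_top N)

theorem ringKrullDim_quotient_le_supportDim {A : Type u} [CommRing A] {M : Type v} [AddCommGroup M]
    [Module A M] {q : PrimeSpectrum A} (hq : q ∈ Module.support A M) :
    ringKrullDim (A ⧸ q.asIdeal) ≤ Module.supportDim A M := by
  rw [ringKrullDim_quotient]
  exact Order.krullDim_le_of_strictMono
    (fun r => (⟨r.1, Module.mem_support_mono
      (show q ≤ r.1 from (PrimeSpectrum.mem_zeroLocus _ _).mp r.2) hq⟩ : Module.support A M))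
    (fun _ _ h => h)

theorem coheight_le_ringKrullDim_quotient {A : Type u} [CommRing A] (S : Set (PrimeSpectrum A))
    (q : S) : ((Order.coheight q : ℕ∞) : WithBot ℕ∞) ≤ ringKrullDim (A ⧸ q.1.asIdeal) := by
  rw [Order.coheight_eq_krullDim_Ici, ringKrullDim_quotient]
  exact Order.krullDim_le_of_strictMono
    (fun r => (⟨r.1.1, (PrimeSpectrum.mem_zeroLocus _ _).mpr (show q.1 ≤ r.1.1 from r.2)⟩ :
      PrimeSpectrum.zeroLocus (q.1.asIdeal : Set A)))
    (fun _ _ h => h)

/-- If `x` avoids every prime `p ∈ Supp M` with `dim A/p = dim M` then `dim M/xM + 1 ≤ dim M`. -/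
theorem supportDim_quotSMulTop_succ_le_of_forall {A : Type u} [CommRing A] {M : Type v}
    [AddCommGroup M] [Module A M] [Module.Finite A M] (x : A)
    (H : ∀ p : PrimeSpectrum A, p ∈ Module.support A M →
      ringKrullDim (A ⧸ p.asIdeal) = Module.supportDim A M → x ∉ p.asIdeal) :
    Module.supportDim A (QuotSMulTop x M) + 1 ≤ Module.supportDim A M := by
  rcases subsingleton_or_nontrivial (QuotSMulTop x M) with h | h
  · rw [Module.supportDim_eq_bot_of_subsingleton, WithBot.bot_add]; exact bot_le
  have hne : Nonempty (Module.support A (QuotSMulTop x M)) :=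
    Module.nonempty_support_of_nontrivial.to_subtype
  have key : ∀ q : Module.support A (QuotSMulTop x M),
      ((Order.coheight q : ℕ∞) : WithBot ℕ∞) + 1 ≤ Module.supportDim A M := by
    intro q
    have hq : q.1 ∈ Module.support A M ∩ PrimeSpectrum.zeroLocus {x} := by
      rw [← Module.support_quotSMulTop]; exact q.2
    have hqM : q.1 ∈ Module.support A M := hq.1
    have hxq : x ∈ q.1.asIdeal := by simpa using hq.2
    have h1 := coheight_le_ringKrullDim_quotient _ q
    have h2 := ringKrullDim_quotient_le_supportDim hqM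
    have h3 : ringKrullDim (A ⧸ q.1.asIdeal) < Module.supportDim A M :=
      lt_of_le_of_ne h2 (fun h => H q.1 hqM h hxq)
    exact withBot_add_one_le_of_lt (lt_of_le_of_lt h1 h3)
  have := withBot_iSup_add_one_le _ _ key
  rwa [← Order.krullDim_eq_iSup_coheight_of_nonempty] at this


/-! ### Finite length and dimension zero -/

theorem isFiniteLength_of_supportDim_le_zero {A : Type u} [CommRing A] [IsNoetherianRing A]
    {N : Type v} [AddCommGroup N] [Module A N] [Module.Finite A N]
    (h : Module.supportDim A N ≤ 0) : IsFiniteLength A N := by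
  rw [isFiniteLength_iff_isNoetherian_isArtinian]
  refine ⟨inferInstance, ?_⟩
  let _ : Module (A ⧸ Module.annihilator A N) N := Module.quotientAnnihilator
  have : IsScalarTower A (A ⧸ Module.annihilator A N) N :=
    (Module.isTorsionBySet_annihilator A N).isScalarTower
  have : Module.Finite (A ⧸ Module.annihilator A N) N :=
    Module.Finite.of_restrictScalars_finite A (A ⧸ Module.annihilator A N) N
  have : Ring.KrullDimLE 0 (A ⧸ Module.annihilator A N) := by
    rw [Ring.krullDimLE_iff, ← Module.supportDim_eq_ringKrullDim_quotient_annihilator]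
    exact_mod_cast h
  have : IsArtinianRing (A ⧸ Module.annihilator A N) :=
    isArtinianRing_iff_krullDimLE_zero.mpr inferInstance
  have : IsArtinian (A ⧸ Module.annihilator A N) N := inferInstance
  exact isArtinian_of_surjective_algebraMap (R := A ⧸ Module.annihilator A N) (S := A)
    Ideal.Quotient.mk_surjective

theorem isMaximal_of_mem_support_of_isFiniteLength {A : Type u} [CommRing A] {N : Type v}
    [AddCommGroup N] [Module A N] (h : IsFiniteLength A N) :
    ∀ p ∈ Module.support A N, p.asIdeal.IsMaximal := by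
  induction h with
  | of_subsingleton =>
    intro p hp
    rw [Module.support_eq_empty] at hp
    exact absurd hp (Set.notMem_empty _)
  | @of_simple_quotient N _ _ S hS _ ih =>
    intro p hp
    rw [Module.support_of_exact (LinearMap.exact_subtype_mkQ S) (Submodule.injective_subtype S)
      (Submodule.mkQ_surjective S)] at hp
    rcases hp with hp | hp
    · exact ih p hp
    · obtain ⟨m, hm, ⟨e⟩⟩ := isSimpleModule_iff_quot_maximal.mp hS
      rw [e.support_eq, Module.mem_support_iff_of_finite, Ideal.annihilator_quotient] at hp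
      have : m = p.asIdeal := hm.eq_of_le p.2.ne_top hp
      rw [← this]; exact hm

theorem supportDim_le_zero_of_isFiniteLength {A : Type u} [CommRing A] {N : Type v}
    [AddCommGroup N] [Module A N] (h : IsFiniteLength A N) : Module.supportDim A N ≤ 0 := by
  unfold Module.supportDim
  rw [Order.krullDim_nonpos_iff_forall_isMax]
  intro p q hpq
  have hmax := isMaximal_of_mem_support_of_isFiniteLength h p.1 p.2
  have : p.1.asIdeal = q.1.asIdeal := hmax.eq_of_le q.1.2.ne_top hpq
  exact le_of_eq (Subtype.ext (PrimeSpectrum.ext this)).symm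

/-! ### Quotients by lists of elements -/

/-- `M / ()M ≃ M`. -/
noncomputable def quotNilEquiv {A : Type u} [CommRing A] (N : Type v) [AddCommGroup N] [Module A N] :
    (N ⧸ (Ideal.ofList ([] : List A) • (⊤ : Submodule A N))) ≃ₗ[A] N :=
  Submodule.quotEquivOfEqBot _ (by rw [Ideal.ofList_nil, Submodule.bot_smul])

/-- `M / (xs ++ ys) M ≃ (M / (xs) M) / (ys) (M / (xs) M)`. -/
noncomputable def quotAppendEquiv {A : Type u} [CommRing A] (N : Type v) [AddCommGroup N]
    [Module A N] (xs ys : List A) :
    (N ⧸ (Ideal.ofList (xs ++ ys) • (⊤ : Submodule A N))) ≃ₗ[A]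
      (N ⧸ (Ideal.ofList xs • (⊤ : Submodule A N))) ⧸
        (Ideal.ofList ys • (⊤ : Submodule A (N ⧸ (Ideal.ofList xs • (⊤ : Submodule A N))))) :=
  Submodule.quotEquivOfEq _ _ (by rw [Ideal.ofList_append, Submodule.sup_smul]) ≪≫ₗ
    (Submodule.quotientQuotientEquivQuotientSup (Ideal.ofList xs • ⊤) (Ideal.ofList ys • ⊤)).symm ≪≫ₗ
      Submodule.quotEquivOfEq _ _ (by rw [Submodule.map_smul'', Submodule.map_top,
        Submodule.range_mkQ])

theorem nontrivial_quot_ofList {A : Type u} [CommRing A] (N : Type v) [AddCommGroup N]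
    [Module A N] [Module.Finite A N] [Nontrivial N] (zs : List A)
    (hzs : ∀ z ∈ zs, z ∈ Ring.jacobson A) :
    Nontrivial (N ⧸ (Ideal.ofList zs • (⊤ : Submodule A N))) := by
  rw [Submodule.Quotient.nontrivial_iff]
  refine (Submodule.top_ne_ideal_smul_of_le_jacobson_annihilator ?_).symm
  refine le_trans ?_ Ideal.ringJacobson_le_jacobson
  rw [Ideal.ofList, Ideal.span_le]
  exact fun z hz => hzs z hz

theorem supportDim_le_supportDim_quot_ofList_add_length {A : Type u} [CommRing A]
    [IsNoetherianRing A] (zs : List A) (hzs : ∀ z ∈ zs, z ∈ Ring.jacobson A) (N : Type v)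
    [AddCommGroup N] [Module A N] [Module.Finite A N] :
    Module.supportDim A N ≤
      Module.supportDim A (N ⧸ (Ideal.ofList zs • (⊤ : Submodule A N))) + zs.length := by
  induction zs generalizing N with
  | nil =>
    rw [Module.supportDim_eq_of_equiv (quotNilEquiv (A := A) N)]
    simp
  | cons z zs ih =>
    rw [Module.supportDim_eq_of_equiv (Submodule.quotOfListConsSMulTopEquivQuotSMulTopInner N z zs)]
    have h1 := Module.supportDim_le_supportDim_quotSMulTop_succ_of_mem_jacobson (M := N) (x := z)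
      (Ideal.ringJacobson_le_jacobson (hzs z (by simp)))
    have h2 := ih (fun w hw => hzs w (List.mem_cons_of_mem _ hw)) (QuotSMulTop z N)
    calc _ ≤ Module.supportDim A (QuotSMulTop z N) + 1 := h1
      _ ≤ (Module.supportDim A (QuotSMulTop z N ⧸
            (Ideal.ofList zs • (⊤ : Submodule A (QuotSMulTop z N)))) + zs.length) + 1 :=
          add_le_add h2 le_rfl
      _ = _ := by rw [List.length_cons, Nat.cast_add, Nat.cast_one, add_assoc]

/-! ### Parameter elements in the Jacobson radical -/

theorem isMaximal_of_jacobson_le {A : Type u} [CommRing A] [Finite (MaximalSpectrum A)]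
    {P : Ideal A} (hP : P.IsPrime) (h : Ring.jacobson A ≤ P) : P.IsMaximal := by
  classical
  have := Fintype.ofFinite (MaximalSpectrum A)
  have h1 : (Finset.univ : Finset (MaximalSpectrum A)).inf (fun m => m.asIdeal) ≤ P := by
    refine le_trans ?_ h
    rw [Ring.jacobson_eq_sInf_isMaximal]
    refine le_sInf fun I hI => ?_
    exact Finset.inf_le (f := fun m : MaximalSpectrum A => m.asIdeal)
      (Finset.mem_univ (⟨I, hI⟩ : MaximalSpectrum A))
  obtain ⟨m, -, hm⟩ := hP.inf_le'.mp h1
  have : m.asIdeal = P := m.isMaximal.eq_of_le hP.ne_top hm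
  rw [← this]; exact m.isMaximal

theorem ringKrullDim_quotient_eq_coheight {A : Type u} [CommRing A] (p : PrimeSpectrum A) :
    ringKrullDim (A ⧸ p.asIdeal) = ((Order.coheight p : ℕ∞) : WithBot ℕ∞) := by
  rw [ringKrullDim_quotient, Order.coheight_eq_krullDim_Ici]
  have : PrimeSpectrum.zeroLocus (p.asIdeal : Set A) = Set.Ici p := by
    ext q
    rw [PrimeSpectrum.mem_zeroLocus, Set.mem_Ici]
    exact Iff.rfl
  rw [this]

theorem ringKrullDim_quotient_succ_le_of_lt {A : Type u} [CommRing A] {p q : PrimeSpectrum A}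
    (h : q < p) : ringKrullDim (A ⧸ p.asIdeal) + 1 ≤ ringKrullDim (A ⧸ q.asIdeal) := by
  rw [ringKrullDim_quotient_eq_coheight, ringKrullDim_quotient_eq_coheight]
  exact_mod_cast Order.coheight_add_one_le h

theorem exists_nat_supportDim_eq (A : Type u) [CommRing A] [IsNoetherianRing A]
    [Finite (MaximalSpectrum A)] (N : Type v) [AddCommGroup N] [Module A N] [Nontrivial N] :
    ∃ e : ℕ, Module.supportDim A N = e := by
  obtain ⟨d, hd⟩ := WithBot.ne_bot_iff_exists.mp (Module.supportDim_ne_bot_of_nontrivial A N)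
  have hd' : d ≠ ⊤ := fun h => supportDim_ne_top_of_semilocal A N (by rw [← hd, h]; rfl)
  obtain ⟨n, hn⟩ := ENat.ne_top_iff_exists.mp hd'
  exact ⟨n, by rw [← hd, ← hn]; rfl⟩

theorem exists_mem_jacobson_supportDim_quotSMulTop_succ_eq {A : Type u} [CommRing A]
    [IsNoetherianRing A] [Finite (MaximalSpectrum A)] (N : Type v) [AddCommGroup N] [Module A N]
    [Module.Finite A N] (hpos : 0 < Module.supportDim A N) :
    ∃ y ∈ Ring.jacobson A,
      Module.supportDim A (QuotSMulTop y N) + 1 = Module.supportDim A N := by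
  classical
  have hnt : Nontrivial N := by
    rw [← Module.supportDim_ne_bot_iff_nontrivial A]
    exact fun h => absurd hpos (by rw [h]; exact not_lt_bot)
  let T : Set (Ideal A) := {P | P ∈ (Module.annihilator A N).minimalPrimes ∧
    ringKrullDim (A ⧸ P) = Module.supportDim A N}
  have hT : T.Finite :=
    (Ideal.finite_minimalPrimes_of_isNoetherianRing A _).subset (fun P hP => hP.1)
  have hnot : ¬ ((Ring.jacobson A : Set A) ⊆ ⋃ P ∈ T, (P : Set A)) := by
    rw [Ideal.subset_union_prime_finite hT ⊥ ⊥ (fun P hP _ _ => hP.1.1.1)]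
    rintro ⟨P, hPT, hle⟩
    have hmax := isMaximal_of_jacobson_le hPT.1.1.1 hle
    have h0 : ringKrullDim (A ⧸ P) = 0 :=
      ringKrullDim_eq_zero_of_isField ((Ideal.Quotient.maximal_ideal_iff_isField_quotient P).mp hmax)
    rw [hPT.2] at h0
    exact hpos.ne' h0
  obtain ⟨y, hyJ, hyT⟩ := Set.not_subset.mp hnot
  refine ⟨y, hyJ, le_antisymm (supportDim_quotSMulTop_succ_le_of_forall y ?_)
    (Module.supportDim_le_supportDim_quotSMulTop_succ_of_mem_jacobson
      (Ideal.ringJacobson_le_jacobson hyJ))⟩
  intro p hp hdim hyp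
  apply hyT
  refine Set.mem_biUnion (x := p.asIdeal) ⟨?_, hdim⟩ hyp
  refine ⟨⟨p.2, Module.mem_support_iff_of_finite.mp hp⟩, ?_⟩
  rintro Q ⟨hQprime, hQann⟩ hQle
  by_contra hnle
  have hlt : Q < p.asIdeal := lt_of_le_not_ge hQle hnle
  let q : PrimeSpectrum A := ⟨Q, hQprime⟩
  have hq : q ∈ Module.support A N := Module.mem_support_iff_of_finite.mpr hQann
  have h1 : ringKrullDim (A ⧸ p.asIdeal) + 1 ≤ ringKrullDim (A ⧸ q.asIdeal) :=
    ringKrullDim_quotient_succ_le_of_lt (show q < p from hlt)
  have h2 := ringKrullDim_quotient_le_supportDim hq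
  rw [hdim] at h1
  exact absurd_add_one_le (Module.supportDim_ne_bot_of_nontrivial A N)
    (supportDim_ne_top_of_semilocal A N) (h1.trans h2)

lemma withBot_eq_of_add_one_eq {a : WithBot ℕ∞} {e : ℕ}
    (h : a + 1 = ((e + 1 : ℕ) : WithBot ℕ∞)) : a = e := by
  induction a using WithBot.recBotCoe with
  | bot =>
    rw [WithBot.bot_add] at h
    exact absurd h.symm (WithBot.natCast_ne_bot _)
  | coe a =>
    have h1 : a + 1 = ((e + 1 : ℕ) : ℕ∞) := by exact_mod_cast h
    induction a using ENat.recTopCoe with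
    | top =>
      rw [top_add] at h1
      exact absurd h1.symm (ENat.natCast_ne_top _)
    | coe n =>
      have h2 : n + 1 = e + 1 := by exact_mod_cast h1
      have h3 : n = e := by omega
      rw [h3]; rfl

/-- Existence of a system of parameters inside the Jacobson radical. -/
theorem exists_sop {A : Type u} [CommRing A] [IsNoetherianRing A] [Finite (MaximalSpectrum A)]
    (e : ℕ) (N : Type v) [AddCommGroup N] [Module A N] [Module.Finite A N]
    (hN : Module.supportDim A N = e) :
    ∃ ys : List A, (∀ y ∈ ys, y ∈ Ring.jacobson A) ∧ ys.length = e ∧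
      IsFiniteLength A (N ⧸ (Ideal.ofList ys • (⊤ : Submodule A N))) := by
  induction e generalizing N with
  | zero =>
    refine ⟨[], by simp, rfl, ?_⟩
    exact (quotNilEquiv (A := A) N).symm.isFiniteLength
      (isFiniteLength_of_supportDim_le_zero (by rw [hN]; simp))
  | succ e ih =>
    have hpos : 0 < Module.supportDim A N := by
      rw [hN]; exact_mod_cast Nat.succ_pos e
    obtain ⟨y, hyJ, hy⟩ := exists_mem_jacobson_supportDim_quotSMulTop_succ_eq N hpos
    have hdim : Module.supportDim A (QuotSMulTop y N) = e := by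
      rw [hN] at hy
      exact withBot_eq_of_add_one_eq hy
    obtain ⟨ys, hys, hlen, hfl⟩ := ih (QuotSMulTop y N) hdim
    refine ⟨y :: ys, ?_, by simp [hlen], ?_⟩
    · intro z hz
      rcases List.mem_cons.mp hz with rfl | hz
      exacts [hyJ, hys z hz]
    · exact (Submodule.quotOfListConsSMulTopEquivQuotSMulTopInner N y ys).symm.isFiniteLength hfl

end Groth.Agent.Lib.Helper9
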