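import Mathlib
import Groth.Prelude
import Groth.Agent.Lib.Helper12.SchemeDimFT2

/-!
# (A) for helper1's S14335: `trdeg κ(η) ≤ dim Z` for the generic point of an irreducible component
-/

set_option autoImplicit false
set_option linter.style.haveILetI false
universe u
open CategoryTheory CategoryTheory.Limits AlgebraicGeometry Opposite TopologicalSpace

namespace Groth.Agent.Lib.Helper9.CIDimA

attribute [local instance] Curv2.resAlgebra

theorem trdeg_le_dim_component (k : Type u) [Field k] (X : Scheme.{u})
    [X.Over (Spec (CommRingCat.of k))] [LocallyOfFiniteType (X ↘ Spec (CommRingCat.of k))]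
    [CompactSpace X] (Z : Set X) (hZ : Z ∈ irreducibleComponents X) (η : X)
    (hη : IsGenericPoint η Z) (a : ℕ) (ha : Algebra.trdeg k (X.residueField η) = a) :
    ((a : ℕ) : WithBot ℕ∞) ≤ topologicalKrullDim ↥Z := by
  haveI : IsLocallyNoetherian X :=
    LocallyOfFiniteType.isLocallyNoetherian (X ↘ Spec (CommRingCat.of k))
  haveI : IsNoetherian X := {}
  haveI : NoetherianSpace X := inferInstance
  have hfin : (irreducibleComponents X).Finite := NoetherianSpace.finite_irreducibleComponents
  let W : Set X := ⋃ Z' ∈ (irreducibleComponents X \ {Z}), Z'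
  have hWclosed : IsClosed W :=
    (hfin.subset Set.sdiff_subset).isClosed_biUnion
      (fun Z' hZ' => isClosed_of_mem_irreducibleComponents Z' hZ'.1)
  let U : Opens X := ⟨Wᶜ, hWclosed.isOpen_compl⟩
  have hηU : η ∈ U := by
    intro hηW
    obtain ⟨Z', ⟨hZ'c, hZ'ne⟩, hηZ'⟩ := Set.mem_iUnion₂.mp hηW
    have hZsub : Z ⊆ Z' := by
      rw [← hη.def]
      exact (isClosed_of_mem_irreducibleComponents Z' hZ'c).closure_subset_iff.mpr
        (Set.singleton_subset_iff.mpr hηZ')
    exact hZ'ne (Set.Subset.antisymm (hZ.2 hZ'c.1 hZsub) hZsub)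
  have hUZ : (U : Set X) ⊆ Z := by
    intro z hz
    by_contra hzZ
    apply hz
    refine Set.mem_iUnion₂.mpr ⟨irreducibleComponent z,
      ⟨irreducibleComponent_mem_irreducibleComponents z, ?_⟩, mem_irreducibleComponent⟩
    intro h
    have h' : irreducibleComponent z = Z := h
    exact hzZ (h' ▸ mem_irreducibleComponent)
  calc ((a : ℕ) : WithBot ℕ∞) ≤ FlatMor.localDim X η :=
        Groth.Agent.Lib.Helper12.SchemeDimFT.trdeg_le_localDim k X η a ha
    _ ≤ topologicalKrullDim (U : Set X) := Groth.Agent.Lib.Helper9.localDim_le_of_mem U hηU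
    _ ≤ topologicalKrullDim ↥Z :=
        (Topology.IsEmbedding.inclusion hUZ).isInducing.topologicalKrullDim_le

end Groth.Agent.Lib.Helper9.CIDimA
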