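import Groth.Agent.Lib.Helper28.DepthLoc
import Mathlib

/-! Universe-generalised copy (module in `Type v`) of the `loc` section of Helper28's `DepthLoc`. -/

set_option autoImplicit false

universe u v

open RingTheory.Sequence

namespace Groth.Agent.Lib.Helper28.V

open Groth.Agent.Lib.Helper4

section loc

variable {R : Type u} [CommRing R] [IsNoetherianRing R] {M : Type v} [AddCommGroup M] [Module R M]
  [Module.Finite R M]


/-- localization commutes with `M ↦ M / xM` -/
noncomputable def quotSMulTopLocalizedEquiv (p : Ideal R) [p.IsPrime] (x : R) :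
    LocalizedModule p.primeCompl (QuotSMulTop x M) ≃ₗ[Localization.AtPrime p]
      QuotSMulTop (algebraMap R (Localization.AtPrime p) x) (LocalizedModule p.primeCompl M) :=
  ((IsLocalizedModule.isBaseChange p.primeCompl (Localization.AtPrime p)
      (LocalizedModule.mkLinearMap p.primeCompl (QuotSMulTop x M))).equiv.symm ≪≫ₗ
    (QuotSMulTop.algebraMapTensorEquivTensorQuotSMulTop x M (Localization.AtPrime p)).symm) ≪≫ₗ
    QuotSMulTop.congr (algebraMap R (Localization.AtPrime p) x)
      (IsLocalizedModule.isBaseChange p.primeCompl (Localization.AtPrime p)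
        (LocalizedModule.mkLinearMap p.primeCompl M)).equiv

theorem isSMulRegular_localizedModule (p : Ideal R) [p.IsPrime] {x : R} (hx : IsSMulRegular M x) :
    IsSMulRegular (LocalizedModule p.primeCompl M) (algebraMap R (Localization.AtPrime p) x) := by
  have h1 : IsWeaklyRegular M [x] := (isWeaklyRegular_singleton_iff M x).mpr hx
  have h2 := h1.of_isLocalizedModule (Localization.AtPrime p) p.primeCompl
    (LocalizedModule.mkLinearMap p.primeCompl M)
  exact (isWeaklyRegular_singleton_iff _ _).mp h2

/-- the depth of `(M/xM)_p` is one less than that of `M_p` for `x ∈ p` regular on `M` -/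
theorem depth_localization_quotSMulTop (p : Ideal R) [p.IsPrime] {x : R} (hxp : x ∈ p)
    (hx : IsSMulRegular M x) :
    LocCoh.depth (Localization.AtPrime p) (LocalizedModule p.primeCompl (QuotSMulTop x M)) + 1 =
      LocCoh.depth (Localization.AtPrime p) (LocalizedModule p.primeCompl M) := by
  unfold LocCoh.depth
  rw [idealDepth_congr (quotSMulTopLocalizedEquiv p x)]
  refine idealDepth_quotSMulTop_add_one _ _ ?_ (isSMulRegular_localizedModule p hx)
  rw [← IsLocalization.mk'_one (M := p.primeCompl) (Localization.AtPrime p) x,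
    IsLocalization.AtPrime.mk'_mem_maximal_iff (Localization.AtPrime p) p]
  exact hxp

theorem nontrivial_localizedModule_of_colon_eq (p : Ideal R) [p.IsPrime] (w : M)
    (hw : p = (⊥ : Submodule R M).colon {w}) : LocalizedModule.mk w (1 : p.primeCompl) ≠ 0 := by
  intro h
  rw [← LocalizedModule.zero_mk (1 : p.primeCompl), LocalizedModule.mk_eq] at h
  obtain ⟨t, ht⟩ := h
  simp only [one_smul, smul_zero] at ht
  have key : ∀ r : R, r • w = 0 → r ∈ p := fun r hr => by
    rw [hw]; exact Submodule.mem_colon_singleton.mpr hr
  exact t.2 (key t ht)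

/-- If `M_p` has positive depth at all primes `p ∈ V(I) ∩ Supp M`, then `I` contains an `M`-regular
element. -/
theorem exists_isSMulRegular_of_forall_localization (I : Ideal R)
    (h : ∀ (p : Ideal R) [p.IsPrime], I ≤ p → Nontrivial (LocalizedModule p.primeCompl M) →
      1 ≤ LocCoh.depth (Localization.AtPrime p) (LocalizedModule p.primeCompl M)) :
    ∃ x ∈ I, IsSMulRegular M x := by
  by_contra hcon
  push Not at hcon
  have hns : ¬ Subsingleton ((R ⧸ I) →ₗ[R] M) := by
    rw [IsSMulRegular.subsingleton_linearMap_iff, Ideal.annihilator_quotient]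
    rintro ⟨r, hr, hreg⟩
    exact hcon r hr hreg
  rw [not_subsingleton_iff_nontrivial] at hns
  obtain ⟨f, hf⟩ := exists_ne (0 : (R ⧸ I) →ₗ[R] M)
  have hz : f (Ideal.Quotient.mk I 1) ≠ 0 := by
    intro h0
    apply hf
    refine LinearMap.ext fun y => ?_
    obtain ⟨a, rfl⟩ := Ideal.Quotient.mk_surjective y
    have : Ideal.Quotient.mk I a = a • Ideal.Quotient.mk I 1 := by
      rw [map_one, Algebra.smul_def, mul_one]; rfl
    rw [this, map_smul, h0, smul_zero, LinearMap.zero_apply]
  have hIz : ∀ a ∈ I, a • f (Ideal.Quotient.mk I 1) = 0 := by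
    intro a ha
    rw [← map_smul]
    have : a • Ideal.Quotient.mk I 1 = 0 := by
      have : a • Ideal.Quotient.mk I 1 = Ideal.Quotient.mk I a := by
        rw [map_one, Algebra.smul_def, mul_one]; rfl
      rw [this]
      exact Ideal.Quotient.eq_zero_iff_mem.mpr ha
    rw [this, map_zero]
  obtain ⟨P, hP, hle⟩ := exists_le_isAssociatedPrime_of_isNoetherianRing R _ hz
  obtain ⟨hPprime, w, hw⟩ := isAssociatedPrime_iff.mp hP
  have hIP : I ≤ P := fun a ha => hle (by rw [Submodule.mem_colon_singleton]; exact hIz a ha)
  have hne := nontrivial_localizedModule_of_colon_eq P w hw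
  have hnt : Nontrivial (LocalizedModule P.primeCompl M) := ⟨⟨_, _, hne⟩⟩
  have hd := h P hIP hnt
  -- a regular element in the maximal ideal
  have hmM : IsLocalRing.maximalIdeal (Localization.AtPrime P) •
      (⊤ : Submodule (Localization.AtPrime P) (LocalizedModule P.primeCompl M)) ≠ ⊤ := by
    intro h'
    have := Submodule.eq_bot_of_le_smul_of_le_jacobson_bot
      (IsLocalRing.maximalIdeal (Localization.AtPrime P))
      (⊤ : Submodule (Localization.AtPrime P) (LocalizedModule P.primeCompl M))
      Module.Finite.fg_top (by rw [h'])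
      (by rw [IsLocalRing.jacobson_eq_maximalIdeal ⊥ bot_ne_top])
    exact top_ne_bot this
  obtain ⟨rs, hlen, hmem, hrs⟩ := exists_isWeaklyRegular_of_le_idealDepth _ hmM 1
    (by exact_mod_cast hd)
  match rs, hlen with
  | [r], _ =>
    have hreg : IsSMulRegular (LocalizedModule P.primeCompl M) r :=
      (isWeaklyRegular_singleton_iff _ _).mp hrs
    have hrm : r ∈ IsLocalRing.maximalIdeal (Localization.AtPrime P) := hmem r (by simp)
    obtain ⟨⟨a, s⟩, rfl⟩ := IsLocalization.mk'_surjective P.primeCompl r
    rw [IsLocalization.AtPrime.mk'_mem_maximal_iff (Localization.AtPrime P) P] at hrm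
    have h0 : IsLocalization.mk' (Localization.AtPrime P) a s •
        LocalizedModule.mk w (1 : P.primeCompl) = 0 := by
      rw [← Localization.mk_eq_mk', LocalizedModule.mk_smul_mk]
      have : a • w = 0 := by
        rw [hw, Submodule.mem_colon_singleton] at hrm
        exact hrm
      rw [this, LocalizedModule.zero_mk]
    apply hne
    apply hreg
    simp only [h0, smul_zero]


/-- universe-free version of `Helper4.idealDepth_quotSMulTop_add_one` (via `ULift`). -/
theorem idealDepth_quotSMulTop_add_one' (I : Ideal R) (x : R) (hx : x ∈ I)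
    (hreg : IsSMulRegular M x) :
    LocCoh.idealDepth I (QuotSMulTop x M) + 1 = LocCoh.idealDepth I M := by
  let e : M ≃ₗ[R] ULift.{u} M := ULift.moduleEquiv.symm
  haveI : Module.Finite R (ULift.{u} M) := Module.Finite.equiv e
  have hreg' : IsSMulRegular (ULift.{u} M) x := (e.isSMulRegular_congr x).mp hreg
  rw [Groth.Agent.Lib.Helper4.idealDepth_congr I (QuotSMulTop.congr x e),
    Groth.Agent.Lib.Helper4.idealDepth_congr I e]
  exact idealDepth_quotSMulTop_add_one I x hx hreg'

/-- `depth_I M ≥ n` as soon as `depth M_p ≥ n` for all `p ∈ V(I) ∩ Supp M`. -/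
theorem le_idealDepth_of_forall_localization (I : Ideal R) (n : ℕ)
    (h : ∀ (p : Ideal R) [p.IsPrime], I ≤ p → Nontrivial (LocalizedModule p.primeCompl M) →
      (n : ℕ∞) ≤ LocCoh.depth (Localization.AtPrime p) (LocalizedModule p.primeCompl M)) :
    (n : ℕ∞) ≤ LocCoh.idealDepth I M := by
  induction n generalizing M with
  | zero => simp
  | succ n ih =>
    obtain ⟨x, hxI, hx⟩ := exists_isSMulRegular_of_forall_localization I (fun p _ hIp hnt =>
      le_trans (by exact_mod_cast Nat.succ_le_succ (Nat.zero_le n)) (h p hIp hnt))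
    rw [← idealDepth_quotSMulTop_add_one' I x hxI hx]
    have := ih (M := QuotSMulTop x M) (fun p _ hIp hnt => by
      have hntM : Nontrivial (LocalizedModule p.primeCompl M) := by
        by_contra hns
        rw [not_nontrivial_iff_subsingleton] at hns
        have : Subsingleton (LocalizedModule p.primeCompl (QuotSMulTop x M)) := by
          rw [LocalizedModule.subsingleton_iff] at hns ⊢
          intro y
          obtain ⟨m, rfl⟩ := Submodule.Quotient.mk_surjective _ y
          obtain ⟨r, hr, hrm⟩ := hns m
          exact ⟨r, hr, by rw [← Submodule.Quotient.mk_smul, hrm, Submodule.Quotient.mk_zero]⟩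
        exact false_of_nontrivial_of_subsingleton
          (LocalizedModule p.primeCompl (QuotSMulTop x M))
      have h1 := h p hIp hntM
      rw [← depth_localization_quotSMulTop p (hIp hxI) hx] at h1
      push_cast at h1
      exact (ENat.add_le_add_iff_right (by simp)).mp h1)
    push_cast
    gcongr

end loc

end Groth.Agent.Lib.Helper28.V
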