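import Mathlib

/-!
# Geometric connectedness / irreducibility / integrality over fields

Specialisation arguments (Nullstellensatz) over algebraically closed fields, Frobenius arguments
for purely inseparable extensions, and the resulting descent statements.
-/

namespace Groth.Agent.Lib.Helper9.GeomLib

open TensorProduct Module

universe u

section Basic

/-- A commutative ring has only the trivial idempotents. -/
def TrivIdem (T : Type*) [CommRing T] : Prop := ∀ e : T, IsIdempotentElem e → e = 0 ∨ e = 1

theorem connectedSpace_iff (T : Type*) [CommRing T] :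
    ConnectedSpace (PrimeSpectrum T) ↔ Nontrivial T ∧ TrivIdem T := by
  constructor
  · intro h
    refine ⟨PrimeSpectrum.nonempty_iff_nontrivial.mp h.toNonempty, fun e he => ?_⟩
    have hcl : IsClopen (PrimeSpectrum.basicOpen e : Set (PrimeSpectrum T)) :=
      PrimeSpectrum.isClopen_iff.mpr ⟨e, he, rfl⟩
    rcases _root_.isClopen_iff.mp hcl with h0 | h1
    · left
      apply PrimeSpectrum.basicOpen_injOn_isIdempotentElem he IsIdempotentElem.zero
      apply TopologicalSpace.Opens.ext
      rw [h0, PrimeSpectrum.basicOpen_zero]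
      rfl
    · right
      apply PrimeSpectrum.basicOpen_injOn_isIdempotentElem he IsIdempotentElem.one
      apply TopologicalSpace.Opens.ext
      rw [h1, PrimeSpectrum.basicOpen_one]
      rfl
  · rintro ⟨hnt, hT⟩
    haveI := hnt
    haveI : PreconnectedSpace (PrimeSpectrum T) := by
      rw [preconnectedSpace_iff_clopen]
      intro s hs
      obtain ⟨e, he, rfl⟩ := PrimeSpectrum.isClopen_iff.mp hs
      rcases hT e he with rfl | rfl
      · left
        rw [PrimeSpectrum.basicOpen_zero]
        rfl
      · right
        rw [PrimeSpectrum.basicOpen_one]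
        rfl
    exact { toNonempty := PrimeSpectrum.nonempty_iff_nontrivial.mpr hnt }

theorem TrivIdem.of_injective {T T' : Type*} [CommRing T] [CommRing T'] (f : T →+* T')
    (hf : Function.Injective f) (h : TrivIdem T') : TrivIdem T := by
  intro e he
  rcases h (f e) (he.map f) with h0 | h1
  · left
    exact hf (by rw [h0, map_zero])
  · right
    exact hf (by rw [h1, map_one])

theorem nilradical_isPrime_of_injective {T T' : Type*} [CommRing T] [CommRing T'] (f : T →+* T')
    (hf : Function.Injective f) (h : (nilradical T').IsPrime) : (nilradical T).IsPrime := by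
  have : nilradical T = Ideal.comap f (nilradical T') := by
    ext x
    rw [Ideal.mem_comap, mem_nilradical, mem_nilradical]
    constructor
    · exact fun hx => hx.map f
    · rintro ⟨n, hn⟩
      exact ⟨n, hf (by rw [map_pow, hn, map_zero])⟩
  rw [this]
  haveI := h
  exact Ideal.comap_isPrime f _

theorem map_injective {k : Type*} [Field k] {A B R : Type*} [CommRing A] [CommRing B] [CommRing R]
    [Algebra k A] [Algebra k B] [Algebra k R] (j : A →ₐ[k] B) (hj : Function.Injective j) :
    Function.Injective (Algebra.TensorProduct.map j (AlgHom.id k R)) := by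
  have h := Module.Flat.rTensor_preserves_injective_linearMap (M := R) j.toLinearMap hj
  have key : ∀ z : A ⊗[k] R, LinearMap.rTensor R j.toLinearMap z =
      Algebra.TensorProduct.map j (AlgHom.id k R) z := by
    intro z
    induction z using TensorProduct.induction_on with
    | zero => simp
    | tmul a r => simp
    | add a b ha hb => simp only [map_add, ha, hb]
  intro x y hxy
  apply h
  rw [key, key, hxy]

theorem exists_finset_range {k K R : Type u} [Field k] [CommRing K] [Algebra k K] [CommRing R]
    [Algebra k R] (x : K ⊗[k] R) :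
    ∃ s : Finset K, ∀ (A : Type u) [CommRing A] [Algebra k A] (j : A →ₐ[k] K),
      ((s : Set K) ⊆ Set.range j) →
        x ∈ Set.range (Algebra.TensorProduct.map j (AlgHom.id k R)) := by
  classical
  induction x using TensorProduct.induction_on with
  | zero => exact ⟨∅, fun A _ _ j _ => ⟨0, map_zero _⟩⟩
  | tmul a r =>
    refine ⟨{a}, fun A _ _ j hs => ?_⟩
    obtain ⟨a', ha'⟩ := hs (by simp : a ∈ (({a} : Finset K) : Set K))
    exact ⟨a' ⊗ₜ r, by simp [ha']⟩
  | add x y hx hy =>
    obtain ⟨s, hs⟩ := hx
    obtain ⟨t, ht⟩ := hy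
    refine ⟨s ∪ t, fun A _ _ j hst => ?_⟩
    obtain ⟨x', hx'⟩ := hs A j (fun z hz => hst
      (Finset.mem_coe.mpr (Finset.mem_union_left _ (Finset.mem_coe.mp hz))))
    obtain ⟨y', hy'⟩ := ht A j (fun z hz => hst
      (Finset.mem_coe.mpr (Finset.mem_union_right _ (Finset.mem_coe.mp hz))))
    exact ⟨x' + y', by rw [map_add, hx', hy']⟩

end Basic

section Nullstellensatz

theorem exists_algHom_ne_zero {k : Type*} [Field k] [IsAlgClosed k] (A : Type*) [CommRing A]
    [IsDomain A] [Algebra k A] [Algebra.FiniteType k A] (z : A) (hz : z ≠ 0) :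
    ∃ φ : A →ₐ[k] k, φ z ≠ 0 := by
  haveI hJ : IsJacobsonRing A := isJacobsonRing_of_finiteType (A := k) (B := A)
  have hbot : (⊥ : Ideal A).jacobson = ⊥ := hJ.out Ideal.isRadical_bot
  have hz' : z ∉ (⊥ : Ideal A).jacobson := by
    rw [hbot]
    simpa using hz
  rw [Ideal.jacobson, Ideal.mem_sInf] at hz'
  push Not at hz'
  obtain ⟨m, ⟨-, hm⟩, hzm⟩ := hz'
  haveI := hm
  letI : Field (A ⧸ m) := Ideal.Quotient.field m
  haveI : Algebra.FiniteType k (A ⧸ m) :=
    Algebra.FiniteType.of_surjective (Ideal.Quotient.mkₐ k m) (Ideal.Quotient.mkₐ_surjective k m)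
  haveI : Module.Finite k (A ⧸ m) := finite_of_finite_type_of_isJacobsonRing k (A ⧸ m)
  haveI : Algebra.IsAlgebraic k (A ⧸ m) := Algebra.IsAlgebraic.of_finite k _
  let ψ : (A ⧸ m) →ₐ[k] k := IsAlgClosed.lift
  refine ⟨ψ.comp (Ideal.Quotient.mkₐ k m), fun h => hzm ?_⟩
  have h' : ψ (Ideal.Quotient.mk m z) = 0 := h
  have : Ideal.Quotient.mk m z = 0 := (map_eq_zero ψ).mp h'
  exact Ideal.Quotient.eq_zero_iff_mem.mp this

end Nullstellensatz

section Spec

variable {k : Type*} [Field k] {A R : Type*} [CommRing A] [Algebra k A] [CommRing R] [Algebra k R]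

/-- Specialisation `A ⊗[k] R → R` along a `k`-point `φ` of `A`. -/
noncomputable def spec (φ : A →ₐ[k] k) : A ⊗[k] R →ₐ[k] R :=
  (Algebra.TensorProduct.lid k R).toAlgHom.comp (Algebra.TensorProduct.map φ (AlgHom.id k R))

theorem spec_tmul (φ : A →ₐ[k] k) (a : A) (r : R) : spec φ (a ⊗ₜ[k] r) = φ a • r := by
  simp [spec]

theorem repr_spec {ι : Type*} (b : Basis ι k R) (φ : A →ₐ[k] k) (x : A ⊗[k] R) (i : ι) :
    b.repr (spec φ x) i = φ ((Algebra.TensorProduct.basis A b).repr x i) := by
  induction x using TensorProduct.induction_on with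
  | zero => simp
  | tmul a r =>
    rw [spec_tmul, Algebra.TensorProduct.basis_repr_tmul]
    simp only [map_smul, Finsupp.smul_apply, Finsupp.mapRange_apply, smul_eq_mul, map_mul,
      AlgHom.commutes, Algebra.algebraMap_self, RingHom.id_apply]
  | add x y hx hy => simp only [map_add, Finsupp.add_apply, hx, hy]

end Spec

end Groth.Agent.Lib.Helper9.GeomLib
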