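import Groth.Prelude.Def_FlatCA
import Mathlib.RingTheory.Ideal.MinimalPrime.Localization
import Mathlib.RingTheory.Localization.Ideal

/-!
# Helper lemmas on weakly associated primes and annihilators of elements of localized modules
-/

namespace Groth.Agent.Lib.Helper9.WeakAssLib

variable {R : Type*} [CommRing R] {M : Type*} [AddCommGroup M] [Module R M]

theorem minimalPrimes_of_le_of_le {I J p : Ideal R}
    (hp : p ∈ I.minimalPrimes) (hIJ : I ≤ J) (hJp : J ≤ p) : p ∈ J.minimalPrimes :=
  ⟨⟨hp.1.1, hJp⟩, fun _ hq hqp => hp.2 ⟨hq.1, hIJ.trans hq.2⟩ hqp⟩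

theorem mk_eq_zero_iff (S : Submonoid R) (m : M) (s : S) :
    LocalizedModule.mk m s = 0 ↔ ∃ t : S, (t : R) • m = 0 := by
  rw [IsLocalizedModule.mk_eq_mk', IsLocalizedModule.mk'_eq_zero']
  rfl

/-- The annihilator over `R` of `m/s`. -/
theorem mem_annR_mk (S : Submonoid R) (m : M) (s : S) (a : R) :
    a ∈ (Submodule.span R {LocalizedModule.mk m s}).annihilator ↔
      ∃ t : S, ((t : R) * a) • m = 0 := by
  rw [Submodule.mem_annihilator_span_singleton, LocalizedModule.smul'_mk, mk_eq_zero_iff]
  simp only [mul_smul]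

/-- The annihilator over `S⁻¹R` of `m/s` is the extension of the annihilator of `m`. -/
theorem annLoc_mk (S : Submonoid R) (m : M) (s : S) :
    (Submodule.span (Localization S) {LocalizedModule.mk m s}).annihilator =
      Ideal.map (algebraMap R (Localization S)) (Submodule.span R {m}).annihilator := by
  ext b
  obtain ⟨a, u, rfl⟩ := IsLocalization.exists_mk'_eq S b
  rw [IsLocalization.mk'_mem_map_algebraMap_iff S, Submodule.mem_annihilator_span_singleton,
    ← Localization.mk_eq_mk', LocalizedModule.mk_smul_mk, mk_eq_zero_iff]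
  constructor
  · rintro ⟨t, ht⟩
    exact ⟨t, t.2, by rw [Submodule.mem_annihilator_span_singleton, mul_smul]; exact ht⟩
  · rintro ⟨t, htS, ht⟩
    rw [Submodule.mem_annihilator_span_singleton, mul_smul] at ht
    exact ⟨⟨t, htS⟩, ht⟩

/-- The annihilator over `R` of an element of a localized module is the contraction of its
annihilator over `S⁻¹R`. -/
theorem annR_eq_comap (S : Submonoid R) (y : LocalizedModule S M) :
    (Submodule.span R {y}).annihilator =
      Ideal.comap (algebraMap R (Localization S))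
        (Submodule.span (Localization S) {y}).annihilator := by
  ext a
  rw [Ideal.mem_comap, Submodule.mem_annihilator_span_singleton,
    Submodule.mem_annihilator_span_singleton, algebraMap_smul]

theorem annR_mk_of_regular (S : Submonoid R) (hS : ∀ s ∈ S, IsSMulRegular M s) (m : M) (s : S) :
    (Submodule.span R {LocalizedModule.mk m s}).annihilator =
      (Submodule.span R {m}).annihilator := by
  ext a
  rw [mem_annR_mk, Submodule.mem_annihilator_span_singleton]
  constructor
  · rintro ⟨t, ht⟩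
    rw [mul_smul] at ht
    have h1 : (t : R) • (a • m) = (t : R) • (0 : M) := by rw [smul_zero]; exact ht
    exact hS t t.2 h1
  · intro h
    exact ⟨1, by rw [mul_smul, h, smul_zero]⟩

theorem exists_mul_pow_mem {I p : Ideal R} (hp : p ∈ I.minimalPrimes) {x : R} (hx : x ∈ p) :
    ∃ t : R, t ∉ p ∧ ∃ n : ℕ, t * x ^ n ∈ I := by
  haveI : p.IsPrime := hp.1.1
  by_contra hcon
  push Not at hcon
  let T : Submonoid R := p.primeCompl ⊔ Submonoid.powers x
  have hdisj : Disjoint (I : Set R) (T : Set R) := by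
    rw [Set.disjoint_left]
    intro y hy hyT
    rw [SetLike.mem_coe, Submonoid.mem_sup] at hyT
    obtain ⟨t, ht, z, ⟨n, rfl⟩, hty⟩ := hyT
    exact hcon t ht n (by rw [hty]; exact hy)
  obtain ⟨q, hq, hIq, hqT⟩ := Ideal.exists_le_prime_disjoint I T hdisj
  have hqp : q ≤ p := by
    intro y hy
    by_contra hyp
    exact Set.disjoint_left.mp hqT hy
      (SetLike.le_def.mp le_sup_left (show y ∈ p.primeCompl from hyp))
  have hpq : p ≤ q := hp.2 ⟨hq, hIq⟩ hqp
  exact Set.disjoint_left.mp hqT (hpq hx)
    (SetLike.le_def.mp le_sup_right (Submonoid.mem_powers x))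

/-- Saturation of an ideal with respect to the complement of a prime. -/
def sat (p I : Ideal R) [p.IsPrime] : Ideal R where
  carrier := {y | ∃ t, t ∉ p ∧ t * y ∈ I}
  add_mem' := by
    rintro a b ⟨t, ht, hta⟩ ⟨s, hs, hsb⟩
    refine ⟨t * s, fun h => (Ideal.IsPrime.mem_or_mem ‹_› h).elim ht hs, ?_⟩
    have : t * s * (a + b) = s * (t * a) + t * (s * b) := by ring
    rw [this]
    exact I.add_mem (I.mul_mem_left _ hta) (I.mul_mem_left _ hsb)
  zero_mem' := ⟨1, fun h => (Ideal.IsPrime.ne_top ‹_›) ((Ideal.eq_top_iff_one _).mpr h), by simp⟩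
  smul_mem' := by
    rintro c a ⟨t, ht, hta⟩
    refine ⟨t, ht, ?_⟩
    rw [smul_eq_mul, mul_left_comm]
    exact I.mul_mem_left _ hta

theorem mem_sat {p I : Ideal R} [p.IsPrime] {y : R} :
    y ∈ sat p I ↔ ∃ t, t ∉ p ∧ t * y ∈ I := Iff.rfl

theorem exists_ann_eq_of_fg {p : Ideal R} [hpp : p.IsPrime] (hfg : p.FG) {m : M}
    (hpm : p ∈ (Submodule.span R {m}).annihilator.minimalPrimes) :
    ∃ m' : M, p = (Submodule.span R {m'}).annihilator := by
  classical
  have h1 : p ≤ (sat p (Submodule.span R {m}).annihilator).radical := by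
    intro x hx
    obtain ⟨t, ht, n, hn⟩ := exists_mul_pow_mem hpm hx
    exact ⟨n, t, ht, hn⟩
  have hex : ∃ k, p ^ k ≤ sat p (Submodule.span R {m}).annihilator :=
    Ideal.exists_pow_le_of_le_radical_of_fg h1 hfg
  have hk := Nat.find_spec hex
  have hk0 : Nat.find hex ≠ 0 := by
    intro h0
    rw [h0, pow_zero, Ideal.one_eq_top] at hk
    obtain ⟨t, ht, htI⟩ := mem_sat.mp (hk (Submodule.mem_top : (1 : R) ∈ ⊤))
    rw [mul_one] at htI
    exact ht (hpm.1.2 htI)
  obtain ⟨j, hj⟩ : ∃ j, Nat.find hex = j + 1 := ⟨Nat.find hex - 1, by omega⟩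
  have hj' : ¬ p ^ j ≤ sat p (Submodule.span R {m}).annihilator :=
    Nat.find_min hex (by omega)
  obtain ⟨z, hzp, hzs⟩ := SetLike.not_le_iff_exists.mp hj'
  obtain ⟨s, hs⟩ := hfg
  have key : ∀ s' : Finset R, (s' : Set R) ⊆ p →
      ∃ t : R, t ∉ p ∧ ∀ g ∈ s', t * (g * z) ∈ (Submodule.span R {m}).annihilator := by
    intro s'
    induction s' using Finset.induction_on with
    | empty =>
      intro _
      exact ⟨1, fun h => hpp.ne_top ((Ideal.eq_top_iff_one _).mpr h), by simp⟩
    | insert a s' ha ih =>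
      intro hs'
      rw [Finset.coe_insert, Set.insert_subset_iff] at hs'
      obtain ⟨t, ht, hts⟩ := ih hs'.2
      have haz : a * z ∈ sat p (Submodule.span R {m}).annihilator := by
        apply hk
        rw [hj, pow_succ']
        exact Ideal.mul_mem_mul hs'.1 hzp
      obtain ⟨t', ht', hta⟩ := mem_sat.mp haz
      refine ⟨t * t', fun h => (hpp.mem_or_mem h).elim ht ht', ?_⟩
      intro g hg
      rw [Finset.mem_insert] at hg
      rcases hg with rfl | hg
      · rw [mul_assoc]
        exact Ideal.mul_mem_left _ _ hta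
      · rw [mul_right_comm]
        exact Ideal.mul_mem_right _ _ (hts g hg)
  obtain ⟨t, htp, ht⟩ := key s (by rw [← hs]; exact Ideal.subset_span)
  refine ⟨(t * z) • m, le_antisymm ?_ ?_⟩
  · rw [← hs, Ideal.span_le]
    intro g hg
    rw [SetLike.mem_coe, Submodule.mem_annihilator_span_singleton, ← mul_smul]
    have h2 := ht g hg
    rw [Submodule.mem_annihilator_span_singleton] at h2
    rw [← h2]
    congr 1
    ring
  · intro a ha
    rw [Submodule.mem_annihilator_span_singleton, ← mul_smul] at ha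
    by_contra hap
    apply hzs
    refine mem_sat.mpr ⟨a * t, fun h => (hpp.mem_or_mem h).elim hap htp, ?_⟩
    rw [Submodule.mem_annihilator_span_singleton, ← ha]
    congr 1
    ring

end Groth.Agent.Lib.Helper9.WeakAssLib
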