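import Mathlib
import Groth.Agent.Lib.Helper14.FlatStage.FFDescent

/-!
# fppf-local on the source: finite type / finite presentation (helper9)

`core`: a property of morphisms given by a ring hom property `Q` (stable under composition with
localizations at the source) which descends along faithfully flat finitely presented ring maps
descends along surjective flat lfp morphisms at the source.
-/

universe u
open CategoryTheory AlgebraicGeometry

namespace Groth.Agent.Lib.Helper9.FppfSource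

theorem fp_desc {R A B : Type u} [CommRing R] [CommRing A] [CommRing B] (φ : R →+* A)
    (ψ : A →+* B) (h1 : ψ.Flat) (h2 : ψ.FinitePresentation)
    (h3 : Function.Surjective (PrimeSpectrum.comap ψ))
    (h4 : (ψ.comp φ).FinitePresentation) : φ.FinitePresentation := by
  letI := φ.toAlgebra
  letI := ψ.toAlgebra
  letI := (ψ.comp φ).toAlgebra
  haveI : IsScalarTower R A B := IsScalarTower.of_algebraMap_eq (fun _ => rfl)
  haveI : Module.Flat A B := h1
  haveI : Module.FaithfullyFlat A B := Module.FaithfullyFlat.of_comap_surjective h3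
  haveI : Algebra.FinitePresentation A B := h2
  haveI : Algebra.FinitePresentation R B := h4
  exact Groth.Agent.Lib.Helper14.FlatStage.finitePresentation_of_ff (R := R) (A := A) (B := B)

theorem ft_desc {R A B : Type u} [CommRing R] [CommRing A] [CommRing B] (φ : R →+* A)
    (ψ : A →+* B) (h1 : ψ.Flat) (h2 : ψ.FinitePresentation)
    (h3 : Function.Surjective (PrimeSpectrum.comap ψ))
    (h4 : (ψ.comp φ).FiniteType) : φ.FiniteType := by
  letI := φ.toAlgebra
  letI := ψ.toAlgebra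
  letI := (ψ.comp φ).toAlgebra
  haveI : IsScalarTower R A B := IsScalarTower.of_algebraMap_eq (fun _ => rfl)
  haveI : Module.Flat A B := h1
  haveI : Module.FaithfullyFlat A B := Module.FaithfullyFlat.of_comap_surjective h3
  haveI : Algebra.FinitePresentation A B := h2
  haveI : Algebra.FiniteType R B := h4
  exact Groth.Agent.Lib.Helper14.FlatStage.finiteType_of_ff (R := R) (A := A) (B := B)

theorem fp_source : RingHom.StableUnderCompositionWithLocalizationAwaySource
    @RingHom.FinitePresentation := by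
  intro R S T _ _ _ _ r _ f hf
  exact RingHom.finitePresentation_stableUnderComposition _ _
    (RingHom.finitePresentation_holdsForLocalizationAway S r) hf

theorem ft_source : RingHom.StableUnderCompositionWithLocalizationAwaySource
    @RingHom.FiniteType := by
  intro R S T _ _ _ _ r _ f hf
  exact RingHom.finiteType_stableUnderComposition _ _
    (RingHom.finiteType_holdsForLocalizationAway S r) hf

theorem core' {P : MorphismProperty Scheme.{u}}
    {Q : ∀ {R S : Type u} [CommRing R] [CommRing S], (R →+* S) → Prop} [HasRingHomProperty P Q]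
    (hQ : RingHom.StableUnderCompositionWithLocalizationAwaySource @Q)
    (hdesc : ∀ {R A B : Type u} [CommRing R] [CommRing A] [CommRing B] (φ : R →+* A)
      (ψ : A →+* B), ψ.Flat → ψ.FinitePresentation →
      Function.Surjective (PrimeSpectrum.comap ψ) → Q (ψ.comp φ) → Q φ)
    {Y S : Scheme.{u}} (q : Y ⟶ S)
    (H : ∀ y : Y, ∃ (X : Scheme.{u}) (f : X ⟶ Y) (x : X), f x = y ∧ Flat f ∧
      LocallyOfFinitePresentation f ∧ P (f ≫ q)) : P q := by
  rw [HasRingHomProperty.iff_exists_appLE (P := P) hQ]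
  intro y
  obtain ⟨X, f, x, rfl, hfl, hfp, h⟩ := H y
  obtain ⟨U, hU, hqU, -⟩ := exists_isAffineOpen_mem_and_subset (x := q (f x)) (U := ⊤) trivial
  obtain ⟨V, hV, hxV, hVU⟩ :=
    exists_isAffineOpen_mem_and_subset (x := f x) (U := q ⁻¹ᵁ U) hqU
  obtain ⟨W, hW, hxW, hWV⟩ := exists_isAffineOpen_mem_and_subset (x := x) (U := f ⁻¹ᵁ V) hxV
  have hfW : IsOpen (f '' (W : Set X)) := f.isOpenMap _ W.2
  let O : Y.Opens := ⟨f '' (W : Set X), hfW⟩
  have hxO : f x ∈ O := ⟨x, hxW, rfl⟩
  obtain ⟨g, hg1, hg2⟩ := hV.exists_basicOpen_le (V := O) ⟨f x, hxO⟩ hxV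
  have hV' : IsAffineOpen (Y.basicOpen g) := hV.basicOpen g
  have hV'V : Y.basicOpen g ≤ V := Y.basicOpen_le g
  have hWV' : W ≤ f ⁻¹ᵁ V := hWV
  have hVU' : V ≤ q ⁻¹ᵁ U := hVU
  set g' := f.appLE V W hWV' g with hg'
  have hW' : IsAffineOpen (X.basicOpen g') := hW.basicOpen g'
  have hW'eq : X.basicOpen g' = W ⊓ f ⁻¹ᵁ (Y.basicOpen g) := Scheme.basicOpen_appLE f W V hWV' g
  have e2 : X.basicOpen g' ≤ f ⁻¹ᵁ (Y.basicOpen g) := by rw [hW'eq]; exact inf_le_right
  have e1 : Y.basicOpen g ≤ q ⁻¹ᵁ U := hV'V.trans hVU'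
  refine ⟨⟨U, hU⟩, ⟨Y.basicOpen g, hV'⟩, hg2, e1, ?_⟩
  have hcomp := HasRingHomProperty.appLE (P := P) (f ≫ q) h ⟨U, hU⟩ ⟨X.basicOpen g', hW'⟩
    (e2.trans ((TopologicalSpace.Opens.map f.base).map (homOfLE e1)).le)
  rw [← Scheme.Hom.appLE_comp_appLE f q U (Y.basicOpen g) (X.basicOpen g') e1 e2] at hcomp
  rw [CommRingCat.hom_comp] at hcomp
  refine hdesc _ _ ?_ ?_ ?_ hcomp
  · exact HasRingHomProperty.appLE (P := @Flat) f hfl ⟨_, hV'⟩ ⟨_, hW'⟩ e2
  · exact HasRingHomProperty.appLE (P := @LocallyOfFinitePresentation) f hfp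
      ⟨_, hV'⟩ ⟨_, hW'⟩ e2
  · intro 𝔭
    have hvV' : hV'.fromSpec 𝔭 ∈ Y.basicOpen g := by
      have : hV'.fromSpec 𝔭 ∈ Set.range hV'.fromSpec := ⟨𝔭, rfl⟩
      rw [hV'.range_fromSpec] at this
      exact this
    obtain ⟨w, hwW, hw⟩ := hg1 hvV'
    have hwW' : w ∈ X.basicOpen g' := by
      rw [hW'eq]
      refine ⟨hwW, ?_⟩
      show f w ∈ Y.basicOpen g
      rw [hw]; exact hvV'
    refine ⟨hW'.primeIdealOf ⟨w, hwW'⟩, ?_⟩
    apply hV'.fromSpec.isOpenEmbedding.injective
    have h := IsAffineOpen.SpecMap_appLE_fromSpec f hV' hW' e2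
    have h1 : (Spec.map (f.appLE (Y.basicOpen g) (X.basicOpen g') e2) ≫ hV'.fromSpec)
        (hW'.primeIdealOf ⟨w, hwW'⟩) = (hW'.fromSpec ≫ f) (hW'.primeIdealOf ⟨w, hwW'⟩) := by
      rw [h]
    rw [Scheme.Hom.comp_apply, Scheme.Hom.comp_apply, hW'.fromSpec_primeIdealOf, hw] at h1
    exact h1

theorem core {P : MorphismProperty Scheme.{u}}
    {Q : ∀ {R S : Type u} [CommRing R] [CommRing S], (R →+* S) → Prop} [HasRingHomProperty P Q]
    (hQ : RingHom.StableUnderCompositionWithLocalizationAwaySource @Q)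
    (hdesc : ∀ {R A B : Type u} [CommRing R] [CommRing A] [CommRing B] (φ : R →+* A)
      (ψ : A →+* B), ψ.Flat → ψ.FinitePresentation →
      Function.Surjective (PrimeSpectrum.comap ψ) → Q (ψ.comp φ) → Q φ)
    {X Y S : Scheme.{u}} (f : X ⟶ Y) (q : Y ⟶ S) [Surjective f] [hfl : Flat f]
    [hfp : LocallyOfFinitePresentation f] (h : P (f ≫ q)) : P q :=
  core' hQ hdesc q (fun y => by
    obtain ⟨x, rfl⟩ := f.surjective y
    exact ⟨X, f, x, rfl, hfl, hfp, h⟩)

/-- lfp is fppf-local on the source -/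
theorem lfp_of_comp {X Y S : Scheme.{u}} (f : X ⟶ Y) (q : Y ⟶ S) [Surjective f] [Flat f]
    [LocallyOfFinitePresentation f] [h : LocallyOfFinitePresentation (f ≫ q)] :
    LocallyOfFinitePresentation q :=
  core (P := @LocallyOfFinitePresentation) fp_source (fun φ ψ => fp_desc φ ψ) f q h

/-- lft is fppf-local on the source -/
theorem lft_of_comp {X Y S : Scheme.{u}} (f : X ⟶ Y) (q : Y ⟶ S) [Surjective f] [Flat f]
    [LocallyOfFinitePresentation f] [h : LocallyOfFiniteType (f ≫ q)] :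
    LocallyOfFiniteType q :=
  core (P := @LocallyOfFiniteType) ft_source (fun φ ψ => ft_desc φ ψ) f q h


/-- quasi-compactness descends along a surjection at the source -/
theorem quasiCompact_of_comp {X Y S : Scheme.{u}} (p : X ⟶ Y) (q : Y ⟶ S) [Surjective p]
    [h : QuasiCompact (p ≫ q)] : QuasiCompact q := by
  rw [quasiCompact_iff_forall_isAffineOpen]
  intro U hU
  have h1 := (quasiCompact_iff_forall_isAffineOpen.mp h) U hU
  have e : (q ⁻¹ᵁ U : Set Y) = p '' ((p ≫ q) ⁻¹ᵁ U : Set X) := by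
    ext y
    constructor
    · intro hy
      obtain ⟨x, rfl⟩ := p.surjective y
      exact ⟨x, hy, rfl⟩
    · rintro ⟨x, hx, rfl⟩
      exact hx
  rw [e]
  exact h1.image p.continuous

/-- quasi-separatedness descends along a quasi-compact surjection at the source -/
theorem quasiSeparated_of_comp {X Y S : Scheme.{u}} (p : X ⟶ Y) (q : Y ⟶ S) [Surjective p]
    [QuasiCompact p] [h : QuasiSeparated (p ≫ q)] : QuasiSeparated q := by
  rw [HasAffineProperty.eq_targetAffineLocally (P := @QuasiSeparated)]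
  intro U
  show QuasiSeparatedSpace ↥(q ⁻¹ᵁ U.1)
  refine (isQuasiSeparated_iff_quasiSeparatedSpace (q ⁻¹ᵁ U.1 : Set Y) (q ⁻¹ᵁ U.1).2).mp ?_
  have hX : IsQuasiSeparated ((p ≫ q) ⁻¹ᵁ U.1 : Set X) :=
    (p ≫ q).isQuasiSeparated_preimage U.2.isQuasiSeparated
  intro A B hA hA' hA'' hB hB' hB''
  have hpA : IsCompact (p ⁻¹' A) := p.isCompact_preimage (U := ⟨A, hA'⟩) hA''
  have hpB : IsCompact (p ⁻¹' B) := p.isCompact_preimage (U := ⟨B, hB'⟩) hB''
  have h1 := hX (p ⁻¹' A) (p ⁻¹' B) (fun x hx => hA hx) (hA'.preimage p.continuous) hpA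
    (fun x hx => hB hx) (hB'.preimage p.continuous) hpB
  have e : A ∩ B = p '' (p ⁻¹' A ∩ p ⁻¹' B) := by
    rw [← Set.preimage_inter, Set.image_preimage_eq _ p.surjective]
  rw [e]
  exact h1.image p.continuous

end Groth.Agent.Lib.Helper9.FppfSource
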