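import Mathlib
import Groth.Agent.Lib.Helper8.LocalCriterion

/-!
# Flatness over a ring with a nilpotent (maximal) ideal (helper9), universe polymorphic

* `flat_of_isNilpotent`: universe-polymorphic copy of Helper8's nilpotent local criterion.
* `injective_of_surjective_of_flat`: `I` nilpotent, `N` flat, `f : M → N` surjective and injective
  mod `I` ⟹ `f` injective.
* `injective_and_flat_coker`: EGA 0_III 10.2.4 for a nilpotent maximal ideal (no finiteness).
* `alpha`: socle trick: over a local ring with nilpotent maximal ideal, an endomorphism of a flat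
  module that is injective mod `I` is injective mod `𝔪`.
* `lemmaS`: `φ` injective iff injective mod `I`; then the cokernel is flat.
* `weaklyRegular_iff_and_flat`: weakly regular sequences on a flat module lift from `M/IM`.
* `lTensor_injective_of_residue`, `mem_map_ker_of_mul_mem`: base-change versions.
-/

set_option autoImplicit false
universe u v w

open TensorProduct
open scoped Pointwise

namespace Groth.Agent.Lib.Helper9.NilpFlat

open Groth.Agent.Lib.Helper8 (injective_of_three_by_three lTensor_baseChange_injective_iff)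

section Criterion

variable {A : Type u} [CommRing A] (I : Ideal A)
  {M K F : Type*} [AddCommGroup M] [AddCommGroup K] [AddCommGroup F]
  [Module A M] [Module A K] [Module A F]
  (ι : K →ₗ[A] F) (π : F →ₗ[A] M)

/-- Balancing, first direction: `Tor₁(A/I, M) = 0` computed in the first variable implies it is zero
computed through a presentation `K → F → M` with `F` flat. -/
theorem lTensor_quotient_injective (hι : Function.Injective ι) (hex : Function.Exact ι π)
    (hπ : Function.Surjective π) (H2 : Function.Injective (I.subtype.rTensor M)) :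
    Function.Injective (ι.lTensor (A ⧸ I)) :=
  injective_of_three_by_three (R := A)
    (ι.lTensor I) (π.lTensor I) (ι.lTensor A) (π.lTensor A) (ι.lTensor (A ⧸ I))
    (I.subtype.rTensor K) (I.mkQ.rTensor K) (I.subtype.rTensor F) (I.mkQ.rTensor F)
    (I.subtype.rTensor M)
    (by rw [LinearMap.lTensor_comp_rTensor, LinearMap.rTensor_comp_lTensor])
    (by rw [LinearMap.lTensor_comp_rTensor, LinearMap.rTensor_comp_lTensor])
    (by rw [LinearMap.lTensor_comp_rTensor, LinearMap.rTensor_comp_lTensor])
    (LinearMap.rTensor_surjective K (Submodule.mkQ_surjective I))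
    (fun x => (rTensor_exact K (LinearMap.exact_subtype_mkQ I)
      (Submodule.mkQ_surjective I)).apply_apply_eq_zero x)
    (rTensor_exact F (LinearMap.exact_subtype_mkQ I) (Submodule.mkQ_surjective I))
    (lTensor_exact I hex hπ)
    (fun x => (lTensor_exact A hex hπ).apply_apply_eq_zero x)
    (Module.Flat.lTensor_preserves_injective_linearMap ι hι)
    H2

/-- `Tor₁(N, M) = 0` (through the presentation) for every `A/I`-module `N`. -/
theorem lTensor_injective_of_module_quotient (hex : Function.Exact ι π)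
    (hπ : Function.Surjective π)
    (H1 : Module.Flat (A ⧸ I) ((A ⧸ I) ⊗[A] M))
    (H0 : Function.Injective (ι.lTensor (A ⧸ I)))
    (N : Type*) [AddCommGroup N] [Module A N] [Module (A ⧸ I) N] [IsScalarTower A (A ⧸ I) N] :
    Function.Injective (ι.lTensor N) := by
  rw [← lTensor_baseChange_injective_iff (B := A ⧸ I)]
  exact LinearMap.lTensor_injective_of_exact_of_flat (π.baseChange (A ⧸ I))
    (LinearMap.baseChange_surjective (A ⧸ I) hπ) (ι.baseChange (A ⧸ I)) H0
    (lTensor_exact (A ⧸ I) hex hπ) N

/-- Balancing, second direction (key lemma): if `P/i(N')` is killed by `I` then `N' ⊗ M → P ⊗ M` is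
injective. -/
theorem rTensor_injective_of_smul_le_range [Module.Flat A F]
    (hex : Function.Exact ι π) (hπ : Function.Surjective π)
    (H1 : Module.Flat (A ⧸ I) ((A ⧸ I) ⊗[A] M))
    (H0 : Function.Injective (ι.lTensor (A ⧸ I)))
    {N' P : Type*} [AddCommGroup N'] [AddCommGroup P] [Module A N'] [Module A P]
    (i : N' →ₗ[A] P) (hi : Function.Injective i)
    (hIP : I • (⊤ : Submodule A P) ≤ LinearMap.range i) :
    Function.Injective (i.rTensor M) := by
  have hM : Module.IsTorsionBySet A (P ⧸ LinearMap.range i) (I : Set A) := by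
    rintro x ⟨a, ha⟩
    obtain ⟨p, rfl⟩ := Submodule.mkQ_surjective _ x
    show a • (LinearMap.range i).mkQ p = 0
    rw [← map_smul, Submodule.mkQ_apply, Submodule.Quotient.mk_eq_zero]
    exact hIP (Submodule.smul_mem_smul ha Submodule.mem_top)
  let _ : Module (A ⧸ I) (P ⧸ LinearMap.range i) := hM.module
  have : IsScalarTower A (A ⧸ I) (P ⧸ LinearMap.range i) :=
    Module.IsTorsionBySet.isScalarTower hM
  have T0 := lTensor_injective_of_module_quotient I ι π hex hπ H1 H0 (P ⧸ LinearMap.range i)
  exact injective_of_three_by_three (R := A)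
    (i.rTensor K) ((LinearMap.range i).mkQ.rTensor K) (i.rTensor F)
    ((LinearMap.range i).mkQ.rTensor F) (i.rTensor M)
    (ι.lTensor N') (π.lTensor N') (ι.lTensor P) (π.lTensor P)
    (ι.lTensor (P ⧸ LinearMap.range i))
    (by rw [LinearMap.lTensor_comp_rTensor, LinearMap.rTensor_comp_lTensor])
    (by rw [LinearMap.lTensor_comp_rTensor, LinearMap.rTensor_comp_lTensor])
    (by rw [LinearMap.lTensor_comp_rTensor, LinearMap.rTensor_comp_lTensor])
    (LinearMap.lTensor_surjective N' hπ)
    (fun x => (lTensor_exact N' hex hπ).apply_apply_eq_zero x)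
    (lTensor_exact P hex hπ)
    (rTensor_exact K (LinearMap.exact_map_mkQ_range i) (Submodule.mkQ_surjective _))
    (fun x => (rTensor_exact F (LinearMap.exact_map_mkQ_range i)
      (Submodule.mkQ_surjective _)).apply_apply_eq_zero x)
    (Module.Flat.rTensor_preserves_injective_linearMap i hi)
    T0

end Criterion

section Main

variable {A : Type u} [CommRing A] (I : Ideal A) (M : Type v) [AddCommGroup M] [Module A M]

/-- `𝔟 ⊗ M → A ⊗ M` is injective. -/
def RInj (𝔟 : Ideal A) : Prop := Function.Injective (𝔟.subtype.rTensor M)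

theorem rInj_top : RInj M (⊤ : Ideal A) := by
  have h : ((⊤ : Ideal A).subtype.rTensor M) =
      ((LinearEquiv.rTensor M (Submodule.topEquiv : (⊤ : Ideal A) ≃ₗ[A] A)) : _ →ₗ[A] _) := by
    rw [LinearEquiv.coe_rTensor]
    rfl
  unfold RInj
  rw [h]
  exact (LinearEquiv.rTensor M (Submodule.topEquiv : (⊤ : Ideal A) ≃ₗ[A] A)).injective

variable {M}

/-- The local criterion of flatness for a nilpotent ideal. -/
theorem flat_of_isNilpotent (hI : IsNilpotent I)
    (H1 : Module.Flat (A ⧸ I) ((A ⧸ I) ⊗[A] M))
    (H2 : Function.Injective (I.subtype.rTensor M)) : Module.Flat A M := by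
  -- free presentation of `M`
  have hπ : Function.Surjective (Finsupp.linearCombination A (id : M → M)) :=
    Finsupp.linearCombination_surjective _ Function.surjective_id
  have hex : Function.Exact (LinearMap.ker (Finsupp.linearCombination A (id : M → M))).subtype
      (Finsupp.linearCombination A (id : M → M)) := LinearMap.exact_subtype_ker_map _
  have hι : Function.Injective
      (LinearMap.ker (Finsupp.linearCombination A (id : M → M))).subtype :=
    Submodule.subtype_injective _
  have H0 := lTensor_quotient_injective (M := M)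
    (K := LinearMap.ker (Finsupp.linearCombination A (id : M → M))) (F := M →₀ A) I
    (LinearMap.ker (Finsupp.linearCombination A (id : M → M))).subtype
    (Finsupp.linearCombination A (id : M → M)) hι hex hπ H2
  have step : ∀ 𝔞' 𝔟 : Ideal A, 𝔞' ≤ 𝔟 → I * 𝔟 ≤ 𝔞' → RInj M 𝔟 → RInj M 𝔞' := by
    intro 𝔞' 𝔟 hle hI𝔟 h𝔟
    have hj : Function.Injective ((Submodule.inclusion hle).rTensor M) := by
      apply rTensor_injective_of_smul_le_range (M := M)
        (K := LinearMap.ker (Finsupp.linearCombination A (id : M → M))) (F := M →₀ A) I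
        (LinearMap.ker (Finsupp.linearCombination A (id : M → M))).subtype
        (Finsupp.linearCombination A (id : M → M)) hex hπ H1 H0 (Submodule.inclusion hle)
        (Submodule.inclusion_injective hle)
      rw [Submodule.smul_le]
      intro a ha b _
      refine ⟨⟨a * b.1, hI𝔟 (Ideal.mul_mem_mul ha b.2)⟩, ?_⟩
      apply Subtype.ext
      rfl
    have hcomp : 𝔞'.subtype.rTensor M =
        (𝔟.subtype.rTensor M) ∘ₗ ((Submodule.inclusion hle).rTensor M) := by
      rw [← LinearMap.rTensor_comp, Submodule.subtype_comp_inclusion]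
    unfold RInj
    rw [hcomp]
    exact h𝔟.comp hj
  rw [Module.Flat.iff_rTensor_injective']
  intro 𝔞
  obtain ⟨n, hn⟩ := hI
  have key : ∀ k : ℕ, RInj M (𝔞 ⊔ I ^ k) := by
    intro k
    induction k with
    | zero =>
      have h0 : 𝔞 ⊔ I ^ 0 = ⊤ := by rw [pow_zero, Ideal.one_eq_top, sup_top_eq]
      rw [h0]; exact rInj_top M
    | succ k ih =>
      refine step _ _ (sup_le_sup_left (Ideal.pow_le_pow_right (Nat.le_succ k)) 𝔞) ?_ ih
      rw [Ideal.mul_sup]
      refine sup_le_sup Ideal.mul_le_right ?_
      rw [pow_succ']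
  have hfin := key n
  rw [hn, Ideal.zero_eq_bot, sup_bot_eq] at hfin
  exact hfin

end Main

/-- The kernel of a surjection of flat modules is flat. -/
theorem flat_of_exact_ker {R : Type u} [CommRing R] {M' M M'' : Type*} [AddCommGroup M']
    [AddCommGroup M] [AddCommGroup M''] [Module R M'] [Module R M] [Module R M'']
    (g : M' →ₗ[R] M) (f : M →ₗ[R] M'')
    (hg : Function.Injective g) (hf : Function.Surjective f) (H : Function.Exact g f)
    [Module.Flat R M] [Module.Flat R M''] : Module.Flat R M' := by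
  rw [Module.Flat.iff_rTensor_injective']
  intro 𝔞
  have h1 : Function.Injective (g.lTensor 𝔞) :=
    LinearMap.lTensor_injective_of_exact_of_flat f hf g hg H 𝔞
  have h2 : Function.Injective (𝔞.subtype.rTensor M) :=
    Module.Flat.iff_rTensor_injective'.mp inferInstance 𝔞
  rw [injective_iff_map_eq_zero]
  intro x hx
  apply h1
  rw [map_zero]
  apply h2
  rw [map_zero]
  have hc : (𝔞.subtype.rTensor M) ∘ₗ (g.lTensor 𝔞) = (g.lTensor R) ∘ₗ (𝔞.subtype.rTensor M') := by
    rw [LinearMap.rTensor_comp_lTensor, LinearMap.lTensor_comp_rTensor]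
  have h := congrArg (fun φ => φ x) hc
  simp only [LinearMap.comp_apply] at h
  rw [h, hx, map_zero]

section mu

variable {A : Type u} [CommRing A] (I : Ideal A) (X : Type v) [AddCommGroup X] [Module A X]

/-- The multiplication map `I ⊗ X → X`. -/
noncomputable def mu : I ⊗[A] X →ₗ[A] X :=
  (TensorProduct.lid A X).toLinearMap ∘ₗ (I.subtype.rTensor X)

lemma mu_tmul (a : I) (x : X) : mu I X (a ⊗ₜ x) = (a : A) • x := by
  simp [mu]

lemma mu_mem (y : I ⊗[A] X) : mu I X y ∈ I • (⊤ : Submodule A X) := by
  induction y using TensorProduct.induction_on with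
  | zero => simp
  | tmul a x =>
    rw [mu_tmul]
    exact Submodule.smul_mem_smul a.2 Submodule.mem_top
  | add y z hy hz =>
    rw [map_add]
    exact add_mem hy hz

lemma exists_mu_eq {w : X} (hw : w ∈ I • (⊤ : Submodule A X)) : ∃ v : I ⊗[A] X, mu I X v = w := by
  refine Submodule.smul_induction_on hw ?_ ?_
  · intro a ha x _
    exact ⟨(⟨a, ha⟩ : I) ⊗ₜ x, mu_tmul I X _ _⟩
  · rintro x y ⟨v₁, rfl⟩ ⟨v₂, rfl⟩
    exact ⟨v₁ + v₂, map_add _ _ _⟩

lemma mu_injective_iff :
    Function.Injective (mu I X) ↔ Function.Injective (I.subtype.rTensor X) := by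
  unfold mu
  rw [LinearMap.coe_comp]
  exact (TensorProduct.lid A X).injective.of_comp_iff _

lemma mu_lTensor {Y : Type w} [AddCommGroup Y] [Module A Y] (f : X →ₗ[A] Y) (v : I ⊗[A] X) :
    mu I Y ((f.lTensor I) v) = f (mu I X v) := by
  induction v using TensorProduct.induction_on with
  | zero => simp
  | tmul a x => simp [mu_tmul]
  | add y z hy hz => simp only [map_add, hy, hz]

end mu

lemma eq_zero_of_forall_mem_smul {A : Type u} [CommRing A] (I : Ideal A) (hI : IsNilpotent I)
    (X : Type v) [AddCommGroup X] [Module A X]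
    (h : ∀ x : X, x ∈ I • (⊤ : Submodule A X)) : ∀ x : X, x = 0 := by
  obtain ⟨n, hn⟩ := hI
  have key : ∀ k : ℕ, (⊤ : Submodule A X) ≤ I ^ k • ⊤ := by
    intro k
    induction k with
    | zero => rw [pow_zero, Ideal.one_eq_top, Submodule.top_smul]
    | succ k ih =>
      calc (⊤ : Submodule A X) ≤ I ^ k • ⊤ := ih
        _ ≤ I ^ k • (I • ⊤) := Submodule.smul_mono le_rfl (fun x _ => h x)
        _ = I ^ (k + 1) • ⊤ := by rw [pow_succ, mul_smul]
  intro x
  have h1 := key n (Submodule.mem_top (x := x))
  rw [hn, Ideal.zero_eq_bot, Submodule.bot_smul, Submodule.mem_bot] at h1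
  exact h1

lemma one_tmul_eq_zero_iff {A : Type u} [CommRing A] (I : Ideal A)
    (X : Type v) [AddCommGroup X] [Module A X] (x : X) :
    (1 : A ⧸ I) ⊗ₜ[A] x = 0 ↔ x ∈ I • (⊤ : Submodule A X) := by
  rw [← (TensorProduct.quotTensorEquivQuotSMul X I).map_eq_zero_iff,
    TensorProduct.quotTensorEquivQuotSMul_mk_one_tmul, Submodule.Quotient.mk_eq_zero]

lemma mem_map_smul_top_iff {A : Type u} {B : Type v} [CommRing A] [CommRing B] [Algebra A B]
    (I : Ideal A) {X : Type w} [AddCommGroup X] [Module A X] [Module B X] [IsScalarTower A B X]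
    {x : X} :
    x ∈ (I.map (algebraMap A B)) • (⊤ : Submodule B X) ↔ x ∈ I • (⊤ : Submodule A X) := by
  rw [← Submodule.restrictScalars_mem A, Ideal.smul_restrictScalars, Submodule.restrictScalars_top]

/-- `I` nilpotent, `N` flat, `f : M → N` surjective and "injective mod `I`" ⟹ `f` injective. -/
theorem injective_of_surjective_of_flat {A : Type u} [CommRing A] (I : Ideal A)
    (hI : IsNilpotent I) {M : Type v} {N : Type w} [AddCommGroup M] [Module A M] [AddCommGroup N]
    [Module A N] [Module.Flat A N] (f : M →ₗ[A] N) (hf : Function.Surjective f)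
    (hu : ∀ x : M, f x ∈ I • (⊤ : Submodule A N) → x ∈ I • (⊤ : Submodule A M)) :
    Function.Injective f := by
  rw [← LinearMap.ker_eq_bot, eq_bot_iff]
  have hK : ∀ k : LinearMap.ker f, k = 0 := by
    apply eq_zero_of_forall_mem_smul I hI
    intro k
    rw [← one_tmul_eq_zero_iff]
    have hinj : Function.Injective ((LinearMap.ker f).subtype.lTensor (A ⧸ I)) :=
      LinearMap.lTensor_injective_of_exact_of_flat f hf (LinearMap.ker f).subtype
        (Submodule.subtype_injective _) (LinearMap.exact_subtype_ker_map f) (A ⧸ I)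
    apply hinj
    rw [map_zero, LinearMap.lTensor_tmul, Submodule.subtype_apply, one_tmul_eq_zero_iff]
    apply hu
    rw [LinearMap.mem_ker.mp k.2]
    exact zero_mem _
  intro x hx
  have := hK ⟨x, hx⟩
  exact congrArg Subtype.val this

/-- EGA 0_III 10.2.4 for a nilpotent maximal ideal, no finiteness hypotheses. -/
theorem injective_and_flat_coker {A : Type u} [CommRing A] (I : Ideal A) [hmax : I.IsMaximal]
    (hI : IsNilpotent I) {M : Type v} {N : Type w} [AddCommGroup M] [Module A M] [AddCommGroup N]
    [Module A N] [Module.Flat A N] (u : M →ₗ[A] N)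
    (hu : ∀ x : M, u x ∈ I • (⊤ : Submodule A N) → x ∈ I • (⊤ : Submodule A M)) :
    Function.Injective u ∧ Module.Flat A (N ⧸ LinearMap.range u) := by
  have hπsurj : Function.Surjective (LinearMap.range u).mkQ := Submodule.mkQ_surjective _
  have hπu : (LinearMap.range u).mkQ ∘ₗ u = 0 := LinearMap.range_mkQ_comp u
  have hNinj : Function.Injective (mu I N) :=
    (mu_injective_iff I N).mpr (Module.Flat.iff_rTensor_injective'.mp inferInstance I)
  have hC : Module.Flat A (N ⧸ LinearMap.range u) := by
    refine flat_of_isNilpotent I hI ?_ ?_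
    · letI : Field (A ⧸ I) := Ideal.Quotient.field I
      infer_instance
    · rw [← mu_injective_iff, injective_iff_map_eq_zero]
      intro x hx
      obtain ⟨y, rfl⟩ := LinearMap.lTensor_surjective I hπsurj x
      rw [mu_lTensor] at hx
      have h1 : mu I N y ∈ LinearMap.range u := (Submodule.Quotient.mk_eq_zero _).mp hx
      obtain ⟨w, hw⟩ := h1
      have h2 : w ∈ I • (⊤ : Submodule A M) := hu w (by rw [hw]; exact mu_mem I N y)
      obtain ⟨v, rfl⟩ := exists_mu_eq I M h2
      have h3 : mu I N ((u.lTensor I) v) = mu I N y := by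
        rw [mu_lTensor]
        exact hw
      have h4 : (u.lTensor I) v = y := hNinj h3
      rw [← h4, ← LinearMap.comp_apply, ← LinearMap.lTensor_comp, hπu, LinearMap.lTensor_zero,
        LinearMap.zero_apply]
  refine ⟨?_, hC⟩
  haveI hIflat : Module.Flat A (LinearMap.range u) :=
    flat_of_exact_ker (LinearMap.range u).subtype (LinearMap.range u).mkQ
      (Submodule.subtype_injective _) hπsurj (LinearMap.exact_subtype_mkQ _)
  have hinj' : Function.Injective u.rangeRestrict := by
    apply injective_of_surjective_of_flat I hI u.rangeRestrict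
      (LinearMap.surjective_rangeRestrict u)
    intro x hx
    apply hu
    have h5 : (LinearMap.range u).subtype (u.rangeRestrict x) ∈
        (I • (⊤ : Submodule A (LinearMap.range u))).map (LinearMap.range u).subtype :=
      Submodule.mem_map_of_mem hx
    rw [Submodule.map_smul''] at h5
    exact Submodule.smul_mono le_rfl le_top h5
  intro x y hxy
  apply hinj'
  exact Subtype.ext hxy

/-- Socle trick. -/
theorem alpha {A : Type u} [CommRing A] [IsLocalRing A]
    (hnil : IsNilpotent (IsLocalRing.maximalIdeal A)) (I : Ideal A) (hI : I ≠ ⊤)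
    {M : Type v} [AddCommGroup M] [Module A M] [Module.Flat A M] (φ : M →ₗ[A] M)
    (hφ : ∀ x, φ x ∈ I • (⊤ : Submodule A M) → x ∈ I • (⊤ : Submodule A M)) :
    ∀ x, φ x ∈ (IsLocalRing.maximalIdeal A) • (⊤ : Submodule A M) →
      x ∈ (IsLocalRing.maximalIdeal A) • (⊤ : Submodule A M) := by
  have hle : I ≤ IsLocalRing.maximalIdeal A := IsLocalRing.le_maximalIdeal hI
  -- a socle element of `A/I`
  obtain ⟨t, htI, htm⟩ : ∃ t : A, t ∉ I ∧ ∀ a ∈ IsLocalRing.maximalIdeal A, a * t ∈ I := by
    obtain ⟨n, hn⟩ := hnil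
    have hex : ∃ k : ℕ, (IsLocalRing.maximalIdeal A) ^ k ≤ I := ⟨n, by rw [hn]; exact bot_le⟩
    classical
    have hk0 : Nat.find hex ≠ 0 := by
      intro h0
      have h1 := Nat.find_spec hex
      rw [h0, pow_zero, Ideal.one_eq_top, top_le_iff] at h1
      exact hI h1
    obtain ⟨j, hj⟩ := Nat.exists_eq_succ_of_ne_zero hk0
    have hjlt : j < Nat.find hex := by omega
    have hnot : ¬ (IsLocalRing.maximalIdeal A) ^ j ≤ I := Nat.find_min hex hjlt
    obtain ⟨t, ht, htI⟩ := SetLike.not_le_iff_exists.mp hnot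
    refine ⟨t, htI, ?_⟩
    intro a ha
    have h1 := Nat.find_spec hex
    rw [hj, Nat.succ_eq_add_one, pow_succ'] at h1
    exact h1 (Ideal.mul_mem_mul ha ht)
  intro x hx
  -- `t • φ x ∈ I M`
  have h1 : t • φ x ∈ I • (⊤ : Submodule A M) := by
    refine Submodule.smul_induction_on hx ?_ ?_
    · intro a ha y _
      rw [smul_smul, mul_comm]
      exact Submodule.smul_mem_smul (htm a ha) Submodule.mem_top
    · intro y z hy hz
      rw [smul_add]
      exact add_mem hy hz
  have h2 : t • x ∈ I • (⊤ : Submodule A M) := by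
    apply hφ
    rw [map_smul]
    exact h1
  -- flatness
  let f : A ⧸ I →ₗ[A] A ⧸ I := LinearMap.lsmul A (A ⧸ I) t
  have hex' := Module.Flat.rTensor_exact M (LinearMap.exact_subtype_ker_map f)
  have h3 : (f.rTensor M) ((1 : A ⧸ I) ⊗ₜ[A] x) = 0 := by
    rw [LinearMap.rTensor_tmul]
    show (t • (1 : A ⧸ I)) ⊗ₜ[A] x = 0
    rw [TensorProduct.smul_tmul, one_tmul_eq_zero_iff]
    exact h2
  obtain ⟨y, hy⟩ := (hex' _).mp h3
  let g : A ⧸ I →ₗ[A] A ⧸ IsLocalRing.maximalIdeal A :=
    (Ideal.Quotient.factorₐ A hle).toLinearMap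
  have hgK : g ∘ₗ (LinearMap.ker f).subtype = 0 := by
    apply LinearMap.ext
    rintro ⟨k, hk⟩
    obtain ⟨a, rfl⟩ := Ideal.Quotient.mk_surjective k
    rw [LinearMap.comp_apply, Submodule.subtype_apply, LinearMap.zero_apply]
    show Ideal.Quotient.factor hle (Ideal.Quotient.mk I a) = 0
    rw [Ideal.Quotient.factor_mk, Ideal.Quotient.eq_zero_iff_mem]
    by_contra ha
    have hunit : IsUnit a := by
      by_contra hnu
      exact ha ((IsLocalRing.mem_maximalIdeal a).mpr hnu)
    have h4 : t • (Ideal.Quotient.mk I a) = 0 := hk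
    have h5 : Ideal.Quotient.mk I (t * a) = 0 := by
      rw [← h4]
      rfl
    rw [Ideal.Quotient.eq_zero_iff_mem] at h5
    exact htI ((Ideal.mul_unit_mem_iff_mem I hunit).mp h5)
  have h6 : (g.rTensor M) ((1 : A ⧸ I) ⊗ₜ[A] x) = 0 := by
    rw [← hy, ← LinearMap.comp_apply, ← LinearMap.rTensor_comp, hgK, LinearMap.rTensor_zero,
      LinearMap.zero_apply]
  rw [LinearMap.rTensor_tmul] at h6
  have h7 : g (1 : A ⧸ I) = 1 := map_one (Ideal.Quotient.factorₐ A hle)
  rw [h7, one_tmul_eq_zero_iff] at h6
  exact h6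

/-- `φ` is injective iff it is injective modulo `I`; and then its cokernel is flat. -/
theorem lemmaS {A : Type u} [CommRing A] [IsLocalRing A]
    (hnil : IsNilpotent (IsLocalRing.maximalIdeal A)) (I : Ideal A) (hI : I ≠ ⊤)
    {M : Type v} [AddCommGroup M] [Module A M] [Module.Flat A M] (φ : M →ₗ[A] M) :
    (Function.Injective φ ↔
      ∀ x, φ x ∈ I • (⊤ : Submodule A M) → x ∈ I • (⊤ : Submodule A M)) ∧
    (Function.Injective φ → Module.Flat A (M ⧸ LinearMap.range φ)) := by
  have key : ∀ J : Ideal A, J ≠ ⊤ →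
      (∀ x, φ x ∈ J • (⊤ : Submodule A M) → x ∈ J • (⊤ : Submodule A M)) →
      Function.Injective φ ∧ Module.Flat A (M ⧸ LinearMap.range φ) := fun J hJ h =>
    injective_and_flat_coker (IsLocalRing.maximalIdeal A) hnil φ (alpha hnil J hJ φ h)
  have hbot : Function.Injective φ →
      ∀ x, φ x ∈ (⊥ : Ideal A) • (⊤ : Submodule A M) → x ∈ (⊥ : Ideal A) • (⊤ : Submodule A M) := by
    intro hinj x hx
    rw [Submodule.bot_smul, Submodule.mem_bot] at hx ⊢
    exact hinj (by rw [hx, map_zero])
  have hflat : Function.Injective φ → Module.Flat A (M ⧸ LinearMap.range φ) :=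
    fun hinj => (key ⊥ bot_ne_top (hbot hinj)).2
  refine ⟨⟨?_, fun h => (key I hI h).1⟩, hflat⟩
  intro hinj x hx
  haveI := hflat hinj
  have hinj2 : Function.Injective (φ.lTensor (A ⧸ I)) :=
    LinearMap.lTensor_injective_of_exact_of_flat (LinearMap.range φ).mkQ
      (Submodule.mkQ_surjective _) φ hinj (LinearMap.exact_map_mkQ_range φ) (A ⧸ I)
  rw [← one_tmul_eq_zero_iff]
  apply hinj2
  rw [map_zero, LinearMap.lTensor_tmul, one_tmul_eq_zero_iff]
  exact hx

section LemmaR

open RingTheory.Sequence

/-- Over a local ring with nilpotent maximal ideal: a sequence is weakly regular on a flat module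
`M` iff it is so on `M/IM`; and then the quotient is flat. -/
theorem weaklyRegular_iff_and_flat {A : Type u} [CommRing A] [IsLocalRing A]
    (hnil : IsNilpotent (IsLocalRing.maximalIdeal A)) (I : Ideal A) (hI : I ≠ ⊤)
    {S : Type w} [CommRing S] [Algebra A S] (rs : List S) :
    ∀ (M : Type v) [AddCommGroup M] [Module S M] [Module A M] [IsScalarTower A S M]
      [Module.Flat A M],
      (IsWeaklyRegular M rs ↔
        IsWeaklyRegular (M ⧸ (I.map (algebraMap A S)) • (⊤ : Submodule S M)) rs) ∧
      (IsWeaklyRegular M rs →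
        Module.Flat A (M ⧸ (Ideal.ofList rs) • (⊤ : Submodule S M))) := by
  induction rs with
  | nil =>
    intro M _ _ _ _ _
    refine ⟨⟨fun _ => IsWeaklyRegular.nil S _, fun _ => IsWeaklyRegular.nil S _⟩, fun _ => ?_⟩
    have h0 : (Ideal.ofList ([] : List S)) • (⊤ : Submodule S M) = ⊥ := by
      rw [Ideal.ofList_nil, Submodule.bot_smul]
    exact Module.Flat.of_linearEquiv ((Submodule.quotEquivOfEqBot _ h0).restrictScalars A)
  | cons r rs ih =>
    intro M _ _ _ _ _
    let φ : M →ₗ[A] M := (LinearMap.lsmul S M r).restrictScalars A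
    obtain ⟨hS1, hS2⟩ := lemmaS hnil I hI φ
    have hreg_iff : IsSMulRegular M r ↔
        IsSMulRegular (M ⧸ (I.map (algebraMap A S)) • (⊤ : Submodule S M)) r := by
      have h1 : IsSMulRegular M r ↔ Function.Injective φ := Iff.rfl
      rw [h1, hS1, isSMulRegular_quotient_iff_mem_of_smul_mem]
      constructor
      · intro h x hx
        rw [mem_map_smul_top_iff] at hx ⊢
        exact h x hx
      · intro h x hx
        have := h x (by rw [mem_map_smul_top_iff]; exact hx)
        rwa [mem_map_smul_top_iff] at this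
    have hrange : LinearMap.range φ = (r • (⊤ : Submodule S M)).restrictScalars A := by
      apply Submodule.ext
      intro x
      rw [LinearMap.mem_range, Submodule.restrictScalars_mem,
        Submodule.mem_smul_pointwise_iff_exists]
      constructor
      · rintro ⟨y, hy⟩
        exact ⟨y, Submodule.mem_top, hy⟩
      · rintro ⟨y, _, hy⟩
        exact ⟨y, hy⟩
    have hQflat : IsSMulRegular M r → Module.Flat A (QuotSMulTop r M) := by
      intro hr
      haveI := hS2 hr
      exact Module.Flat.of_linearEquiv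
        ((Submodule.quotEquivOfEq _ _ hrange).trans
          (Submodule.Quotient.restrictScalarsEquiv A (r • (⊤ : Submodule S M)))).symm
    -- the swap equivalence
    let p : Submodule S M := (I.map (algebraMap A S)) • (⊤ : Submodule S M)
    let q : Submodule S M := r • (⊤ : Submodule S M)
    have hp1 : q.map p.mkQ = r • (⊤ : Submodule S (M ⧸ p)) := by
      rw [Submodule.map_pointwise_smul, Submodule.map_top, Submodule.range_mkQ]
    have hq1 : p.map q.mkQ = (I.map (algebraMap A S)) • (⊤ : Submodule S (M ⧸ q)) := by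
      rw [Submodule.map_smul'', Submodule.map_top, Submodule.range_mkQ]
    let e : QuotSMulTop r (M ⧸ p) ≃ₗ[S]
        (QuotSMulTop r M) ⧸ (I.map (algebraMap A S)) • (⊤ : Submodule S (QuotSMulTop r M)) :=
      (Submodule.quotEquivOfEq _ _ hp1.symm) ≪≫ₗ
        (Submodule.quotientQuotientEquivQuotientSup p q) ≪≫ₗ
        (Submodule.quotEquivOfEq _ _ (sup_comm p q)) ≪≫ₗ
        (Submodule.quotientQuotientEquivQuotientSup q p).symm ≪≫ₗ
        (Submodule.quotEquivOfEq _ _ hq1)
    have hmain : IsSMulRegular M r → (IsWeaklyRegular (QuotSMulTop r M) rs ↔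
        IsWeaklyRegular (QuotSMulTop r (M ⧸ p)) rs) := by
      intro hr
      haveI := hQflat hr
      rw [(ih (QuotSMulTop r M)).1]
      exact (e.isWeaklyRegular_congr rs).symm
    refine ⟨?_, ?_⟩
    · rw [isWeaklyRegular_cons_iff, isWeaklyRegular_cons_iff]
      constructor
      · rintro ⟨hr, hrs⟩
        exact ⟨hreg_iff.mp hr, (hmain hr).mp hrs⟩
      · rintro ⟨hr, hrs⟩
        have hr' := hreg_iff.mpr hr
        exact ⟨hr', (hmain hr').mpr hrs⟩
    · intro h
      rw [isWeaklyRegular_cons_iff] at h
      obtain ⟨hr, hrs⟩ := h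
      haveI := hQflat hr
      haveI := (ih (QuotSMulTop r M)).2 hrs
      exact Module.Flat.of_linearEquiv
        ((Submodule.quotOfListConsSMulTopEquivQuotSMulTopInner M r rs).restrictScalars A)

end LemmaR

section BaseChange

/-- Base-change version: `A` an `R`-algebra with nilpotent maximal ideal `I = ker (g : A → κ)`, `S` a
flat `R`-module, `φ` an endomorphism of `S` with `κ ⊗ φ` injective; then `A ⊗ φ` is injective. -/
theorem lTensor_injective_of_residue {R : Type u} [CommRing R] {A : Type v} [CommRing A]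
    [Algebra R A] (I : Ideal A) [I.IsMaximal] (hI : IsNilpotent I)
    {κ : Type*} [AddCommGroup κ] [Module R κ] (g : A →ₗ[R] κ) (hgs : Function.Surjective g)
    (hg : ∀ a, g a = 0 ↔ a ∈ I)
    {S : Type w} [AddCommGroup S] [Module R S] [Module.Flat R S]
    (φ : S →ₗ[R] S) (hφ : Function.Injective (φ.lTensor κ)) :
    Function.Injective (φ.lTensor A) := by
  let u : A ⊗[R] S →ₗ[A] A ⊗[R] S := φ.baseChange A
  have hu_apply : ∀ w, u w = (φ.lTensor A) w := fun w => rfl
  let ρ : A ⊗[R] S →ₗ[R] κ ⊗[R] S := g.rTensor S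
  have hρa : ∀ a ∈ I, ∀ w' : A ⊗[R] S, ρ (a • w') = 0 := by
    intro a ha w'
    induction w' using TensorProduct.induction_on with
    | zero => rw [smul_zero, map_zero]
    | tmul b s =>
      rw [TensorProduct.smul_tmul', smul_eq_mul]
      show (g (a * b)) ⊗ₜ[R] s = 0
      rw [(hg (a * b)).mpr (I.mul_mem_right b ha), TensorProduct.zero_tmul]
    | add x y hx hy => rw [smul_add, map_add, hx, hy, add_zero]
  have hρI : ∀ w ∈ I • (⊤ : Submodule A (A ⊗[R] S)), ρ w = 0 := by
    intro w hw
    refine Submodule.smul_induction_on hw ?_ ?_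
    · intro a ha w' _
      exact hρa a ha w'
    · intro x y hx hy
      rw [map_add, hx, hy, add_zero]
  have hcomm : ∀ w, ρ (u w) = (φ.lTensor κ) (ρ w) := by
    intro w
    rw [hu_apply]
    show ((g.rTensor S) ∘ₗ (φ.lTensor A)) w = ((φ.lTensor κ) ∘ₗ (g.rTensor S)) w
    rw [LinearMap.rTensor_comp_lTensor, LinearMap.lTensor_comp_rTensor]
  let f : I →ₗ[R] A := I.subtype.restrictScalars R
  have hfg : Function.Exact f g := by
    intro a
    rw [hg]
    constructor
    · intro ha
      exact ⟨⟨a, ha⟩, rfl⟩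
    · rintro ⟨⟨b, hb⟩, rfl⟩
      exact hb
  have hex := rTensor_exact S hfg hgs
  have hrange : ∀ v : I ⊗[R] S, (f.rTensor S) v ∈ I • (⊤ : Submodule A (A ⊗[R] S)) := by
    intro v
    induction v using TensorProduct.induction_on with
    | zero => rw [map_zero]; exact zero_mem _
    | tmul a s =>
      rw [LinearMap.rTensor_tmul]
      have h1 : (f a) ⊗ₜ[R] s = (a : A) • ((1 : A) ⊗ₜ[R] s) := by
        rw [TensorProduct.smul_tmul', smul_eq_mul, mul_one]
        rfl
      rw [h1]
      exact Submodule.smul_mem_smul a.2 Submodule.mem_top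
    | add x y hx hy => rw [map_add]; exact add_mem hx hy
  have hu : ∀ w, u w ∈ I • (⊤ : Submodule A (A ⊗[R] S)) →
      w ∈ I • (⊤ : Submodule A (A ⊗[R] S)) := by
    intro w hw
    have h1 : (φ.lTensor κ) (ρ w) = 0 := by rw [← hcomm, hρI _ hw]
    have h2 : ρ w = 0 := hφ (by rw [h1, map_zero])
    obtain ⟨v, rfl⟩ := (hex w).mp h2
    exact hrange v
  have := (injective_and_flat_coker I hI u hu).1
  intro x y hxy
  exact this hxy

/-- `t` a non-zero-divisor on `κ ⊗_R S` ⟹ `t` is a non-zero-divisor on `S / P S`, where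
`P = ker (R → A)`. -/
theorem mem_map_ker_of_mul_mem {R : Type u} [CommRing R] {A : Type v} [CommRing A] [Algebra R A]
    (I : Ideal A) [I.IsMaximal] (hI : IsNilpotent I)
    {κ : Type*} [AddCommGroup κ] [Module R κ] (g : A →ₗ[R] κ) (hgs : Function.Surjective g)
    (hg : ∀ a, g a = 0 ↔ a ∈ I)
    {S : Type w} [CommRing S] [Algebra R S] [Module.Flat R S]
    (t : S) (ht : Function.Injective ((LinearMap.mulLeft R t).lTensor κ))
    {y : S} (hy : t * y ∈ (RingHom.ker (algebraMap R A)).map (algebraMap R S)) :
    y ∈ (RingHom.ker (algebraMap R A)).map (algebraMap R S) := by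
  have hu := lTensor_injective_of_residue I hI g hgs hg (LinearMap.mulLeft R t) ht
  have h1 : ∀ z ∈ (RingHom.ker (algebraMap R A)).map (algebraMap R S), (1 : A) ⊗ₜ[R] z = 0 := by
    intro z hz
    have hz' : z ∈ (RingHom.ker (algebraMap R A)) • (⊤ : Submodule R S) := by
      rw [Ideal.smul_top_eq_map]
      exact hz
    refine Submodule.smul_induction_on hz' ?_ ?_
    · intro a ha s _
      rw [TensorProduct.tmul_smul, TensorProduct.smul_tmul', ← Algebra.algebraMap_eq_smul_one,
        (RingHom.mem_ker).mp ha, TensorProduct.zero_tmul]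
    · intro x y hx hy
      rw [TensorProduct.tmul_add, hx, hy, add_zero]
  have h2 : (1 : A) ⊗ₜ[R] y = 0 := by
    apply hu
    rw [map_zero, LinearMap.lTensor_tmul, LinearMap.mulLeft_apply]
    exact h1 _ hy
  -- `R/P ↪ A`
  let P : Ideal R := RingHom.ker (algebraMap R A)
  have hPle : P ≤ LinearMap.ker (Algebra.linearMap R A) := by
    intro a ha
    rw [LinearMap.mem_ker, Algebra.linearMap_apply]
    exact (RingHom.mem_ker).mp ha
  let j : R ⧸ P →ₗ[R] A := Submodule.liftQ P (Algebra.linearMap R A) hPle
  have hj : Function.Injective j := by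
    rw [← LinearMap.ker_eq_bot]
    apply Submodule.ker_liftQ_eq_bot
    intro a ha
    rw [LinearMap.mem_ker, Algebra.linearMap_apply] at ha
    exact (RingHom.mem_ker).mpr ha
  have hJ : Function.Injective (j.rTensor S) :=
    Module.Flat.rTensor_preserves_injective_linearMap j hj
  have h3 : (1 : R ⧸ P) ⊗ₜ[R] y = 0 := by
    apply hJ
    rw [map_zero, LinearMap.rTensor_tmul]
    have : j (1 : R ⧸ P) = 1 := by
      show j (Submodule.Quotient.mk (1 : R)) = 1
      rw [Submodule.liftQ_apply, Algebra.linearMap_apply, map_one]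
    rw [this]
    exact h2
  rw [one_tmul_eq_zero_iff, Ideal.smul_top_eq_map] at h3
  exact h3

end BaseChange

end Groth.Agent.Lib.Helper9.NilpFlat
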