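import Mathlib
import Groth.Agent.Lib.Helper9.FlatCoker

/-!
# Exactness of a complex of flat modules from exactness modulo the maximal ideal (helper9)

`A → B` local homomorphism of Noetherian local rings, `F_e → … → F_0` finite `B`-modules flat over
`A`, exact mod `𝔪_A` in degrees `1..e`. Then it is exact in degrees `1..e` and `coker (F_1 → F_0)`
is flat over `A` (Stacks 00MK / EGA 0_III 10.2.4 iterated).
-/

set_option autoImplicit false
universe u

open TensorProduct

namespace Groth.Agent.Lib.Helper9.ComplexFlat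

open Groth.Agent.Lib.Helper9.FlatCoker

lemma map_mem_smul_top {A : Type*} [CommRing A] {X Y : Type*} [AddCommGroup X] [Module A X]
    [AddCommGroup Y] [Module A Y] (I : Ideal A) (g : X →ₗ[A] Y) {x : X}
    (hx : x ∈ I • (⊤ : Submodule A X)) : g x ∈ I • (⊤ : Submodule A Y) := by
  refine Submodule.smul_induction_on hx ?_ ?_
  · intro a ha y _
    rw [map_smul]
    exact Submodule.smul_mem_smul ha Submodule.mem_top
  · intro x y hx hy
    rw [map_add]
    exact add_mem hx hy

section complex

variable {A B : Type u} [CommRing A] [CommRing B]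
    [IsLocalRing A] [IsLocalRing B] [IsNoetherianRing A] [IsNoetherianRing B] [Algebra A B]
    [IsLocalHom (algebraMap A B)]
    (F : ℕ → Type u) [∀ j, AddCommGroup (F j)] [∀ j, Module B (F j)] [∀ j, Module A (F j)]
    [∀ j, IsScalarTower A B (F j)] [∀ j, Module.Finite B (F j)] [∀ j, Module.Flat A (F j)]
    (d : ∀ j, F (j + 1) →ₗ[B] F j) (hd : ∀ j x, d j (d (j + 1) x) = 0)

include hd in
theorem complex_step (k : ℕ) [Module.Flat A (F (k + 1) ⧸ LinearMap.range (d (k + 1)))]
    (hex : ∀ y : F (k + 1), d k y ∈ (IsLocalRing.maximalIdeal A) • (⊤ : Submodule A (F k)) →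
      ∃ z : F (k + 2), y - d (k + 1) z ∈
        (IsLocalRing.maximalIdeal A) • (⊤ : Submodule A (F (k + 1)))) :
    (∀ y : F (k + 1), d k y = 0 → ∃ z, d (k + 1) z = y) ∧
      Module.Flat A (F k ⧸ LinearMap.range (d k)) := by
  have hle : LinearMap.range (d (k + 1)) ≤ LinearMap.ker (d k) := by
    rintro _ ⟨x, rfl⟩
    exact LinearMap.mem_ker.mpr (hd k x)
  have hubar : ∀ y, (LinearMap.range (d (k + 1))).liftQ (d k) hle
      ((LinearMap.range (d (k + 1))).mkQ y) = d k y := fun y => rfl
  have key := injective_and_flat_coker (A := A) (B := B)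
    ((LinearMap.range (d (k + 1))).liftQ (d k) hle) (by
    intro x hx
    obtain ⟨y, rfl⟩ := Submodule.mkQ_surjective _ x
    rw [hubar] at hx
    obtain ⟨z, hz⟩ := hex y hx
    have h1 : (LinearMap.range (d (k + 1))).mkQ y =
        ((LinearMap.range (d (k + 1))).mkQ.restrictScalars A) (y - d (k + 1) z) := by
      rw [LinearMap.restrictScalars_apply, map_sub]
      have h0 : (LinearMap.range (d (k + 1))).mkQ (d (k + 1) z) = 0 :=
        (Submodule.Quotient.mk_eq_zero _).mpr (LinearMap.mem_range_self _ z)
      rw [h0, sub_zero]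
    rw [h1]
    exact map_mem_smul_top _ _ hz)
  have hrange : LinearMap.range ((LinearMap.range (d (k + 1))).liftQ (d k) hle) =
      LinearMap.range (d k) := Submodule.range_liftQ _ _ _
  constructor
  · intro y hy
    have h0 : (LinearMap.range (d (k + 1))).liftQ (d k) hle
        ((LinearMap.range (d (k + 1))).mkQ y) =
        (LinearMap.range (d (k + 1))).liftQ (d k) hle 0 := by
      rw [hubar, hy, map_zero]
    have h1 := key.1 h0
    exact (Submodule.Quotient.mk_eq_zero _).mp h1
  · have h2 := key.2
    rw [hrange] at h2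
    exact h2

include hd in
theorem complex_main (e : ℕ) (hzero : ∀ j, e < j → Subsingleton (F j))
    (hex : ∀ k, k + 1 ≤ e → ∀ y : F (k + 1),
      d k y ∈ (IsLocalRing.maximalIdeal A) • (⊤ : Submodule A (F k)) →
      ∃ z : F (k + 2), y - d (k + 1) z ∈
        (IsLocalRing.maximalIdeal A) • (⊤ : Submodule A (F (k + 1)))) :
    (∀ k, k + 1 ≤ e → ∀ y : F (k + 1), d k y = 0 → ∃ z, d (k + 1) z = y) ∧
      Module.Flat A (F 0 ⧸ LinearMap.range (d 0)) := by
  have G : ∀ n k, k + n = e → Module.Flat A (F k ⧸ LinearMap.range (d k)) := by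
    intro n
    induction n with
    | zero =>
      intro k hk
      haveI : Subsingleton (F (k + 1)) := hzero (k + 1) (by omega)
      have hbot : LinearMap.range (d k) = ⊥ := by
        rw [eq_bot_iff]
        rintro _ ⟨x, rfl⟩
        rw [Subsingleton.elim x 0, map_zero]
        exact zero_mem _
      exact Module.Flat.of_linearEquiv ((Submodule.quotEquivOfEqBot _ hbot).restrictScalars A)
    | succ n ih =>
      intro k hk
      haveI := ih (k + 1) (by omega)
      exact (complex_step F d hd k (hex k (by omega))).2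
  refine ⟨?_, G e 0 (by omega)⟩
  intro k hk
  haveI := G (e - (k + 1)) (k + 1) (by omega)
  exact (complex_step F d hd k (hex k hk)).1

end complex

end Groth.Agent.Lib.Helper9.ComplexFlat
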