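import Mathlib
import Groth.Agent.Lib.Helper9.FlatCoker

/-!
# Regular sequences and flatness (EGA 0_IV 15.1.14–15.1.21 style), helper9
-/

set_option autoImplicit false
universe u

open TensorProduct
open scoped Pointwise

namespace Groth.Agent.Lib.Helper9.RegFlat

open Groth.Agent.Lib.Helper9.FlatCoker

section swap

variable {B : Type*} [CommRing B] (N : Type*) [AddCommGroup N] [Module B N] (I : Ideal B) (f : B)

/-- `(N/IN)/f(N/IN) ≃ (N/fN)/I(N/fN)`. -/
noncomputable def quotSwap :
    QuotSMulTop f (N ⧸ (I • (⊤ : Submodule B N))) ≃ₗ[B]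
      (QuotSMulTop f N) ⧸ (I • (⊤ : Submodule B (QuotSMulTop f N))) :=
  Submodule.quotEquivOfEq (f • (⊤ : Submodule B (N ⧸ (I • (⊤ : Submodule B N)))))
      ((f • (⊤ : Submodule B N)).map (I • (⊤ : Submodule B N)).mkQ)
      (by rw [Submodule.map_pointwise_smul, Submodule.map_top, Submodule.range_mkQ]) ≪≫ₗ
    Submodule.quotientQuotientEquivQuotientSup (I • (⊤ : Submodule B N))
      (f • (⊤ : Submodule B N)) ≪≫ₗ
    Submodule.quotEquivOfEq _ _ (sup_comm _ _) ≪≫ₗ
    (Submodule.quotientQuotientEquivQuotientSup (f • (⊤ : Submodule B N))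
      (I • (⊤ : Submodule B N))).symm ≪≫ₗ
    Submodule.quotEquivOfEq ((I • (⊤ : Submodule B N)).map (f • (⊤ : Submodule B N)).mkQ)
      (I • (⊤ : Submodule B (QuotSMulTop f N)))
      (by rw [Submodule.map_smul'', Submodule.map_top, Submodule.range_mkQ])

end swap

/-- One step of EGA 0_IV 15.1.16: if `f` is regular on `M/𝔪M` and `M` is `A`-flat then `f` is
`M`-regular and `M/fM` is `A`-flat. -/
theorem regular_and_flat_quot {A B : Type u} [CommRing A] [CommRing B]
    [IsLocalRing A] [IsLocalRing B] [IsNoetherianRing A] [IsNoetherianRing B] [Algebra A B]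
    [IsLocalHom (algebraMap A B)] (M : Type u) [AddCommGroup M] [Module B M] [Module A M]
    [IsScalarTower A B M] [Module.Finite B M] [Module.Flat A M] (f : B)
    (hreg : IsSMulRegular
      (M ⧸ ((IsLocalRing.maximalIdeal A).map (algebraMap A B) • (⊤ : Submodule B M))) f) :
    IsSMulRegular M f ∧ Module.Flat A (QuotSMulTop f M) := by
  have key := injective_and_flat_coker (A := A) (B := B) (M := M) (N := M)
    (LinearMap.lsmul B M f) (by
    intro x hx
    rw [LinearMap.lsmul_apply] at hx
    have h1 : f • x ∈ ((IsLocalRing.maximalIdeal A).map (algebraMap A B)) •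
        (⊤ : Submodule B M) := (mem_map_smul_top_iff _).mpr hx
    have h2 : f • (Submodule.Quotient.mk x : M ⧸ ((IsLocalRing.maximalIdeal A).map
        (algebraMap A B) • (⊤ : Submodule B M))) = f • 0 := by
      rw [smul_zero, ← Submodule.Quotient.mk_smul, Submodule.Quotient.mk_eq_zero]
      exact h1
    have h3 := hreg h2
    exact (mem_map_smul_top_iff _).mp ((Submodule.Quotient.mk_eq_zero _).mp h3))
  have hrange : LinearMap.range (LinearMap.lsmul B M f) = f • (⊤ : Submodule B M) := by
    ext y
    rw [LinearMap.mem_range, Submodule.mem_smul_pointwise_iff_exists]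
    constructor
    · rintro ⟨x, rfl⟩
      exact ⟨x, Submodule.mem_top, rfl⟩
    · rintro ⟨x, -, rfl⟩
      exact ⟨x, rfl⟩
  refine ⟨fun x y h => key.1 h, ?_⟩
  have h2 := key.2
  rw [hrange] at h2
  exact h2

/-- If `M/R` is `A`-flat then `R ∩ IM = IR`. -/
theorem mem_smul_of_flat_quotient {A B : Type u} [CommRing A] [CommRing B] [Algebra A B]
    {M : Type u} [AddCommGroup M] [Module A M] [Module B M] [IsScalarTower A B M]
    (I : Ideal A) (R : Submodule B M) [Module.Flat A (M ⧸ R)] {y : M} (hyR : y ∈ R)
    (hy : y ∈ I • (⊤ : Submodule A M)) : y ∈ (I.map (algebraMap A B)) • R := by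
  have hQinj : Function.Injective (mu I (M ⧸ R)) :=
    (mu_injective_iff I (M ⧸ R)).mpr (Module.Flat.iff_rTensor_injective'.mp inferInstance I)
  let π : M →ₗ[A] M ⧸ R := R.mkQ.restrictScalars A
  let ι : R →ₗ[A] M := R.subtype.restrictScalars A
  have hπsurj : Function.Surjective π := Submodule.mkQ_surjective R
  have hex : Function.Exact ι π := by
    intro m
    constructor
    · intro hm
      have h1 : m ∈ R := (Submodule.Quotient.mk_eq_zero R).mp hm
      exact ⟨⟨m, h1⟩, rfl⟩
    · rintro ⟨⟨m, hm⟩, rfl⟩
      exact (Submodule.Quotient.mk_eq_zero R).mpr hm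
  obtain ⟨v, hv⟩ := exists_mu_eq I M hy
  have h1 : mu I (M ⧸ R) (π.lTensor I v) = 0 := by
    rw [mu_lTensor, hv]
    exact (Submodule.Quotient.mk_eq_zero R).mpr hyR
  have h2 : π.lTensor I v = 0 := hQinj (by rw [h1, map_zero])
  obtain ⟨w, hw⟩ := (lTensor_exact (↥I) hex hπsurj v).mp h2
  have h3 : y = ι (mu I R w) := by rw [← hv, ← hw, mu_lTensor]
  rw [h3]
  have key : ∀ w : I ⊗[A] R, ((mu I R w : R) : M) ∈ (I.map (algebraMap A B)) • R := by
    intro w
    induction w using TensorProduct.induction_on with
    | zero =>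
      rw [map_zero]
      exact zero_mem _
    | tmul a r =>
      rw [mu_tmul]
      show ((a : A) • (r : M)) ∈ _
      rw [← algebraMap_smul B (a : A) (r : M)]
      exact Submodule.smul_mem_smul (Ideal.mem_map_of_mem _ a.2) r.2
    | add x y hx hy =>
      rw [map_add]
      exact add_mem hx hy
  exact key w

/-- `𝔪_A B ⊆ rad B` for a local homomorphism. -/
theorem map_maximalIdeal_le_jacobson {A B : Type*} [CommRing A] [CommRing B] [IsLocalRing A]
    [IsLocalRing B] [Algebra A B] [IsLocalHom (algebraMap A B)] :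
    (IsLocalRing.maximalIdeal A).map (algebraMap A B) ≤ Ideal.jacobson ⊥ := by
  rw [IsLocalRing.jacobson_eq_maximalIdeal ⊥ bot_ne_top]
  have hloc : IsLocalHom (algebraMap A B) := inferInstance
  exact ((IsLocalRing.local_hom_TFAE (algebraMap A B)).out 0 2).mp hloc

section muB

variable {A B : Type u} [CommRing A] [CommRing B] [Algebra A B] (I : Ideal A)
  (X : Type u) [AddCommGroup X] [Module A X] [Module B X] [IsScalarTower A B X]

/-- The `B`-linear multiplication map `X ⊗ I → X`. -/
noncomputable def muB : X ⊗[A] I →ₗ[B] X :=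
  (TensorProduct.AlgebraTensorModule.rid A B X).toLinearMap ∘ₗ
    TensorProduct.AlgebraTensorModule.map (LinearMap.id : X →ₗ[B] X) I.subtype

lemma muB_tmul (x : X) (a : I) : muB (B := B) I X (x ⊗ₜ a) = (a : A) • x := by
  simp [muB]

lemma muB_comm (z : I ⊗[A] X) : muB (B := B) I X (TensorProduct.comm A I X z) = mu I X z := by
  induction z using TensorProduct.induction_on with
  | zero => simp
  | tmul a x => simp [muB_tmul, mu_tmul]
  | add y z hy hz => simp only [map_add, hy, hz]

lemma muB_injective_of_flat [Module.Flat A X] : Function.Injective (muB (B := B) I X) := by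
  have h1 : Function.Injective (mu I X) :=
    (mu_injective_iff I X).mpr (Module.Flat.iff_rTensor_injective'.mp inferInstance I)
  have h2 : ∀ z, muB (B := B) I X z = mu I X ((TensorProduct.comm A I X).symm z) := by
    intro z
    rw [← muB_comm (B := B), LinearEquiv.apply_symm_apply]
  intro z w hzw
  rw [h2, h2] at hzw
  exact (TensorProduct.comm A I X).symm.injective (h1 hzw)

lemma rTensor_injective_of_muB (h : Function.Injective (muB (B := B) I X)) :
    Function.Injective (I.subtype.rTensor X) := by
  rw [← mu_injective_iff]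
  intro z w hzw
  rw [← muB_comm (B := B), ← muB_comm (B := B)] at hzw
  exact (TensorProduct.comm A I X).injective (h hzw)

lemma muB_rTensor {Y : Type u} [AddCommGroup Y] [Module A Y] [Module B Y] [IsScalarTower A B Y]
    (g : X →ₗ[A] Y) (z : X ⊗[A] I) :
    muB (B := B) I Y (g.rTensor I z) = g (muB (B := B) I X z) := by
  induction z using TensorProduct.induction_on with
  | zero => simp
  | tmul x a => simp [muB_tmul]
  | add y z hy hz => simp only [map_add, hy, hz]

end muB

/-- If `f ∈ 𝔪_B` is `M`-regular and `M/fM` is `A`-flat then `M` is `A`-flat. -/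
theorem flat_of_flat_quotSMulTop {A B : Type u} [CommRing A] [CommRing B]
    [IsLocalRing A] [IsLocalRing B] [IsNoetherianRing A] [IsNoetherianRing B] [Algebra A B]
    [IsLocalHom (algebraMap A B)] (M : Type u) [AddCommGroup M] [Module B M] [Module A M]
    [IsScalarTower A B M] [Module.Finite B M] (f : B) (hf : f ∈ IsLocalRing.maximalIdeal B)
    (hreg : IsSMulRegular M f) [Module.Flat A (QuotSMulTop f M)] : Module.Flat A M := by
  refine Groth.Agent.Lib.Helper8.flat_of_local_criterion_of_finite (A := A) (B := B)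
    (IsLocalRing.maximalIdeal A) map_maximalIdeal_le_jacobson M ?_ ?_
  · letI : Field (A ⧸ IsLocalRing.maximalIdeal A) := Ideal.Quotient.field _
    infer_instance
  · apply rTensor_injective_of_muB (B := B)
    rw [← LinearMap.ker_eq_bot]
    haveI : Module.Finite B (M ⊗[A] (IsLocalRing.maximalIdeal A)) :=
      Groth.Agent.Lib.Helper8.finite_tensor M (IsLocalRing.maximalIdeal A)
    haveI : IsNoetherian B (M ⊗[A] (IsLocalRing.maximalIdeal A)) :=
      isNoetherian_of_isNoetherianRing_of_finite B _
    have hfg : (LinearMap.ker (muB (B := B) (IsLocalRing.maximalIdeal A) M)).FG :=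
      IsNoetherian.noetherian _
    apply Submodule.eq_bot_of_le_smul_of_le_jacobson_bot (Ideal.span {f}) _ hfg ?_ ?_
    · rw [Submodule.ideal_span_singleton_smul]
      intro t ht
      rw [LinearMap.mem_ker] at ht
      let π : M →ₗ[A] QuotSMulTop f M := (Submodule.mkQ _).restrictScalars A
      let φ : M →ₗ[A] M := (LinearMap.lsmul B M f).restrictScalars A
      have hπsurj : Function.Surjective π := Submodule.mkQ_surjective _
      have hex : Function.Exact φ π := by
        intro x
        constructor
        · intro hx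
          have h1 : x ∈ f • (⊤ : Submodule B M) := (Submodule.Quotient.mk_eq_zero _).mp hx
          obtain ⟨y, -, rfl⟩ := (Submodule.mem_smul_pointwise_iff_exists _ _ _).mp h1
          exact ⟨y, rfl⟩
        · rintro ⟨y, rfl⟩
          exact (Submodule.Quotient.mk_eq_zero _).mpr
            (Submodule.smul_mem_pointwise_smul y f ⊤ Submodule.mem_top)
      have h1 : muB (B := B) (IsLocalRing.maximalIdeal A) (QuotSMulTop f M)
          (π.rTensor (IsLocalRing.maximalIdeal A) t) = 0 := by
        rw [muB_rTensor, ht, map_zero]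
      have h2 : π.rTensor (IsLocalRing.maximalIdeal A) t = 0 :=
        muB_injective_of_flat (B := B) (IsLocalRing.maximalIdeal A) (QuotSMulTop f M)
          (by rw [h1, map_zero])
      obtain ⟨t', ht'⟩ := (rTensor_exact (↥(IsLocalRing.maximalIdeal A)) hex hπsurj t).mp h2
      have h3 : ∀ z : M ⊗[A] (IsLocalRing.maximalIdeal A),
          φ.rTensor (IsLocalRing.maximalIdeal A) z = f • z := by
        intro z
        induction z using TensorProduct.induction_on with
        | zero => simp
        | tmul x a =>
          rw [LinearMap.rTensor_tmul, TensorProduct.smul_tmul']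
          rfl
        | add y z hy hz => rw [map_add, hy, hz, smul_add]
      rw [h3] at ht'
      have h4 : muB (B := B) (IsLocalRing.maximalIdeal A) M t' = 0 := by
        apply hreg
        show f • muB (B := B) (IsLocalRing.maximalIdeal A) M t' = f • 0
        rw [smul_zero, ← map_smul, ht', ht]
      rw [← ht']
      exact Submodule.smul_mem_pointwise_smul t' f _ (LinearMap.mem_ker.mpr h4)
    · rw [IsLocalRing.jacobson_eq_maximalIdeal ⊥ bot_ne_top, Ideal.span_singleton_le_iff_mem]
      exact hf

section muSup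

variable {A : Type u} [CommRing A] (M : Type u) [AddCommGroup M] [Module A M]

lemma mu_injective_of_eq_bot (I : Ideal A) (hI : I = ⊥) : Function.Injective (mu I M) := by
  subst hI
  have hz : ∀ z : ((⊥ : Ideal A) : Type u) ⊗[A] M, z = 0 := by
    intro z
    induction z using TensorProduct.induction_on with
    | zero => rfl
    | tmul a y =>
      have ha : a = 0 := Subtype.ext ((Submodule.mem_bot A).mp a.2)
      rw [ha, TensorProduct.zero_tmul]
    | add x y hx hy => rw [hx, hy, add_zero]
  intro x y _
  rw [hz x, hz y]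

lemma mu_rTensor_inclusion {I I' : Ideal A} (h : I ≤ I') (z : I ⊗[A] M) :
    mu I' M ((Submodule.inclusion h).rTensor M z) = mu I M z := by
  induction z using TensorProduct.induction_on with
  | zero => simp
  | tmul a x => simp [mu_tmul]
  | add y z hy hz => simp only [map_add, hy, hz]

/-- `Tor₁(A/I, M) = 0` and `f` regular on `M/IM` imply `Tor₁(A/(I + f), M) = 0`. -/
theorem mu_injective_sup_span (I : Ideal A) (f : A) (hI : Function.Injective (mu I M))
    (hf : IsSMulRegular (M ⧸ I • (⊤ : Submodule A M)) f) :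
    Function.Injective (mu (I ⊔ Ideal.span {f}) M) := by
  have hle : I ≤ I ⊔ Ideal.span {f} := le_sup_left
  have hfmem : f ∈ I ⊔ Ideal.span {f} :=
    Ideal.mem_sup_right (Ideal.mem_span_singleton_self f)
  have decomp : ∀ z : (I ⊔ Ideal.span {f} : Ideal A) ⊗[A] M, ∃ z₀ : I ⊗[A] M, ∃ x : M,
      z = (Submodule.inclusion hle).rTensor M z₀ +
        (⟨f, hfmem⟩ : (I ⊔ Ideal.span {f} : Ideal A)) ⊗ₜ[A] x := by
    intro z
    induction z using TensorProduct.induction_on with
    | zero => exact ⟨0, 0, by simp⟩
    | tmul a' y =>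
      obtain ⟨a, ha, b, hb, hab⟩ := Submodule.mem_sup.mp a'.2
      obtain ⟨c, rfl⟩ := Ideal.mem_span_singleton'.mp hb
      refine ⟨(⟨a, ha⟩ : I) ⊗ₜ[A] y, c • y, ?_⟩
      rw [LinearMap.rTensor_tmul, ← TensorProduct.smul_tmul, ← TensorProduct.add_tmul]
      congr 1
      apply Subtype.ext
      simp only [Submodule.coe_add, Submodule.coe_inclusion, Submodule.coe_smul, smul_eq_mul]
      exact hab.symm
    | add z₁ z₂ h₁ h₂ =>
      obtain ⟨u₁, x₁, e₁⟩ := h₁
      obtain ⟨u₂, x₂, e₂⟩ := h₂
      refine ⟨u₁ + u₂, x₁ + x₂, ?_⟩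
      rw [e₁, e₂, map_add, TensorProduct.tmul_add]
      abel
  have hfw : ∀ w : I ⊗[A] M, (⟨f, hfmem⟩ : (I ⊔ Ideal.span {f} : Ideal A)) ⊗ₜ[A] (mu I M w) =
      (Submodule.inclusion hle).rTensor M (f • w) := by
    intro w
    induction w using TensorProduct.induction_on with
    | zero => simp
    | tmul a y =>
      rw [mu_tmul, TensorProduct.smul_tmul', LinearMap.rTensor_tmul, ← TensorProduct.smul_tmul]
      congr 1
      apply Subtype.ext
      simp only [Submodule.coe_inclusion, Submodule.coe_smul, smul_eq_mul]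
      exact mul_comm _ _
    | add x y hx hy => rw [map_add, TensorProduct.tmul_add, hx, hy, smul_add, map_add]
  rw [injective_iff_map_eq_zero]
  intro z hz
  obtain ⟨z₀, x, rfl⟩ := decomp z
  rw [map_add, mu_rTensor_inclusion, mu_tmul] at hz
  have hx1 : f • x ∈ I • (⊤ : Submodule A M) := by
    have : f • x = - mu I M z₀ := eq_neg_of_add_eq_zero_right hz
    rw [this]
    exact neg_mem (mu_mem I M z₀)
  have hx2 : x ∈ I • (⊤ : Submodule A M) := by
    have h2 : f • (Submodule.Quotient.mk x : M ⧸ I • (⊤ : Submodule A M)) = f • 0 := by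
      rw [smul_zero, ← Submodule.Quotient.mk_smul, Submodule.Quotient.mk_eq_zero]
      exact hx1
    exact (Submodule.Quotient.mk_eq_zero _).mp (hf h2)
  obtain ⟨w, rfl⟩ := exists_mu_eq I M hx2
  rw [hfw, ← map_add]
  have h0 : z₀ + f • w = 0 := by
    apply hI
    rw [map_add, map_smul, map_zero]
    exact hz
  rw [h0, map_zero]

/-- A weakly `M`-regular sequence generates ideals `J` with `Tor₁(A/J, M) = 0`. -/
theorem mu_injective_ofList (fs : List A) (h : RingTheory.Sequence.IsWeaklyRegular M fs) :
    ∀ i ≤ fs.length, Function.Injective (mu (Ideal.ofList (fs.take i)) M) := by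
  intro i
  induction i with
  | zero =>
    intro _
    apply mu_injective_of_eq_bot
    rw [List.take_zero, Ideal.ofList_nil]
  | succ j ih =>
    intro hj
    have hlt : j < fs.length := hj
    have hreg := h.regular_mod_prev j hlt
    have key := mu_injective_sup_span M (Ideal.ofList (fs.take j)) fs[j] (ih (le_of_lt hlt)) hreg
    have e : Ideal.ofList (fs.take (j + 1)) = Ideal.ofList (fs.take j) ⊔ Ideal.span {fs[j]} := by
      rw [List.take_succ_eq_append_getElem hlt, Ideal.ofList_append, Ideal.ofList_singleton]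
    rw [e]
    exact key

end muSup

end Groth.Agent.Lib.Helper9.RegFlat
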