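import Mathlib
import Groth.Agent.Lib.Helper8.LocalCriterion
import Groth.Agent.Lib.Helper8.LocalCriterion3
import Groth.Agent.Lib.Helper9.FlatCoker
import Groth.Agent.Lib.Helper9.RegFlat
import Groth.Agent.Lib.Helper4.Depth

/-!
# Flatness from a detecting family of maps to flat modules (helper9)

`flat_of_detecting_family`: `A` Noetherian with maximal ideal `m`, `B` a Noetherian `A`-algebra with
`mB ⊆ rad B`, `M` a finite `B`-module, `uᵢ : M → Fᵢ` `A`-linear maps to flat `A`-modules which
jointly detect the elements of `κ ⊗ M`.  Then `M` is flat over `A`.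

`flat_of_flatAt_off_of_regular`: Kollár-type criterion: flat off `V(J)` and some element of `J`
regular on the closed fibre implies flat.
-/

set_option autoImplicit false
universe u

open TensorProduct
open scoped Pointwise

namespace Groth.Agent.Lib.Helper9.DetectFlat

open Groth.Agent.Lib.Helper9.FlatCoker Groth.Agent.Lib.Helper9.RegFlat

section field

variable {κ : Type u} [Field κ] {W N : Type u} [AddCommGroup W] [Module κ W] [AddCommGroup N]
  [Module κ N] {ι : Type*} {N' : ι → Type u} [∀ i, AddCommGroup (N' i)] [∀ i, Module κ (N' i)]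

theorem field_detect (g : ∀ i, N →ₗ[κ] N' i) (hdet : ∀ y : N, (∀ i, g i y = 0) → y = 0)
    (w : W ⊗[κ] N) (hw : ∀ i, (g i).lTensor W w = 0) : w = 0 := by
  classical
  let b := Module.Free.chooseBasis κ W
  have nat : ∀ (i : ι) (w : W ⊗[κ] N) (j : Module.Free.ChooseBasisIndex κ W),
      (TensorProduct.equivFinsuppOfBasisLeft b ((g i).lTensor W w)) j =
        g i ((TensorProduct.equivFinsuppOfBasisLeft b w) j) := by
    intro i w j
    induction w using TensorProduct.induction_on with
    | zero => simp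
    | tmul x n =>
      rw [LinearMap.lTensor_tmul, TensorProduct.equivFinsuppOfBasisLeft_apply_tmul_apply,
        TensorProduct.equivFinsuppOfBasisLeft_apply_tmul_apply, map_smul]
    | add x y hx hy => simp only [map_add, Finsupp.add_apply, hx, hy]
  have h0 : TensorProduct.equivFinsuppOfBasisLeft b w = 0 := by
    ext j
    rw [Finsupp.zero_apply]
    apply hdet
    intro i
    rw [← nat, hw i, map_zero, Finsupp.zero_apply]
  exact (TensorProduct.equivFinsuppOfBasisLeft b).injective (by rw [h0, map_zero])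

end field

section comm

variable {A : Type*} [CommRing A] {V V' M F : Type*} [AddCommGroup V] [AddCommGroup V']
  [AddCommGroup M] [AddCommGroup F] [Module A V] [Module A V'] [Module A M] [Module A F]

lemma rl_comm (f : V →ₗ[A] V') (g : M →ₗ[A] F) (z : V ⊗[A] M) :
    f.rTensor F (g.lTensor V z) = g.lTensor V' (f.rTensor M z) := by
  rw [← LinearMap.comp_apply, ← LinearMap.comp_apply, LinearMap.rTensor_comp_lTensor,
    LinearMap.lTensor_comp_rTensor]

end comm

section main

variable {A : Type u} [CommRing A] (m : Ideal A) (M : Type u) [AddCommGroup M] [Module A M]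
  {ι : Type*} (F : ι → Type u) [∀ i, AddCommGroup (F i)] [∀ i, Module A (F i)]
  (u : ∀ i, M →ₗ[A] F i)

theorem base [hm : m.IsMaximal]
    (hdet : ∀ y : (A ⧸ m) ⊗[A] M, (∀ i, (u i).lTensor (A ⧸ m) y = 0) → y = 0)
    (Q : Type u) [AddCommGroup Q] [Module A Q] [Module (A ⧸ m) Q] [IsScalarTower A (A ⧸ m) Q]
    (z : Q ⊗[A] M) (hz : ∀ i, (u i).lTensor Q z = 0) : z = 0 := by
  letI : Field (A ⧸ m) := Ideal.Quotient.field m
  let E := AlgebraTensorModule.cancelBaseChange A (A ⧸ m) (A ⧸ m) Q M
  have hw : ∀ i, ((u i).baseChange (A ⧸ m)).lTensor Q (E.symm z) = 0 := by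
    intro i
    have h1 := Groth.Agent.Lib.Helper8.lTensor_cancelBaseChange (N := Q) (B := A ⧸ m) (u i)
      (E.symm z)
    rw [LinearEquiv.apply_symm_apply, hz i] at h1
    exact (AlgebraTensorModule.cancelBaseChange A (A ⧸ m) (A ⧸ m) Q (F i)).injective
      (by rw [← h1, map_zero])
  have h2 : E.symm z = 0 := by
    refine field_detect (fun i => (u i).baseChange (A ⧸ m)) ?_ (E.symm z) hw
    intro y hy
    apply hdet
    intro i
    have h3 := hy i
    rwa [LinearMap.baseChange_eq_ltensor] at h3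
  rw [← E.apply_symm_apply z, h2, map_zero]

theorem exists_rTensor_eq [hm : m.IsMaximal]
    (hdet : ∀ y : (A ⧸ m) ⊗[A] M, (∀ i, (u i).lTensor (A ⧸ m) y = 0) → y = 0)
    (V : Type u) [AddCommGroup V] [Module A V]
    (z : V ⊗[A] M) (hz : ∀ i, (u i).lTensor V z = 0) :
    ∃ z₁ : ↥(m • (⊤ : Submodule A V)) ⊗[A] M,
      ((m • (⊤ : Submodule A V)).subtype.rTensor M) z₁ = z := by
  have h0 : ((m • (⊤ : Submodule A V)).mkQ.rTensor M) z = 0 := by
    apply base m M F u hdet (V ⧸ m • (⊤ : Submodule A V))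
    intro i
    rw [← rl_comm, hz i, map_zero]
  exact (rTensor_exact M (LinearMap.exact_subtype_mkQ _) (Submodule.mkQ_surjective _) z).mp h0

theorem range_rTensor_le (V : Type u) [AddCommGroup V] [Module A V] :
    LinearMap.range ((m • (⊤ : Submodule A V)).subtype.rTensor M) ≤
      m • (⊤ : Submodule A (V ⊗[A] M)) := by
  rintro _ ⟨y, rfl⟩
  induction y using TensorProduct.induction_on with
  | zero => rw [map_zero]; exact zero_mem _
  | tmul v x =>
    rw [LinearMap.rTensor_tmul]
    obtain ⟨v, hv⟩ := v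
    show v ⊗ₜ[A] x ∈ _
    refine Submodule.smul_induction_on hv ?_ ?_
    · intro a ha v' _
      rw [← TensorProduct.smul_tmul']
      exact Submodule.smul_mem_smul ha Submodule.mem_top
    · intro v1 v2 h1 h2
      rw [TensorProduct.add_tmul]
      exact add_mem h1 h2
  | add y1 y2 h1 h2 => rw [map_add]; exact add_mem h1 h2

theorem mem_pow_smul_top [hm : m.IsMaximal] [∀ i, Module.Flat A (F i)]
    (hdet : ∀ y : (A ⧸ m) ⊗[A] M, (∀ i, (u i).lTensor (A ⧸ m) y = 0) → y = 0) (n : ℕ) :
    ∀ (V : Type u) [AddCommGroup V] [Module A V] (z : V ⊗[A] M),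
      (∀ i, (u i).lTensor V z = 0) → z ∈ m ^ n • (⊤ : Submodule A (V ⊗[A] M)) := by
  induction n with
  | zero =>
    intro V _ _ z _
    rw [pow_zero, Ideal.one_eq_top, Submodule.top_smul]
    exact Submodule.mem_top
  | succ n ih =>
    intro V _ _ z hz
    obtain ⟨z₁, rfl⟩ := exists_rTensor_eq m M F u hdet V z hz
    have hz₁ : ∀ i, (u i).lTensor _ z₁ = 0 := by
      intro i
      have hinj : Function.Injective ((m • (⊤ : Submodule A V)).subtype.rTensor (F i)) :=
        Module.Flat.rTensor_preserves_injective_linearMap _ (Submodule.subtype_injective _)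
      apply hinj
      rw [rl_comm, hz i, map_zero]
    have h1 := ih _ z₁ hz₁
    have h2 : ((m • (⊤ : Submodule A V)).subtype.rTensor M) z₁ ∈
        Submodule.map ((m • (⊤ : Submodule A V)).subtype.rTensor M)
          (m ^ n • (⊤ : Submodule A (↥(m • (⊤ : Submodule A V)) ⊗[A] M))) :=
      Submodule.mem_map_of_mem h1
    rw [Submodule.map_smul'', Submodule.map_top] at h2
    rw [pow_succ, mul_smul]
    exact Submodule.smul_mono le_rfl (range_rTensor_le m M V) h2

variable {B : Type u} [CommRing B] [Algebra A B] [Module B M] [IsScalarTower A B M]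

theorem eq_zero_of_forall_mem_pow [IsNoetherianRing A] [IsNoetherianRing B]
    (hI : m.map (algebraMap A B) ≤ Ideal.jacobson ⊥) [Module.Finite B M] (𝔞 : Ideal A)
    (x : 𝔞 ⊗[A] M) (hx : ∀ n : ℕ, x ∈ m ^ n • (⊤ : Submodule A (𝔞 ⊗[A] M))) : x = 0 := by
  have : Module.Finite B (M ⊗[A] 𝔞) := Groth.Agent.Lib.Helper8.finite_tensor M 𝔞
  have hkrull := Ideal.iInf_pow_smul_eq_bot_of_le_jacobson (M := M ⊗[A] 𝔞)
    (m.map (algebraMap A B)) hI
  have hmem : (TensorProduct.comm A 𝔞 M) x ∈
      ⨅ i : ℕ, (m.map (algebraMap A B)) ^ i • (⊤ : Submodule B (M ⊗[A] 𝔞)) := by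
    rw [Submodule.mem_iInf]
    intro n
    refine Submodule.smul_induction_on (hx n) ?_ ?_
    · intro j hj t _
      rw [map_smul, ← algebraMap_smul B j ((TensorProduct.comm A 𝔞 M) t)]
      refine Submodule.smul_mem_smul ?_ Submodule.mem_top
      rw [← Ideal.map_pow]
      exact Ideal.mem_map_of_mem _ hj
    · intro t1 t2 h1 h2
      rw [map_add]
      exact add_mem h1 h2
  rw [hkrull, Submodule.mem_bot] at hmem
  exact (TensorProduct.comm A 𝔞 M).injective (by rw [hmem, map_zero])

/-- Flatness from a detecting family of maps to flat modules. -/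
theorem flat_of_detecting_family [IsNoetherianRing A] [IsNoetherianRing B] [hm : m.IsMaximal]
    (hI : m.map (algebraMap A B) ≤ Ideal.jacobson ⊥) [Module.Finite B M]
    [∀ i, Module.Flat A (F i)]
    (hdet : ∀ y : (A ⧸ m) ⊗[A] M, (∀ i, (u i).lTensor (A ⧸ m) y = 0) → y = 0) :
    Module.Flat A M := by
  rw [Module.Flat.iff_rTensor_injective']
  intro 𝔞
  rw [injective_iff_map_eq_zero]
  intro z hz
  apply eq_zero_of_forall_mem_pow m M hI 𝔞 z
  intro n
  apply mem_pow_smul_top m M F u hdet n 𝔞 z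
  intro i
  have hinj : Function.Injective (𝔞.subtype.rTensor (F i)) :=
    Module.Flat.rTensor_preserves_injective_linearMap _ (Submodule.subtype_injective _)
  apply hinj
  rw [rl_comm, hz, map_zero, map_zero]

end main

section kollar

open IsLocalRing

/-- Flat off `V(J)` and an element of `J` regular on the closed fibre: flat. -/
theorem flat_of_flatAt_off_of_regular (A B : Type u) [CommRing A] [CommRing B]
    [IsNoetherianRing A] [IsNoetherianRing B] [IsLocalRing A] [IsLocalRing B] [Algebra A B]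
    [IsLocalHom (algebraMap A B)] (J : Ideal B)
    (M : Type u) [AddCommGroup M] [Module B M] [Module A M] [IsScalarTower A B M]
    [Module.Finite B M]
    (hU : ∀ q : PrimeSpectrum B, ¬ J ≤ q.asIdeal →
      Module.Flat A (LocalizedModule q.asIdeal.primeCompl M))
    (x : B) (hxJ : x ∈ J)
    (hx : IsSMulRegular
      (M ⧸ ((maximalIdeal A).map (algebraMap A B)) • (⊤ : Submodule B M)) x) :
    Module.Flat A M := by
  let ι := {q : PrimeSpectrum B // ¬ J ≤ q.asIdeal}
  let F : ι → Type u := fun q => LocalizedModule q.1.asIdeal.primeCompl M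
  let u : ∀ q : ι, M →ₗ[A] F q := fun q =>
    (LocalizedModule.mkLinearMap q.1.asIdeal.primeCompl M).restrictScalars A
  haveI : ∀ q : ι, Module.Flat A (F q) := fun q => hU q.1 q.2
  refine flat_of_detecting_family (maximalIdeal A) M F u (B := B) map_maximalIdeal_le_jacobson ?_
  intro y hy
  -- write `y = 1 ⊗ n`
  obtain ⟨n, rfl⟩ : ∃ n : M, (1 : A ⧸ maximalIdeal A) ⊗ₜ[A] n = y := by
    obtain ⟨n, hn⟩ := Submodule.mkQ_surjective _
      (TensorProduct.quotTensorEquivQuotSMul M (maximalIdeal A) y)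
    refine ⟨n, ?_⟩
    rw [← TensorProduct.quotTensorEquivQuotSMul_symm_mk, ← Submodule.mkQ_apply, hn,
      LinearEquiv.symm_apply_apply]
  -- for each `q` not containing `J`, some `s ∉ q` kills the class of `n`
  have hkill : ∀ q : ι, ∃ s : B, s ∉ q.1.asIdeal ∧
      s • n ∈ ((maximalIdeal A).map (algebraMap A B)) • (⊤ : Submodule B M) := by
    intro q
    have h1 : (1 : A ⧸ maximalIdeal A) ⊗ₜ[A] (LocalizedModule.mkLinearMap q.1.asIdeal.primeCompl M n) =
        (0 : (A ⧸ maximalIdeal A) ⊗[A] F q) := hy q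
    have h2 : (AlgebraTensorModule.rTensor A (A ⧸ maximalIdeal A)
        (LocalizedModule.mkLinearMap q.1.asIdeal.primeCompl M)) (n ⊗ₜ[A] (1 : A ⧸ maximalIdeal A)) = 0 := by
      rw [AlgebraTensorModule.rTensor_tmul]
      have h3 := congrArg (TensorProduct.comm A (A ⧸ maximalIdeal A) (F q)) h1
      rw [TensorProduct.comm_tmul, map_zero] at h3
      exact h3
    obtain ⟨s, hs⟩ := (IsLocalizedModule.eq_zero_iff q.1.asIdeal.primeCompl
      (AlgebraTensorModule.rTensor A (A ⧸ maximalIdeal A)
        (LocalizedModule.mkLinearMap q.1.asIdeal.primeCompl M))).mp h2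
    refine ⟨s, s.2, ?_⟩
    rw [Submonoid.smul_def, TensorProduct.smul_tmul'] at hs
    have h4 := congrArg (TensorProduct.tensorQuotEquivQuotSMul M (maximalIdeal A)) hs
    rw [← map_one (Ideal.Quotient.mk (maximalIdeal A)),
      TensorProduct.tensorQuotEquivQuotSMul_tmul_mk, one_smul, map_zero,
      Submodule.Quotient.mk_eq_zero] at h4
    exact mem_map_smul_top_of_mem_smul_top (maximalIdeal A) h4
  -- the annihilator of the class of `n`
  let 𝔠 : Ideal B := (Submodule.span B {(Submodule.Quotient.mk n :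
      M ⧸ ((maximalIdeal A).map (algebraMap A B)) • (⊤ : Submodule B M))}).annihilator
  have hmem𝔠 : ∀ b : B, b ∈ 𝔠 ↔
      b • n ∈ ((maximalIdeal A).map (algebraMap A B)) • (⊤ : Submodule B M) := by
    intro b
    rw [Submodule.mem_annihilator_span_singleton, ← Submodule.Quotient.mk_smul,
      Submodule.Quotient.mk_eq_zero]
  have hxrad : x ∈ 𝔠.radical := by
    rw [Ideal.radical_eq_sInf, Ideal.mem_sInf]
    rintro P ⟨h𝔠P, hP⟩
    by_contra hxP
    have hJP : ¬ J ≤ P := fun h => hxP (h hxJ)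
    obtain ⟨s, hs, hsn⟩ := hkill ⟨⟨P, hP⟩, hJP⟩
    exact hs (h𝔠P ((hmem𝔠 s).mpr hsn))
  obtain ⟨k, hk⟩ := hxrad
  have h5 : x ^ k • (Submodule.Quotient.mk n :
      M ⧸ ((maximalIdeal A).map (algebraMap A B)) • (⊤ : Submodule B M)) = x ^ k • 0 := by
    rw [smul_zero, ← Submodule.Quotient.mk_smul, Submodule.Quotient.mk_eq_zero]
    exact (hmem𝔠 _).mp hk
  have h6 := (IsSMulRegular.pow k hx) h5
  rw [Submodule.Quotient.mk_eq_zero] at h6
  have h7 := mem_smul_top_of_mem_map_smul_top (maximalIdeal A) h6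
  apply (TensorProduct.quotTensorEquivQuotSMul M (maximalIdeal A)).injective
  rw [TensorProduct.quotTensorEquivQuotSMul_mk_one_tmul, map_zero, Submodule.Quotient.mk_eq_zero]
  exact h7

end kollar

section depth

open IsLocalRing RingTheory.Sequence

/-- If `x` is `M`-regular and `M/xM` is `A`-flat then `x` is regular on `M/𝔞M` for every ideal
`𝔞` of `A`. -/
theorem isSMulRegular_quot_of_flat_quot {A B : Type u} [CommRing A] [CommRing B] [Algebra A B]
    (M : Type u) [AddCommGroup M] [Module B M] [Module A M] [IsScalarTower A B M]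
    (x : B) (hx : IsSMulRegular M x) [hfl : Module.Flat A (QuotSMulTop x M)] (𝔞 : Ideal A) :
    IsSMulRegular (M ⧸ (𝔞.map (algebraMap A B)) • (⊤ : Submodule B M)) x := by
  haveI : Module.Flat A (M ⧸ (x • (⊤ : Submodule B M))) := hfl
  intro z w hzw
  obtain ⟨z, rfl⟩ := Submodule.mkQ_surjective _ z
  obtain ⟨w, rfl⟩ := Submodule.mkQ_surjective _ w
  have h1 : x • (z - w) ∈ (𝔞.map (algebraMap A B)) • (⊤ : Submodule B M) := by
    have h0 : x • (Submodule.Quotient.mk z :
        M ⧸ (𝔞.map (algebraMap A B)) • (⊤ : Submodule B M)) = x • Submodule.Quotient.mk w := hzw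
    rw [← Submodule.Quotient.mk_smul, ← Submodule.Quotient.mk_smul, Submodule.Quotient.eq] at h0
    rwa [smul_sub]
  have h2 : x • (z - w) ∈ (𝔞.map (algebraMap A B)) • (x • (⊤ : Submodule B M)) :=
    mem_smul_of_flat_quotient 𝔞 (x • (⊤ : Submodule B M))
      (Submodule.smul_mem_pointwise_smul _ x ⊤ Submodule.mem_top)
      (mem_smul_top_of_mem_map_smul_top 𝔞 h1)
  have h3 : ∃ v ∈ (𝔞.map (algebraMap A B)) • (⊤ : Submodule B M), x • v = x • (z - w) := by
    refine Submodule.smul_induction_on h2 ?_ ?_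
    · intro b hb t ht
      obtain ⟨t', -, rfl⟩ := (Submodule.mem_smul_pointwise_iff_exists _ _ _).mp ht
      exact ⟨b • t', Submodule.smul_mem_smul hb Submodule.mem_top, smul_comm x b t'⟩
    · rintro t1 t2 ⟨v1, hv1, e1⟩ ⟨v2, hv2, e2⟩
      exact ⟨v1 + v2, add_mem hv1 hv2, by rw [smul_add, e1, e2]⟩
  obtain ⟨v, hv, hxv⟩ := h3
  have h4 : v = z - w := hx hxv
  rw [Submodule.mkQ_apply, Submodule.mkQ_apply, Submodule.Quotient.eq, ← h4]
  exact hv

/-- A sequence `x, y` regular on the closed fibre of a flat finite module is regular on every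
`M/𝔞M`. -/
theorem two_le_idealDepth_quot {A B : Type u} [CommRing A] [CommRing B]
    [IsLocalRing A] [IsLocalRing B] [IsNoetherianRing A] [IsNoetherianRing B] [Algebra A B]
    [IsLocalHom (algebraMap A B)] (J : Ideal B) (M : Type u) [AddCommGroup M] [Module B M]
    [Module A M] [IsScalarTower A B M] [Module.Finite B M] [Module.Flat A M] (x y : B)
    (hxJ : x ∈ J) (hyJ : y ∈ J)
    (hx : IsSMulRegular
      (M ⧸ ((maximalIdeal A).map (algebraMap A B)) • (⊤ : Submodule B M)) x)
    (hy : IsSMulRegular (QuotSMulTop x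
      (M ⧸ ((maximalIdeal A).map (algebraMap A B)) • (⊤ : Submodule B M))) y) (𝔞 : Ideal A) :
    2 ≤ LocCoh.idealDepth J (M ⧸ (𝔞.map (algebraMap A B)) • (⊤ : Submodule B M)) := by
  obtain ⟨hxM, hflat1⟩ := regular_and_flat_quot M x hx
  haveI := hflat1
  have hy' : IsSMulRegular ((QuotSMulTop x M) ⧸ ((maximalIdeal A).map (algebraMap A B)) •
      (⊤ : Submodule B (QuotSMulTop x M))) y :=
    ((quotSwap M ((maximalIdeal A).map (algebraMap A B)) x).isSMulRegular_congr y).mp hy
  obtain ⟨hyM', hflat2⟩ := regular_and_flat_quot (QuotSMulTop x M) y hy'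
  haveI := hflat2
  have hxX := isSMulRegular_quot_of_flat_quot M x hxM 𝔞
  have hyX' := isSMulRegular_quot_of_flat_quot (QuotSMulTop x M) y hyM' 𝔞
  have hyX : IsSMulRegular (QuotSMulTop x
      (M ⧸ (𝔞.map (algebraMap A B)) • (⊤ : Submodule B M))) y :=
    ((quotSwap M (𝔞.map (algebraMap A B)) x).isSMulRegular_congr y).mpr hyX'
  have hreg : IsWeaklyRegular (M ⧸ (𝔞.map (algebraMap A B)) • (⊤ : Submodule B M)) [x, y] :=
    (isWeaklyRegular_cons_iff _ x [y]).mpr ⟨hxX, (isWeaklyRegular_singleton_iff _ y).mpr hyX⟩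
  have h := Groth.Agent.Lib.Helper4.length_le_idealDepth J [x, y] hreg (by
    intro r hr
    simp only [List.mem_cons, List.not_mem_nil, or_false] at hr
    rcases hr with rfl | rfl
    · exact hxJ
    · exact hyJ)
  simpa using h

end depth

end Groth.Agent.Lib.Helper9.DetectFlat
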