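import Mathlib
import Groth.Agent.Lib.Helper9.DetectFlat
import Groth.Agent.Lib.Helper4.Depth
import Groth.Agent.Lib.Helper9.ComplexFlat

/-!
# Kollár-type relative depth / flatness lemmas (helper9)
-/

set_option autoImplicit false
universe u

open TensorProduct
open scoped Pointwise

namespace Groth.Agent.Lib.Helper9.KollarS2

open Groth.Agent.Lib.Helper9.FlatCoker Groth.Agent.Lib.Helper9.RegFlat
  Groth.Agent.Lib.Helper9.DetectFlat RingTheory.Sequence

section regular

variable {B : Type u} [CommRing B] [IsLocalRing B] (J : Ideal B)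
  (N : Type u) [AddCommGroup N] [Module B N] [Module.Finite B N]

/-- over a local ring, a finite module killed by `J ≠ ⊤`-multiplication onto itself is zero. -/
lemma subsingleton_of_smul_top_eq_top (hJ : J ≠ ⊤) (h : J • (⊤ : Submodule B N) = ⊤) :
    Subsingleton N := by
  have hJm : J ≤ IsLocalRing.maximalIdeal B := IsLocalRing.le_maximalIdeal hJ
  have hbot : (⊤ : Submodule B N) = ⊥ :=
    Submodule.eq_bot_of_le_smul_of_le_jacobson_bot J ⊤ Module.Finite.fg_top
      (by rw [h]) (by
        rw [IsLocalRing.jacobson_eq_maximalIdeal ⊥ bot_ne_top]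
        exact hJm)
  exact (Submodule.subsingleton_iff B).mp (subsingleton_of_top_le_bot hbot.le)

theorem exists_regular_of_one_le_depth (h : 1 ≤ LocCoh.idealDepth J N) :
    ∃ x ∈ J, IsSMulRegular N x := by
  by_cases hJtop : J • (⊤ : Submodule B N) = ⊤
  · by_cases hJ : J = ⊤
    · exact ⟨1, hJ ▸ Submodule.mem_top, IsSMulRegular.one _⟩
    · have hsub := subsingleton_of_smul_top_eq_top J N hJ hJtop
      exact ⟨0, zero_mem _, fun a b _ => Subsingleton.elim a b⟩
  · exact (Groth.Agent.Lib.Helper4.one_le_idealDepth_iff J hJtop).mp h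

theorem exists_regular_pair_of_two_le_depth (h : 2 ≤ LocCoh.idealDepth J N) :
    ∃ x y : B, x ∈ J ∧ y ∈ J ∧ IsSMulRegular N x ∧ IsSMulRegular (QuotSMulTop x N) y := by
  by_cases hJtop : J • (⊤ : Submodule B N) = ⊤
  · by_cases hJ : J = ⊤
    · exact ⟨1, 1, hJ ▸ Submodule.mem_top, hJ ▸ Submodule.mem_top, IsSMulRegular.one _,
        IsSMulRegular.one _⟩
    · have hsub := subsingleton_of_smul_top_eq_top J N hJ hJtop
      refine ⟨0, 0, zero_mem _, zero_mem _, fun a b _ => Subsingleton.elim a b, ?_⟩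
      intro a b _
      obtain ⟨a, rfl⟩ := Submodule.mkQ_surjective _ a
      obtain ⟨b, rfl⟩ := Submodule.mkQ_surjective _ b
      rw [Subsingleton.elim a b]
  · obtain ⟨rs, hlen, hmem, hreg⟩ :=
      Groth.Agent.Lib.Helper4.exists_isWeaklyRegular_of_le_idealDepth J hJtop 2
        (by exact_mod_cast h)
    obtain ⟨x, y, rfl⟩ := List.length_eq_two.mp hlen
    have h1 := (isWeaklyRegular_cons_iff _ x [y]).mp hreg
    exact ⟨x, y, hmem x (by simp), hmem y (by simp), h1.1,
      (isWeaklyRegular_singleton_iff _ y).mp h1.2⟩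

omit [IsLocalRing B] [Module.Finite B N] in
/-- an element killed locally off `V(J)` vanishes if some element of `J` is regular. -/
theorem eq_zero_of_forall_exists_smul_eq_zero (x : B) (hxJ : x ∈ J) (hx : IsSMulRegular N x)
    (z : N) (hz : ∀ q : PrimeSpectrum B, ¬ J ≤ q.asIdeal → ∃ s : B, s ∉ q.asIdeal ∧ s • z = 0) :
    z = 0 := by
  let 𝔠 : Ideal B := (Submodule.span B {z}).annihilator
  have hxrad : x ∈ 𝔠.radical := by
    rw [Ideal.radical_eq_sInf, Ideal.mem_sInf]
    rintro P ⟨h𝔠P, hP⟩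
    by_contra hxP
    have hJP : ¬ J ≤ P := fun h => hxP (h hxJ)
    obtain ⟨s, hs, hsn⟩ := hz ⟨P, hP⟩ hJP
    exact hs (h𝔠P ((Submodule.mem_annihilator_span_singleton _ _).mpr hsn))
  obtain ⟨k, hk⟩ := hxrad
  have h5 : x ^ k • z = x ^ k • 0 := by
    rw [smul_zero]
    exact (Submodule.mem_annihilator_span_singleton _ _).mp hk
  exact (IsSMulRegular.pow k hx) h5

end regular

section loc

variable {A B : Type u} [CommRing A] [CommRing B] [Algebra A B] (S : Submonoid B)

/-- localization (over `B`) of an `A`-flat `B`-module is `A`-flat. -/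
theorem flat_localizedModule (N : Type u) [AddCommGroup N] [Module B N] [Module A N]
    [IsScalarTower A B N] [Module.Flat A N] : Module.Flat A (LocalizedModule S N) := by
  rw [Module.Flat.iff_lTensor_injective']
  intro 𝔞
  have h1 : Function.Injective (AlgebraTensorModule.lTensor B N 𝔞.subtype) := by
    rw [AlgebraTensorModule.coe_lTensor]
    exact Module.Flat.lTensor_preserves_injective_linearMap _ (Submodule.subtype_injective _)
  have h2 := IsLocalizedModule.map_injective S
    (AlgebraTensorModule.rTensor A 𝔞 (LocalizedModule.mkLinearMap S N))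
    (AlgebraTensorModule.rTensor A A (LocalizedModule.mkLinearMap S N)) _ h1
  rw [IsLocalizedModule.map_lTensor] at h2
  rwa [AlgebraTensorModule.coe_lTensor] at h2

/-- the localization of the kernel of a surjection from a flat module onto a module with flat
localization is flat. -/
theorem flat_localized_ker {E G : Type u} [AddCommGroup E] [Module B E] [Module A E]
    [IsScalarTower A B E] [AddCommGroup G] [Module B G] [Module A G] [IsScalarTower A B G]
    (v : E →ₗ[B] G) (hv : Function.Surjective v) [Module.Flat A E]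
    [Module.Flat A (LocalizedModule S G)] :
    Module.Flat A (LocalizedModule S (LinearMap.ker v)) := by
  haveI := flat_localizedModule (A := A) S E
  let a := IsLocalizedModule.map S (LocalizedModule.mkLinearMap S (LinearMap.ker v))
    (LocalizedModule.mkLinearMap S E) (LinearMap.ker v).subtype
  let b := IsLocalizedModule.map S (LocalizedModule.mkLinearMap S E)
    (LocalizedModule.mkLinearMap S G) v
  have ha : Function.Injective a :=
    IsLocalizedModule.map_injective S _ _ _ (Submodule.subtype_injective _)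
  have hb : Function.Surjective b := IsLocalizedModule.map_surjective S _ _ _ hv
  have hab : Function.Exact a b :=
    IsLocalizedModule.map_exact S _ _ _ _ _ (LinearMap.exact_subtype_ker_map v)
  exact flat_of_exact_ker (a.restrictScalars A) (b.restrictScalars A) ha hb hab

variable (𝔞 : Ideal A) (X : Type u) [AddCommGroup X] [Module A X] [Module B X]
  [IsScalarTower A B X]

lemma muB_mem (z : X ⊗[A] 𝔞) : muB (B := B) 𝔞 X z ∈ 𝔞 • (⊤ : Submodule A X) := by
  induction z using TensorProduct.induction_on with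
  | zero => rw [map_zero]; exact zero_mem _
  | tmul x a =>
    rw [muB_tmul]
    exact Submodule.smul_mem_smul a.2 Submodule.mem_top
  | add y z hy hz => rw [map_add]; exact add_mem hy hz

lemma exists_muB_eq {w : X} (hw : w ∈ 𝔞 • (⊤ : Submodule A X)) :
    ∃ z : X ⊗[A] 𝔞, muB (B := B) 𝔞 X z = w := by
  obtain ⟨v, hv⟩ := exists_mu_eq 𝔞 X hw
  exact ⟨TensorProduct.comm A 𝔞 X v, by rw [muB_comm, hv]⟩

/-- elements of the kernel of `X ⊗ 𝔞 → X` are killed by an element of `S` when `S⁻¹X` is flat. -/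
theorem exists_smul_eq_zero_of_muB_eq_zero [Module.Flat A (LocalizedModule S X)]
    (z : X ⊗[A] 𝔞) (hz : muB (B := B) 𝔞 X z = 0) : ∃ s : S, (s : B) • z = 0 := by
  have h1 : muB (B := B) 𝔞 (LocalizedModule S X)
      (((LocalizedModule.mkLinearMap S X).restrictScalars A).rTensor 𝔞 z) = 0 := by
    rw [muB_rTensor, hz, map_zero]
  have h2 : (AlgebraTensorModule.rTensor A 𝔞 (LocalizedModule.mkLinearMap S X)) z = 0 :=
    muB_injective_of_flat (B := B) 𝔞 (LocalizedModule S X) (by rw [map_zero]; exact h1)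
  obtain ⟨s, hs⟩ := (IsLocalizedModule.eq_zero_iff S
    (AlgebraTensorModule.rTensor A 𝔞 (LocalizedModule.mkLinearMap S X))).mp h2
  exact ⟨s, hs⟩

end loc

section lemmaE

variable {A B : Type u} [CommRing A] [CommRing B] [Algebra A B]
  {P' P P'' : Type u} [AddCommGroup P'] [Module B P'] [Module A P'] [IsScalarTower A B P']
  [AddCommGroup P] [Module B P] [Module A P] [IsScalarTower A B P]
  [AddCommGroup P''] [Module B P''] [Module A P''] [IsScalarTower A B P'']

/-- Key elementwise lemma. -/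
theorem exists_smul_eq_map_of_flat_localized (α : P' →ₗ[B] P) (β : P →ₗ[B] P'')
    (hβ : Function.Surjective β) (hex : Function.Exact α β) (S : Submonoid B)
    [Module.Flat A (LocalizedModule S P'')] (𝔞 : Ideal A) (p : P)
    (hp : p ∈ 𝔞 • (⊤ : Submodule A P)) (hβp : β p = 0) :
    ∃ s : S, ∃ p' ∈ 𝔞 • (⊤ : Submodule A P'), α p' = (s : B) • p := by
  obtain ⟨w, hw⟩ := exists_muB_eq (B := B) 𝔞 P hp
  have hz : muB (B := B) 𝔞 P'' ((β.restrictScalars A).rTensor 𝔞 w) = 0 := by
    rw [muB_rTensor, hw]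
    exact hβp
  obtain ⟨s, hs⟩ := exists_smul_eq_zero_of_muB_eq_zero S 𝔞 P'' _ hz
  have h1 : (β.restrictScalars A).rTensor 𝔞 ((s : B) • w) = 0 := by
    have h2 : (AlgebraTensorModule.rTensor A 𝔞 β) ((s : B) • w) =
        (s : B) • (AlgebraTensorModule.rTensor A 𝔞 β) w := map_smul _ _ _
    exact h2.trans hs
  have hex' : Function.Exact ((α.restrictScalars A).rTensor 𝔞) ((β.restrictScalars A).rTensor 𝔞) :=
    rTensor_exact 𝔞 hex hβ
  obtain ⟨w', hw'⟩ := (hex' _).mp h1
  refine ⟨s, muB (B := B) 𝔞 P' w', muB_mem 𝔞 P' w', ?_⟩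
  have h3 := muB_rTensor (B := B) 𝔞 P' (α.restrictScalars A) w'
  rw [hw', map_smul, hw] at h3
  exact h3.symm

end lemmaE

section bar

variable {B : Type u} [CommRing B] (𝔟 : Ideal B) {X Y : Type u} [AddCommGroup X] [Module B X]
  [AddCommGroup Y] [Module B Y]

/-- the map induced on `X/𝔟X`. -/
noncomputable def barMap (g : X →ₗ[B] Y) :
    (X ⧸ 𝔟 • (⊤ : Submodule B X)) →ₗ[B] (Y ⧸ 𝔟 • (⊤ : Submodule B Y)) :=
  Submodule.mapQ _ _ g (Submodule.smul_top_le_comap_smul_top 𝔟 g)

lemma barMap_mk (g : X →ₗ[B] Y) (x : X) :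
    barMap 𝔟 g (Submodule.Quotient.mk x) = Submodule.Quotient.mk (g x) := rfl

lemma isSMulRegular_of_injective (g : X →ₗ[B] Y) (hg : Function.Injective g) {x : B}
    (hx : IsSMulRegular Y x) : IsSMulRegular X x := by
  intro a b hab
  apply hg
  apply hx
  show x • g a = x • g b
  rw [← map_smul, ← map_smul]
  exact congrArg g hab

lemma one_le_idealDepth_of_regular (J : Ideal B) {x : B} (hxJ : x ∈ J) (hx : IsSMulRegular X x) :
    1 ≤ LocCoh.idealDepth J X := by
  have h := Groth.Agent.Lib.Helper4.length_le_idealDepth J [x]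
    ((isWeaklyRegular_singleton_iff _ x).mpr hx) (by
      intro r hr
      simp only [List.mem_cons, List.not_mem_nil, or_false] at hr
      rw [hr]
      exact hxJ)
  simpa using h

end bar

section main

open IsLocalRing

variable (A B : Type u) [CommRing A] [CommRing B] [IsNoetherianRing A] [IsNoetherianRing B]
  [IsLocalRing A] [IsLocalRing B] [Algebra A B] [IsLocalHom (algebraMap A B)] (J : Ideal B)
  (F E0 E1 G : Type u) [AddCommGroup F] [Module B F] [Module A F] [IsScalarTower A B F]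
  [Module.Finite B F]
  [AddCommGroup E0] [Module B E0] [Module A E0] [IsScalarTower A B E0] [Module.Finite B E0]
  [Module.Flat A E0]
  [AddCommGroup E1] [Module B E1] [Module A E1] [IsScalarTower A B E1] [Module.Finite B E1]
  [Module.Flat A E1]
  [AddCommGroup G] [Module B G] [Module A G] [IsScalarTower A B G] [Module.Finite B G]
  (f : F →ₗ[B] E0) (u : E0 →ₗ[B] E1) (v : E1 →ₗ[B] G)
  (hf : Function.Injective f) (hfu : Function.Exact f u) (huv : Function.Exact u v)
  (hv : Function.Surjective v)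

/-- `E0 → ker v`. -/
noncomputable def toKer : E0 →ₗ[B] LinearMap.ker v :=
  u.codRestrict (LinearMap.ker v) (fun e => huv.apply_apply_eq_zero e)

omit [IsNoetherianRing B] [IsLocalRing B] [Module.Finite B E0] [Module.Finite B E1]
  [Module.Finite B G] in
include huv in
lemma toKer_surjective : Function.Surjective (toKer B E0 E1 G u v huv) := by
  rintro ⟨y, hy⟩
  obtain ⟨e, he⟩ := (huv y).mp hy
  exact ⟨e, Subtype.ext he⟩

omit [IsNoetherianRing B] [IsLocalRing B] [Module.Finite B F] [Module.Finite B E0]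
  [Module.Finite B E1] [Module.Finite B G] in
include hfu in
lemma exact_toKer : Function.Exact f (toKer B E0 E1 G u v huv) := by
  intro e
  constructor
  · intro h
    have h1 : u e = 0 := congrArg Subtype.val h
    exact (hfu e).mp h1
  · intro h
    apply Subtype.ext
    exact (hfu e).mpr h

variable (hGU : ∀ q : PrimeSpectrum B, ¬ J ≤ q.asIdeal →
  Module.Flat A (LocalizedModule q.asIdeal.primeCompl G))

include hfu huv hv hGU in
theorem app1 (e : E0)
    (he : u e ∈ ((maximalIdeal A).map (algebraMap A B)) • (⊤ : Submodule B E1))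
    (q : PrimeSpectrum B) (hq : ¬ J ≤ q.asIdeal) :
    ∃ s : B, s ∉ q.asIdeal ∧
      ∃ e' ∈ ((maximalIdeal A).map (algebraMap A B)) • (⊤ : Submodule B E0),
        ∃ φ : F, s • e = e' + f φ := by
  haveI := hGU q hq
  obtain ⟨s, p', hp', hα⟩ := exists_smul_eq_map_of_flat_localized (A := A) u v hv huv
    q.asIdeal.primeCompl (maximalIdeal A) (u e) (mem_smul_top_of_mem_map_smul_top _ he)
    (huv.apply_apply_eq_zero e)
  have h1 : u ((s : B) • e - p') = 0 := by
    rw [map_sub, map_smul, hα, sub_self]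
  obtain ⟨φ, hφ⟩ := (hfu _).mp h1
  refine ⟨s, s.2, p', mem_map_smul_top_of_mem_smul_top _ hp', φ, ?_⟩
  rw [hφ]
  abel

include hf hfu huv hv hGU in
theorem app2 (φ : F)
    (hφ : f φ ∈ ((maximalIdeal A).map (algebraMap A B)) • (⊤ : Submodule B E0))
    (q : PrimeSpectrum B) (hq : ¬ J ≤ q.asIdeal) :
    ∃ s : B, s ∉ q.asIdeal ∧
      s • φ ∈ ((maximalIdeal A).map (algebraMap A B)) • (⊤ : Submodule B F) := by
  haveI := hGU q hq
  haveI : Module.Flat A (LocalizedModule q.asIdeal.primeCompl (LinearMap.ker v)) :=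
    flat_localized_ker (A := A) q.asIdeal.primeCompl v hv
  have hβf : toKer B E0 E1 G u v huv (f φ) = 0 :=
    (exact_toKer B F E0 E1 G f u v hfu huv (f φ)).mpr ⟨φ, rfl⟩
  obtain ⟨s, p', hp', hα⟩ := exists_smul_eq_map_of_flat_localized (A := A) f
    (toKer B E0 E1 G u v huv) (toKer_surjective B E0 E1 G u v huv)
    (exact_toKer B F E0 E1 G f u v hfu huv)
    q.asIdeal.primeCompl (maximalIdeal A) (f φ) (mem_smul_top_of_mem_map_smul_top _ hφ) hβf
  refine ⟨s, s.2, ?_⟩
  have h1 : p' = (s : B) • φ := hf (by rw [hα, map_smul])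
  rw [← h1]
  exact mem_map_smul_top_of_mem_smul_top _ hp'

include hf hfu huv hv hGU in
/-- `depth_J (F/𝔪F) ≥ 2` implies that `G` is flat. -/
theorem flat_of_two_le_depth_fibre
    (hF2 : 2 ≤ LocCoh.idealDepth J
      (F ⧸ ((maximalIdeal A).map (algebraMap A B)) • (⊤ : Submodule B F)))
    (h0 : 1 ≤ LocCoh.idealDepth J
      (E0 ⧸ ((maximalIdeal A).map (algebraMap A B)) • (⊤ : Submodule B E0))) :
    Module.Flat A G := by
  set 𝔟 : Ideal B := (maximalIdeal A).map (algebraMap A B) with h𝔟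
  let fb := barMap 𝔟 f
  let ub := barMap 𝔟 u
  -- `f̄` is injective
  obtain ⟨x, hxJ, hx⟩ := exists_regular_of_one_le_depth J
    (F ⧸ 𝔟 • (⊤ : Submodule B F)) (le_trans one_le_two hF2)
  have hfb : Function.Injective fb := by
    rw [injective_iff_map_eq_zero]
    intro φb h
    obtain ⟨φ, rfl⟩ := Submodule.mkQ_surjective _ φb
    rw [Submodule.mkQ_apply] at h ⊢
    have h1 : f φ ∈ 𝔟 • (⊤ : Submodule B E0) := (Submodule.Quotient.mk_eq_zero _).mp h
    apply eq_zero_of_forall_exists_smul_eq_zero J _ x hxJ hx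
    intro q hq
    obtain ⟨s, hs, hsφ⟩ := app2 A B J F E0 E1 G f u v hf hfu huv hv hGU φ h1 q hq
    exact ⟨s, hs, by rw [← Submodule.Quotient.mk_smul, Submodule.Quotient.mk_eq_zero]; exact hsφ⟩
  -- the kernel of `ū`
  let K : Submodule B (E0 ⧸ 𝔟 • (⊤ : Submodule B E0)) := LinearMap.ker ub
  have hKf : ∀ φb, fb φb ∈ K := by
    intro φb
    obtain ⟨φ, rfl⟩ := Submodule.mkQ_surjective _ φb
    rw [LinearMap.mem_ker]
    show ub (fb (Submodule.Quotient.mk φ)) = 0
    rw [barMap_mk, barMap_mk, hfu.apply_apply_eq_zero, Submodule.Quotient.mk_zero]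
  let fb' : (F ⧸ 𝔟 • (⊤ : Submodule B F)) →ₗ[B] K := fb.codRestrict K hKf
  have hfb' : Function.Injective fb' := by
    intro a b hab
    exact hfb (congrArg Subtype.val hab)
  -- depth of `K`
  obtain ⟨x0, hx0J, hx0⟩ := exists_regular_of_one_le_depth J
    (E0 ⧸ 𝔟 • (⊤ : Submodule B E0)) h0
  have hK1 : 1 ≤ LocCoh.idealDepth J K :=
    one_le_idealDepth_of_regular J hx0J
      (isSMulRegular_of_injective K.subtype (Submodule.subtype_injective _) hx0)
  have hdl := (Groth.Agent.Lib.Helper4.idealDepth_shortExact J fb' (LinearMap.range fb').mkQ hfb'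
    (Submodule.mkQ_surjective _) (LinearMap.exact_map_mkQ_range fb')).2.1
  have hF1 : (1 : ℕ∞) ≤ LocCoh.idealDepth J (F ⧸ 𝔟 • (⊤ : Submodule B F)) - 1 :=
    ENat.le_sub_of_add_le_left (by simp) (by rw [one_add_one_eq_two]; exact hF2)
  have hC1 : 1 ≤ LocCoh.idealDepth J (K ⧸ LinearMap.range fb') :=
    le_trans (le_min hK1 hF1) hdl
  obtain ⟨x1, hx1J, hx1⟩ := exists_regular_of_one_le_depth J (K ⧸ LinearMap.range fb') hC1
  -- `K = range f̄`
  have hKle : ∀ e : E0, u e ∈ 𝔟 • (⊤ : Submodule B E1) →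
      ∃ φ : F, e - f φ ∈ 𝔟 • (⊤ : Submodule B E0) := by
    intro e he
    have heK : (Submodule.Quotient.mk e : E0 ⧸ 𝔟 • (⊤ : Submodule B E0)) ∈ K := by
      rw [LinearMap.mem_ker]
      show ub (Submodule.Quotient.mk e) = 0
      rw [barMap_mk, Submodule.Quotient.mk_eq_zero]
      exact he
    have hc : (LinearMap.range fb').mkQ ⟨Submodule.Quotient.mk e, heK⟩ = 0 := by
      apply eq_zero_of_forall_exists_smul_eq_zero J _ x1 hx1J hx1
      intro q hq
      obtain ⟨s, hs, e', he', φ, hse⟩ := app1 A B J F E0 E1 G f u v hfu huv hv hGU e he q hq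
      refine ⟨s, hs, ?_⟩
      rw [← map_smul, Submodule.mkQ_apply, Submodule.Quotient.mk_eq_zero, LinearMap.mem_range]
      refine ⟨Submodule.Quotient.mk φ, Subtype.ext ?_⟩
      show fb (Submodule.Quotient.mk φ) = s • Submodule.Quotient.mk e
      rw [barMap_mk, ← Submodule.Quotient.mk_smul, hse, Submodule.Quotient.mk_add,
        (Submodule.Quotient.mk_eq_zero _).mpr he', zero_add]
    rw [Submodule.mkQ_apply, Submodule.Quotient.mk_eq_zero] at hc
    obtain ⟨φb, hφb⟩ := hc
    obtain ⟨φ, rfl⟩ := Submodule.mkQ_surjective _ φb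
    refine ⟨φ, ?_⟩
    have h2 : fb (Submodule.Quotient.mk φ) = Submodule.Quotient.mk e := congrArg Subtype.val hφb
    rw [barMap_mk] at h2
    have h3 := (Submodule.Quotient.eq _).mp h2.symm
    exact h3
  -- EGA 0_III 10.2.4 applied to `E0 / F → E1`
  have hle : LinearMap.range f ≤ LinearMap.ker u := by
    rintro _ ⟨φ, rfl⟩
    exact hfu.apply_apply_eq_zero φ
  let u' : (E0 ⧸ LinearMap.range f) →ₗ[B] E1 := (LinearMap.range f).liftQ u hle
  have hu' : ∀ w : E0 ⧸ LinearMap.range f,
      u' w ∈ (maximalIdeal A) • (⊤ : Submodule A E1) →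
        w ∈ (maximalIdeal A) • (⊤ : Submodule A (E0 ⧸ LinearMap.range f)) := by
    intro w hw
    obtain ⟨e, rfl⟩ := Submodule.mkQ_surjective _ w
    have he : u e ∈ 𝔟 • (⊤ : Submodule B E1) := mem_map_smul_top_of_mem_smul_top _ hw
    obtain ⟨φ, hφ⟩ := hKle e he
    have h1 : (LinearMap.range f).mkQ e = (LinearMap.range f).mkQ (e - f φ) := by
      have h2 : (LinearMap.range f).mkQ (f φ) = 0 := by
        rw [Submodule.mkQ_apply, Submodule.Quotient.mk_eq_zero]
        exact LinearMap.mem_range_self f φ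
      rw [map_sub, h2, sub_zero]
    rw [h1]
    exact Groth.Agent.Lib.Helper9.ComplexFlat.map_mem_smul_top (maximalIdeal A)
      ((LinearMap.range f).mkQ.restrictScalars A) (mem_smul_top_of_mem_map_smul_top _ hφ)
  obtain ⟨-, hflat⟩ := injective_and_flat_coker (A := A) (B := B) u' hu'
  have hrange : LinearMap.range u' = LinearMap.ker v := by
    rw [Submodule.range_liftQ]
    exact (LinearMap.exact_iff.mp huv).symm
  let eG : (E1 ⧸ LinearMap.range u') ≃ₗ[B] G :=
    (Submodule.quotEquivOfEq _ _ hrange).trans (v.quotKerEquivOfSurjective hv)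
  exact Module.Flat.of_linearEquiv (eG.restrictScalars A).symm

include huv hv in
omit [IsNoetherianRing A] [IsNoetherianRing B] [IsLocalRing A] [IsLocalRing B]
  [IsLocalHom (algebraMap A B)] [Module.Finite B E0] [Module.Flat A E0] [Module.Finite B E1]
  [Module.Finite B G] in
theorem flat_ker_of_flat [Module.Flat A G] : Module.Flat A (LinearMap.ker v) :=
  flat_of_exact_ker ((LinearMap.ker v).subtype.restrictScalars A) (v.restrictScalars A)
    (Submodule.subtype_injective _) hv (LinearMap.exact_subtype_ker_map v)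

include hf hfu huv hv in
omit [IsNoetherianRing A] [IsNoetherianRing B] [IsLocalRing A] [IsLocalRing B]
  [IsLocalHom (algebraMap A B)] [Module.Finite B F] [Module.Finite B E0] [Module.Finite B E1]
  [Module.Finite B G] in
theorem flat_F_of_flat [Module.Flat A G] : Module.Flat A F := by
  haveI := flat_ker_of_flat A B E0 E1 G u v huv hv
  exact flat_of_exact_ker (f.restrictScalars A) ((toKer B E0 E1 G u v huv).restrictScalars A) hf
    (toKer_surjective B E0 E1 G u v huv) (exact_toKer B F E0 E1 G f u v hfu huv)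

include hf hfu huv hv in
/-- If `G` is flat then `depth_J (F/𝔞F) ≥ 2` for every ideal `𝔞` of `A`. -/
theorem two_le_depth_quot_of_flat [Module.Flat A G]
    (h0 : 2 ≤ LocCoh.idealDepth J
      (E0 ⧸ ((maximalIdeal A).map (algebraMap A B)) • (⊤ : Submodule B E0)))
    (h1 : 1 ≤ LocCoh.idealDepth J
      (E1 ⧸ ((maximalIdeal A).map (algebraMap A B)) • (⊤ : Submodule B E1)))
    (𝔞 : Ideal A) :
    2 ≤ LocCoh.idealDepth J (F ⧸ (𝔞.map (algebraMap A B)) • (⊤ : Submodule B F)) := by
  set 𝔟 : Ideal B := 𝔞.map (algebraMap A B) with h𝔟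
  let β := toKer B E0 E1 G u v huv
  have hβ : Function.Surjective β := toKer_surjective B E0 E1 G u v huv
  have hex : Function.Exact f β := exact_toKer B F E0 E1 G f u v hfu huv
  haveI hQflat : Module.Flat A (LinearMap.ker v) := flat_ker_of_flat A B E0 E1 G u v huv hv
  -- flat quotients
  have hkerβ : LinearMap.range f = LinearMap.ker β := (LinearMap.exact_iff.mp hex).symm
  haveI : Module.Flat A (E0 ⧸ LinearMap.range f) :=
    Module.Flat.of_linearEquiv
      (((Submodule.quotEquivOfEq _ _ hkerβ).trans (β.quotKerEquivOfSurjective hβ)).restrictScalars A)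
  haveI : Module.Flat A (E1 ⧸ LinearMap.ker v) :=
    Module.Flat.of_linearEquiv ((v.quotKerEquivOfSurjective hv).restrictScalars A)
  let ft := barMap 𝔟 f
  let βt := barMap 𝔟 β
  let jt := barMap 𝔟 (LinearMap.ker v).subtype
  -- `f̃` injective
  have hft : Function.Injective ft := by
    rw [injective_iff_map_eq_zero]
    intro φb h
    obtain ⟨φ, rfl⟩ := Submodule.mkQ_surjective _ φb
    rw [Submodule.mkQ_apply] at h ⊢
    have h1 : f φ ∈ 𝔟 • (⊤ : Submodule B E0) := (Submodule.Quotient.mk_eq_zero _).mp h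
    have h2 : f φ ∈ 𝔟 • LinearMap.range f :=
      mem_smul_of_flat_quotient 𝔞 (LinearMap.range f) (LinearMap.mem_range_self f φ)
        (mem_smul_top_of_mem_map_smul_top 𝔞 h1)
    have h3 : ∃ φ' ∈ 𝔟 • (⊤ : Submodule B F), f φ' = f φ := by
      refine Submodule.smul_induction_on h2 ?_ ?_
      · rintro b hb _ ⟨φ₀, rfl⟩
        exact ⟨b • φ₀, Submodule.smul_mem_smul hb Submodule.mem_top, map_smul _ _ _⟩
      · rintro t1 t2 ⟨v1, hv1, e1⟩ ⟨v2, hv2, e2⟩
        exact ⟨v1 + v2, add_mem hv1 hv2, by rw [map_add, e1, e2]⟩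
    obtain ⟨φ', hφ', hff⟩ := h3
    rw [Submodule.Quotient.mk_eq_zero, ← hf hff]
    exact hφ'
  -- `j̃` injective
  have hjt : Function.Injective jt := by
    rw [injective_iff_map_eq_zero]
    intro qb h
    obtain ⟨q, rfl⟩ := Submodule.mkQ_surjective _ qb
    rw [Submodule.mkQ_apply] at h ⊢
    have h1 : (q : E1) ∈ 𝔟 • (⊤ : Submodule B E1) := (Submodule.Quotient.mk_eq_zero _).mp h
    have h2 : (q : E1) ∈ 𝔟 • LinearMap.ker v :=
      mem_smul_of_flat_quotient 𝔞 (LinearMap.ker v) q.2 (mem_smul_top_of_mem_map_smul_top 𝔞 h1)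
    have h3 : ∃ q' ∈ 𝔟 • (⊤ : Submodule B (LinearMap.ker v)), (q' : E1) = (q : E1) := by
      refine Submodule.smul_induction_on h2 ?_ ?_
      · intro b hb y hy
        exact ⟨b • ⟨y, hy⟩, Submodule.smul_mem_smul hb Submodule.mem_top, rfl⟩
      · rintro t1 t2 ⟨v1, hv1, e1⟩ ⟨v2, hv2, e2⟩
        exact ⟨v1 + v2, add_mem hv1 hv2, by rw [Submodule.coe_add, e1, e2]⟩
    obtain ⟨q', hq', hqq⟩ := h3
    rw [Submodule.Quotient.mk_eq_zero, ← Subtype.ext hqq]
    exact hq'
  -- exactness
  have hβt : Function.Surjective βt := by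
    intro yb
    obtain ⟨y, rfl⟩ := Submodule.mkQ_surjective _ yb
    obtain ⟨e, rfl⟩ := hβ y
    exact ⟨Submodule.Quotient.mk e, rfl⟩
  have hext : Function.Exact ft βt := by
    intro eb
    obtain ⟨e, rfl⟩ := Submodule.mkQ_surjective _ eb
    constructor
    · intro h
      rw [Submodule.mkQ_apply] at h
      have h1 : β e ∈ 𝔟 • (⊤ : Submodule B (LinearMap.ker v)) :=
        (Submodule.Quotient.mk_eq_zero _).mp h
      have h2 : ∃ e' ∈ 𝔟 • (⊤ : Submodule B E0), β e' = β e := by
        refine Submodule.smul_induction_on h1 ?_ ?_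
        · intro b hb y _
          obtain ⟨e₀, rfl⟩ := hβ y
          exact ⟨b • e₀, Submodule.smul_mem_smul hb Submodule.mem_top, map_smul _ _ _⟩
        · rintro t1 t2 ⟨v1, hv1, e1⟩ ⟨v2, hv2, e2⟩
          exact ⟨v1 + v2, add_mem hv1 hv2, by rw [map_add, e1, e2]⟩
      obtain ⟨e', he', hee⟩ := h2
      have h3 : β (e - e') = 0 := by rw [map_sub, hee, sub_self]
      obtain ⟨φ, hφ⟩ := (hex _).mp h3
      refine ⟨Submodule.Quotient.mk φ, ?_⟩
      show ft (Submodule.Quotient.mk φ) = (𝔟 • (⊤ : Submodule B E0)).mkQ e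
      rw [barMap_mk, hφ, Submodule.mkQ_apply, Submodule.Quotient.mk_sub,
        (Submodule.Quotient.mk_eq_zero _).mpr he', sub_zero]
    · rintro ⟨φb, hφb⟩
      obtain ⟨φ, rfl⟩ := Submodule.mkQ_surjective _ φb
      rw [← hφb]
      show βt (ft (Submodule.Quotient.mk φ)) = 0
      rw [barMap_mk, barMap_mk, hex.apply_apply_eq_zero, Submodule.Quotient.mk_zero]
  -- depths
  obtain ⟨x, y, hxJ, hyJ, hx, hy⟩ := exists_regular_pair_of_two_le_depth J _ h0
  have hd2 : 2 ≤ LocCoh.idealDepth J (E0 ⧸ 𝔟 • (⊤ : Submodule B E0)) :=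
    two_le_idealDepth_quot J E0 x y hxJ hyJ hx hy 𝔞
  obtain ⟨x', hx'J, hx'⟩ := exists_regular_of_one_le_depth J _ h1
  obtain ⟨hx'M, hfl⟩ := regular_and_flat_quot E1 x' hx'
  haveI := hfl
  have hx'Y := isSMulRegular_quot_of_flat_quot E1 x' hx'M 𝔞
  have hd3 : 1 ≤ LocCoh.idealDepth J
      ((LinearMap.ker v) ⧸ 𝔟 • (⊤ : Submodule B (LinearMap.ker v))) :=
    one_le_idealDepth_of_regular J hx'J (isSMulRegular_of_injective jt hjt hx'Y)
  have hdl := (Groth.Agent.Lib.Helper4.idealDepth_shortExact J ft βt hft hβt hext).2.2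
  refine le_trans (le_min hd2 ?_) hdl
  rw [← one_add_one_eq_two]
  exact add_le_add_left hd3 1

end main

end Groth.Agent.Lib.Helper9.KollarS2
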