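import Mathlib
import Groth.Agent.S18708
import Groth.Agent.Lib.Helper4.LocTrans
import Groth.Agent.Lib.Helper4.Hartshorne
import Groth.Agent.Lib.Helper22.DimFlat4
import Groth.Agent.Lib.Helper26.KollarDepth
import Groth.Agent.Lib.Helper28.DepthLoc
import Groth.Agent.Lib.Helper14.FlatOpen.Open
import Groth.Agent.Lib.Helper9.KollarS2

/-!
# Globalising Kollár's relative `S₂` criterion (helper9)

Plumbing to pass from a pair of Noetherian rings `A → B` and a prime `q` of `B` to the local
homomorphism `A_p → B_q` and the localized modules.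
-/

set_option autoImplicit false
set_option maxHeartbeats 800000
set_option linter.unusedSectionVars false
set_option linter.unusedVariables false
set_option linter.style.haveILetI false
universe u

open scoped Pointwise
open IsLocalRing

namespace Groth.Agent.Lib.Helper9.KollarGlobal

/-! ### localization commutes with `X ↦ X/𝔞X` -/

section QL

variable {A B : Type u} [CommRing A] [CommRing B] [Algebra A B] (S : Submonoid B)
  (X : Type u) [AddCommGroup X] [Module B X] [Module A X] [IsScalarTower A B X] (𝔞 : Ideal A)

lemma localized'_smul_top :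
    ((𝔞.map (algebraMap A B)) • (⊤ : Submodule B X)).localized' (Localization S) S
        (LocalizedModule.mkLinearMap S X) =
      (𝔞.map (algebraMap A (Localization S))) •
        (⊤ : Submodule (Localization S) (LocalizedModule S X)) := by
  rw [Submodule.localized'_smul, Ideal.localized'_eq_map, Submodule.localized'_top, Ideal.map_map,
    ← IsScalarTower.algebraMap_eq]

/-- the localization map on quotients -/
noncomputable def quotLocMap :
    (X ⧸ (𝔞.map (algebraMap A B)) • (⊤ : Submodule B X)) →ₗ[B]
      (LocalizedModule S X ⧸ (𝔞.map (algebraMap A (Localization S))) •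
        (⊤ : Submodule (Localization S) (LocalizedModule S X))) :=
  ((Submodule.quotEquivOfEq _ _ (localized'_smul_top S X 𝔞)).restrictScalars B).toLinearMap ∘ₗ
    (Submodule.toLocalizedQuotient' (Localization S) S (LocalizedModule.mkLinearMap S X)
      ((𝔞.map (algebraMap A B)) • (⊤ : Submodule B X)))

instance isLocalizedModule_quotLocMap : IsLocalizedModule S (quotLocMap S X 𝔞) := by
  unfold quotLocMap
  exact IsLocalizedModule.of_linearEquiv S _ _

end QL

/-! ### flatness through a localization of a localization -/

section flatLocLoc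

variable {A B : Type u} [CommRing A] [CommRing B] [Algebra A B]
  (X : Type u) [AddCommGroup X] [Module B X] [Module A X] [IsScalarTower A B X]
  (q : Ideal B) [q.IsPrime]

theorem flat_locLoc (Q : Ideal (Localization.AtPrime q)) [Q.IsPrime]
    (h : Module.Flat A (LocalizedModule
      (Q.comap (algebraMap B (Localization.AtPrime q))).primeCompl X)) :
    Module.Flat A (LocalizedModule Q.primeCompl (LocalizedModule q.primeCompl X)) := by
  let g : X →ₗ[B] LocalizedModule Q.primeCompl (LocalizedModule q.primeCompl X) :=
    ((LocalizedModule.mkLinearMap Q.primeCompl (LocalizedModule q.primeCompl X)).restrictScalars B)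
      ∘ₗ (LocalizedModule.mkLinearMap q.primeCompl X)
  haveI : IsLocalizedModule (Q.comap (algebraMap B (Localization.AtPrime q))).primeCompl g :=
    Groth.Agent.Lib.Helper4.LocTrans.isLocalizedModule_comp_localization q.primeCompl Q
      (LocalizedModule.mkLinearMap q.primeCompl X)
      (LocalizedModule.mkLinearMap Q.primeCompl (LocalizedModule q.primeCompl X))
  let e := IsLocalizedModule.iso (Q.comap (algebraMap B (Localization.AtPrime q))).primeCompl g
  exact Module.Flat.of_linearEquiv (e.symm.restrictScalars A)

end flatLocLoc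

/-! ### pointwise fibre depth versus ideal depth -/

section depth

variable (A B : Type u) [CommRing A] [CommRing B] [IsNoetherianRing A] [IsNoetherianRing B]
  [Algebra A B] (J : Ideal B)
  (X : Type u) [AddCommGroup X] [Module B X] [Module A X] [IsScalarTower A B X]
  [Module.Finite B X] (q : Ideal B) [q.IsPrime]

theorem i2p (hJq : J ≤ q) :
    LocCoh.idealDepth (J.map (algebraMap B (Localization.AtPrime q))) (EGA4.FibLocMod A B q X) ≤
      LocCoh.idealDepth (q.map (algebraMap B (EGA4.FibLocRing A B q)))
        (EGA4.FibLocMod A B q X) := by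
  rw [Groth.Agent.Lib.Helper26.KollarDepth.map_fib_eq]
  haveI : Module.Finite (EGA4.FibLocRing A B q) (EGA4.FibLocMod A B q X) :=
    Module.Finite.of_restrictScalars_finite (Localization.AtPrime q) _ _
  have d4 := Groth.Agent.Lib.Helper22.DimFlat.depth_quotient_ring_eq
    ((q.comap (algebraMap A B)).map (algebraMap A (Localization.AtPrime q)))
    (EGA4.FibLocMod A B q X)
  have d5 : LocCoh.idealDepth (maximalIdeal (EGA4.FibLocRing A B q)) (EGA4.FibLocMod A B q X) =
      LocCoh.idealDepth (maximalIdeal (Localization.AtPrime q)) (EGA4.FibLocMod A B q X) := d4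
  rw [d5]
  apply Groth.Agent.Lib.Helper4.idealDepth_le_of_zeroLocus_subset
  apply PrimeSpectrum.zeroLocus_anti_mono
  rw [SetLike.coe_subset_coe, ← Localization.AtPrime.map_eq_maximalIdeal]
  exact Ideal.map_mono hJq

theorem p2i (k : ℕ)
    (h : ∀ (q' : Ideal B) [q'.IsPrime], J ≤ q' → q' ≤ q →
      q'.comap (algebraMap A B) = q.comap (algebraMap A B) →
      (k : ℕ∞) ≤ LocCoh.idealDepth (q'.map (algebraMap B (EGA4.FibLocRing A B q')))
        (EGA4.FibLocMod A B q' X)) :
    (k : ℕ∞) ≤ LocCoh.idealDepth (J.map (algebraMap B (Localization.AtPrime q)))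
      (EGA4.FibLocMod A B q X) := by
  refine Groth.Agent.Lib.Helper28.le_idealDepth_of_forall_localization
    (M := EGA4.FibLocMod A B q X) _ k ?_
  intro Q _ hJQ hnt
  obtain ⟨𝔞, h𝔞⟩ : ∃ 𝔞 : Ideal A, 𝔞 = q.comap (algebraMap A B) := ⟨_, rfl⟩
  -- the prime `q'`
  let q' : Ideal B := Q.comap (algebraMap B (Localization.AtPrime q))
  haveI hq' : q'.IsPrime := Ideal.IsPrime.comap _
  have hJq' : J ≤ q' := Ideal.map_le_iff_le_comap.mp hJQ
  have hq'q : q' ≤ q := by
    have h1 : Q ≤ maximalIdeal (Localization.AtPrime q) :=
      IsLocalRing.le_maximalIdeal (Ideal.IsPrime.ne_top inferInstance)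
    have h2 : q' ≤ (maximalIdeal (Localization.AtPrime q)).comap
        (algebraMap B (Localization.AtPrime q)) :=
      Ideal.comap_mono (f := algebraMap B (Localization.AtPrime q)) h1
    have h3 : (maximalIdeal (Localization.AtPrime q)).comap
        (algebraMap B (Localization.AtPrime q)) = q := Localization.AtPrime.comap_maximalIdeal
    exact le_trans h2 h3.le
  -- the contraction of `q'`
  have hcomap : q'.comap (algebraMap A B) = q.comap (algebraMap A B) := by
    refine le_antisymm (Ideal.comap_mono hq'q) ?_
    intro a ha
    by_contra hna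
    have hc : algebraMap B (Localization.AtPrime q) (algebraMap A B a) ∈ Q.primeCompl := by
      intro hmem
      apply hna
      show algebraMap B (Localization.AtPrime q) (algebraMap A B a) ∈ Q
      exact hmem
    have hkill : ∀ x : EGA4.FibLocMod A B q X,
        algebraMap B (Localization.AtPrime q) (algebraMap A B a) • x = 0 := by
      intro x
      obtain ⟨y, rfl⟩ := Submodule.mkQ_surjective _ x
      rw [← map_smul, Submodule.mkQ_apply, Submodule.Quotient.mk_eq_zero,
        ← IsScalarTower.algebraMap_apply A B (Localization.AtPrime q)]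
      exact Submodule.smul_mem_smul (Ideal.mem_map_of_mem _ ha) Submodule.mem_top
    have hsub : Subsingleton (LocalizedModule Q.primeCompl (EGA4.FibLocMod A B q X)) := by
      rw [LocalizedModule.subsingleton_iff]
      intro x
      exact ⟨_, hc, hkill x⟩
    exact not_subsingleton _ hsub
  -- the two models of the localization of `X/𝔞X` at `q'`
  subst h𝔞
  have hloc : IsLocalizedModule q'.primeCompl
      (((LocalizedModule.mkLinearMap Q.primeCompl (EGA4.FibLocMod A B q X)).restrictScalars B) ∘ₗ
        quotLocMap q.primeCompl X (q.comap (algebraMap A B))) :=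
    Groth.Agent.Lib.Helper4.LocTrans.isLocalizedModule_comp_localization q.primeCompl Q
      (quotLocMap q.primeCompl X (q.comap (algebraMap A B)))
      (LocalizedModule.mkLinearMap Q.primeCompl (EGA4.FibLocMod A B q X))
  haveI hLoc : IsLocalization.AtPrime (Localization.AtPrime Q) q' :=
    IsLocalization.isLocalization_atPrime_localization_atPrime q.primeCompl Q
  have d1 := (Groth.Agent.Lib.Helper4.LocTrans.depth_supportDim_of_isLocalizedModule q'
    (Localization.AtPrime Q)
    (M := X ⧸ ((q.comap (algebraMap A B)).map (algebraMap A B)) • (⊤ : Submodule B X))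
    (LocalizedModule Q.primeCompl (EGA4.FibLocMod A B q X))
    (((LocalizedModule.mkLinearMap Q.primeCompl (EGA4.FibLocMod A B q X)).restrictScalars B) ∘ₗ
        quotLocMap q.primeCompl X (q.comap (algebraMap A B)))).1
  have d2 := (Groth.Agent.Lib.Helper4.LocTrans.depth_supportDim_of_isLocalizedModule q'
    (Localization.AtPrime q')
    (M := X ⧸ ((q.comap (algebraMap A B)).map (algebraMap A B)) • (⊤ : Submodule B X))
    (LocalizedModule q'.primeCompl X ⧸
      ((q.comap (algebraMap A B)).map (algebraMap A (Localization.AtPrime q'))) •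
        (⊤ : Submodule (Localization.AtPrime q') (LocalizedModule q'.primeCompl X)))
    (quotLocMap q'.primeCompl X (q.comap (algebraMap A B)))).1
  have hideal : ((q.comap (algebraMap A B)).map (algebraMap A (Localization.AtPrime q'))) •
        (⊤ : Submodule (Localization.AtPrime q') (LocalizedModule q'.primeCompl X)) =
      ((q'.comap (algebraMap A B)).map (algebraMap A (Localization.AtPrime q'))) •
        (⊤ : Submodule (Localization.AtPrime q') (LocalizedModule q'.primeCompl X)) := by
    rw [hcomap]
  have d3 : LocCoh.depth (Localization.AtPrime q')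
      (LocalizedModule q'.primeCompl X ⧸
        ((q.comap (algebraMap A B)).map (algebraMap A (Localization.AtPrime q'))) •
          (⊤ : Submodule (Localization.AtPrime q') (LocalizedModule q'.primeCompl X))) =
      LocCoh.depth (Localization.AtPrime q') (EGA4.FibLocMod A B q' X) := by
    unfold LocCoh.depth
    exact Groth.Agent.Lib.Helper4.idealDepth_congr _ (Submodule.quotEquivOfEq _ _ hideal)
  haveI : Module.Finite (EGA4.FibLocRing A B q') (EGA4.FibLocMod A B q' X) :=
    Module.Finite.of_restrictScalars_finite (Localization.AtPrime q') _ _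
  have d4 : LocCoh.depth (EGA4.FibLocRing A B q') (EGA4.FibLocMod A B q' X) =
      LocCoh.depth (Localization.AtPrime q') (EGA4.FibLocMod A B q' X) :=
    Groth.Agent.Lib.Helper22.DimFlat.depth_quotient_ring_eq
      ((q'.comap (algebraMap A B)).map (algebraMap A (Localization.AtPrime q')))
      (EGA4.FibLocMod A B q' X)
  have hk := h q' hJq' hq'q hcomap
  rw [Groth.Agent.Lib.Helper26.KollarDepth.map_fib_eq] at hk
  rw [d1, ← d2, d3, ← d4]
  exact hk

end depth


/-! ### the local criterion at a prime `q` of `B` -/

section core

variable (A B : Type u) [CommRing A] [CommRing B] [IsNoetherianRing A] [IsNoetherianRing B]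
  [Algebra A B] (J : Ideal B)
  (F E0 E1 G : Type u) [AddCommGroup F] [Module B F] [Module A F] [IsScalarTower A B F]
  [Module.Finite B F]
  [AddCommGroup E0] [Module B E0] [Module A E0] [IsScalarTower A B E0] [Module.Finite B E0]
  [Module.Flat A E0]
  [AddCommGroup E1] [Module B E1] [Module A E1] [IsScalarTower A B E1] [Module.Finite B E1]
  [Module.Flat A E1]
  [AddCommGroup G] [Module B G] [Module A G] [IsScalarTower A B G] [Module.Finite B G]
  (f : F →ₗ[B] E0) (u : E0 →ₗ[B] E1) (v : E1 →ₗ[B] G)
  (hf : Function.Injective f) (hfu : Function.Exact f u) (huv : Function.Exact u v)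
  (hv : Function.Surjective v)
  (hGU : ∀ q : PrimeSpectrum B, ¬ J ≤ q.asIdeal → FlatCA.FlatAt A q.asIdeal G)
  (q : Ideal B) [q.IsPrime]

local notation "Ap" => Localization.AtPrime (Ideal.comap (algebraMap A B) q)
local notation "Bq" => Localization.AtPrime q
local notation "Jq" => Ideal.map (algebraMap B (Localization.AtPrime q)) J

include hf hfu huv hv hGU in
theorem core
    (h0 : 2 ≤ LocCoh.idealDepth Jq (EGA4.FibLocMod A B q E0))
    (h1 : 1 ≤ LocCoh.idealDepth Jq (EGA4.FibLocMod A B q E1)) :
    (2 ≤ LocCoh.idealDepth Jq (EGA4.FibLocMod A B q F) ↔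
      Module.Flat A (LocalizedModule q.primeCompl G)) ∧
    (Module.Flat A (LocalizedModule q.primeCompl G) →
      Module.Flat A (LocalizedModule q.primeCompl F)) := by
  obtain ⟨p, hp⟩ : ∃ p : Ideal A, p = q.comap (algebraMap A B) := ⟨_, rfl⟩
  haveI hpp : p.IsPrime := hp ▸ Ideal.IsPrime.comap _
  haveI : q.LiesOver p := ⟨hp⟩
  letI := Localization.AtPrime.algebraOfLiesOver p q
  haveI : IsLocalHom (algebraMap (Localization.AtPrime p) (Localization.AtPrime q)) :=
    Localization.isLocalHom_localRingHom p q (algebraMap A B) Ideal.LiesOver.over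
  have hI : p.map (algebraMap A (Localization.AtPrime q)) =
      (maximalIdeal (Localization.AtPrime p)).map
        (algebraMap (Localization.AtPrime p) (Localization.AtPrime q)) := by
    rw [← Localization.AtPrime.map_eq_maximalIdeal, Ideal.map_map,
      ← IsScalarTower.algebraMap_eq]
  subst hp
  -- module structures over `A_p`
  letI mF : Module Ap (LocalizedModule q.primeCompl F) :=
    Module.compHom (LocalizedModule q.primeCompl F) (algebraMap Ap Bq)
  haveI tF : IsScalarTower Ap Bq (LocalizedModule q.primeCompl F) :=
    IsScalarTower.of_algebraMap_smul fun _ _ => rfl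
  haveI sF : IsScalarTower A Ap (LocalizedModule q.primeCompl F) :=
    IsScalarTower.of_algebraMap_smul fun a x => by
      show algebraMap Ap Bq (algebraMap A Ap a) • x = a • x
      rw [← IsScalarTower.algebraMap_apply A Ap Bq, algebraMap_smul]
  letI mE0 : Module Ap (LocalizedModule q.primeCompl E0) :=
    Module.compHom (LocalizedModule q.primeCompl E0) (algebraMap Ap Bq)
  haveI tE0 : IsScalarTower Ap Bq (LocalizedModule q.primeCompl E0) :=
    IsScalarTower.of_algebraMap_smul fun _ _ => rfl
  haveI sE0 : IsScalarTower A Ap (LocalizedModule q.primeCompl E0) :=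
    IsScalarTower.of_algebraMap_smul fun a x => by
      show algebraMap Ap Bq (algebraMap A Ap a) • x = a • x
      rw [← IsScalarTower.algebraMap_apply A Ap Bq, algebraMap_smul]
  letI mE1 : Module Ap (LocalizedModule q.primeCompl E1) :=
    Module.compHom (LocalizedModule q.primeCompl E1) (algebraMap Ap Bq)
  haveI tE1 : IsScalarTower Ap Bq (LocalizedModule q.primeCompl E1) :=
    IsScalarTower.of_algebraMap_smul fun _ _ => rfl
  haveI sE1 : IsScalarTower A Ap (LocalizedModule q.primeCompl E1) :=
    IsScalarTower.of_algebraMap_smul fun a x => by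
      show algebraMap Ap Bq (algebraMap A Ap a) • x = a • x
      rw [← IsScalarTower.algebraMap_apply A Ap Bq, algebraMap_smul]
  letI mG : Module Ap (LocalizedModule q.primeCompl G) :=
    Module.compHom (LocalizedModule q.primeCompl G) (algebraMap Ap Bq)
  haveI tG : IsScalarTower Ap Bq (LocalizedModule q.primeCompl G) :=
    IsScalarTower.of_algebraMap_smul fun _ _ => rfl
  haveI sG : IsScalarTower A Ap (LocalizedModule q.primeCompl G) :=
    IsScalarTower.of_algebraMap_smul fun a x => by
      show algebraMap Ap Bq (algebraMap A Ap a) • x = a • x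
      rw [← IsScalarTower.algebraMap_apply A Ap Bq, algebraMap_smul]
  -- flatness of the localized `E`'s
  haveI flE0 : Module.Flat Ap (LocalizedModule q.primeCompl E0) :=
    (Module.flat_iff_of_isLocalization Ap (Ideal.comap (algebraMap A B) q).primeCompl
      (LocalizedModule q.primeCompl E0)).mpr
      (Groth.Agent.Lib.Helper9.KollarS2.flat_localizedModule (A := A) q.primeCompl E0)
  haveI flE1 : Module.Flat Ap (LocalizedModule q.primeCompl E1) :=
    (Module.flat_iff_of_isLocalization Ap (Ideal.comap (algebraMap A B) q).primeCompl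
      (LocalizedModule q.primeCompl E1)).mpr
      (Groth.Agent.Lib.Helper9.KollarS2.flat_localizedModule (A := A) q.primeCompl E1)
  -- the localized maps
  have hf' : Function.Injective (LocalizedModule.map q.primeCompl f) :=
    LocalizedModule.map_injective q.primeCompl f hf
  have hfu' : Function.Exact (LocalizedModule.map q.primeCompl f)
      (LocalizedModule.map q.primeCompl u) := LocalizedModule.map_exact q.primeCompl f u hfu
  have huv' : Function.Exact (LocalizedModule.map q.primeCompl u)
      (LocalizedModule.map q.primeCompl v) := LocalizedModule.map_exact q.primeCompl u v huv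
  have hv' : Function.Surjective (LocalizedModule.map q.primeCompl v) :=
    LocalizedModule.map_surjective q.primeCompl v hv
  -- flatness of `G` off `V(J)` in `Spec B_q`
  have hGU' : ∀ Q : PrimeSpectrum Bq, ¬ Jq ≤ Q.asIdeal →
      FlatCA.FlatAt Ap Q.asIdeal (LocalizedModule q.primeCompl G) := by
    intro Q hQ
    have hnJ : ¬ J ≤ Q.asIdeal.comap (algebraMap B Bq) := fun h =>
      hQ (Ideal.map_le_iff_le_comap.mpr h)
    have hfl := hGU ⟨Q.asIdeal.comap (algebraMap B Bq), Ideal.IsPrime.comap _⟩ hnJ
    have hfl2 : Module.Flat A (LocalizedModule Q.asIdeal.primeCompl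
        (LocalizedModule q.primeCompl G)) := flat_locLoc G q Q.asIdeal hfl
    haveI sQ : IsScalarTower A Ap (LocalizedModule Q.asIdeal.primeCompl
        (LocalizedModule q.primeCompl G)) :=
      IsScalarTower.of_algebraMap_smul fun a x => by
        induction x using LocalizedModule.induction_on with
        | h m s =>
          rw [LocalizedModule.smul'_mk, LocalizedModule.smul'_mk, algebraMap_smul]
    exact (Module.flat_iff_of_isLocalization Ap (Ideal.comap (algebraMap A B) q).primeCompl
      (LocalizedModule Q.asIdeal.primeCompl (LocalizedModule q.primeCompl G))).mpr hfl2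
  -- depth conversions
  have conv : ∀ (X : Type u) [AddCommGroup X] [Module B X],
      LocCoh.idealDepth Jq (EGA4.FibMod Ap Bq (LocalizedModule q.primeCompl X)) =
        LocCoh.idealDepth Jq (EGA4.FibLocMod A B q X) := by
    intro X _ _
    refine Groth.Agent.Lib.Helper4.idealDepth_congr _ (Submodule.quotEquivOfEq _ _ ?_)
    rw [hI]
  have h0' : 2 ≤ LocCoh.idealDepth Jq (EGA4.FibMod Ap Bq (LocalizedModule q.primeCompl E0)) := by
    rw [conv E0]; exact h0
  have h1' : 1 ≤ LocCoh.idealDepth Jq (EGA4.FibMod Ap Bq (LocalizedModule q.primeCompl E1)) := by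
    rw [conv E1]; exact h1
  obtain ⟨r1, -, r3⟩ := Groth.Agent.S18708.result Ap Bq Jq
    (LocalizedModule q.primeCompl F) (LocalizedModule q.primeCompl E0)
    (LocalizedModule q.primeCompl E1) (LocalizedModule q.primeCompl G)
    (LocalizedModule.map q.primeCompl f) (LocalizedModule.map q.primeCompl u)
    (LocalizedModule.map q.primeCompl v) hf' hfu' huv' hv' hGU' h0' h1'
  rw [conv F] at r1
  have eG := Module.flat_iff_of_isLocalization Ap (Ideal.comap (algebraMap A B) q).primeCompl
    (LocalizedModule q.primeCompl G)
  have eF := Module.flat_iff_of_isLocalization Ap (Ideal.comap (algebraMap A B) q).primeCompl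
    (LocalizedModule q.primeCompl F)
  exact ⟨r1.trans eG, fun h => eF.mp (r3 (eG.mpr h))⟩

end core

end Groth.Agent.Lib.Helper9.KollarGlobal
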