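import Mathlib
import Groth.Agent.Lib.Helper9.KollarGlobal
import Groth.Agent.Lib.Helper28.Reflexive

/-!
# Serre's condition on a fibre local ring, prime by prime (helper9)

`HasSk k (B_q/𝔞B_q) (X_q/𝔞X_q)` is equivalent to the closed point conditions at all primes
`q' ⊆ q` of `B` with the same contraction to `A`.
-/

set_option autoImplicit false
set_option maxHeartbeats 800000
set_option linter.unusedSectionVars false
set_option linter.unusedVariables false
set_option linter.style.haveILetI false
universe u

open IsLocalRing

namespace Groth.Agent.Lib.Helper9.QGorT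

/-! ### localizing a module over a quotient ring -/

section T2

variable {S : Type u} [CommRing S] [IsNoetherianRing S] (I : Ideal S)
  (M : Type u) [AddCommGroup M] [Module S M] [Module (S ⧸ I) M] [IsScalarTower S (S ⧸ I) M]
  [Module.Finite (S ⧸ I) M] (𝔓 : Ideal (S ⧸ I)) [𝔓.IsPrime]

theorem t2 (Q : Ideal S) [Q.IsPrime] (hQ : Q = 𝔓.comap (Ideal.Quotient.mk I)) :
    LocCoh.depth (Localization.AtPrime 𝔓) (LocalizedModule 𝔓.primeCompl M) =
      LocCoh.depth (Localization.AtPrime Q) (LocalizedModule Q.primeCompl M) ∧
    Module.supportDim (Localization.AtPrime 𝔓) (LocalizedModule 𝔓.primeCompl M) =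
      Module.supportDim (Localization.AtPrime Q) (LocalizedModule Q.primeCompl M) := by
  haveI : Module.Finite S M := Module.Finite.trans (S ⧸ I) M
  have hkill : Module.IsTorsionBySet (Localization.AtPrime Q) (LocalizedModule Q.primeCompl M)
      ((I.map (algebraMap S (Localization.AtPrime Q)) : Ideal (Localization.AtPrime Q)) :
        Set (Localization.AtPrime Q)) := by
    rw [Module.isTorsionBySet_iff_subset_annihilator, SetLike.coe_subset_coe,
      Ideal.map_le_iff_le_comap]
    intro i hi
    rw [Ideal.mem_comap, Module.mem_annihilator]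
    intro n
    induction n using LocalizedModule.induction_on with
    | h m s =>
      have h0 : i • m = 0 := by
        rw [← algebraMap_smul (S ⧸ I) i m, Ideal.Quotient.algebraMap_eq,
          Ideal.Quotient.eq_zero_iff_mem.mpr hi, zero_smul]
      rw [algebraMap_smul, LocalizedModule.smul'_mk, h0, LocalizedModule.zero_mk]
  letI mL : Module (Localization.AtPrime Q ⧸ I.map (algebraMap S (Localization.AtPrime Q)))
      (LocalizedModule Q.primeCompl M) := hkill.module
  haveI tL : IsScalarTower (Localization.AtPrime Q)
      (Localization.AtPrime Q ⧸ I.map (algebraMap S (Localization.AtPrime Q)))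
      (LocalizedModule Q.primeCompl M) := Module.IsTorsionBySet.isScalarTower hkill
  letI mSI : Module (S ⧸ I) (LocalizedModule Q.primeCompl M) :=
    Module.compHom (LocalizedModule Q.primeCompl M)
      (algebraMap (S ⧸ I)
        (Localization.AtPrime Q ⧸ I.map (algebraMap S (Localization.AtPrime Q))))
  haveI tSI : IsScalarTower (S ⧸ I)
      (Localization.AtPrime Q ⧸ I.map (algebraMap S (Localization.AtPrime Q)))
      (LocalizedModule Q.primeCompl M) := IsScalarTower.of_algebraMap_smul fun r x => rfl
  haveI tS : IsScalarTower S (S ⧸ I) (LocalizedModule Q.primeCompl M) :=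
    IsScalarTower.of_algebraMap_smul fun r x => by
      show algebraMap (S ⧸ I)
        (Localization.AtPrime Q ⧸ I.map (algebraMap S (Localization.AtPrime Q)))
        (algebraMap S (S ⧸ I) r) • x = r • x
      rw [← IsScalarTower.algebraMap_apply S (S ⧸ I)
        (Localization.AtPrime Q ⧸ I.map (algebraMap S (Localization.AtPrime Q))),
        IsScalarTower.algebraMap_apply S (Localization.AtPrime Q)
        (Localization.AtPrime Q ⧸ I.map (algebraMap S (Localization.AtPrime Q))),
        algebraMap_smul, algebraMap_smul]
  let g : M →ₗ[S ⧸ I] LocalizedModule Q.primeCompl M :=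
    { toFun := LocalizedModule.mkLinearMap Q.primeCompl M
      map_add' := map_add _
      map_smul' := by
        intro r m
        obtain ⟨r, rfl⟩ := Ideal.Quotient.mk_surjective r
        have h1 : (Ideal.Quotient.mk I r) • m = r • m := by
          rw [← Ideal.Quotient.algebraMap_eq, algebraMap_smul]
        have h2 : (Ideal.Quotient.mk I r) • (LocalizedModule.mkLinearMap Q.primeCompl M m) =
            r • LocalizedModule.mkLinearMap Q.primeCompl M m := by
          rw [← Ideal.Quotient.algebraMap_eq, algebraMap_smul]
        rw [RingHom.id_apply, h1, h2, map_smul] }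
  haveI hg0 : IsLocalizedModule Q.primeCompl (g.restrictScalars S) := by
    have : g.restrictScalars S = LocalizedModule.mkLinearMap Q.primeCompl M :=
      LinearMap.ext fun _ => rfl
    rw [this]
    infer_instance
  have hg1 : IsLocalizedModule (Algebra.algebraMapSubmonoid (S ⧸ I) Q.primeCompl) g :=
    IsLocalizedModule.of_restrictScalars Q.primeCompl g
  have hsub : Algebra.algebraMapSubmonoid (S ⧸ I) Q.primeCompl = 𝔓.primeCompl := by
    ext x
    constructor
    · rintro ⟨s, hs, rfl⟩
      intro hmem
      apply hs
      rw [hQ]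
      exact hmem
    · intro hx
      obtain ⟨s, rfl⟩ := Ideal.Quotient.mk_surjective x
      refine ⟨s, fun hs => hx ?_, rfl⟩
      rw [hQ] at hs
      exact hs
  haveI hg2 : IsLocalizedModule 𝔓.primeCompl g := hsub ▸ hg1
  haveI hL : IsLocalization.AtPrime
      (Localization.AtPrime Q ⧸ I.map (algebraMap S (Localization.AtPrime Q))) 𝔓 := by
    have h : IsLocalization (Algebra.algebraMapSubmonoid (S ⧸ I) Q.primeCompl)
      (Localization.AtPrime Q ⧸ I.map (algebraMap S (Localization.AtPrime Q))) := inferInstance
    rw [hsub] at h
    exact h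
  haveI hLloc : IsLocalRing
      (Localization.AtPrime Q ⧸ I.map (algebraMap S (Localization.AtPrime Q))) :=
    IsLocalization.AtPrime.isLocalRing _ 𝔓
  haveI : Module.Finite (Localization.AtPrime Q ⧸ I.map (algebraMap S (Localization.AtPrime Q)))
      (LocalizedModule Q.primeCompl M) := Module.Finite.of_restrictScalars_finite
    (Localization.AtPrime Q) _ _
  have key := Groth.Agent.Lib.Helper4.LocTrans.depth_supportDim_of_isLocalizedModule 𝔓
    (Localization.AtPrime Q ⧸ I.map (algebraMap S (Localization.AtPrime Q))) (M := M)
    (LocalizedModule Q.primeCompl M) g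
  have d1 := Groth.Agent.Lib.Helper22.DimFlat.depth_quotient_ring_eq
    (I.map (algebraMap S (Localization.AtPrime Q))) (LocalizedModule Q.primeCompl M)
  have d2 := Groth.Agent.Lib.Helper22.DimFlat.supportDim_quotient_ring_eq
    (I.map (algebraMap S (Localization.AtPrime Q))) (LocalizedModule Q.primeCompl M)
  exact ⟨by rw [← key.1, d1], by rw [← key.2, d2]⟩

end T2


/-! ### localizing the fibre module at a smaller prime -/

section T1

open Groth.Agent.Lib.Helper9.KollarGlobal

variable (A B : Type u) [CommRing A] [CommRing B] [IsNoetherianRing A] [IsNoetherianRing B]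
  [Algebra A B]
  (X : Type u) [AddCommGroup X] [Module B X] [Module A X] [IsScalarTower A B X]
  [Module.Finite B X] (q : Ideal B) [q.IsPrime]

theorem t1 (Q : Ideal (Localization.AtPrime q)) [Q.IsPrime] (q' : Ideal B) [q'.IsPrime]
    (hq' : Q.comap (algebraMap B (Localization.AtPrime q)) = q')
    (hcomap : q'.comap (algebraMap A B) = q.comap (algebraMap A B)) :
    LocCoh.depth (Localization.AtPrime Q)
        (LocalizedModule Q.primeCompl (EGA4.FibLocMod A B q X)) =
      LocCoh.depth (EGA4.FibLocRing A B q') (EGA4.FibLocMod A B q' X) ∧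
    Module.supportDim (Localization.AtPrime Q)
        (LocalizedModule Q.primeCompl (EGA4.FibLocMod A B q X)) =
      Module.supportDim (EGA4.FibLocRing A B q') (EGA4.FibLocMod A B q' X) := by
  subst hq'
  have hloc : IsLocalizedModule (Q.comap (algebraMap B (Localization.AtPrime q))).primeCompl
      (((LocalizedModule.mkLinearMap Q.primeCompl (EGA4.FibLocMod A B q X)).restrictScalars B) ∘ₗ
        quotLocMap q.primeCompl X (q.comap (algebraMap A B))) :=
    Groth.Agent.Lib.Helper4.LocTrans.isLocalizedModule_comp_localization q.primeCompl Q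
      (quotLocMap q.primeCompl X (q.comap (algebraMap A B)))
      (LocalizedModule.mkLinearMap Q.primeCompl (EGA4.FibLocMod A B q X))
  haveI hLoc : IsLocalization.AtPrime (Localization.AtPrime Q)
      (Q.comap (algebraMap B (Localization.AtPrime q))) :=
    IsLocalization.isLocalization_atPrime_localization_atPrime q.primeCompl Q
  have d1 := Groth.Agent.Lib.Helper4.LocTrans.depth_supportDim_of_isLocalizedModule
    (Q.comap (algebraMap B (Localization.AtPrime q)))
    (Localization.AtPrime Q)
    (M := X ⧸ ((q.comap (algebraMap A B)).map (algebraMap A B)) • (⊤ : Submodule B X))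
    (LocalizedModule Q.primeCompl (EGA4.FibLocMod A B q X))
    (((LocalizedModule.mkLinearMap Q.primeCompl (EGA4.FibLocMod A B q X)).restrictScalars B) ∘ₗ
        quotLocMap q.primeCompl X (q.comap (algebraMap A B)))
  have d2 := Groth.Agent.Lib.Helper4.LocTrans.depth_supportDim_of_isLocalizedModule
    (Q.comap (algebraMap B (Localization.AtPrime q)))
    (Localization.AtPrime (Q.comap (algebraMap B (Localization.AtPrime q))))
    (M := X ⧸ ((q.comap (algebraMap A B)).map (algebraMap A B)) • (⊤ : Submodule B X))
    (LocalizedModule (Q.comap (algebraMap B (Localization.AtPrime q))).primeCompl X ⧸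
      ((q.comap (algebraMap A B)).map (algebraMap A
        (Localization.AtPrime (Q.comap (algebraMap B (Localization.AtPrime q)))))) •
        (⊤ : Submodule (Localization.AtPrime (Q.comap (algebraMap B (Localization.AtPrime q))))
          (LocalizedModule (Q.comap (algebraMap B (Localization.AtPrime q))).primeCompl X)))
    (quotLocMap (Q.comap (algebraMap B (Localization.AtPrime q))).primeCompl X
      (q.comap (algebraMap A B)))
  have hideal : ((q.comap (algebraMap A B)).map (algebraMap A
        (Localization.AtPrime (Q.comap (algebraMap B (Localization.AtPrime q)))))) •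
        (⊤ : Submodule (Localization.AtPrime (Q.comap (algebraMap B (Localization.AtPrime q))))
          (LocalizedModule (Q.comap (algebraMap B (Localization.AtPrime q))).primeCompl X)) =
      (((Q.comap (algebraMap B (Localization.AtPrime q))).comap (algebraMap A B)).map
        (algebraMap A
          (Localization.AtPrime (Q.comap (algebraMap B (Localization.AtPrime q)))))) •
        (⊤ : Submodule (Localization.AtPrime (Q.comap (algebraMap B (Localization.AtPrime q))))
          (LocalizedModule (Q.comap (algebraMap B (Localization.AtPrime q))).primeCompl X)) := by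
    rw [hcomap]
  have d3 : LocCoh.depth (Localization.AtPrime (Q.comap (algebraMap B (Localization.AtPrime q))))
      (LocalizedModule (Q.comap (algebraMap B (Localization.AtPrime q))).primeCompl X ⧸
        ((q.comap (algebraMap A B)).map (algebraMap A
          (Localization.AtPrime (Q.comap (algebraMap B (Localization.AtPrime q)))))) •
          (⊤ : Submodule (Localization.AtPrime (Q.comap (algebraMap B (Localization.AtPrime q))))
            (LocalizedModule (Q.comap (algebraMap B (Localization.AtPrime q))).primeCompl X))) =
      LocCoh.depth (Localization.AtPrime (Q.comap (algebraMap B (Localization.AtPrime q))))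
        (EGA4.FibLocMod A B (Q.comap (algebraMap B (Localization.AtPrime q))) X) := by
    unfold LocCoh.depth
    exact Groth.Agent.Lib.Helper4.idealDepth_congr _ (Submodule.quotEquivOfEq _ _ hideal)
  have d3' : Module.supportDim
      (Localization.AtPrime (Q.comap (algebraMap B (Localization.AtPrime q))))
      (LocalizedModule (Q.comap (algebraMap B (Localization.AtPrime q))).primeCompl X ⧸
        ((q.comap (algebraMap A B)).map (algebraMap A
          (Localization.AtPrime (Q.comap (algebraMap B (Localization.AtPrime q)))))) •
          (⊤ : Submodule (Localization.AtPrime (Q.comap (algebraMap B (Localization.AtPrime q))))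
            (LocalizedModule (Q.comap (algebraMap B (Localization.AtPrime q))).primeCompl X))) =
      Module.supportDim (Localization.AtPrime (Q.comap (algebraMap B (Localization.AtPrime q))))
        (EGA4.FibLocMod A B (Q.comap (algebraMap B (Localization.AtPrime q))) X) :=
    Module.supportDim_eq_of_equiv (Submodule.quotEquivOfEq _ _ hideal)
  haveI : Module.Finite (EGA4.FibLocRing A B (Q.comap (algebraMap B (Localization.AtPrime q))))
      (EGA4.FibLocMod A B (Q.comap (algebraMap B (Localization.AtPrime q))) X) :=
    Module.Finite.of_restrictScalars_finite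
      (Localization.AtPrime (Q.comap (algebraMap B (Localization.AtPrime q)))) _ _
  have d4 : LocCoh.depth (EGA4.FibLocRing A B (Q.comap (algebraMap B (Localization.AtPrime q))))
      (EGA4.FibLocMod A B (Q.comap (algebraMap B (Localization.AtPrime q))) X) =
      LocCoh.depth (Localization.AtPrime (Q.comap (algebraMap B (Localization.AtPrime q))))
        (EGA4.FibLocMod A B (Q.comap (algebraMap B (Localization.AtPrime q))) X) :=
    Groth.Agent.Lib.Helper22.DimFlat.depth_quotient_ring_eq
      (((Q.comap (algebraMap B (Localization.AtPrime q))).comap (algebraMap A B)).map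
        (algebraMap A (Localization.AtPrime (Q.comap (algebraMap B (Localization.AtPrime q))))))
      (EGA4.FibLocMod A B (Q.comap (algebraMap B (Localization.AtPrime q))) X)
  have d4' : Module.supportDim
      (EGA4.FibLocRing A B (Q.comap (algebraMap B (Localization.AtPrime q))))
      (EGA4.FibLocMod A B (Q.comap (algebraMap B (Localization.AtPrime q))) X) =
      Module.supportDim (Localization.AtPrime (Q.comap (algebraMap B (Localization.AtPrime q))))
        (EGA4.FibLocMod A B (Q.comap (algebraMap B (Localization.AtPrime q))) X) :=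
    Groth.Agent.Lib.Helper22.DimFlat.supportDim_quotient_ring_eq
      (((Q.comap (algebraMap B (Localization.AtPrime q))).comap (algebraMap A B)).map
        (algebraMap A (Localization.AtPrime (Q.comap (algebraMap B (Localization.AtPrime q))))))
      (EGA4.FibLocMod A B (Q.comap (algebraMap B (Localization.AtPrime q))) X)
  exact ⟨by rw [d1.1, ← d2.1, d3, ← d4], by rw [d1.2, ← d2.2, d3', ← d4']⟩

/-- the primes of the fibre local ring -/
theorem tcore (𝔓 : Ideal (EGA4.FibLocRing A B q)) [𝔓.IsPrime] (q' : Ideal B) [q'.IsPrime]
    (hq' : 𝔓.comap (algebraMap B (EGA4.FibLocRing A B q)) = q') :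
    q' ≤ q ∧ q'.comap (algebraMap A B) = q.comap (algebraMap A B) ∧
    LocCoh.depth (Localization.AtPrime 𝔓)
        (LocalizedModule 𝔓.primeCompl (EGA4.FibLocMod A B q X)) =
      LocCoh.depth (EGA4.FibLocRing A B q') (EGA4.FibLocMod A B q' X) ∧
    Module.supportDim (Localization.AtPrime 𝔓)
        (LocalizedModule 𝔓.primeCompl (EGA4.FibLocMod A B q X)) =
      Module.supportDim (EGA4.FibLocRing A B q') (EGA4.FibLocMod A B q' X) := by
  obtain ⟨Q, hQ⟩ : ∃ Q : Ideal (Localization.AtPrime q),
      Q = 𝔓.comap (Ideal.Quotient.mk ((q.comap (algebraMap A B)).map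
        (algebraMap A (Localization.AtPrime q)))) := ⟨_, rfl⟩
  haveI : Q.IsPrime := hQ ▸ Ideal.IsPrime.comap _
  have hQq' : Q.comap (algebraMap B (Localization.AtPrime q)) = q' := by
    rw [← hq', hQ, Ideal.comap_comap]
    rfl
  have hq'q : q' ≤ q := by
    have h1 : Q ≤ maximalIdeal (Localization.AtPrime q) :=
      IsLocalRing.le_maximalIdeal (Ideal.IsPrime.ne_top inferInstance)
    have h2 : Q.comap (algebraMap B (Localization.AtPrime q)) ≤
        (maximalIdeal (Localization.AtPrime q)).comap
        (algebraMap B (Localization.AtPrime q)) :=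
      Ideal.comap_mono (f := algebraMap B (Localization.AtPrime q)) h1
    have h3 : (maximalIdeal (Localization.AtPrime q)).comap
        (algebraMap B (Localization.AtPrime q)) = q := Localization.AtPrime.comap_maximalIdeal
    rw [hQq'] at h2
    exact le_trans h2 h3.le
  have hIQ : (q.comap (algebraMap A B)).map (algebraMap A (Localization.AtPrime q)) ≤ Q := by
    intro x hx
    rw [hQ, Ideal.mem_comap, Ideal.Quotient.eq_zero_iff_mem.mpr hx]
    exact zero_mem _
  have hcomap : q'.comap (algebraMap A B) = q.comap (algebraMap A B) := by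
    refine le_antisymm (Ideal.comap_mono hq'q) ?_
    intro a ha
    rw [Ideal.mem_comap, ← hQq', Ideal.mem_comap,
      ← IsScalarTower.algebraMap_apply A B (Localization.AtPrime q)]
    exact hIQ (Ideal.mem_map_of_mem _ ha)
  haveI : Module.Finite (EGA4.FibLocRing A B q) (EGA4.FibLocMod A B q X) :=
    Module.Finite.of_restrictScalars_finite (Localization.AtPrime q) _ _
  have h2 := t2 ((q.comap (algebraMap A B)).map (algebraMap A (Localization.AtPrime q)))
    (EGA4.FibLocMod A B q X) 𝔓 Q hQ
  have h1 := t1 A B X q Q q' hQq' hcomap
  exact ⟨hq'q, hcomap, h2.1.trans h1.1, h2.2.trans h1.2⟩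

/-- every prime below `q` with the same contraction comes from the fibre local ring -/
theorem exists_prime_fib (q' : Ideal B) [q'.IsPrime] (hq'q : q' ≤ q)
    (hcomap : q'.comap (algebraMap A B) = q.comap (algebraMap A B)) :
    ∃ (𝔓 : Ideal (EGA4.FibLocRing A B q)) (_ : 𝔓.IsPrime),
      𝔓.comap (algebraMap B (EGA4.FibLocRing A B q)) = q' := by
  have hdisj : Disjoint (q.primeCompl : Set B) (q' : Set B) := by
    rw [Set.disjoint_left]
    intro x hx hx'
    exact hx (hq'q hx')
  have hQp : (q'.map (algebraMap B (Localization.AtPrime q))).IsPrime :=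
    IsLocalization.isPrime_of_isPrime_disjoint q.primeCompl (Localization.AtPrime q) q'
      inferInstance hdisj
  have hQc : (q'.map (algebraMap B (Localization.AtPrime q))).comap
      (algebraMap B (Localization.AtPrime q)) = q' :=
    IsLocalization.comap_map_of_isPrime_disjoint q.primeCompl (Localization.AtPrime q)
      inferInstance hdisj
  have hker : RingHom.ker (Ideal.Quotient.mk ((q.comap (algebraMap A B)).map
      (algebraMap A (Localization.AtPrime q)))) ≤
      q'.map (algebraMap B (Localization.AtPrime q)) := by
    rw [Ideal.mk_ker, Ideal.map_le_iff_le_comap]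
    intro a ha
    rw [Ideal.mem_comap, IsScalarTower.algebraMap_apply A B (Localization.AtPrime q)]
    refine Ideal.mem_map_of_mem _ ?_
    have : a ∈ q'.comap (algebraMap A B) := by rw [hcomap]; exact ha
    exact this
  refine ⟨(q'.map (algebraMap B (Localization.AtPrime q))).map
    (Ideal.Quotient.mk ((q.comap (algebraMap A B)).map
      (algebraMap A (Localization.AtPrime q)))),
    Ideal.map_isPrime_of_surjective Ideal.Quotient.mk_surjective hker, ?_⟩
  have h1 : ((q'.map (algebraMap B (Localization.AtPrime q))).map
      (Ideal.Quotient.mk ((q.comap (algebraMap A B)).map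
        (algebraMap A (Localization.AtPrime q))))).comap
      (Ideal.Quotient.mk ((q.comap (algebraMap A B)).map
        (algebraMap A (Localization.AtPrime q)))) =
      q'.map (algebraMap B (Localization.AtPrime q)) := by
    rw [Ideal.comap_map_of_surjective _ Ideal.Quotient.mk_surjective, sup_eq_left]
    rw [← RingHom.ker_eq_comap_bot]
    exact hker
  have h2 : algebraMap B (EGA4.FibLocRing A B q) =
      (Ideal.Quotient.mk ((q.comap (algebraMap A B)).map
        (algebraMap A (Localization.AtPrime q)))).comp
        (algebraMap B (Localization.AtPrime q)) := rfl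
  rw [h2, ← Ideal.comap_comap, h1, hQc]

/-- **`(S_k)` on the fibre local ring, prime by prime.** -/
theorem hasSk_fib_iff (k : ℕ) :
    LocCoh.HasSk k (EGA4.FibLocRing A B q) (EGA4.FibLocMod A B q X) ↔
      ∀ (q' : Ideal B) [q'.IsPrime], q' ≤ q →
        q'.comap (algebraMap A B) = q.comap (algebraMap A B) →
        min (k : WithBot ℕ∞)
          (Module.supportDim (EGA4.FibLocRing A B q') (EGA4.FibLocMod A B q' X)) ≤
        ((LocCoh.depth (EGA4.FibLocRing A B q') (EGA4.FibLocMod A B q' X) : ℕ∞) :
          WithBot ℕ∞) := by
  constructor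
  · intro h q' _ hq'q hcomap
    obtain ⟨𝔓, h𝔓, h𝔓q'⟩ := exists_prime_fib A B q q' hq'q hcomap
    obtain ⟨-, -, hd, hs⟩ := tcore A B X q 𝔓 q' h𝔓q'
    have := h 𝔓
    rwa [hd, hs] at this
  · intro h 𝔓 _
    obtain ⟨q', hq'⟩ : ∃ q' : Ideal B, 𝔓.comap (algebraMap B (EGA4.FibLocRing A B q)) = q' :=
      ⟨_, rfl⟩
    haveI : q'.IsPrime := hq' ▸ Ideal.IsPrime.comap _
    obtain ⟨hq'q, hcomap, hd, hs⟩ := tcore A B X q 𝔓 q' hq'
    rw [hd, hs]
    exact h q' hq'q hcomap

end T1


/-! ### the fibre local ring as a fibre module -/

section self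

noncomputable def quotSelfEquiv {S : Type u} [CommRing S] (I : Ideal S) {N : Type u}
    [AddCommGroup N] [Module S N] (e : N ≃ₗ[S] S) :
    (N ⧸ I • (⊤ : Submodule S N)) ≃ₗ[S ⧸ I] (S ⧸ I) :=
  (Submodule.Quotient.equiv (I • (⊤ : Submodule S N)) I e (by
    rw [Submodule.map_smul'', Submodule.map_top, LinearEquiv.range, smul_eq_mul,
      Ideal.mul_top])).extendScalarsOfSurjective Ideal.Quotient.mk_surjective

variable (A B : Type u) [CommRing A] [CommRing B] [IsNoetherianRing A] [IsNoetherianRing B]
  [Algebra A B] (q : Ideal B) [q.IsPrime]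

noncomputable def fibSelfEquiv :
    EGA4.FibLocMod A B q B ≃ₗ[EGA4.FibLocRing A B q] EGA4.FibLocRing A B q :=
  quotSelfEquiv (S := Localization.AtPrime q)
    ((q.comap (algebraMap A B)).map (algebraMap A (Localization.AtPrime q)))
    (N := LocalizedModule q.primeCompl B)
    (Groth.Agent.Lib.Helper28.localizedSelfEquiv q.primeCompl)

/-- the closed point condition for the ring at every prime below `q` in the same fibre -/
theorem closed_ring_of_hasSk (k : ℕ)
    (hS : LocCoh.HasSk k (EGA4.FibLocRing A B q) (EGA4.FibLocRing A B q))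
    (q' : Ideal B) [q'.IsPrime] (hq'q : q' ≤ q)
    (hcomap : q'.comap (algebraMap A B) = q.comap (algebraMap A B)) :
    min (k : WithBot ℕ∞) (ringKrullDim (EGA4.FibLocRing A B q')) ≤
      ((LocCoh.depth (EGA4.FibLocRing A B q') (EGA4.FibLocRing A B q') : ℕ∞) : WithBot ℕ∞) := by
  have h1 : LocCoh.HasSk k (EGA4.FibLocRing A B q) (EGA4.FibLocMod A B q B) :=
    Groth.Agent.Lib.Helper28.hasSk_congr k (fibSelfEquiv A B q).symm hS
  have h2 := (hasSk_fib_iff A B B q k).mp h1 q' hq'q hcomap
  rw [Module.supportDim_eq_of_equiv (fibSelfEquiv A B q'),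
    Module.supportDim_self_eq_ringKrullDim] at h2
  unfold LocCoh.depth at h2 ⊢
  rw [Groth.Agent.Lib.Helper28.idealDepth_congr (fibSelfEquiv A B q')] at h2
  exact h2

end self

end Groth.Agent.Lib.Helper9.QGorT
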