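/-
Helper9 library: a square-zero induction step for flatness of truncations.

* `rTensor_injective_of_flat_baseChange'`: `- ⊗[R] M` preserves injections of `S`-modules when
  `S ⊗[R] M` is `S`-flat (no surjectivity of `R → S`);
* `flat_of_algHom`: base change of flat truncations along an `A`-algebra map;
* `flat_quotient_inf_comap`: if `M/𝔠M` is flat over `A/𝔠`, `A' ⊗ M` is `A'`-flat, and
  `(𝔠A')² ≤ 𝔯'`, then `M/𝔠'M` is flat over `A/𝔠'` for `𝔠' = 𝔠 ∩ φ⁻¹(𝔯')`.
-/
import Mathlib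
import Groth.Agent.Lib.Helper8.LocalCriterion3

set_option autoImplicit false

universe u

open TensorProduct

namespace Groth.Agent.Lib.Helper9.FlatSqZero

/-- If `S ⊗[R] M` is flat over `S`, then `- ⊗[R] M` preserves injections between `S`-modules. -/
theorem rTensor_injective_of_flat_baseChange' {R : Type*} [CommRing R] {S : Type*} [CommRing S]
    [Algebra R S] (M : Type*) [AddCommGroup M] [Module R M]
    {P' P : Type*} [AddCommGroup P'] [AddCommGroup P] [Module R P'] [Module R P]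
    [Module S P'] [Module S P] [IsScalarTower R S P'] [IsScalarTower R S P]
    [Module.Flat S (S ⊗[R] M)] (g : P' →ₗ[S] P) (hg : Function.Injective g) :
    Function.Injective ((g.restrictScalars R).rTensor M) := by
  have h1 : Function.Injective (g.rTensor (S ⊗[R] M)) :=
    Module.Flat.rTensor_preserves_injective_linearMap (M := S ⊗[R] M) g hg
  rw [injective_iff_map_eq_zero]
  intro y hy
  have h2 := Groth.Agent.Lib.Helper8.cancelBaseChange_rTensor (R := R) (S := S) M g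
    ((AlgebraTensorModule.cancelBaseChange R S S P' M).symm y)
  rw [LinearEquiv.apply_symm_apply, hy] at h2
  have h4 : g.rTensor (S ⊗[R] M) ((AlgebraTensorModule.cancelBaseChange R S S P' M).symm y) = 0 :=
    (AlgebraTensorModule.cancelBaseChange R S S P M).injective (by rw [h2, map_zero])
  have h5 := (injective_iff_map_eq_zero _).mp h1 _ h4
  have h6 := congrArg (AlgebraTensorModule.cancelBaseChange R S S P' M) h5
  rwa [LinearEquiv.apply_symm_apply, map_zero] at h6

/-- Flatness of `S₁ ⊗ M` over `S₁` passes to `S₂ ⊗ M` over `S₂` along an `A`-algebra map. -/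
theorem flat_of_algHom {A : Type u} [CommRing A] {S₁ S₂ : Type u} [CommRing S₁] [CommRing S₂]
    [Algebra A S₁] [Algebra A S₂] (f : S₁ →ₐ[A] S₂) (M : Type u) [AddCommGroup M] [Module A M]
    [Module.Flat S₁ (S₁ ⊗[A] M)] : Module.Flat S₂ (S₂ ⊗[A] M) := by
  letI : Algebra S₁ S₂ := f.toRingHom.toAlgebra
  haveI : IsScalarTower A S₁ S₂ := IsScalarTower.of_algebraMap_eq (fun a => (f.commutes a).symm)
  exact Module.Flat.of_linearEquiv (AlgebraTensorModule.cancelBaseChange A S₁ S₂ S₂ M).symm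

/-- The square-zero step. -/
theorem flat_quotient_inf_comap {A A' : Type u} [CommRing A] [CommRing A'] [Algebra A A']
    (M : Type u) [AddCommGroup M] [Module A M] [Module.Flat A' (A' ⊗[A] M)]
    (𝔠 : Ideal A) [Module.Flat (A ⧸ 𝔠) ((A ⧸ 𝔠) ⊗[A] M)] (𝔯' : Ideal A')
    (h2 : (𝔠.map (algebraMap A A')) ^ 2 ≤ 𝔯') :
    Module.Flat (A ⧸ (𝔠 ⊓ 𝔯'.comap (algebraMap A A')))
      ((A ⧸ (𝔠 ⊓ 𝔯'.comap (algebraMap A A'))) ⊗[A] M) := by
  set 𝔠' := 𝔠 ⊓ 𝔯'.comap (algebraMap A A') with h𝔠'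
  let I' : Ideal (A ⧸ 𝔠') := 𝔠.map (Ideal.Quotient.mk 𝔠')
  have hsq : 𝔠 ^ 2 ≤ 𝔠' := by
    rw [h𝔠']
    refine le_inf (Ideal.pow_le_self two_ne_zero) ?_
    rw [← Ideal.map_le_iff_le_comap, Ideal.map_pow]
    exact h2
  have hI'sq : I' ^ 2 = ⊥ := by
    show (𝔠.map (Ideal.Quotient.mk 𝔠')) ^ 2 = ⊥
    rw [← Ideal.map_pow, Ideal.map_eq_bot_iff_le_ker, Ideal.mk_ker]
    exact hsq
  have hmul0 : ∀ x ∈ I', ∀ y ∈ I', x * y = 0 := by
    intro x hx y hy
    have : x * y ∈ I' ^ 2 := by rw [sq]; exact Ideal.mul_mem_mul hx hy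
    rwa [hI'sq, Ideal.mem_bot] at this
  refine Groth.Agent.Lib.Helper8.flat_of_isNilpotent I' ⟨2, hI'sq⟩ ?_ ?_
  · -- H1
    have h0 : ∀ a ∈ 𝔠, (Algebra.ofId A ((A ⧸ 𝔠') ⧸ I')) a = 0 := by
      intro a ha
      show Ideal.Quotient.mk I' (Ideal.Quotient.mk 𝔠' a) = 0
      rw [Ideal.Quotient.eq_zero_iff_mem]
      exact Ideal.mem_map_of_mem _ ha
    let f : A ⧸ 𝔠 →ₐ[A] (A ⧸ 𝔠') ⧸ I' :=
      Ideal.Quotient.liftₐ 𝔠 (Algebra.ofId A ((A ⧸ 𝔠') ⧸ I')) h0
    haveI : Module.Flat ((A ⧸ 𝔠') ⧸ I') (((A ⧸ 𝔠') ⧸ I') ⊗[A] M) := flat_of_algHom f M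
    exact Module.Flat.of_linearEquiv
      (AlgebraTensorModule.cancelBaseChange A (A ⧸ 𝔠') ((A ⧸ 𝔠') ⧸ I') ((A ⧸ 𝔠') ⧸ I') M)
  · -- H2
    have hψ0 : ∀ a ∈ 𝔠', (Algebra.ofId A (A' ⧸ 𝔯')) a = 0 := by
      intro a ha
      show Ideal.Quotient.mk 𝔯' (algebraMap A A' a) = 0
      rw [Ideal.Quotient.eq_zero_iff_mem]
      exact ha.2
    let ψ : (A ⧸ 𝔠') →ₗ[A] (A' ⧸ 𝔯') :=
      (Ideal.Quotient.liftₐ 𝔠' (Algebra.ofId A (A' ⧸ 𝔯')) hψ0).toLinearMap
    have hψmk : ∀ a : A, ψ (Ideal.Quotient.mk 𝔠' a) = Ideal.Quotient.mk 𝔯' (algebraMap A A' a) :=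
      fun a => rfl
    let N' : Submodule A' (A' ⧸ 𝔯') :=
      { carrier := {y | ∀ a ∈ 𝔠, (algebraMap A A' a) • y = 0}
        add_mem' := fun {x y} hx hy a ha => by rw [smul_add, hx a ha, hy a ha, add_zero]
        zero_mem' := fun a _ => smul_zero _
        smul_mem' := fun c x hx a ha => by rw [smul_comm, hx a ha, smul_zero] }
    have hT' : Module.IsTorsionBySet A N' ((𝔠 : Ideal A) : Set A) := by
      rintro ⟨y, hy⟩ ⟨a, ha⟩
      apply Subtype.ext
      show a • y = 0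
      rw [← algebraMap_smul A' a y]
      exact hy a ha
    have hT : Module.IsTorsionBySet A I' ((𝔠 : Ideal A) : Set A) := by
      rintro ⟨x, hx⟩ ⟨a, ha⟩
      apply Subtype.ext
      show a • x = 0
      rw [Algebra.smul_def]
      exact hmul0 _ (Ideal.mem_map_of_mem _ ha) _ hx
    letI : Module (A ⧸ 𝔠) I' := hT.module
    haveI : IsScalarTower A (A ⧸ 𝔠) I' := Module.IsTorsionBySet.isScalarTower hT
    letI : Module (A ⧸ 𝔠) N' := hT'.module
    haveI : IsScalarTower A (A ⧸ 𝔠) N' := Module.IsTorsionBySet.isScalarTower hT'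
    have hα : ∀ x : I', ψ x.1 ∈ N' := by
      rintro ⟨x, hx⟩ a ha
      show (algebraMap A A' a) • ψ x = 0
      rw [algebraMap_smul A' a (ψ x), ← map_smul, Algebra.smul_def]
      show ψ (Ideal.Quotient.mk 𝔠' a * x) = 0
      rw [hmul0 _ (Ideal.mem_map_of_mem _ ha) _ hx, map_zero]
    let α : I' →ₗ[A] N' :=
      { toFun := fun x => ⟨ψ x.1, hα x⟩
        map_add' := fun x y => Subtype.ext (map_add ψ x.1 y.1)
        map_smul' := fun a x => Subtype.ext (map_smul ψ a x.1) }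
    have hαinj : Function.Injective α := by
      rw [injective_iff_map_eq_zero]
      rintro ⟨x, hx⟩ hx0
      have hx1 : ψ x = 0 := congrArg Subtype.val hx0
      apply Subtype.ext
      show x = 0
      obtain ⟨c, hc, rfl⟩ := (Ideal.mem_map_iff_of_surjective _ Ideal.Quotient.mk_surjective).mp hx
      rw [hψmk, Ideal.Quotient.eq_zero_iff_mem] at hx1
      rw [Ideal.Quotient.eq_zero_iff_mem]
      exact ⟨hc, hx1⟩
    have hαM : Function.Injective (α.rTensor M) :=
      Groth.Agent.Lib.Helper8.rTensor_injective_of_flat_baseChange (R := A) (S := A ⧸ 𝔠) M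
        Ideal.Quotient.mk_surjective α hαinj
    have hβM : Function.Injective ((N'.subtype.restrictScalars A).rTensor M) :=
      rTensor_injective_of_flat_baseChange' (R := A) (S := A') M N'.subtype
        N'.subtype_injective
    have hcomm : (N'.subtype.restrictScalars A) ∘ₗ α = ψ ∘ₗ (I'.subtype.restrictScalars A) :=
      LinearMap.ext fun x => rfl
    have key : Function.Injective ((I'.subtype.restrictScalars A).rTensor M) := by
      have h3 : Function.Injective ((ψ.rTensor M) ∘ ((I'.subtype.restrictScalars A).rTensor M)) := by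
        have h4 : ((ψ.rTensor M) ∘ ((I'.subtype.restrictScalars A).rTensor M)) =
            (((N'.subtype.restrictScalars A).rTensor M) ∘ (α.rTensor M)) := by
          rw [← LinearMap.coe_comp, ← LinearMap.coe_comp, ← LinearMap.rTensor_comp,
            ← LinearMap.rTensor_comp, hcomm]
        rw [h4]
        exact hβM.comp hαM
      exact Function.Injective.of_comp h3
    rw [injective_iff_map_eq_zero]
    intro z hz
    have e2 := Groth.Agent.Lib.Helper8.cancelBaseChange_rTensor (R := A) (S := A ⧸ 𝔠') M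
      I'.subtype z
    rw [hz, map_zero] at e2
    have e3 := (injective_iff_map_eq_zero _).mp key _ e2.symm
    exact (AlgebraTensorModule.cancelBaseChange A (A ⧸ 𝔠') (A ⧸ 𝔠') I' M).injective
      (by rw [e3, map_zero])

end Groth.Agent.Lib.Helper9.FlatSqZero
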