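import Mathlib
import Groth.Prelude.Def_SiteCmp
import Groth.Prelude.Def_WeakSerre
import Groth.Prelude.Def_CohCx
import Groth.Prelude.Def_FreeSh
import Groth.Agent.Lib.Helper29.WS9074B

/-!
# The kernels of `m • γ` jointly cover the source of a map into a torsion sheaf (helper9, for S9063)
-/

set_option autoImplicit false
set_option backward.isDefEq.respectTransparency.types false
universe u
open CategoryTheory CategoryTheory.Limits Opposite

namespace Groth.Agent.Lib.Helper9.TorsKer

open Groth.Agent.Lib.Helper29.WS9074A Groth.Agent.Lib.Helper29.WS9074B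

variable {C : Type u} [SmallCategory C] (J : GrothendieckTopology C)

theorem app_eq_evalGen {M N : Sheaf J AddCommGrpCat.{u}} (f : M ⟶ N) (V : C)
    (x : M.obj.obj (op V)) :
    (f.hom.app (op V)).hom x = CohFree.evalGen J V N (CohFree.ofSect J V M x ≫ f) := by
  rw [evalGen_comp, CohFree.evalGen_ofSect]

theorem jointly_epi_kernel_nsmul {A H : Sheaf J AddCommGrpCat.{u}}
    (hH : SiteCmp.IsTorsionSh J H)
    (γ : A ⟶ H) {Z : Sheaf J AddCommGrpCat.{u}} (f g : A ⟶ Z)
    (h : ∀ m : ℕ, 0 < m → kernel.ι (m • γ) ≫ f = kernel.ι (m • γ) ≫ g) : f = g := by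
  have hZ' := (Presheaf.isSheaf_iff_isSheaf_forget J Z.obj (forget AddCommGrpCat.{u})).1 Z.property
  have hZs := (isSheaf_iff_isSheaf_of_type J _).1 hZ'
  have key : ∀ (U : C) (a : A.obj.obj (op U)),
      (f.hom.app (op U)).hom a = (g.hom.app (op U)).hom a := by
    intro U a
    obtain ⟨S, hS, hfin⟩ := hH U ((γ.hom.app (op U)).hom a)
    refine ((Presieve.IsSheaf.isSeparated hZs) S hS).ext ?_
    intro V p hp
    change rs Z.obj p ((f.hom.app (op U)).hom a) = rs Z.obj p ((g.hom.app (op U)).hom a)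
    rw [← rs_nat f.hom, ← rs_nat g.hom]
    obtain ⟨m, hm, hm0⟩ := (hfin p hp).exists_nsmul_eq_zero
    have h0 : CohFree.ofSect J V A (rs A.obj p a) ≫ (m • γ) = 0 := by
      rw [Preadditive.comp_nsmul, ofSect_comp, rs_nat γ.hom p a,
        ← CohFree.homEquivSect_symm_apply, ← map_nsmul]
      have hm0' : m • rs H.obj p ((γ.hom.app (op U)).hom a) = 0 := hm0
      rw [hm0', map_zero]
    have h1 : kernel.lift (m • γ) (CohFree.ofSect J V A (rs A.obj p a)) h0 ≫ kernel.ι (m • γ) =
        CohFree.ofSect J V A (rs A.obj p a) := kernel.lift_ι _ _ _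
    rw [app_eq_evalGen J f, app_eq_evalGen J g, ← h1, Category.assoc, Category.assoc, h m hm]
  apply Sheaf.hom_ext
  apply NatTrans.ext
  funext X
  apply AddCommGrpCat.hom_ext
  ext a
  exact key X.unop a

end Groth.Agent.Lib.Helper9.TorsKer
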