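import Groth.Agent.Lib.Helper4.Depth
import Mathlib.RingTheory.Regular.LinearMap
import Mathlib.RingTheory.Ideal.AssociatedPrime.Finiteness
import Mathlib.RingTheory.Nakayama

/-!
# Helper library (helper9): depth zero over a Noetherian local ring
-/

set_option autoImplicit false

universe u v

open RingTheory.Sequence

namespace Groth.Agent.Lib.Helper9

open Groth.Agent.Lib.Helper4

/-- Over a Noetherian local ring, no element of `m` is regular on the finite module `M` iff
`m ∈ Ass M`. -/
theorem forall_not_isSMulRegular_iff_mem_associatedPrimes (A : Type u) [CommRing A] [IsLocalRing A]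
    [IsNoetherianRing A] (M : Type v) [AddCommGroup M] [Module A M] [Module.Finite A M] :
    (∀ x ∈ IsLocalRing.maximalIdeal A, ¬ IsSMulRegular M x) ↔
      IsLocalRing.maximalIdeal A ∈ associatedPrimes A M := by
  constructor
  · intro h
    have hsub : (IsLocalRing.maximalIdeal A : Set A) ⊆ ⋃ p ∈ associatedPrimes A M, (p : Set A) := by
      rw [biUnion_associatedPrimes_eq_compl_regular A M]
      exact fun r hr => h r hr
    exact (Ideal.subset_iUnion_iff_mem_of_isMaximal_of_finite (associatedPrimes.finite A M) ⊥ ⊥
      (fun I hI _ _ => IsAssociatedPrime.isPrime hI) bot_ne_top bot_ne_top).mp hsub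
  · intro h x hx hreg
    have : x ∈ ⋃ p ∈ associatedPrimes A M, (p : Set A) := Set.mem_biUnion h hx
    rw [biUnion_associatedPrimes_eq_compl_regular A M] at this
    exact this hreg

/-- Nakayama: `m M ≠ M` for a nonzero finite module over a local ring. -/
theorem maximalIdeal_smul_top_ne_top (A : Type u) [CommRing A] [IsLocalRing A]
    (M : Type v) [AddCommGroup M] [Module A M] [Module.Finite A M] [Nontrivial M] :
    IsLocalRing.maximalIdeal A • (⊤ : Submodule A M) ≠ ⊤ :=
  (Submodule.top_ne_ideal_smul_of_le_jacobson_annihilator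
    (IsLocalRing.maximalIdeal_le_jacobson _)).symm

/-- Depth zero iff no element of the maximal ideal is regular (finite modules over a local ring). -/
theorem depth_eq_zero_iff_forall_not_isSMulRegular (A : Type u) [CommRing A] [IsLocalRing A]
    (M : Type v) [AddCommGroup M] [Module A M] [Module.Finite A M] :
    LocCoh.depth A M = 0 ↔ ∀ x ∈ IsLocalRing.maximalIdeal A, ¬ IsSMulRegular M x := by
  unfold LocCoh.depth
  rcases subsingleton_or_nontrivial M with hM | hM
  · have h1 : IsLocalRing.maximalIdeal A • (⊤ : Submodule A M) = ⊤ := Subsingleton.elim _ _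
    rw [idealDepth_of_smul_top_eq _ h1]
    constructor
    · intro h; exact absurd h (by simp)
    · intro h
      exact absurd (IsSMulRegular.zero (R := A) (M := M)) (h 0 (zero_mem _))
  · have hIM := maximalIdeal_smul_top_ne_top A M
    constructor
    · intro h x hx hreg
      have h1 := length_le_idealDepth (IsLocalRing.maximalIdeal A) [x]
        ((isWeaklyRegular_singleton_iff M x).mpr hreg) (by simpa using hx)
      rw [h] at h1
      simp at h1
    · intro h
      by_contra hne
      have h1 : ((1 : ℕ) : ℕ∞) ≤ LocCoh.idealDepth (IsLocalRing.maximalIdeal A) M := by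
        simpa using Order.one_le_iff_ne_zero.mpr hne
      obtain ⟨rs, hlen, hmem, hreg⟩ := exists_isWeaklyRegular_of_le_idealDepth _ hIM 1 h1
      obtain ⟨x, rfl⟩ := List.length_eq_one_iff.mp hlen
      exact h x (hmem x (by simp)) ((isWeaklyRegular_singleton_iff M x).mp hreg)

/-- Depth zero iff `m ∈ Ass M` (finite modules over a Noetherian local ring). -/
theorem depth_eq_zero_iff_mem_associatedPrimes (A : Type u) [CommRing A] [IsLocalRing A]
    [IsNoetherianRing A] (M : Type v) [AddCommGroup M] [Module A M] [Module.Finite A M] :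
    LocCoh.depth A M = 0 ↔ IsLocalRing.maximalIdeal A ∈ associatedPrimes A M :=
  (depth_eq_zero_iff_forall_not_isSMulRegular A M).trans
    (forall_not_isSMulRegular_iff_mem_associatedPrimes A M)


/-- `idealDepth` is invariant under linear equivalences. -/
theorem idealDepth_congr {R : Type u} [CommRing R] {M : Type v} {M' : Type*} [AddCommGroup M]
    [Module R M] [AddCommGroup M'] [Module R M'] (e : M ≃ₗ[R] M') (I : Ideal R) :
    LocCoh.idealDepth I M = LocCoh.idealDepth I M' := by
  have hmap : (I • (⊤ : Submodule R M)).map (e : M →ₗ[R] M') = I • (⊤ : Submodule R M') := by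
    rw [Submodule.map_smul'', Submodule.map_top, LinearMap.range_eq_top.mpr e.surjective]
  have h1 : I • (⊤ : Submodule R M) = ⊤ ↔ I • (⊤ : Submodule R M') = ⊤ := by
    constructor
    · intro h
      rw [← hmap, h, Submodule.map_top, LinearMap.range_eq_top.mpr e.surjective]
    · intro h
      apply Submodule.map_injective_of_injective (f := (e : M →ₗ[R] M')) e.injective
      rw [hmap, h, Submodule.map_top, LinearMap.range_eq_top.mpr e.surjective]
  by_cases h : I • (⊤ : Submodule R M) = ⊤
  · rw [idealDepth_of_smul_top_eq I h, idealDepth_of_smul_top_eq I (h1.mp h)]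
  · rw [idealDepth_of_smul_top_ne I h, idealDepth_of_smul_top_ne I (mt h1.mpr h)]
    refine iSup_congr fun rs => ?_
    have h2 : (IsWeaklyRegular M rs ∧ ∀ r ∈ rs, r ∈ I) ↔
        (IsWeaklyRegular M' rs ∧ ∀ r ∈ rs, r ∈ I) := by
      rw [e.isWeaklyRegular_congr]
    exact iSup_congr_Prop h2 (fun _ => rfl)

end Groth.Agent.Lib.Helper9
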