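/-
Helper9 library: descent of flatness along an injective map out of a local ring with nilpotent
maximal ideal, and consequences for the local criterion of flatness.

* `eq_top_of_sup_smul_of_pow_eq_bot`: Nakayama for nilpotent ideals (no finiteness);
* `flat_of_flat_baseChange_of_injective`: `R → S` injective, `I` maximal nilpotent ideal of `R`,
  `S ⊗ M` flat over `S` ⇒ `M` flat (indeed free) over `R`;
* `flat_quotient_of_flat_baseChange`: for `A` local, `A → A'`, `𝔯 ⊇ 𝔪A'`, if `A' ⊗ B` is `A'`-flat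
  then `B/JB` is `A/J`-flat for every `J ⊇ φ⁻¹(𝔯^N)`;
* `iInf_pow_smul_tensor_eq_bot`: ideal-separatedness of a finite module over a Noetherian algebra.
-/
import Mathlib
import Groth.Agent.Lib.Helper8.LocalCriterion3

set_option autoImplicit false

universe u

open TensorProduct

namespace Groth.Agent.Lib.Helper9.FlatDescArt

/-- Nakayama for nilpotent ideals. -/
theorem eq_top_of_sup_smul_of_pow_eq_bot {R : Type*} [CommRing R] {M : Type*} [AddCommGroup M]
    [Module R M] (I : Ideal R) (k : ℕ) (hI : I ^ k = ⊥) (N : Submodule R M)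
    (h : ⊤ ≤ N ⊔ I • (⊤ : Submodule R M)) : N = ⊤ := by
  have key : ∀ j : ℕ, (⊤ : Submodule R M) ≤ N ⊔ I ^ j • (⊤ : Submodule R M) := by
    intro j
    induction j with
    | zero =>
      rw [pow_zero, Ideal.one_eq_top, Submodule.top_smul]
      exact le_sup_right
    | succ j ih =>
      calc (⊤ : Submodule R M) ≤ N ⊔ I • (⊤ : Submodule R M) := h
        _ ≤ N ⊔ I • (N ⊔ I ^ j • (⊤ : Submodule R M)) :=
            sup_le_sup_left (Submodule.smul_mono le_rfl ih) N
        _ ≤ N ⊔ I ^ (j + 1) • (⊤ : Submodule R M) := by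
            rw [Submodule.smul_sup, ← Submodule.mul_smul, ← pow_succ']
            exact sup_le le_sup_left
              (sup_le (le_sup_of_le_left Submodule.smul_le_right) le_sup_right)
  have := key k
  rw [hI, Submodule.bot_smul, sup_bot_eq] at this
  exact top_le_iff.mp this

/-- Descent of flatness along an injective ring map out of a ring with a nilpotent maximal ideal. -/
theorem flat_of_flat_baseChange_of_injective {R S : Type u} [CommRing R] [CommRing S] [Algebra R S]
    (hinj : Function.Injective (algebraMap R S)) (I : Ideal R) [hImax : I.IsMaximal] (k : ℕ)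
    (hI : I ^ k = ⊥) (M : Type u) [AddCommGroup M] [Module R M]
    [hflat : Module.Flat S (S ⊗[R] M)] : Module.Flat R M := by
  classical
  letI : Field (R ⧸ I) := Ideal.Quotient.field I
  let q := (I • (⊤ : Submodule R M)).mkQ
  let b := Module.Free.chooseBasis (R ⧸ I) (M ⧸ (I • (⊤ : Submodule R M)))
  let ι := Module.Free.ChooseBasisIndex (R ⧸ I) (M ⧸ (I • (⊤ : Submodule R M)))
  have hlift : ∀ i : ι, ∃ e : M, q e = b i := fun i => Submodule.mkQ_surjective _ (b i)
  choose e he using hlift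
  let π : (ι →₀ R) →ₗ[R] M := Finsupp.linearCombination R e
  -- Step A: π is surjective
  have hsurj : Function.Surjective π := by
    rw [← LinearMap.range_eq_top]
    apply eq_top_of_sup_smul_of_pow_eq_bot I k hI
    intro x _
    have hr : ∀ i : ι, ∃ r : R, Ideal.Quotient.mk I r = b.repr (q x) i :=
      fun i => Ideal.Quotient.mk_surjective _
    choose r hr using hr
    let y : M := ∑ i ∈ (b.repr (q x)).support, r i • e i
    have hy : y ∈ LinearMap.range π := by
      refine Submodule.sum_mem _ fun i _ => Submodule.smul_mem _ _ ?_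
      exact ⟨Finsupp.single i 1, by simp [π]⟩
    have h1 : q x = ∑ i ∈ (b.repr (q x)).support, (b.repr (q x) i) • b i := by
      conv_lhs => rw [← b.linearCombination_repr (q x), Finsupp.linearCombination_apply,
        Finsupp.sum]
    have h2 : q y = ∑ i ∈ (b.repr (q x)).support, (b.repr (q x) i) • b i := by
      rw [map_sum]
      refine Finset.sum_congr rfl fun i _ => ?_
      rw [← hr i, ← he i]
      rfl
    have hxy : x - y ∈ I • (⊤ : Submodule R M) := by
      have : q (x - y) = 0 := by rw [map_sub, h2, ← h1, sub_self]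
      rwa [Submodule.mkQ_apply, Submodule.Quotient.mk_eq_zero] at this
    have hx : x = y + (x - y) := by abel
    rw [hx]
    exact Submodule.add_mem_sup hy hxy
  -- Step B: ker π ≤ I • ⊤
  have h3 : ∀ f : ι →₀ R, Finsupp.linearCombination (R ⧸ I) b
      (Finsupp.mapRange (Ideal.Quotient.mk I) (map_zero _) f) = q (π f) := by
    intro f
    induction f using Finsupp.induction_linear with
    | zero => simp
    | add f g hf hg =>
      rw [Finsupp.mapRange_add (fun a b => map_add _ a b), map_add, map_add, map_add, hf, hg]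
    | single i a =>
      rw [Finsupp.mapRange_single, Finsupp.linearCombination_single,
        Finsupp.linearCombination_single, ← he i]
      rfl
  have hker : LinearMap.ker π ≤ I • (⊤ : Submodule R (ι →₀ R)) := by
    intro f hf
    rw [LinearMap.mem_ker] at hf
    have hcoef : ∀ i, f i ∈ I := by
      have h4 := h3 f
      rw [hf, map_zero] at h4
      have h5 := linearIndependent_iff.mp b.linearIndependent _ h4
      intro i
      have h6 := DFunLike.congr_fun h5 i
      rw [Finsupp.mapRange_apply, Finsupp.zero_apply] at h6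
      exact Ideal.Quotient.eq_zero_iff_mem.mp h6
    have hfs := Finsupp.sum_single f
    rw [Finsupp.sum] at hfs
    rw [← hfs]
    refine Submodule.sum_mem _ fun i _ => ?_
    have : Finsupp.single i (f i) = (f i) • Finsupp.single i (1 : R) := by
      rw [Finsupp.smul_single, smul_eq_mul, mul_one]
    rw [this]
    exact Submodule.smul_mem_smul (hcoef i) Submodule.mem_top
  -- Step C: base change
  let π' : S ⊗[R] (ι →₀ R) →ₗ[S] S ⊗[R] M := π.baseChange S
  have hπ'coe : (π' : S ⊗[R] (ι →₀ R) → S ⊗[R] M) = π.lTensor S :=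
    LinearMap.baseChange_eq_ltensor _
  have hπ'surj : Function.Surjective π' := by
    rw [hπ'coe]
    exact LinearMap.lTensor_surjective S hsurj
  let 𝔫 : Ideal S := I.map (algebraMap R S)
  have h𝔫pow : 𝔫 ^ k = ⊥ := by
    show (I.map (algebraMap R S)) ^ k = ⊥
    rw [← Ideal.map_pow, hI, Ideal.map_bot]
  have hC0 : ∀ y : S ⊗[R] LinearMap.ker π, ((LinearMap.ker π).subtype.lTensor S) y ∈
      𝔫 • (⊤ : Submodule S (S ⊗[R] (ι →₀ R))) := by
    intro y
    induction y using TensorProduct.induction_on with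
    | zero => rw [map_zero]; exact zero_mem _
    | tmul s f =>
      obtain ⟨f, hf⟩ := f
      rw [LinearMap.lTensor_tmul]
      show s ⊗ₜ[R] f ∈ _
      refine Submodule.smul_induction_on (hker hf) ?_ ?_
      · intro a ha g _
        rw [TensorProduct.tmul_smul, ← algebraMap_smul S a (s ⊗ₜ[R] g)]
        exact Submodule.smul_mem_smul (Ideal.mem_map_of_mem _ ha) Submodule.mem_top
      · intro g₁ g₂ h₁ h₂
        rw [TensorProduct.tmul_add]
        exact add_mem h₁ h₂
    | add y z hy hz => rw [map_add]; exact add_mem hy hz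
  have hC1 : LinearMap.ker π' ≤ 𝔫 • (⊤ : Submodule S (S ⊗[R] (ι →₀ R))) := by
    intro x hx
    have hx' : (π.lTensor S) x = 0 := by
      have := LinearMap.mem_ker.mp hx
      rw [← hπ'coe]
      exact this
    have hex0 : Function.Exact (LinearMap.ker π).subtype π := LinearMap.exact_subtype_ker_map π
    have hex := lTensor_exact S (M := LinearMap.ker π) hex0 hsurj
    obtain ⟨y, rfl⟩ := (hex x).mp hx'
    exact hC0 y
  have hC2 : (⊤ : Submodule S (LinearMap.ker π')) ≤
      ⊥ ⊔ 𝔫 • (⊤ : Submodule S (LinearMap.ker π')) := by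
    rintro ⟨x, hx⟩ -
    rw [bot_sup_eq]
    have hinj' := LinearMap.lTensor_injective_of_exact_of_flat (M := LinearMap.ker π') π' hπ'surj
      (LinearMap.ker π').subtype (LinearMap.ker π').subtype_injective
      (LinearMap.exact_subtype_ker_map π') (S ⧸ 𝔫)
    have h0 : ((LinearMap.ker π').subtype.lTensor (S ⧸ 𝔫))
        ((1 : S ⧸ 𝔫) ⊗ₜ[S] (⟨x, hx⟩ : LinearMap.ker π')) = 0 := by
      rw [LinearMap.lTensor_tmul]
      apply (TensorProduct.quotTensorEquivQuotSMul (S ⊗[R] (ι →₀ R)) 𝔫).injective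
      rw [TensorProduct.quotTensorEquivQuotSMul_mk_one_tmul, map_zero,
        Submodule.Quotient.mk_eq_zero]
      exact hC1 hx
    have h1 : ((1 : S ⧸ 𝔫) ⊗ₜ[S] (⟨x, hx⟩ : LinearMap.ker π')) = 0 :=
      hinj' (by rw [h0, map_zero])
    have h2 := congrArg (TensorProduct.quotTensorEquivQuotSMul (LinearMap.ker π') 𝔫) h1
    rw [TensorProduct.quotTensorEquivQuotSMul_mk_one_tmul, map_zero,
      Submodule.Quotient.mk_eq_zero] at h2
    exact h2
  have hK₂ : (⊥ : Submodule S (LinearMap.ker π')) = ⊤ :=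
    eq_top_of_sup_smul_of_pow_eq_bot (M := LinearMap.ker π') 𝔫 k h𝔫pow ⊥ hC2
  -- Step D: ker π = 0
  have hKbot : ∀ f ∈ LinearMap.ker π, f = 0 := by
    intro f hf
    have h1 : (1 : S) ⊗ₜ[R] f ∈ LinearMap.ker π' := by
      rw [LinearMap.mem_ker]
      show π.baseChange S ((1 : S) ⊗ₜ[R] f) = 0
      rw [LinearMap.baseChange_tmul, LinearMap.mem_ker.mp hf, TensorProduct.tmul_zero]
    have h2 : ((1 : S) ⊗ₜ[R] f : S ⊗[R] (ι →₀ R)) = 0 := by
      have hz : (⟨_, h1⟩ : LinearMap.ker π') ∈ (⊤ : Submodule S (LinearMap.ker π')) :=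
        Submodule.mem_top
      rw [← hK₂, Submodule.mem_bot] at hz
      exact congrArg Subtype.val hz
    have hfl := Module.Flat.rTensor_preserves_injective_linearMap (M := ι →₀ R)
      (Algebra.linearMap R S) (by rw [Algebra.coe_linearMap]; exact hinj)
    have h3 : ((Algebra.linearMap R S).rTensor (ι →₀ R)) ((1 : R) ⊗ₜ[R] f) = 0 := by
      rw [LinearMap.rTensor_tmul, Algebra.linearMap_apply, map_one, h2]
    have h4 : (1 : R) ⊗ₜ[R] f = 0 := hfl (by rw [h3, map_zero])
    have h5 := congrArg (TensorProduct.lid R (ι →₀ R)) h4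
    rwa [TensorProduct.lid_tmul, one_smul, map_zero] at h5
  -- Step E
  have hinjπ : Function.Injective π := by
    rw [← LinearMap.ker_eq_bot, eq_bot_iff]
    intro f hf
    rw [Submodule.mem_bot]
    exact hKbot f hf
  exact Module.Flat.of_linearEquiv (LinearEquiv.ofBijective π ⟨hinjπ, hsurj⟩).symm

/-- Flatness of the truncations, from flatness after a base change which induces the adic
topology. -/
theorem flat_quotient_of_flat_baseChange {A A' : Type u} [CommRing A] [CommRing A'] [Algebra A A']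
    [IsLocalRing A] (B : Type u) [AddCommGroup B] [Module A B]
    (𝔯 : Ideal A') (h𝔯 : (IsLocalRing.maximalIdeal A).map (algebraMap A A') ≤ 𝔯)
    (N : ℕ) (hne : (𝔯 ^ N).comap (algebraMap A A') ≠ ⊤)
    [hflat : Module.Flat A' (A' ⊗[A] B)] (J : Ideal A)
    (hJ : (𝔯 ^ N).comap (algebraMap A A') ≤ J) :
    Module.Flat (A ⧸ J) ((A ⧸ J) ⊗[A] B) := by
  set 𝔞 : Ideal A := (𝔯 ^ N).comap (algebraMap A A') with h𝔞
  let ψ : A ⧸ 𝔞 →+* A' ⧸ 𝔯 ^ N := Ideal.quotientMap (𝔯 ^ N) (algebraMap A A') le_rfl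
  have hψ : Function.Injective ψ := Ideal.quotientMap_injective
  letI : Algebra (A ⧸ 𝔞) (A' ⧸ 𝔯 ^ N) := ψ.toAlgebra
  haveI : IsScalarTower A (A ⧸ 𝔞) (A' ⧸ 𝔯 ^ N) := IsScalarTower.of_algebraMap_eq (fun a => rfl)
  have h𝔞m : 𝔞 ≤ IsLocalRing.maximalIdeal A := IsLocalRing.le_maximalIdeal hne
  let I₀ : Ideal (A ⧸ 𝔞) := (IsLocalRing.maximalIdeal A).map (Ideal.Quotient.mk 𝔞)
  haveI hI₀ : I₀.IsMaximal := by
    rcases Ideal.map_eq_top_or_isMaximal_of_surjective (Ideal.Quotient.mk 𝔞)
      Ideal.Quotient.mk_surjective (IsLocalRing.maximalIdeal.isMaximal A) with h | h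
    · exfalso
      have h2 := Ideal.comap_map_of_surjective (Ideal.Quotient.mk 𝔞) Ideal.Quotient.mk_surjective
        (IsLocalRing.maximalIdeal A)
      rw [h, Ideal.comap_top, ← RingHom.ker_eq_comap_bot, Ideal.mk_ker, sup_eq_left.mpr h𝔞m] at h2
      exact (IsLocalRing.maximalIdeal.isMaximal A).ne_top h2.symm
    · exact h
  have hI₀pow : I₀ ^ N = ⊥ := by
    show ((IsLocalRing.maximalIdeal A).map (Ideal.Quotient.mk 𝔞)) ^ N = ⊥
    rw [← Ideal.map_pow, Ideal.map_eq_bot_iff_le_ker, Ideal.mk_ker, h𝔞,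
      ← Ideal.map_le_iff_le_comap, Ideal.map_pow]
    exact Ideal.pow_right_mono h𝔯 N
  haveI : Module.Flat (A' ⧸ 𝔯 ^ N) ((A' ⧸ 𝔯 ^ N) ⊗[A ⧸ 𝔞] ((A ⧸ 𝔞) ⊗[A] B)) :=
    Module.Flat.of_linearEquiv
      ((AlgebraTensorModule.cancelBaseChange A (A ⧸ 𝔞) (A' ⧸ 𝔯 ^ N) (A' ⧸ 𝔯 ^ N) B) ≪≫ₗ
        (AlgebraTensorModule.cancelBaseChange A A' (A' ⧸ 𝔯 ^ N) (A' ⧸ 𝔯 ^ N) B).symm)
  haveI h0 : Module.Flat (A ⧸ 𝔞) ((A ⧸ 𝔞) ⊗[A] B) :=
    flat_of_flat_baseChange_of_injective (R := A ⧸ 𝔞) (S := A' ⧸ 𝔯 ^ N) hψ I₀ N hI₀pow _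
  letI : Algebra (A ⧸ 𝔞) (A ⧸ J) := (Ideal.Quotient.factor hJ).toAlgebra
  haveI : IsScalarTower A (A ⧸ 𝔞) (A ⧸ J) := IsScalarTower.of_algebraMap_eq (fun a => rfl)
  exact Module.Flat.of_linearEquiv
    (AlgebraTensorModule.cancelBaseChange A (A ⧸ 𝔞) (A ⧸ J) (A ⧸ J) B).symm

/-- Ideal-separatedness of a finite module over a Noetherian `A`-algebra `B` with `IB` in the
Jacobson radical (extracted from `Helper8.flat_of_local_criterion_of_finite`). -/
theorem iInf_pow_smul_tensor_eq_bot {A B : Type u} [CommRing A] [CommRing B] [Algebra A B]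
    [IsNoetherianRing A] [IsNoetherianRing B] (I : Ideal A)
    (hI : I.map (algebraMap A B) ≤ Ideal.jacobson ⊥)
    (M : Type u) [AddCommGroup M] [Module A M] [Module B M] [IsScalarTower A B M]
    [Module.Finite B M] (𝔞 : Ideal A) :
    ⨅ n : ℕ, I ^ n • (⊤ : Submodule A (𝔞 ⊗[A] M)) = ⊥ := by
  rw [eq_bot_iff]
  intro x hx
  rw [Submodule.mem_iInf] at hx
  rw [Submodule.mem_bot]
  have : Module.Finite B (M ⊗[A] 𝔞) := Groth.Agent.Lib.Helper8.finite_tensor M 𝔞
  have hkrull := Ideal.iInf_pow_smul_eq_bot_of_le_jacobson (M := M ⊗[A] 𝔞)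
    (I.map (algebraMap A B)) hI
  have hmem : (TensorProduct.comm A 𝔞 M) x ∈
      ⨅ i : ℕ, (I.map (algebraMap A B)) ^ i • (⊤ : Submodule B (M ⊗[A] 𝔞)) := by
    rw [Submodule.mem_iInf]
    intro n
    refine Submodule.smul_induction_on (hx n) ?_ ?_
    · intro j hj t _
      rw [map_smul, ← algebraMap_smul B j ((TensorProduct.comm A 𝔞 M) t)]
      refine Submodule.smul_mem_smul ?_ Submodule.mem_top
      rw [← Ideal.map_pow]
      exact Ideal.mem_map_of_mem _ hj
    · intro t1 t2 h1 h2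
      rw [map_add]
      exact add_mem h1 h2
  rw [hkrull, Submodule.mem_bot] at hmem
  exact (TensorProduct.comm A 𝔞 M).injective (by rw [hmem, map_zero])

end Groth.Agent.Lib.Helper9.FlatDescArt
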