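import Mathlib

/-!
# Regular sequences are quasi-regular (Matsumura 16.2, case `M = A`)
-/

namespace Groth.Agent.Lib.Helper9.QuasiReg

open MvPolynomial

universe u
variable {A : Type u} [CommRing A]

/-- working form of quasi-regularity: homogeneous forms whose value at `f` lies in `J^{ν+1}` have all
their coefficients in `J`. -/
def QR {c : ℕ} (f : Fin c → A) : Prop :=
  ∀ (ν : ℕ) (F : MvPolynomial (Fin c) A), F.IsHomogeneous ν →
    eval f F ∈ Ideal.span (Set.range f) ^ (ν + 1) →
      F ∈ Ideal.map (C : A →+* MvPolynomial (Fin c) A) (Ideal.span (Set.range f))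

/-- elementary form of regularity of a finite sequence in a ring -/
def MyReg : ∀ (c : ℕ), (Fin c → A) → Prop
  | 0, _ => True
  | (c + 1), f => MyReg c (fun i => f (Fin.castSucc i)) ∧
      ∀ y : A, f (Fin.last c) * y ∈ Ideal.span (Set.range fun i => f (Fin.castSucc i)) →
        y ∈ Ideal.span (Set.range fun i => f (Fin.castSucc i))

lemma ofList_ofFn {c : ℕ} (f : Fin c → A) :
    Ideal.ofList (List.ofFn f) = Ideal.span (Set.range f) := by
  unfold Ideal.ofList
  congr 1
  ext x
  exact List.mem_ofFn' f x

theorem myReg_of_isWeaklyRegular : ∀ (c : ℕ) (f : Fin c → A),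
    RingTheory.Sequence.IsWeaklyRegular A (List.ofFn f) → MyReg c f := by
  intro c
  induction c with
  | zero => intro f _; trivial
  | succ c ih =>
    intro f hf
    rw [List.ofFn_succ', List.concat_eq_append,
      RingTheory.Sequence.isWeaklyRegular_append_iff] at hf
    obtain ⟨h1, h2⟩ := hf
    refine ⟨ih _ h1, fun y hy => ?_⟩
    rw [RingTheory.Sequence.isWeaklyRegular_singleton_iff] at h2
    have hN : (Ideal.ofList (List.ofFn fun i => f (Fin.castSucc i)) • ⊤ : Submodule A A) =
        Ideal.span (Set.range fun i => f (Fin.castSucc i)) := by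
      rw [ofList_ofFn, smul_eq_mul, Ideal.mul_top]
    have h3 : f (Fin.last c) • (Submodule.Quotient.mk y :
        A ⧸ (Ideal.ofList (List.ofFn fun i => f (Fin.castSucc i)) • ⊤ : Submodule A A)) =
        f (Fin.last c) • 0 := by
      rw [smul_zero, ← Submodule.Quotient.mk_smul, Submodule.Quotient.mk_eq_zero, hN, smul_eq_mul]
      exact hy
    have h4 := h2 h3
    rw [Submodule.Quotient.mk_eq_zero, hN] at h4
    exact h4

/-- homogeneous forms of degree `ν` with coefficients in `J` take values in `J^{ν+1}` -/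
lemma eval_mem_pow_succ {c : ℕ} (f : Fin c → A) {ν : ℕ} {F : MvPolynomial (Fin c) A}
    (hF : F.IsHomogeneous ν)
    (hc : F ∈ Ideal.map (C : A →+* MvPolynomial (Fin c) A) (Ideal.span (Set.range f))) :
    eval f F ∈ Ideal.span (Set.range f) ^ (ν + 1) := by
  rw [mem_map_C_iff] at hc
  rw [eval_eq', pow_succ']
  refine Ideal.sum_mem _ fun d hd => ?_
  refine Ideal.mul_mem_mul (hc d) ?_
  rw [Ideal.mem_span_pow_iff_exists_isHomogeneous]
  refine ⟨monomial d 1, isHomogeneous_monomial 1 ?_, ?_⟩
  · by_contra h
    exact (mem_support_iff.mp hd) (hF.coeff_eq_zero h)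
  · rw [eval_monomial, one_mul, Finsupp.prod_fintype]
    intro i
    exact pow_zero _

/-- elements of `J^{ν+1}` are values of homogeneous forms of degree `ν` with coefficients in `J` -/
lemma exists_hom_of_mem_pow_succ {c : ℕ} (f : Fin c → A) (ν : ℕ) {x : A}
    (hx : x ∈ Ideal.span (Set.range f) ^ (ν + 1)) :
    ∃ W : MvPolynomial (Fin c) A, W.IsHomogeneous ν ∧
      W ∈ Ideal.map (C : A →+* MvPolynomial (Fin c) A) (Ideal.span (Set.range f)) ∧
      eval f W = x := by
  rw [pow_succ'] at hx
  refine Submodule.mul_induction_on hx ?_ ?_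
  · intro u hu v hv
    obtain ⟨V, hV, rfl⟩ := (Ideal.mem_span_pow_iff_exists_isHomogeneous f v).mp hv
    exact ⟨C u * V, hV.C_mul u, Ideal.mul_mem_right _ _ (Ideal.mem_map_of_mem C hu), by simp⟩
  · rintro x y ⟨W₁, h1, h1', rfl⟩ ⟨W₂, h2, h2', rfl⟩
    exact ⟨W₁ + W₂, h1.add h2, Ideal.add_mem _ h1' h2', by simp⟩

/-- Matsumura's colon lemma -/
lemma colon_pow {n : ℕ} (f : Fin n → A) (hq : QR f) (a : A)
    (ha : ∀ y, a * y ∈ Ideal.span (Set.range f) → y ∈ Ideal.span (Set.range f)) :
    ∀ (ν : ℕ) (y : A), a * y ∈ Ideal.span (Set.range f) ^ ν → y ∈ Ideal.span (Set.range f) ^ ν := by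
  intro ν
  induction ν with
  | zero => intro y _; rw [pow_zero, Ideal.one_eq_top]; trivial
  | succ ν ih =>
    intro y hy
    have h1 : y ∈ Ideal.span (Set.range f) ^ ν :=
      ih y (Ideal.pow_le_pow_right (Nat.le_succ ν) hy)
    obtain ⟨F, hF, rfl⟩ := (Ideal.mem_span_pow_iff_exists_isHomogeneous f y).mp h1
    have h2 : C a * F ∈ Ideal.map (C : A →+* MvPolynomial (Fin n) A)
        (Ideal.span (Set.range f)) := by
      refine hq ν (C a * F) (hF.C_mul a) ?_
      rw [map_mul, eval_C]
      exact hy
    have h3 : F ∈ Ideal.map (C : A →+* MvPolynomial (Fin n) A) (Ideal.span (Set.range f)) := by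
      rw [mem_map_C_iff] at h2 ⊢
      intro d
      have := h2 d
      rw [coeff_C_mul] at this
      exact ha _ this
    exact eval_mem_pow_succ f hF h3

lemma map_C_mono {σ : Type*} {I I' : Ideal A} (h : I' ≤ I) :
    Ideal.map (C : A →+* MvPolynomial σ A) I' ≤ Ideal.map (C : A →+* MvPolynomial σ A) I :=
  Ideal.map_mono h

lemma rename_mem_map_C {σ τ : Type*} (φ : σ → τ) {I : Ideal A} {p : MvPolynomial σ A}
    (hp : p ∈ Ideal.map (C : A →+* MvPolynomial σ A) I) :
    rename φ p ∈ Ideal.map (C : A →+* MvPolynomial τ A) I := by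
  have h : Ideal.map ((rename φ : MvPolynomial σ A →ₐ[A] MvPolynomial τ A) : MvPolynomial σ A →+*
      MvPolynomial τ A) (Ideal.map (C : A →+* MvPolynomial σ A) I) =
      Ideal.map (C : A →+* MvPolynomial τ A) I := by
    rw [Ideal.map_map]
    congr 1
    ext a
    simp
  rw [← h]
  exact Ideal.mem_map_of_mem _ hp

/-- the inductive step -/
theorem qr_succ {n : ℕ} (f : Fin (n + 1) → A) (hq' : QR (fun i => f (Fin.castSucc i)))
    (ha : ∀ y : A, f (Fin.last n) * y ∈ Ideal.span (Set.range fun i => f (Fin.castSucc i)) →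
        y ∈ Ideal.span (Set.range fun i => f (Fin.castSucc i))) : QR f := by
  classical
  have hI'I : Ideal.span (Set.range fun i => f (Fin.castSucc i)) ≤ Ideal.span (Set.range f) := by
    apply Ideal.span_mono
    rintro _ ⟨i, rfl⟩
    exact ⟨_, rfl⟩
  have haI : f (Fin.last n) ∈ Ideal.span (Set.range f) := Ideal.subset_span ⟨_, rfl⟩
  intro ν
  induction ν with
  | zero =>
    intro F hF hev
    rw [mem_map_C_iff]
    intro d
    have hF0 : F = C (coeff 0 F) :=
      totalDegree_eq_zero_iff_eq_C.mp (Nat.le_zero.mp hF.totalDegree_le)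
    by_cases hd : d = 0
    · subst hd
      rw [hF0, eval_C, zero_add, pow_one] at hev
      exact hev
    · have : coeff d F = 0 := hF.coeff_eq_zero (by
        rw [Ne, Finsupp.degree_eq_zero_iff]; exact hd)
      rw [this]
      exact Ideal.zero_mem _
  | succ ν ih =>
    intro F hF hev
    obtain ⟨W, hW, hWc, hWe⟩ := exists_hom_of_mem_pow_succ f (ν + 1) hev
    suffices hs : F - W ∈ Ideal.map (C : A →+* MvPolynomial (Fin (n + 1)) A)
        (Ideal.span (Set.range f)) by
      have := Ideal.add_mem _ hs hWc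
      rwa [sub_add_cancel] at this
    have hFs : (F - W).IsHomogeneous (ν + 1) := hF.sub hW
    have hFe : eval f (F - W) = 0 := by rw [map_sub, hWe, sub_self]
    generalize F - W = Fs at hFs hFe ⊢
    -- split off the last variable
    set H := divMonomial Fs (Finsupp.single (Fin.last n) 1) with hHdef
    set G := modMonomial Fs (Finsupp.single (Fin.last n) 1) with hGdef
    have hsplit : X (Fin.last n) * H + G = Fs := divMonomial_add_modMonomial_single Fs (Fin.last n)
    have hH : H.IsHomogeneous ν := by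
      intro d hd
      have hd' : coeff (Finsupp.single (Fin.last n) 1 + d) Fs ≠ 0 := by
        rwa [hHdef, coeff_divMonomial] at hd
      have h : d.degree = ν := by
        by_contra hne
        refine hd' (hFs.coeff_eq_zero ?_)
        rw [map_add, Finsupp.degree_single]
        omega
      rw [Finsupp.degree_eq_weight_one] at h
      exact h
    have hXH : (X (Fin.last n) * H).IsHomogeneous (ν + 1) := by
      have h := (isHomogeneous_X A (Fin.last n)).mul hH
      rw [show 1 + ν = ν + 1 from add_comm 1 ν] at h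
      exact h
    have hG : G.IsHomogeneous (ν + 1) := by
      have : G = Fs - X (Fin.last n) * H := by rw [← hsplit]; ring
      rw [this]
      exact hFs.sub hXH
    -- `G` only involves the first `n` variables
    have hvars : (G.vars : Set (Fin (n + 1))) ⊆ Set.range (Fin.castSucc : Fin n → Fin (n + 1)) := by
      intro i hi
      rw [Finset.mem_coe, mem_vars] at hi
      obtain ⟨d, hd, hid⟩ := hi
      have hne : i ≠ Fin.last n := by
        rintro rfl
        have hle : Finsupp.single (Fin.last n) 1 ≤ d := by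
          rw [Finsupp.single_le_iff]
          exact Nat.one_le_iff_ne_zero.mpr (Finsupp.mem_support_iff.mp hid)
        exact (mem_support_iff.mp hd) (coeff_modMonomial_of_le Fs hle)
      exact Fin.exists_castSucc_eq.mpr hne
    obtain ⟨G', hG'⟩ := exists_rename_eq_of_vars_subset_range G Fin.castSucc
      (Fin.castSucc_injective n) hvars
    have hG'h : G'.IsHomogeneous (ν + 1) := by
      rw [← IsHomogeneous.rename_isHomogeneous_iff (Fin.castSucc_injective n), hG']
      exact hG
    have hGe : eval f G = eval (fun i => f (Fin.castSucc i)) G' := by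
      rw [← hG', eval_rename]
      rfl
    -- evaluate
    have h0 : f (Fin.last n) * eval f H + eval (fun i => f (Fin.castSucc i)) G' = 0 := by
      rw [← hGe, ← hFe, ← hsplit, map_add, map_mul, eval_X]
    have hG'mem : eval (fun i => f (Fin.castSucc i)) G' ∈
        Ideal.span (Set.range fun i => f (Fin.castSucc i)) ^ (ν + 1) :=
      (Ideal.mem_span_pow_iff_exists_isHomogeneous _ _).mpr ⟨G', hG'h, rfl⟩
    have h1 : f (Fin.last n) * eval f H ∈
        Ideal.span (Set.range fun i => f (Fin.castSucc i)) ^ (ν + 1) := by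
      have : f (Fin.last n) * eval f H = - eval (fun i => f (Fin.castSucc i)) G' :=
        eq_neg_of_add_eq_zero_left h0
      rw [this]
      exact Ideal.neg_mem_iff _ |>.mpr hG'mem
    have h2 : eval f H ∈ Ideal.span (Set.range fun i => f (Fin.castSucc i)) ^ (ν + 1) :=
      colon_pow _ hq' _ ha (ν + 1) _ h1
    -- coefficients of `H`
    have hHc : H ∈ Ideal.map (C : A →+* MvPolynomial (Fin (n + 1)) A)
        (Ideal.span (Set.range f)) :=
      ih H hH (Ideal.pow_right_mono hI'I (ν + 1) h2)
    -- coefficients of `G'`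
    obtain ⟨h', hh', rfl'⟩ := (Ideal.mem_span_pow_iff_exists_isHomogeneous _ _).mp h2
    have hg : G' + C (f (Fin.last n)) * h' ∈
        Ideal.map (C : A →+* MvPolynomial (Fin n) A)
          (Ideal.span (Set.range fun i => f (Fin.castSucc i))) := by
      refine hq' (ν + 1) _ (hG'h.add (hh'.C_mul _)) ?_
      have : eval (fun i => f (Fin.castSucc i)) (G' + C (f (Fin.last n)) * h') = 0 := by
        rw [map_add, map_mul, eval_C, rfl', add_comm]
        exact h0
      rw [this]
      exact Ideal.zero_mem _
    have hG'c : G' ∈ Ideal.map (C : A →+* MvPolynomial (Fin n) A)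
        (Ideal.span (Set.range f)) := by
      have e1 : G' = (G' + C (f (Fin.last n)) * h') - C (f (Fin.last n)) * h' := by ring
      rw [e1]
      exact Ideal.sub_mem _ (map_C_mono hI'I hg)
        (Ideal.mul_mem_right _ _ (Ideal.mem_map_of_mem C haI))
    rw [← hsplit, ← hG']
    exact Ideal.add_mem _ (Ideal.mul_mem_left _ _ hHc) (rename_mem_map_C _ hG'c)

theorem qr_of_myReg : ∀ (c : ℕ) (f : Fin c → A), MyReg c f → QR f := by
  intro c
  induction c with
  | zero =>
    intro f _ ν F _ hev
    have hbot : Ideal.span (Set.range f) = ⊥ := by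
      rw [Ideal.span_eq_bot]
      rintro _ ⟨i, -⟩
      exact i.elim0
    rw [hbot, Ideal.bot_pow (Nat.succ_ne_zero ν), Ideal.mem_bot] at hev
    rw [hbot, Ideal.map_bot, Ideal.mem_bot, eq_C_of_isEmpty F]
    rw [eq_C_of_isEmpty F, eval_C] at hev
    rw [hev, map_zero]
  | succ c ih =>
    intro f hf
    exact qr_succ f (ih _ hf.1) hf.2

/-- A (weakly) regular sequence in a ring is quasi-regular. -/
theorem quasiRegular_of_isWeaklyRegular {c : ℕ} (f : Fin c → A)
    (hf : RingTheory.Sequence.IsWeaklyRegular A (List.ofFn f)) :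
    ∀ (n : ℕ) (P : MvPolynomial (Fin c) A), P.IsHomogeneous n →
      MvPolynomial.eval f P ∈ Ideal.span (Set.range f) ^ (n + 1) →
        ∀ d : Fin c →₀ ℕ, P.coeff d ∈ Ideal.span (Set.range f) := by
  intro n P hP hev
  exact mem_map_C_iff.mp (qr_of_myReg c f (myReg_of_isWeaklyRegular c f hf) n P hP hev)

end Groth.Agent.Lib.Helper9.QuasiReg
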