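import Mathlib
import Groth.Prelude.Def_FlatCA

/-!
# Projective modules are universally pure: the linear algebra core

`core`: let `t` be a prime of `A`, `K` a field over `A` whose kernel lies in `t`, `N` a projective
`A`-module with a compatible action of an `A`-algebra `B`, `X` the base change of `N` to `K` (with
its `B`-action).  If `s ∉ t`, `y ∈ tB` then `s - y` acts injectively on `X`.
-/

set_option autoImplicit false
set_option linter.style.haveILetI false

namespace Groth.Agent.Lib.Helper9.ProjPure

open TensorProduct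

section Core

variable {A : Type*} [CommRing A] (t : Ideal A) [t.IsPrime]
  {K : Type*} [Field K] [Algebra A K]
  {B : Type*} [CommRing B] [Algebra A B]
  {N : Type*} [AddCommGroup N] [Module A N] [Module B N] [IsScalarTower A B N]

theorem coord_mem {y : B} (hy : y ∈ t.map (algebraMap A B)) {ι : Type*}
    (i : N →ₗ[A] (ι →₀ A)) (j : N) (l : ι) : i (y • j) l ∈ t := by
  unfold Ideal.map at hy
  induction hy using Submodule.span_induction generalizing j with
  | mem x hx =>
    obtain ⟨a, ha, rfl⟩ := hx
    rw [algebraMap_smul, map_smul, Finsupp.smul_apply, smul_eq_mul]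
    exact t.mul_mem_right _ ha
  | zero => simp
  | add x y _ _ hx hy =>
    rw [add_smul, map_add, Finsupp.add_apply]; exact t.add_mem (hx j) (hy j)
  | smul b x _ hx =>
    rw [smul_eq_mul, mul_comm, mul_smul]; exact hx (b • j)

variable [Module.Projective A N]
  {X : Type*} [AddCommGroup X] [Module A X] [Module K X] [Module B X] [IsScalarTower A K X]
  [IsScalarTower A B X] [SMulCommClass B K X]

include t in
theorem core (hK : RingHom.ker (algebraMap A K) ≤ t) (g : N →ₗ[B] X)
    (hbc : IsBaseChange K (g.restrictScalars A)) (s : A) (hs : s ∉ t) (y : B)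
    (hy : y ∈ t.map (algebraMap A B)) (x : X) (hx : s • x = y • x) : x = 0 := by
  classical
  obtain ⟨i, hi⟩ := Module.projective_def'.mp ‹Module.Projective A N›
  have hri : ∀ n, Finsupp.linearCombination A id (i n) = n := fun n => LinearMap.congr_fun hi n
  let mr : (N →₀ A) →ₗ[A] (N →₀ K) := Finsupp.mapRange.linearMap (Algebra.linearMap A K)
  let ψ : N →ₗ[A] (N →₀ K) := mr ∘ₗ i
  let Ψ : X →ₗ[K] (N →₀ K) := hbc.lift ψ
  have hΨg : ∀ n, Ψ (g n) = ψ n := fun n => hbc.lift_eq ψ n
  let Θ : (N →₀ K) →ₗ[K] X := Finsupp.linearCombination K (fun j => g j)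
  have hΘmr : ∀ f : N →₀ A, Θ (mr f) = g (Finsupp.linearCombination A id f) := by
    intro f
    induction f using Finsupp.induction_linear with
    | zero => simp
    | add f₁ f₂ h₁ h₂ => simp only [map_add, h₁, h₂]
    | single j a =>
      simp only [mr, Θ, Finsupp.mapRange.linearMap_apply, Finsupp.mapRange_single,
        Algebra.linearMap_apply, Finsupp.linearCombination_single, id]
      rw [algebraMap_smul, LinearMap.map_smul_of_tower]
  have hΘΨ : ∀ x, Θ (Ψ x) = x := by
    have : Θ ∘ₗ Ψ = LinearMap.id := by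
      apply hbc.algHom_ext
      intro n
      simp only [LinearMap.restrictScalars_apply, LinearMap.comp_apply, LinearMap.id_apply]
      rw [hΨg]
      change Θ (mr (i n)) = g n
      rw [hΘmr, hri]
    exact fun x => LinearMap.congr_fun this x
  -- the action of `b`
  let Lb : B → X →ₗ[K] X := fun b => DistribSMul.toLinearMap K X b
  let W : B → (N →₀ K) →ₗ[K] (N →₀ K) := fun b => Finsupp.linearCombination K (fun j => ψ (b • j))
  have hWmr : ∀ (b : B) (f : N →₀ A), W b (mr f) = ψ (b • Finsupp.linearCombination A id f) := by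
    intro b f
    induction f using Finsupp.induction_linear with
    | zero => simp
    | add f₁ f₂ h₁ h₂ => simp only [map_add, smul_add, h₁, h₂]
    | single j a =>
      simp only [mr, W, Finsupp.mapRange.linearMap_apply, Finsupp.mapRange_single,
        Algebra.linearMap_apply, Finsupp.linearCombination_single, id]
      rw [algebraMap_smul, smul_comm b a j]
      exact (map_smul ψ a (b • j)).symm
  have hΨb : ∀ (b : B) (x : X), Ψ (b • x) = W b (Ψ x) := by
    intro b
    have : Ψ ∘ₗ Lb b = W b ∘ₗ Ψ := by
      apply hbc.algHom_ext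
      intro n
      simp only [LinearMap.restrictScalars_apply, LinearMap.comp_apply]
      change Ψ (b • g n) = W b (Ψ (g n))
      rw [← map_smul, hΨg, hΨg]
      change mr (i (b • n)) = W b (mr (i n))
      rw [hWmr, hri]
      rfl
    exact fun x => LinearMap.congr_fun this x
  by_contra hx0
  set v : N →₀ K := Ψ x with hv
  have hv0 : v ≠ 0 := by
    intro h0
    apply hx0
    rw [← hΘΨ x, ← hv, h0, map_zero]
  have hsv : (algebraMap A K s) • v = W y v := by
    rw [hv, ← hΨb, ← hx, ← algebraMap_smul K s x, map_smul]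
  -- coordinates
  let J : Finset N := v.support
  let M : Matrix J J A := fun l j => i (y • j.1) l.1
  let w : J → K := fun j => v j.1
  have hw0 : w ≠ 0 := by
    intro h0
    apply hv0
    ext j
    by_cases hj : j ∈ J
    · exact congr_fun h0 ⟨j, hj⟩
    · simpa [J] using hj
  have hMt : ∀ l j, M l j ∈ t := fun l j => coord_mem t hy i j.1 l.1
  have hmul : (Matrix.scalar J (algebraMap A K s) - M.map (algebraMap A K)).mulVec w = 0 := by
    ext l
    have h1 := DFunLike.congr_fun hsv l.1
    simp only [W, Finsupp.linearCombination_apply, Finsupp.smul_apply, smul_eq_mul] at h1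
    rw [Finsupp.sum, Finsupp.finsetSum_apply] at h1
    simp only [Matrix.sub_mulVec, Pi.sub_apply, Pi.zero_apply]
    rw [sub_eq_zero]
    have h2 : (Matrix.scalar J (algebraMap A K s)).mulVec w l = algebraMap A K s * v l.1 := by
      simp [Matrix.mulVec, dotProduct, Matrix.scalar_apply, Matrix.diagonal_apply, w]
    rw [h2, h1]
    simp only [Matrix.mulVec, dotProduct, Matrix.map_apply, M, w]
    rw [← Finset.sum_coe_sort v.support]
    apply Finset.sum_congr rfl
    intro j _
    simp only [Finsupp.smul_apply, smul_eq_mul, ψ, mr, LinearMap.comp_apply,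
      Finsupp.mapRange.linearMap_apply, Finsupp.mapRange_apply, Algebra.linearMap_apply]
    exact mul_comm _ _
  have hdet : (Matrix.scalar J (algebraMap A K s) - M.map (algebraMap A K)).det = 0 :=
    Matrix.exists_mulVec_eq_zero_iff.mp ⟨w, hw0, hmul⟩
  set D : A := (Matrix.scalar J s - M).det with hD
  have hDK : algebraMap A K D = 0 := by
    rw [hD, RingHom.map_det]
    rw [← hdet]
    congr 1
    ext l j
    simp [Matrix.scalar_apply, Matrix.diagonal_apply, Matrix.sub_apply]
    split_ifs <;> simp
  have hDt : D ∈ t := hK (by rwa [RingHom.mem_ker])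
  have hDq : Ideal.Quotient.mk t D = (Ideal.Quotient.mk t s) ^ (Fintype.card J) := by
    rw [hD, RingHom.map_det]
    have : (Ideal.Quotient.mk t).mapMatrix (Matrix.scalar J s - M) =
        Matrix.scalar J (Ideal.Quotient.mk t s) := by
      ext l j
      have := Ideal.Quotient.eq_zero_iff_mem.mpr (hMt l j)
      simp [Matrix.scalar_apply, Matrix.diagonal_apply, Matrix.sub_apply, this]
      split_ifs <;> simp
    rw [this, Matrix.scalar_apply, Matrix.det_diagonal]
    simp
  have : Ideal.Quotient.mk t D = 0 := Ideal.Quotient.eq_zero_iff_mem.mpr hDt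
  rw [hDq] at this
  exact hs (Ideal.Quotient.eq_zero_iff_mem.mp (eq_zero_of_pow_eq_zero this))

include t in
theorem core_pow (hK : RingHom.ker (algebraMap A K) ≤ t) (g : N →ₗ[B] X)
    (hbc : IsBaseChange K (g.restrictScalars A)) (s : A) (hs : s ∉ t) (y : B)
    (hy : y ∈ t.map (algebraMap A B)) (k : ℕ) (x : X)
    (hx : (algebraMap A B s - y) ^ k • x = 0) : x = 0 := by
  induction k generalizing x with
  | zero => simpa using hx
  | succ k ih =>
    rw [pow_succ, mul_smul] at hx
    have := ih _ hx
    rw [sub_smul, sub_eq_zero, algebraMap_smul] at this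
    exact core t hK g hbc s hs y hy x this

end Core

theorem exists_sub_mem {A B : Type*} [CommRing A] [CommRing B] [Algebra A B] (t : Ideal A)
    [t.IsPrime] (P : Ideal B) [P.IsPrime]
    (hno : ∀ (P' : Ideal B) [P'.IsPrime], P ≤ P' → ¬ P'.LiesOver t) :
    ∃ s : A, s ∉ t ∧ ∃ y ∈ t.map (algebraMap A B), algebraMap A B s - y ∈ P := by
  by_contra hcon
  push Not at hcon
  have hdisj : Disjoint ((t.map (algebraMap A B) ⊔ P : Ideal B) : Set B)
      (Algebra.algebraMapSubmonoid B t.primeCompl) := by
    rw [Set.disjoint_left]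
    rintro z hz ⟨s, hs, rfl⟩
    obtain ⟨y, hy, p, hp, hyp⟩ := Submodule.mem_sup.mp hz
    apply hcon s hs y hy
    have : algebraMap A B s - y = p := by rw [← hyp]; ring
    rw [this]; exact hp
  obtain ⟨P', hP', hle, hd⟩ := Ideal.exists_le_prime_disjoint _ _ hdisj
  refine hno P' (le_sup_right.trans hle) ⟨?_⟩
  ext a
  rw [Ideal.under_def, Ideal.mem_comap]
  constructor
  · intro ha; exact hle (Ideal.mem_sup_left (Ideal.mem_map_of_mem _ ha))
  · intro ha
    by_contra hat
    exact Set.disjoint_left.mp hd ha ⟨a, hat, rfl⟩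

section Main

attribute [local instance] Algebra.TensorProduct.rightAlgebra

universe u

variable {A B N : Type u} [CommRing A] [CommRing B] [Algebra A B] [AddCommGroup N] [Module A N]
  [Module B N] [IsScalarTower A B N] [Module.Projective A N]

theorem main_aux (t' t : Ideal A) [t'.IsPrime] [t.IsPrime] (hle : t' ≤ t) (P : Ideal B)
    [P.IsPrime] (x : (t'.Fiber B) ⊗[B] N)
    (hprime : (P.map (Algebra.TensorProduct.includeRight (R := A) (A := t'.ResidueField)
      (B := B)).toRingHom).IsPrime)
    (hx : P.map (Algebra.TensorProduct.includeRight (R := A) (A := t'.ResidueField)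
      (B := B)).toRingHom =
      ((⊥ : Submodule (t'.Fiber B) ((t'.Fiber B) ⊗[B] N)).colon {x}).radical)
    (hno : ∀ (P' : Ideal B) [P'.IsPrime], P ≤ P' → ¬ P'.LiesOver t) : False := by
  obtain ⟨s, hs, y, hy, hsy⟩ := exists_sub_mem t P hno
  have hx0 : x ≠ 0 := by
    rintro rfl
    apply hprime.ne_top
    rw [hx, Ideal.radical_eq_top, Ideal.eq_top_iff_one, Submodule.mem_colon_singleton]
    simp
  have hmem : (Algebra.TensorProduct.includeRight (R := A) (A := t'.ResidueField)
      (B := B)).toRingHom (algebraMap A B s - y) ∈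
      ((⊥ : Submodule (t'.Fiber B) ((t'.Fiber B) ⊗[B] N)).colon {x}).radical := by
    rw [← hx]; exact Ideal.mem_map_of_mem _ hsy
  obtain ⟨k, hk⟩ := hmem
  rw [Submodule.mem_colon_singleton, Submodule.mem_bot] at hk
  let g : N →ₗ[B] (t'.Fiber B) ⊗[B] N := TensorProduct.mk B (t'.Fiber B) N 1
  have hbc : IsBaseChange t'.ResidueField (g.restrictScalars A) :=
    IsBaseChange.of_equiv
      (Algebra.IsPushout.cancelBaseChange A t'.ResidueField B (t'.Fiber B) N).symm
      (fun n => by simp [g, ← Algebra.TensorProduct.one_def])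
  have hK : RingHom.ker (algebraMap A t'.ResidueField) ≤ t := by
    rw [Ideal.ker_algebraMap_residueField]; exact hle
  apply hx0
  refine core_pow t hK g hbc s hs y hy k x ?_
  rw [← hk, ← map_pow]
  exact (algebraMap_smul (t'.Fiber B) _ x).symm

theorem main (t' t : Ideal A) [t'.IsPrime] [t.IsPrime] (hle : t' ≤ t) (P : Ideal B)
    [P.IsPrime]
    (hass : FlatCA.fiberIdeal t' P ∈ associatedPrimes (t'.Fiber B) (FlatCA.fiberMod t' B N))
    (hno : ∀ (P' : Ideal B) [P'.IsPrime], P ≤ P' → ¬ P'.LiesOver t) : False := by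
  obtain ⟨hprime, x, hx⟩ := hass
  exact main_aux t' t hle P x hprime hx hno

end Main

end Groth.Agent.Lib.Helper9.ProjPure
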