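import Mathlib
import Groth.Prelude.Def_FlatCA
import Groth.Agent.Lib.Helper9.AssTensor

/-!
# The fibre module `(κ(𝔭) ⊗ S) ⊗[S] N` and its associated primes (helper9)
-/

set_option autoImplicit false
universe u

open TensorProduct

namespace Groth.Agent.Lib.Helper9.FiberAss

open Groth.Agent.Lib.Helper9.FlatCoker Groth.Agent.Lib.Helper9.AssTensor

attribute [local instance] Algebra.TensorProduct.rightAlgebra

section

variable {R : Type u} [CommRing R] (p : Ideal R) [p.IsPrime] (S : Type u) [CommRing S]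
  [Algebra R S] (N : Type u) [AddCommGroup N] [Module S N]

/-- `S → κ(𝔭) ⊗ S`. -/
noncomputable abbrev iota : S →+* p.Fiber S :=
  (Algebra.TensorProduct.includeRight (R := R) (A := p.ResidueField) (B := S)).toRingHom

lemma smul_eq (s : S) (z : (p.Fiber S) ⊗[S] N) : s • z = (iota p S s) • z := by
  induction z using TensorProduct.induction_on with
  | zero => rw [smul_zero, smul_zero]
  | tmul x n =>
    rw [TensorProduct.smul_tmul', TensorProduct.smul_tmul', Algebra.smul_def]
    rfl
  | add a b ha hb => rw [smul_add, smul_add, ha, hb]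

lemma iota_algebraMap (r : R) :
    iota p S (algebraMap R S r) = (algebraMap R p.ResidueField r) ⊗ₜ[R] (1 : S) := by
  show (Algebra.TensorProduct.includeRight (R := R) (A := p.ResidueField) (B := S))
    (algebraMap R S r) = _
  rw [AlgHom.commutes, Algebra.TensorProduct.algebraMap_apply]

lemma eq_zero_of_algebraMap_smul {r : R} (hr : r ∉ p) (z : (p.Fiber S) ⊗[S] N)
    (h : algebraMap R S r • z = 0) : z = 0 := by
  rw [smul_eq, iota_algebraMap] at h
  have hne : algebraMap R p.ResidueField r ≠ 0 := fun h0 =>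
    hr ((Ideal.algebraMap_residueField_eq_zero).mp h0)
  have h1 : (((algebraMap R p.ResidueField r)⁻¹ ⊗ₜ[R] (1 : S) : p.Fiber S)) *
      ((algebraMap R p.ResidueField r) ⊗ₜ[R] (1 : S)) = 1 := by
    rw [Algebra.TensorProduct.tmul_mul_tmul, inv_mul_cancel₀ hne, mul_one]
    rfl
  calc z = (1 : p.Fiber S) • z := (one_smul _ z).symm
    _ = 0 := by rw [← h1, mul_smul, h, smul_zero]

lemma exists_smul_eq_one_tmul (z : (p.Fiber S) ⊗[S] N) :
    ∃ r : R, r ∉ p ∧ ∃ n : N, algebraMap R S r • z = (1 : p.Fiber S) ⊗ₜ[S] n := by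
  have hone : (1 : R) ∉ p := fun h => (inferInstance : p.IsPrime).ne_top
    ((Ideal.eq_top_iff_one p).mpr h)
  induction z using TensorProduct.induction_on with
  | zero => exact ⟨1, hone, 0, by rw [smul_zero, TensorProduct.tmul_zero]⟩
  | tmul x n =>
    obtain ⟨r, hr, s, hs⟩ := Ideal.Fiber.exists_smul_eq_one_tmul p x
    refine ⟨r, hr, s • n, ?_⟩
    rw [TensorProduct.smul_tmul', algebraMap_smul, hs]
    have h1 : ((1 : p.ResidueField) ⊗ₜ[R] s : p.Fiber S) = s • (1 : p.Fiber S) := by
      rw [Algebra.smul_def, mul_one]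
      rfl
    rw [h1, TensorProduct.smul_tmul]
  | add a b ha hb =>
    obtain ⟨r₁, hr₁, n₁, h₁⟩ := ha
    obtain ⟨r₂, hr₂, n₂, h₂⟩ := hb
    refine ⟨r₁ * r₂, fun h => ((inferInstance : p.IsPrime).mem_or_mem h).elim hr₁ hr₂,
      (algebraMap R S r₂) • n₁ + (algebraMap R S r₁) • n₂, ?_⟩
    have ea : (algebraMap R S (r₁ * r₂)) • a =
        (1 : p.Fiber S) ⊗ₜ[S] ((algebraMap R S r₂) • n₁) := by
      rw [map_mul, mul_comm, mul_smul, h₁, TensorProduct.tmul_smul]
    have eb : (algebraMap R S (r₁ * r₂)) • b =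
        (1 : p.Fiber S) ⊗ₜ[S] ((algebraMap R S r₁) • n₂) := by
      rw [map_mul, mul_smul, h₂, TensorProduct.tmul_smul]
    rw [smul_add, ea, eb, TensorProduct.tmul_add]

end

section ass

variable {R : Type u} [CommRing R] (p : Ideal R) [p.IsPrime] (S : Type u) [CommRing S]
  [Algebra R S] (N : Type u) [AddCommGroup N] [Module S N]

/-- The comap of the `Fib`-annihilator of `z` is its `S`-annihilator. -/
lemma comap_annihilator (z : (p.Fiber S) ⊗[S] N) :
    ((Submodule.span (p.Fiber S) {z}).annihilator).comap (iota p S) =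
      (Submodule.span S {z}).annihilator := by
  ext s
  rw [Ideal.mem_comap, Submodule.mem_annihilator_span_singleton,
    Submodule.mem_annihilator_span_singleton, smul_eq]

/-- If the `S`-annihilator of `z` is prime then so is its `Fib`-annihilator. -/
lemma isPrime_annihilator (z : (p.Fiber S) ⊗[S] N)
    (hq : ((Submodule.span S {z}).annihilator).IsPrime) :
    ((Submodule.span (p.Fiber S) {z}).annihilator).IsPrime := by
  refine ⟨?_, ?_⟩
  · intro htop
    apply hq.ne_top
    rw [← comap_annihilator, htop, Ideal.comap_top]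
  · intro x y hxy
    rw [Submodule.mem_annihilator_span_singleton] at hxy
    obtain ⟨r, hr, s, hs⟩ := Ideal.Fiber.exists_smul_eq_one_tmul p x
    obtain ⟨r', hr', s', hs'⟩ := Ideal.Fiber.exists_smul_eq_one_tmul p y
    have hx : iota p S (algebraMap R S r) * x = iota p S s := by
      have h1 : r • x = algebraMap R (p.Fiber S) r * x := Algebra.smul_def r x
      have h2 : algebraMap R (p.Fiber S) r = iota p S (algebraMap R S r) :=
        ((Algebra.TensorProduct.includeRight (R := R) (A := p.ResidueField)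
          (B := S)).commutes r).symm
      rw [← h2, ← h1, hs]
      rfl
    have hy : iota p S (algebraMap R S r') * y = iota p S s' := by
      have h1 : r' • y = algebraMap R (p.Fiber S) r' * y := Algebra.smul_def r' y
      have h2 : algebraMap R (p.Fiber S) r' = iota p S (algebraMap R S r') :=
        ((Algebra.TensorProduct.includeRight (R := R) (A := p.ResidueField)
          (B := S)).commutes r').symm
      rw [← h2, ← h1, hs']
      rfl
    have hss' : s * s' ∈ (Submodule.span S {z}).annihilator := by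
      rw [Submodule.mem_annihilator_span_singleton, smul_eq, map_mul, ← hx, ← hy]
      have : iota p S (algebraMap R S r) * x * (iota p S (algebraMap R S r') * y) =
          (iota p S (algebraMap R S r) * iota p S (algebraMap R S r')) * (x * y) := by ring
      rw [this, mul_smul, hxy, smul_zero]
    rcases hq.mem_or_mem hss' with h | h
    · left
      rw [Submodule.mem_annihilator_span_singleton] at h ⊢
      rw [smul_eq, ← hx, mul_smul, ← smul_eq] at h
      exact eq_zero_of_algebraMap_smul p S N hr _ h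
    · right
      rw [Submodule.mem_annihilator_span_singleton] at h ⊢
      rw [smul_eq, ← hy, mul_smul, ← smul_eq] at h
      exact eq_zero_of_algebraMap_smul p S N hr' _ h

/-- S9664 for the model `(κ(𝔭) ⊗ S) ⊗[S] N`. -/
theorem mem_assAnn_iff (q : Ideal S) [q.IsPrime] :
    q ∈ assAnn S ((p.Fiber S) ⊗[S] N) ↔
      ∃ Q ∈ assAnn (p.Fiber S) ((p.Fiber S) ⊗[S] N), Q.comap (iota p S) = q := by
  constructor
  · rintro ⟨hq, z, hz⟩
    refine ⟨(Submodule.span (p.Fiber S) {z}).annihilator,
      ⟨isPrime_annihilator p S N z (hz ▸ hq), z, rfl⟩, ?_⟩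
    rw [comap_annihilator, hz]
  · rintro ⟨Q, ⟨_, z, rfl⟩, hQ⟩
    refine ⟨inferInstance, z, ?_⟩
    rw [← hQ, comap_annihilator]

end ass

section psi

variable {R : Type u} [CommRing R] (p : Ideal R) [p.IsPrime] (S : Type u) [CommRing S]
  [Algebra R S] (N : Type u) [AddCommGroup N] [Module S N] [Module R N] [IsScalarTower R S N]

/-- `n ↦ (s ↦ s • n)` as an `R`-bilinear map. -/
noncomputable def smulRight : N →ₗ[R] S →ₗ[R] N :=
  LinearMap.mk₂ R (fun n s => s • n)
    (fun n n' s => smul_add s n n')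
    (fun r n s => smul_comm s r n)
    (fun n s s' => add_smul s s' n)
    (fun r n s => smul_assoc r s n)

/-- `(k ⊗ s, n) ↦ k ⊗ s n`. -/
noncomputable def psiBil : (p.Fiber S) →ₗ[R] N →ₗ[R] (p.ResidueField ⊗[R] N) :=
  ((LinearMap.lTensorHom p.ResidueField) ∘ₗ (smulRight (R := R) S N)).flip

lemma psiBil_tmul (k : p.ResidueField) (s : S) (n : N) :
    psiBil p S N (k ⊗ₜ[R] s) n = k ⊗ₜ[R] (s • n) := by
  simp [psiBil, smulRight]

/-- The comparison map `(κ ⊗_R S) ⊗_S N → κ ⊗_R N`. -/
noncomputable def psi : (p.Fiber S) ⊗[S] N →+ p.ResidueField ⊗[R] N :=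
  TensorProduct.liftAddHom
    (AddMonoidHom.mk' (fun x => (psiBil p S N x).toAddMonoidHom) (fun x y => by
      ext n
      simp))
    (by
      intro s x n
      show psiBil p S N (s • x) n = psiBil p S N x (s • n)
      induction x using TensorProduct.induction_on with
      | zero => simp
      | tmul k s₀ =>
        have h1 : s • (k ⊗ₜ[R] s₀ : p.Fiber S) = k ⊗ₜ[R] (s * s₀) := by
          rw [Algebra.smul_def]
          show ((1 : p.ResidueField) ⊗ₜ[R] s) * (k ⊗ₜ[R] s₀) = _
          rw [Algebra.TensorProduct.tmul_mul_tmul, one_mul]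
        rw [h1, psiBil_tmul, psiBil_tmul, mul_comm, mul_smul]
      | add a b ha hb => simp only [smul_add, map_add, LinearMap.add_apply, ha, hb])

lemma psi_one_tmul (n : N) :
    psi p S N ((1 : p.Fiber S) ⊗ₜ[S] n) = (1 : p.ResidueField) ⊗ₜ[R] n := by
  show psiBil p S N (1 : p.Fiber S) n = _
  rw [Algebra.TensorProduct.one_def, psiBil_tmul, one_smul]

omit [Module S N] [IsScalarTower R S N] in
theorem exists_smul_mem_of_one_tmul_eq_zero {n : N}
    (h : (1 : p.ResidueField) ⊗ₜ[R] n = 0) :
    ∃ r : R, r ∉ p ∧ r • n ∈ p • (⊤ : Submodule R N) := by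
  let π : Localization.AtPrime p →ₗ[R] p.ResidueField :=
    (IsScalarTower.toAlgHom R (Localization.AtPrime p) p.ResidueField).toLinearMap
  let ιm : (IsLocalRing.maximalIdeal (Localization.AtPrime p)) →ₗ[R] Localization.AtPrime p :=
    (Submodule.subtype (IsLocalRing.maximalIdeal (Localization.AtPrime p))).restrictScalars R
  have hπsurj : Function.Surjective π := IsLocalRing.residue_surjective
  have hex : Function.Exact ιm π := by
    intro a
    constructor
    · intro ha
      have h2 : a ∈ IsLocalRing.maximalIdeal (Localization.AtPrime p) :=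
        (IsLocalRing.residue_eq_zero_iff a).mp ha
      exact ⟨⟨a, h2⟩, rfl⟩
    · rintro ⟨⟨a, ha⟩, rfl⟩
      exact (IsLocalRing.residue_eq_zero_iff a).mpr ha
  have h1 : π.rTensor N ((1 : Localization.AtPrime p) ⊗ₜ[R] n) = 0 := by
    rw [LinearMap.rTensor_tmul]
    have h2 : π 1 = 1 := map_one (algebraMap (Localization.AtPrime p) p.ResidueField)
    rw [h2]
    exact h
  obtain ⟨w, hw⟩ := (rTensor_exact N hex hπsurj _).mp h1
  have key : ∀ w : (IsLocalRing.maximalIdeal (Localization.AtPrime p)) ⊗[R] N,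
      ∃ n' ∈ p • (⊤ : Submodule R N), ∃ s : p.primeCompl,
        (LocalizedModule.equivTensorProduct p.primeCompl N).symm (ιm.rTensor N w) =
          LocalizedModule.mk n' s := by
    intro w
    induction w using TensorProduct.induction_on with
    | zero => exact ⟨0, zero_mem _, 1, by rw [map_zero, map_zero, LocalizedModule.zero_mk]⟩
    | tmul x n₀ =>
      obtain ⟨a, s, hx⟩ : ∃ (a : R) (s : p.primeCompl),
          (x : Localization.AtPrime p) = Localization.mk a s := by
        obtain ⟨⟨a, s⟩, h⟩ := IsLocalization.mk'_surjective p.primeCompl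
          (x : Localization.AtPrime p)
        exact ⟨a, s, by rw [Localization.mk_eq_mk', ← h]⟩
      have ha : a ∈ p := by
        have h2 := x.2
        rw [hx, Localization.mk_eq_mk'] at h2
        exact (IsLocalization.AtPrime.mk'_mem_maximal_iff (Localization.AtPrime p) p a s).mp h2
      refine ⟨a • n₀, Submodule.smul_mem_smul ha Submodule.mem_top, s, ?_⟩
      rw [LinearMap.rTensor_tmul]
      show (LocalizedModule.equivTensorProduct p.primeCompl N).symm
        ((x : Localization.AtPrime p) ⊗ₜ[R] n₀) = _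
      rw [hx, LocalizedModule.equivTensorProduct_symm_apply_tmul, LocalizedModule.smul'_mk]
    | add a b ha hb =>
      obtain ⟨n₁, hn₁, s₁, e₁⟩ := ha
      obtain ⟨n₂, hn₂, s₂, e₂⟩ := hb
      refine ⟨s₂ • n₁ + s₁ • n₂, ?_, s₁ * s₂, ?_⟩
      · rw [Submonoid.smul_def, Submonoid.smul_def]
        exact add_mem (Submodule.smul_mem _ _ hn₁) (Submodule.smul_mem _ _ hn₂)
      · rw [map_add, map_add, e₁, e₂, LocalizedModule.mk_add_mk]
  obtain ⟨n', hn', s, hs⟩ := key w
  rw [hw, LocalizedModule.equivTensorProduct_symm_apply_tmul_one] at hs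
  obtain ⟨u, hu⟩ := LocalizedModule.mk_eq.mp hs
  refine ⟨(u : R) * (s : R), p.primeCompl.mul_mem u.2 s.2, ?_⟩
  have h3 : (u : R) • (s : R) • n = (u : R) • n' := by
    simpa [Submonoid.smul_def] using hu
  rw [mul_smul, h3]
  exact Submodule.smul_mem _ _ hn'

/-- The kernel of `N → (κ ⊗ S) ⊗_S N`. -/
theorem exists_smul_mem_of_toFiber_eq_zero {n : N} (h : (1 : p.Fiber S) ⊗ₜ[S] n = 0) :
    ∃ r : R, r ∉ p ∧ r • n ∈ (p.map (algebraMap R S)) • (⊤ : Submodule S N) := by
  have h1 : (1 : p.ResidueField) ⊗ₜ[R] n = 0 := by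
    rw [← psi_one_tmul p S N n, h, map_zero]
  obtain ⟨r, hr, hrn⟩ := exists_smul_mem_of_one_tmul_eq_zero p N h1
  exact ⟨r, hr, mem_map_smul_top_of_mem_smul_top p hrn⟩

lemma one_tmul_eq_zero_of_mem {n : N}
    (hn : n ∈ (p.map (algebraMap R S)) • (⊤ : Submodule S N)) :
    (1 : p.Fiber S) ⊗ₜ[S] n = 0 := by
  have hx := mem_smul_top_of_mem_map_smul_top p hn
  refine Submodule.smul_induction_on hx ?_ ?_
  · intro a ha n' _
    rw [← algebraMap_smul S a n', TensorProduct.tmul_smul, smul_eq, iota_algebraMap,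
      (Ideal.algebraMap_residueField_eq_zero).mpr ha, TensorProduct.zero_tmul, zero_smul]
  · intro x y hx hy
    rw [TensorProduct.tmul_add, hx, hy, add_zero]

end psi

section quot

variable {R : Type u} [CommRing R] (p : Ideal R) [p.IsPrime] (S : Type u) [CommRing S]
  [Algebra R S] (N : Type u) [AddCommGroup N] [Module S N] [Module R N] [IsScalarTower R S N]

omit [p.IsPrime] [Module R N] [IsScalarTower R S N] in
lemma mem_ann_mk_iff (n : N) (s : S) :
    s ∈ (Submodule.span S {(Submodule.Quotient.mk n :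
        N ⧸ (p.map (algebraMap R S)) • (⊤ : Submodule S N))}).annihilator ↔
      s • n ∈ (p.map (algebraMap R S)) • (⊤ : Submodule S N) := by
  rw [Submodule.mem_annihilator_span_singleton, ← Submodule.Quotient.mk_smul,
    Submodule.Quotient.mk_eq_zero]

/-- S9665 on the model. -/
theorem mem_assAnn_fiber_of_mem_quot (q : Ideal S) [q.IsPrime]
    (hq : q.comap (algebraMap R S) = p)
    (h : q ∈ assAnn S (N ⧸ (p.map (algebraMap R S)) • (⊤ : Submodule S N))) :
    q ∈ assAnn S ((p.Fiber S) ⊗[S] N) := by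
  obtain ⟨hqp, w, hw⟩ := h
  obtain ⟨n, rfl⟩ := Submodule.mkQ_surjective _ w
  rw [Submodule.mkQ_apply] at hw
  have hmem : ∀ s : S, s ∈ q ↔ s • n ∈ (p.map (algebraMap R S)) • (⊤ : Submodule S N) := by
    intro s
    rw [← mem_ann_mk_iff, ← hw]
  refine ⟨hqp, (1 : p.Fiber S) ⊗ₜ[S] n, ?_⟩
  ext s
  rw [Submodule.mem_annihilator_span_singleton, ← TensorProduct.tmul_smul]
  constructor
  · intro hs
    exact one_tmul_eq_zero_of_mem p S N ((hmem s).mp hs)
  · intro hs
    obtain ⟨r, hr, hrn⟩ := exists_smul_mem_of_toFiber_eq_zero p S N hs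
    have h1 : (algebraMap R S r * s) ∈ q := by
      rw [hmem, mul_smul, algebraMap_smul]
      exact hrn
    rcases hqp.mem_or_mem h1 with h2 | h2
    · exfalso
      apply hr
      rw [← hq]
      exact h2
    · exact h2

/-- S9666 on the model. -/
theorem mem_assAnn_quot_of_mem_fiber [IsNoetherianRing S] (q : Ideal S) [q.IsPrime]
    (hq : q.comap (algebraMap R S) = p)
    (h : q ∈ assAnn S ((p.Fiber S) ⊗[S] N)) :
    q ∈ assAnn S (N ⧸ (p.map (algebraMap R S)) • (⊤ : Submodule S N)) := by
  classical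
  obtain ⟨hqp, z, hz⟩ := h
  obtain ⟨r₀, hr₀, n, hn⟩ := exists_smul_eq_one_tmul p S N z
  have hone : (1 : R) ∉ p := fun h => (inferInstance : p.IsPrime).ne_top
    ((Ideal.eq_top_iff_one p).mpr h)
  have hann : ∀ s : S, s ∈ q ↔ (1 : p.Fiber S) ⊗ₜ[S] (s • n) = 0 := by
    intro s
    rw [hz, Submodule.mem_annihilator_span_singleton, TensorProduct.tmul_smul, ← hn, smul_comm]
    constructor
    · intro h
      rw [h, smul_zero]
    · intro h
      exact eq_zero_of_algebraMap_smul p S N hr₀ _ h
  obtain ⟨T, hT⟩ := IsNoetherian.noetherian q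
  have hT' : Ideal.span (T : Set S) = q := hT
  have key : ∀ T' : Finset S, (∀ t ∈ T', t ∈ q) → ∃ r : R, r ∉ p ∧ ∀ t ∈ T',
      (algebraMap R S r) • t • n ∈ (p.map (algebraMap R S)) • (⊤ : Submodule S N) := by
    intro T'
    induction T' using Finset.induction_on with
    | empty => exact fun _ => ⟨1, hone, fun t ht => absurd ht (Finset.notMem_empty t)⟩
    | insert a T'' ha ih =>
      intro hall
      obtain ⟨r₁, hr₁, h₁⟩ := ih (fun t ht => hall t (Finset.mem_insert_of_mem ht))
      have ha_q : a ∈ q := hall a (Finset.mem_insert_self a T'')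
      obtain ⟨r₂, hr₂, h₂⟩ := exists_smul_mem_of_toFiber_eq_zero p S N ((hann a).mp ha_q)
      have h3 : algebraMap R S r₂ • a • n ∈
          (p.map (algebraMap R S)) • (⊤ : Submodule S N) := by
        rw [algebraMap_smul]
        exact h₂
      refine ⟨r₁ * r₂, fun h => ((inferInstance : p.IsPrime).mem_or_mem h).elim hr₁ hr₂, ?_⟩
      intro t ht
      rw [Finset.mem_insert] at ht
      rcases ht with ht | ht
      · rw [ht, map_mul, mul_smul]
        exact Submodule.smul_mem _ _ h3
      · rw [map_mul, mul_comm, mul_smul]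
        exact Submodule.smul_mem _ _ (h₁ t ht)
  obtain ⟨r, hr, hrT⟩ := key T (fun t ht => hT' ▸ Ideal.subset_span ht)
  have hrq : algebraMap R S r ∉ q := by
    intro h
    apply hr
    rw [← hq]
    exact h
  refine ⟨hqp, Submodule.Quotient.mk ((algebraMap R S r) • n), le_antisymm ?_ ?_⟩
  · rw [← hT', Ideal.span_le]
    intro t ht
    rw [SetLike.mem_coe, mem_ann_mk_iff, smul_comm]
    exact hrT t ht
  · intro s hs
    rw [mem_ann_mk_iff] at hs
    have h1 := one_tmul_eq_zero_of_mem p S N hs
    rw [← mul_smul] at h1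
    have h2 : s * algebraMap R S r ∈ q := (hann _).mpr h1
    exact (hqp.mem_or_mem h2).resolve_right hrq

/-- S9669 on the model. -/
theorem assAnn_quot_eq_fiber [Module.Flat R N] :
    assAnn S (N ⧸ (p.map (algebraMap R S)) • (⊤ : Submodule S N)) =
        assAnn S ((p.Fiber S) ⊗[S] N) ∧
      ∀ q ∈ assAnn S (N ⧸ (p.map (algebraMap R S)) • (⊤ : Submodule S N)),
        q.comap (algebraMap R S) = p := by
  have hlies : ∀ q ∈ assAnn S (N ⧸ (p.map (algebraMap R S)) • (⊤ : Submodule S N)),
      q.comap (algebraMap R S) = p :=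
    fun q hq => comap_eq_of_mem_quot (assLike_assAnn (S := S)) N p q hq
  refine ⟨Set.Subset.antisymm ?_ ?_, hlies⟩
  · intro q hq
    haveI := hq.1
    exact mem_assAnn_fiber_of_mem_quot p S N q (hlies q hq) hq
  · rintro q ⟨hqp, z, hz⟩
    obtain ⟨r₀, hr₀, n, hn⟩ := exists_smul_eq_one_tmul p S N z
    refine ⟨hqp, Submodule.Quotient.mk n, ?_⟩
    ext s
    rw [mem_ann_mk_iff, hz, Submodule.mem_annihilator_span_singleton]
    constructor
    · intro h
      have h1 : (1 : p.Fiber S) ⊗ₜ[S] (s • n) = 0 := by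
        rw [TensorProduct.tmul_smul, ← hn, smul_comm, h, smul_zero]
      obtain ⟨r, hr, hrn⟩ := exists_smul_mem_of_toFiber_eq_zero p S N h1
      exact mem_of_smul_mem_of_flat N p hr hrn
    · intro h
      have h1 := one_tmul_eq_zero_of_mem p S N h
      rw [TensorProduct.tmul_smul, ← hn, smul_comm] at h1
      exact eq_zero_of_algebraMap_smul p S N hr₀ _ h1

/-- S9648 on the model. -/
theorem comap_mem_assAnn_tensor [Module.Flat R N] (M : Type u) [AddCommGroup M] [Module R M]
    (hp : p ∈ assAnn R M) (Q : Ideal (p.Fiber S))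
    (hQ : Q ∈ assAnn (p.Fiber S) ((p.Fiber S) ⊗[S] N)) :
    Q.comap (iota p S) ∈ assAnn S (N ⊗[R] M) := by
  obtain ⟨_, m, hm⟩ := hp
  obtain ⟨hQp, z, hz⟩ := hQ
  haveI := hQp
  have h1 : Q.comap (iota p S) ∈ assAnn S ((p.Fiber S) ⊗[S] N) := by
    refine ⟨Ideal.comap_isPrime _ _, z, ?_⟩
    rw [hz, comap_annihilator]
  have h2 : Q.comap (iota p S) ∈
      assAnn S (N ⧸ (p.map (algebraMap R S)) • (⊤ : Submodule S N)) := by
    rw [(assAnn_quot_eq_fiber p S N).1]
    exact h1
  have hm' : ∀ a, a • m = 0 ↔ a ∈ p := by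
    intro a
    rw [hm, Submodule.mem_annihilator_span_singleton]
  exact (assLike_assAnn (S := S)).of_injective _ _ (quotToTensor (S := S) N p m _)
    (quotToTensor_injective (S := S) N p m hm') h2

end quot

end Groth.Agent.Lib.Helper9.FiberAss
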