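import Mathlib
import Groth.Agent.Lib.Helper14.NeronStalk.Defs
import Groth.Agent.Lib.Helper12.StalkLim
import Groth.Agent.S0591
import Groth.Agent.S9191

/-!
# T4a for S13750: a smooth qcqs scheme over `Spec 𝒪_{S,s}` has a smooth model over an affine
neighbourhood of `s`.
-/

set_option backward.isDefEq.respectTransparency.types false
set_option linter.style.haveILetI false
universe u
open CategoryTheory CategoryTheory.Limits AlgebraicGeometry
open Groth.Agent.Lib.Helper14.NeronStalk Groth.Agent.Lib.Helper12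

namespace Groth.Agent.Lib.Helper9.NStalkT4a

theorem exists_smooth_model {S : Scheme.{u}} (s : S) {P : Scheme.{u}} [CompactSpace P] [QuasiSeparatedSpace P]
    (p : P ⟶ Spec (S.presheaf.stalk s)) [Smooth p] :
    ∃ (W : StalkLim.AffNhd S s) (P₁ : Scheme.{u}) (p₁ : P₁ ⟶ (StalkLim.diag S s).obj W) (g : P ⟶ P₁),
      Smooth p₁ ∧ QuasiCompact p₁ ∧ QuasiSeparated p₁ ∧ IsPullback g p p₁ ((StalkLim.cone S s).π.app W) := by
  let D := StalkLim.diag S s
  let c := StalkLim.cone S s
  have hc : IsLimit c := StalkLim.isLimitCone S s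
  haveI : ∀ (i j : StalkLim.AffNhd S s) (f : i ⟶ j), IsAffineHom (D.map f) := fun i j f => inferInstance
  haveI hA : ∀ i, IsAffine (D.obj i) := fun i => inferInstance
  haveI : ∀ i, CompactSpace (D.obj i) := fun i => inferInstance
  haveI : ∀ i, QuasiSeparatedSpace (D.obj i) := fun i => inferInstance
  let p' : P ⟶ c.pt := p
  haveI : Smooth p' := ‹Smooth p›
  haveI : LocallyOfFinitePresentation p' := inferInstance
  haveI : QuasiSeparatedSpace c.pt := (inferInstance : QuasiSeparatedSpace (Spec (S.presheaf.stalk s)))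
  haveI : QuasiCompact p' := inferInstance
  haveI : QuasiSeparated p' := inferInstance
  obtain ⟨W, PW, pW, g, hlfp, hqc, hqs, hpb⟩ := Groth.Agent.S0591.result D c hc P p'
  haveI := hlfp; haveI := hqc; haveI := hqs
  haveI : CompactSpace PW := QuasiCompact.compactSpace_of_compactSpace pW
  haveI : QuasiSeparatedSpace PW := quasiSeparatedSpace_of_quasiSeparated pW
  have hY : IsPullback (c.π.app W) (𝟙 c.pt) (𝟙 (D.obj W)) (c.π.app W) := IsPullback.of_id_snd
  obtain ⟨W', φ, Xi, Yi, fi, gi, pY, pX, h1, h2, hsm⟩ :=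
    Groth.Agent.S9191.result D c hc W (f₀ := pW) (g₀ := 𝟙 (D.obj W)) (f := p') (g := 𝟙 c.pt)
      (qY := c.π.app W) (qX := g) hY hpb
  haveI : IsIso gi := h1.isIso_snd_of_isIso
  have hpaste : IsPullback pX (fi ≫ gi) pW (D.map φ) := by
    have := h2.paste_vert h1
    rwa [Category.comp_id] at this
  have hw : c.π.app W' ≫ D.map φ = c.π.app W := c.w φ
  have hcomm : g ≫ pW = (p' ≫ c.π.app W') ≫ D.map φ := by
    rw [Category.assoc, hw]; exact hpb.w
  refine ⟨W', Xi, fi ≫ gi, hpaste.lift g (p' ≫ c.π.app W') hcomm, ?_, ?_, ?_, ?_⟩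
  · exact (MorphismProperty.cancel_right_of_respectsIso @Smooth fi gi).mpr hsm
  · exact MorphismProperty.of_isPullback (P := @QuasiCompact) hpaste hqc
  · exact MorphismProperty.of_isPullback (P := @QuasiSeparated) hpaste hqs
  · have key : IsPullback (hpaste.lift g (p' ≫ c.π.app W') hcomm ≫ pX) p' pW
        (c.π.app W' ≫ D.map φ) := by
      rw [hpaste.lift_fst, hw]; exact hpb
    exact IsPullback.of_right key (hpaste.lift_snd _ _ _) hpaste

end Groth.Agent.Lib.Helper9.NStalkT4a
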