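import Groth.Agent.Lib.Helper9.ExalLib

/-!
# Morphisms of extensions are equivalences (definition form)
-/

set_option autoImplicit false
universe u v

namespace Groth.Agent.Lib.Helper9.ExalLib

variable {A : Type u} {B L : Type v} [CommRing A] [CommRing B] [Algebra A B] [AddCommGroup L]
  [Module B L]

lemma algHom_bijective (X Y : Exal.Ext A B L) (φ : X.E →ₐ[A] Y.E)
    (hproj : ∀ x, Y.proj (φ x) = X.proj x) (hincl : ∀ z, φ (X.incl z) = Y.incl z) :
    Function.Bijective φ := by
  constructor
  · refine (injective_iff_map_eq_zero φ).2 ?_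
    intro x hx
    have h1 : X.proj x = 0 := by rw [← hproj, hx, map_zero]
    obtain ⟨z, rfl⟩ := (X.isExtension.exact x).1 h1
    rw [hincl] at hx
    have : z = 0 := Y.isExtension.incl_injective (by rw [hx, map_zero])
    rw [this, map_zero]
  · intro y
    obtain ⟨x, hx⟩ := X.isExtension.proj_surjective (Y.proj y)
    have h1 : Y.proj (y - φ x) = 0 := by rw [map_sub, hproj, hx, sub_self]
    obtain ⟨z, hz⟩ := (Y.isExtension.exact _).1 h1
    refine ⟨x + X.incl z, ?_⟩
    rw [map_add, hincl, hz]; ring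

/-- A morphism of extensions is an equivalence. -/
noncomputable def equivOfAlgHom (X Y : Exal.Ext A B L) (φ : X.E →ₐ[A] Y.E)
    (hproj : ∀ x, Y.proj (φ x) = X.proj x) (hincl : ∀ z, φ (X.incl z) = Y.incl z) :
    X.Equiv Y where
  toAlgEquiv := AlgEquiv.ofBijective φ (algHom_bijective X Y φ hproj hincl)
  proj_apply := hproj
  apply_incl := hincl

lemma equivOfAlgHom_apply (X Y : Exal.Ext A B L) (φ : X.E →ₐ[A] Y.E)
    (hproj : ∀ x, Y.proj (φ x) = X.proj x) (hincl : ∀ z, φ (X.incl z) = Y.incl z) (x : X.E) :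
    (equivOfAlgHom X Y φ hproj hincl).toAlgEquiv x = φ x := rfl

end Groth.Agent.Lib.Helper9.ExalLib
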