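import Mathlib
import Groth.Agent.Lib.Helper18.ShrA
import Groth.Agent.Lib.Helper18.DRRel8
import Groth.Agent.Lib.Helper18.DRRel6
import Groth.Agent.Lib.Helper18.DRDesc

/-!
# Pseudo-coherent ring maps: base change isomorphism, Zariski descent (helper9)

The section `Fbc` is copied from helper18's `FbcB` (whose import closure is very large); everything
else builds on helper18's `DRRel*`, `DRDesc` libraries.
-/

set_option autoImplicit false
set_option linter.style.haveILetI false
universe u
open CategoryTheory CategoryTheory.Limits CategoryTheory.Pretriangulated DerivedCategory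
open TensorProduct
open Groth.Agent.Lib.Helper18.DR

attribute [local instance] HasDerivedCategory.standard

namespace Groth.Agent.Lib.Helper9.PCM

namespace Fbc

variable {P A P' A' : Type u} [CommRing P] [CommRing A] [CommRing P'] [CommRing A']
  [Algebra P A] [Algebra P' A'] [Algebra P P'] [Algebra A A'] [Algebra P A']
  [IsScalarTower P A A'] [IsScalarTower P P' A'] [Algebra.IsPushout P P' A A']

section mod

variable (M : ModuleCat.{u} A)

/-- `M` as a `P`-module -/
noncomputable abbrev MP : ModuleCat.{u} P := (ModuleCat.restrictScalars.{u} (algebraMap P A)).obj M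

/-- the `A`-module structure on `MP M` -/
noncomputable instance modA : Module A (MP (P := P) M) := inferInstanceAs (Module A M)

instance towerMP : IsScalarTower P A (MP (P := P) M) :=
  IsScalarTower.of_algebraMap_smul (fun _ _ => rfl)

variable (P P' A') in
/-- the cancellation isomorphism `A' ⊗_A M ≃ P' ⊗_P M` -/
noncomputable def cb : A' ⊗[A] (MP (P := P) M) ≃ₗ[P'] P' ⊗[P] (MP (P := P) M) :=
  Algebra.IsPushout.cancelBaseChange P P' A A' (MP (P := P) M)

lemma cb_symm_tmul (s : P') (m : MP (P := P) M) :
    (cb P P' A' M).symm (s ⊗ₜ[P] m) = (algebraMap P' A' s) ⊗ₜ[A] m :=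
  Algebra.IsPushout.cancelBaseChange_symm_tmul P P' A A' (MP (P := P) M) s m

variable (P A') in
/-- `A' ⊗_A M` for `M` and for `MP M` -/
noncomputable def e1 : (extM (A := A) (B := A')).obj M ≃ₗ[A'] A' ⊗[A] (MP (P := P) M) :=
  extMEquiv (B := A') M

variable (P P' A') in
/-- the underlying function of the base change isomorphism -/
noncomputable def bcFun (y : (extM (A := P) (B := P')).obj (MP (P := P) M)) :
    (extM (A := A) (B := A')).obj M :=
  (e1 P A' M).symm ((cb P P' A' M).symm (extMEquiv (B := P') (MP (P := P) M) y))

variable (P P' A') in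
/-- the underlying function of the inverse base change isomorphism -/
noncomputable def bcInv (x : (extM (A := A) (B := A')).obj M) :
    (extM (A := P) (B := P')).obj (MP (P := P) M) :=
  (extMEquiv (B := P') (MP (P := P) M)).symm ((cb P P' A' M) (e1 P A' M x))

lemma bcFun_bcInv (x : (extM (A := A) (B := A')).obj M) :
    bcFun P P' A' M (bcInv P P' A' M x) = x := by
  unfold bcFun bcInv
  rw [LinearEquiv.apply_symm_apply, LinearEquiv.symm_apply_apply, LinearEquiv.symm_apply_apply]

lemma bcInv_bcFun (y : (extM (A := P) (B := P')).obj (MP (P := P) M)) :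
    bcInv P P' A' M (bcFun P P' A' M y) = y := by
  unfold bcFun bcInv
  rw [LinearEquiv.apply_symm_apply, LinearEquiv.apply_symm_apply, LinearEquiv.symm_apply_apply]

lemma bcFun_add (y y' : (extM (A := P) (B := P')).obj (MP (P := P) M)) :
    bcFun P P' A' M (y + y') =
      bcFun P P' A' M y + bcFun P P' A' M y' := by
  unfold bcFun
  rw [map_add, map_add, map_add]

lemma bcFun_smul (p' : P') (y : (extM (A := P) (B := P')).obj (MP (P := P) M)) :
    bcFun P P' A' M (p' • y) =
      (algebraMap P' A' p') • bcFun P P' A' M y := by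
  unfold bcFun
  rw [map_smul, map_smul, ← algebraMap_smul A' p', map_smul]

lemma bcFun_one_tmul (m : M) :
    bcFun P P' A' M ((1 : P') ⊗ₜ[P] (show (MP (P := P) M : Type u) from m)) =
      ((1 : A') ⊗ₜ[A] m : (extM (A := A) (B := A')).obj M) := by
  unfold bcFun
  have h1 : extMEquiv (B := P') (MP (P := P) M)
      ((1 : P') ⊗ₜ[P] (show (MP (P := P) M : Type u) from m)) =
      (1 : P') ⊗ₜ[P] (show (MP (P := P) M : Type u) from m) := rfl
  rw [h1, cb_symm_tmul, map_one]
  rfl

variable (P P' A') in
/-- the base change isomorphism at the module level -/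
noncomputable def bcLinEquiv :
    ((extM (A := P) (B := P')).obj (MP (P := P) M)) ≃ₗ[P']
      ((ModuleCat.restrictScalars.{u} (algebraMap P' A')).obj
        ((extM (A := A) (B := A')).obj M)) where
  toFun := bcFun P P' A' M
  invFun := bcInv P P' A' M
  map_add' := bcFun_add M
  map_smul' := fun p' y => bcFun_smul M p' y
  left_inv := bcInv_bcFun M
  right_inv := bcFun_bcInv M

end mod

variable (P P' A A') in
/-- the base change isomorphism `ext_j ∘ res_ψ ≅ res_ψ' ∘ ext_k` at the module level -/
noncomputable def bcNatIso :
    ModuleCat.restrictScalars.{u} (algebraMap P A) ⋙ extM (A := P) (B := P') ≅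
      extM (A := A) (B := A') ⋙ ModuleCat.restrictScalars.{u} (algebraMap P' A') :=
  NatIso.ofComponents (fun M => (bcLinEquiv P P' A' M).toModuleIso) (by
    intro M M' f
    apply ModuleCat.ExtendScalars.hom_ext
    intro m
    change bcFun P P' A' M' ((1 : P') ⊗ₜ[P] (show (MP (P := P) M' : Type u) from f.hom m)) =
      ((extM (A := A) (B := A')).map f).hom
        (bcFun P P' A' M ((1 : P') ⊗ₜ[P] (show (MP (P := P) M : Type u) from m)))
    rw [bcFun_one_tmul, bcFun_one_tmul]
    rfl)

include P in
variable (P P' A A') in
/-- the pushout of a flat algebra is flat -/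
lemma flat_of_isPushout [Module.Flat P P'] : Module.Flat A A' := by
  have h : Algebra.IsPushout P A P' A' := Algebra.IsPushout.symm inferInstance
  exact Module.Flat.isBaseChange (R := P) (S := A) (M := P') A' h.out

omit [Algebra.IsPushout P P' A A'] in
variable (P P' A A') in
lemma hcomm_of_tower (p : P) :
    algebraMap P' A' (algebraMap P P' p) = algebraMap A A' (algebraMap P A p) := by
  rw [← IsScalarTower.algebraMap_apply, ← IsScalarTower.algebraMap_apply]

variable (P P' A A') in
/-- the base change isomorphism `res_ψ' ∘ ext_k ≅ ext_j ∘ res_ψ` on derived categories -/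
noncomputable def betaIso [Module.Flat P P'] [Module.Flat A A'] :
    extD A A' ⋙ DRing.restrictD (algebraMap P' A') ≅
      DRing.restrictD (algebraMap P A) ⋙ extD P P' :=
  (Shr.mapDCompIso (Iso.refl (extM (A := A) (B := A') ⋙
      ModuleCat.restrictScalars.{u} (algebraMap P' A')))).symm ≪≫
    Shr.mapDCongr (bcNatIso P A P' A').symm ≪≫
    Shr.mapDCompIso (Iso.refl (ModuleCat.restrictScalars.{u} (algebraMap P A) ⋙
      extM (A := P) (B := P')))

end Fbc

/-! ### generalities -/

lemma relPC_of_iso {R A : Type u} [CommRing R] [CommRing A] [Algebra R A] {K L : Dual.D A}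
    (e : K ≅ L) {m : ℤ} (h : DerCA.IsRelPseudoCoherent R A m K) :
    DerCA.IsRelPseudoCoherent R A m L := by
  obtain ⟨n, α, hα, h⟩ := h
  exact ⟨n, α, hα, isPseudoCoherent_of_iso
    ((DRing.restrictD (α : MvPolynomial (Fin n) R →+* A)).mapIso e) h⟩

/-- the presentation with no variables -/
noncomputable def pres0 (Q B : Type u) [CommRing Q] [CommRing B] [Algebra Q B] :
    MvPolynomial (Fin 0) Q →ₐ[Q] B :=
  (Algebra.ofId Q B).comp (MvPolynomial.isEmptyAlgEquiv Q (Fin 0)).toAlgHom

lemma pres0_surjective {Q B : Type u} [CommRing Q] [CommRing B] [Algebra Q B]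
    (h : Function.Surjective (algebraMap Q B)) : Function.Surjective (pres0 Q B) :=
  h.comp (MvPolynomial.isEmptyAlgEquiv Q (Fin 0)).surjective

/-- for a surjective ring map relative pseudo-coherence is pseudo-coherence over the source -/
theorem relPC_iff_of_surjective {Q B : Type u} [CommRing Q] [CommRing B] [Algebra Q B]
    (hs : Function.Surjective (algebraMap Q B)) (m : ℤ) (K : Dual.D B) :
    DerCA.IsRelPseudoCoherent Q B m K ↔
      DRing.IsPseudoCoherent Q m ((DRing.restrictD (algebraMap Q B)).obj K) := by
  rw [relPC_iff_via (pres0 Q B) (pres0_surjective hs)]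
  have h := (PCHom.of_ringEquiv
    (MvPolynomial.isEmptyAlgEquiv Q (Fin 0)).toRingEquiv).isPseudoCoherent_iff
    (algebraMap Q B) K m
  have e2 : ((pres0 Q B : MvPolynomial (Fin 0) Q →ₐ[Q] B) : MvPolynomial (Fin 0) Q →+* B) =
      (algebraMap Q B).comp
        ((MvPolynomial.isEmptyAlgEquiv Q (Fin 0)).toRingEquiv : MvPolynomial (Fin 0) Q →+* Q) :=
    RingHom.ext fun _ => rfl
  rw [e2]
  exact h.symm

/-- over the zero ring everything is pseudo-coherent -/
lemma isPseudoCoherent_of_subsingleton {Q B : Type u} [CommRing Q] [CommRing B] [Subsingleton B]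
    (ψ : Q →+* B) (K : Dual.D B) (m : ℤ) :
    DRing.IsPseudoCoherent Q m ((DRing.restrictD ψ).obj K) := by
  haveI : K.IsLE (m - 1) := by
    rw [DerivedCategory.isLE_iff]
    intro i _
    haveI : Subsingleton ((H B i).obj K) := Module.subsingleton B _
    exact ModuleCat.isZero_of_subsingleton _
  haveI := isLE_restrictD ψ K (m - 1)
  exact isPseudoCoherent_of_isLE _ (m - 1) m (by omega)

/-- descent along a finite Zariski covering, general index type (cf. helper18's `descFam_away`) -/
lemma descFam_away' {R : Type u} [CommRing R] {ι : Type} (f : ι → R)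
    (hf : Ideal.span (Set.range f) = ⊤) : DescFam R (fun i => Localization.Away (f i)) where
  zero M _ _ h := by
    refine ⟨fun x y => ?_⟩
    refine Module.eq_of_isLocalized_span (Set.range f) hf
      (fun g => Localization.Away g.1 ⊗[R] M)
      (fun g => TensorProduct.mk R (Localization.Away g.1) M 1) x y ?_
    rintro ⟨_, i, rfl⟩
    haveI := h i
    exact Subsingleton.elim _ _
  flat M _ _ h := by
    refine Module.flat_of_isLocalized_span R M (Set.range f) hf
      (fun g => Localization.Away g.1 ⊗[R] M)
      (fun g => TensorProduct.mk R (Localization.Away g.1) M 1) ?_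
    rintro ⟨_, i, rfl⟩
    haveI := h i
    exact Module.Flat.trans R (Localization.Away (f i)) _
  fin M _ _ h := by
    refine Module.Finite.of_localizationSpan' (Set.range f) hf
      (Rₚ := fun g => Localization.Away g.1)
      (fun g => TensorProduct.mk R (Localization.Away g.1) M 1) ?_
    rintro ⟨_, i, rfl⟩
    exact h i

/-! ### base change to a principal localization -/

lemma away_map_algebraMap {R P : Type u} [CommRing R] [CommRing P] (S Q : Type u) [CommRing S]
    [CommRing Q] [Algebra R S] [Algebra P Q] (f : R →+* P) (r : R) [IsLocalization.Away r S]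
    [IsLocalization.Away (f r) Q] (x : R) :
    IsLocalization.Away.map S Q f r (algebraMap R S x) = algebraMap P Q (f x) := by
  simp [IsLocalization.Away.map]

section away

variable {P A : Type u} [CommRing P] [CommRing A] (φ : P →+* A) (h : P)

theorem nonempty_betaIso_away (K : Dual.D A) :
    Nonempty ((DRing.restrictD (Localization.awayMap φ h)).obj
        ((extD A (Localization.Away (φ h))).obj K) ≅
      (extD P (Localization.Away h)).obj ((DRing.restrictD φ).obj K)) := by
  letI : Algebra P A := φ.toAlgebra
  letI : Algebra (Localization.Away h) (Localization.Away (φ h)) :=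
    (Localization.awayMap φ h).toAlgebra
  haveI : IsScalarTower P (Localization.Away h) (Localization.Away (φ h)) :=
    IsScalarTower.of_algebraMap_eq (fun x => by
      rw [IsScalarTower.algebraMap_apply P A (Localization.Away (φ h))]
      exact (away_map_algebraMap _ _ φ h x).symm)
  haveI : IsLocalization (Algebra.algebraMapSubmonoid A (Submonoid.powers h))
      (Localization.Away (φ h)) := by
    have e : Algebra.algebraMapSubmonoid A (Submonoid.powers h) = Submonoid.powers (φ h) :=
      Submonoid.map_powers _ _
    rw [e]; infer_instance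
  haveI : Algebra.IsPushout P (Localization.Away h) A (Localization.Away (φ h)) :=
    (Algebra.isPushout_of_isLocalization (Submonoid.powers h) (Localization.Away h) A
      (Localization.Away (φ h))).symm
  exact ⟨(Fbc.betaIso P A (Localization.Away h) (Localization.Away (φ h))).app K⟩

theorem pc_away_of_pc (K : Dual.D A) (m : ℤ)
    (hK : DRing.IsPseudoCoherent P m ((DRing.restrictD φ).obj K)) :
    DRing.IsPseudoCoherent (Localization.Away h) m
      ((DRing.restrictD (Localization.awayMap φ h)).obj
        ((extD A (Localization.Away (φ h))).obj K)) := by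
  obtain ⟨e⟩ := nonempty_betaIso_away φ h K
  exact isPseudoCoherent_of_iso e.symm (isPseudoCoherent_extD m _ hK)

theorem pc_of_pc_away {ι : Type} [Finite ι] (g : ι → P) (hg : Ideal.span (Set.range g) = ⊤)
    (K : Dual.D A) (m : ℤ)
    (hK : ∀ i, DRing.IsPseudoCoherent (Localization.Away (g i)) m
      ((DRing.restrictD (Localization.awayMap φ (g i))).obj
        ((extD A (Localization.Away (φ (g i)))).obj K))) :
    DRing.IsPseudoCoherent P m ((DRing.restrictD φ).obj K) := by
  refine (descFam_away' g hg).isPseudoCoherent m _ (fun i => ?_)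
  obtain ⟨e⟩ := nonempty_betaIso_away φ (g i) K
  exact isPseudoCoherent_of_iso e (hK i)

end away

/-! ### quotient by a nonzerodivisor -/

section quot

variable {P : Type u} [CommRing P] (g : P)

/-- the quotient map as a `P`-linear map -/
noncomputable def quotLin :
    P →ₗ[P] resM (Ideal.Quotient.mk (Ideal.span {g}))
      (ModuleCat.of (P ⧸ Ideal.span {g}) (P ⧸ Ideal.span {g})) where
  toFun p := (Ideal.Quotient.mk (Ideal.span {g}) p : P ⧸ Ideal.span {g})
  map_add' p q := map_add (Ideal.Quotient.mk (Ideal.span {g})) p q
  map_smul' q p := (map_mul (Ideal.Quotient.mk (Ideal.span {g})) q p).trans rfl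

/-- `0 → P → P → P/(g) → 0` -/
noncomputable def quotSC : ShortComplex (ModuleCat.{u} P) :=
  ShortComplex.mk (ModuleCat.ofHom (LinearMap.mulLeft P g))
    (ModuleCat.ofHom (quotLin g)) (by
      ext
      have : Ideal.Quotient.mk (Ideal.span {g}) (g * (1 : P)) = 0 := by
        rw [mul_one]
        exact Ideal.Quotient.eq_zero_iff_mem.2 (Ideal.mem_span_singleton_self g)
      exact this)

lemma quotSC_g_apply (p : P) : (quotSC g).g p = Ideal.Quotient.mk (Ideal.span {g}) p := rfl
lemma quotSC_f_apply (p : P) : (quotSC g).f p = g * p := rfl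

lemma quotSC_shortExact (hg : IsLeftRegular g) : (quotSC g).ShortExact := by
  apply ModuleCat.shortComplex_shortExact
  · intro (p : P)
    constructor
    · intro hp
      rw [quotSC_g_apply] at hp
      have h1 : p ∈ Ideal.span {g} := Ideal.Quotient.eq_zero_iff_mem.1 hp
      obtain ⟨q, rfl⟩ := Ideal.mem_span_singleton'.1 h1
      exact ⟨q, by rw [quotSC_f_apply, mul_comm]⟩
    · rintro ⟨(q : P), rfl⟩
      rw [quotSC_f_apply, quotSC_g_apply]
      exact Ideal.Quotient.eq_zero_iff_mem.2
        (Ideal.mul_mem_right _ _ (Ideal.mem_span_singleton_self g))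
  · intro (p : P) (q : P) h
    have h' : g * p = g * q := h
    exact hg h'
  · intro (r : P ⧸ Ideal.span {g})
    obtain ⟨p, rfl⟩ := Ideal.Quotient.mk_surjective r
    exact ⟨p, rfl⟩

/-- the quotient by a nonzerodivisor is a pseudo-coherent module -/
theorem pcHom_quotient_mk (hg : IsLeftRegular g) :
    PCHom (Ideal.Quotient.mk (Ideal.span {g})) := by
  intro m
  have hT := (quotSC_shortExact g hg).singleTriangle_distinguished
  haveI : Module.Finite P (ModuleCat.of P P) := inferInstanceAs (Module.Finite P P)
  haveI : Module.Free P (ModuleCat.of P P) := inferInstanceAs (Module.Free P P)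
  exact isPseudoCoherent_obj₃ _ hT m (isPseudoCoherent_Sg 0 (ModuleCat.of P P) (m + 1))
    (isPseudoCoherent_Sg 0 (ModuleCat.of P P) m)

end quot

open Polynomial in
lemma isLeftRegular_C_mul_X_sub_one {R : Type u} [CommRing R] (r : R) :
    IsLeftRegular (C r * X - 1 : R[X]) := by
  intro p q h
  have h' : (C r * X - 1 : R[X]) * p = (C r * X - 1) * q := h
  have hu : IsUnit ((C r * X - 1 : R[X]) : PowerSeries R) := by
    rw [PowerSeries.isUnit_iff_constantCoeff]
    simp
  apply Polynomial.coe_injective R
  have := congrArg (fun x : R[X] => (x : PowerSeries R)) h'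
  simp only [Polynomial.coe_mul] at this
  exact hu.isRegular.left this

end Groth.Agent.Lib.Helper9.PCM
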