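import Mathlib
import Groth.Agent.Lib.Helper9.PCBase

/-!
# Pseudo-coherent algebras (helper9)

`PCAlg R A` : the `R`-algebra `A` is pseudo-coherent (i.e. `R → A` is a pseudo-coherent ring map).
Composition, cancellation, localization, independence of presentation.
-/

set_option autoImplicit false
set_option linter.style.haveILetI false
universe u
open CategoryTheory CategoryTheory.Limits CategoryTheory.Pretriangulated DerivedCategory
open TensorProduct
open Groth.Agent.Lib.Helper18.DR

attribute [local instance] HasDerivedCategory.standard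

namespace Groth.Agent.Lib.Helper9.PCM

/-- the `R`-algebra `A` is pseudo-coherent -/
def PCAlg (R A : Type u) [CommRing R] [CommRing A] [Algebra R A] : Prop :=
  DerCA.IsRelPseudoCoherentModuleAll R A A

section basic

variable {R A : Type u} [CommRing R] [CommRing A] [Algebra R A]

lemma PCAlg.finiteType (h : PCAlg R A) : Algebra.FiniteType R A := by
  obtain ⟨n, α, hα, -⟩ := h 0
  exact Algebra.FiniteType.of_surjective α hα

/-- `PCAlg` in terms of a given presentation -/
lemma pcAlg_iff_via {n : ℕ} (α : MvPolynomial (Fin n) R →ₐ[R] A) (hα : Function.Surjective α) :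
    PCAlg R A ↔ PCHom (α : MvPolynomial (Fin n) R →+* A) := by
  constructor
  · intro h m
    have := (relPC_iff_via α hα m _).1 (h m)
    exact isPseudoCoherent_of_iso (restrictDSgIso _ 0 (ModuleCat.of A A)) this
  · intro h m
    exact (relPC_iff_via α hα m _).2
      (isPseudoCoherent_of_iso (restrictDSgIso _ 0 (ModuleCat.of A A)).symm (h m))

theorem pcAlg_iff_isPseudoCoherentHom : PCAlg R A ↔ MoreMor.IsPseudoCoherentHom R A := by
  constructor
  · intro h
    obtain ⟨n, α, hα, -⟩ := h 0
    have hpc := (pcAlg_iff_via α hα).1 h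
    refine ⟨n, α, hα, ?_⟩
    letI := α.toRingHom.toAlgebra
    show DRing.IsPseudoCoherent' _ (Dual.inD _ A)
    rw [← isPseudoCoherent'_iff_forall]
    intro m
    exact isPseudoCoherent_of_iso ((singleFunctor (ModuleCat.{u} (MvPolynomial (Fin n) R)) 0).mapIso
      (resBEquiv (A := MvPolynomial (Fin n) R) (B := A)).toModuleIso) (hpc m)
  · rintro ⟨n, φ, hφ, hpc⟩
    rw [pcAlg_iff_via φ hφ]
    intro m
    letI := φ.toRingHom.toAlgebra
    have h1 := isPseudoCoherent_of_isPseudoCoherent' hpc m
    exact isPseudoCoherent_of_iso ((singleFunctor (ModuleCat.{u} (MvPolynomial (Fin n) R)) 0).mapIso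
      (resBEquiv (A := MvPolynomial (Fin n) R) (B := A)).symm.toModuleIso) h1

theorem PCAlg.of_surjective_pcHom (hs : Function.Surjective (algebraMap R A))
    (h : PCHom (algebraMap R A)) : PCAlg R A := by
  intro m
  show DerCA.IsRelPseudoCoherent R A m (Dual.inD A A)
  rw [relPC_iff_of_surjective hs]
  exact isPseudoCoherent_of_iso (restrictDSgIso _ 0 (ModuleCat.of A A)).symm (h m)

theorem PCAlg.pcHom_of_surjective (hs : Function.Surjective (algebraMap R A)) (h : PCAlg R A) :
    PCHom (algebraMap R A) := fun m =>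
  isPseudoCoherent_of_iso (restrictDSgIso _ 0 (ModuleCat.of A A))
    ((relPC_iff_of_surjective hs m _).1 (h m))

theorem PCAlg.of_bijective (hb : Function.Bijective (algebraMap R A)) : PCAlg R A := by
  apply PCAlg.of_surjective_pcHom hb.2
  have := PCHom.of_ringEquiv (RingEquiv.ofBijective (algebraMap R A) hb)
  have e : ((RingEquiv.ofBijective (algebraMap R A) hb : R ≃+* A) : R →+* A) = algebraMap R A :=
    RingHom.ext fun _ => rfl
  rw [e] at this
  exact this

variable (R) in
theorem PCAlg.mvPolynomial (n : ℕ) : PCAlg R (MvPolynomial (Fin n) R) := by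
  rw [pcAlg_iff_via (AlgHom.id R _) Function.surjective_id]
  have := PCHom.of_ringEquiv (RingEquiv.refl (MvPolynomial (Fin n) R))
  have e : ((RingEquiv.refl (MvPolynomial (Fin n) R) :
        MvPolynomial (Fin n) R ≃+* MvPolynomial (Fin n) R) :
        MvPolynomial (Fin n) R →+* MvPolynomial (Fin n) R) =
      ((AlgHom.id R (MvPolynomial (Fin n) R) :
        MvPolynomial (Fin n) R →ₐ[R] MvPolynomial (Fin n) R) :
        MvPolynomial (Fin n) R →+* MvPolynomial (Fin n) R) :=
    RingHom.ext fun _ => rfl
  rw [e] at this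
  exact this

theorem PCAlg.of_algEquiv {A' : Type u} [CommRing A'] [Algebra R A'] (e : A ≃ₐ[R] A')
    (h : PCAlg R A) : PCAlg R A' := by
  obtain ⟨n, α, hα, -⟩ := h 0
  have h1 := (pcAlg_iff_via α hα).1 h
  have hα' : Function.Surjective ((e : A →ₐ[R] A').comp α) := e.surjective.comp hα
  rw [pcAlg_iff_via ((e : A →ₐ[R] A').comp α) hα']
  have := PCHom.comp h1 (PCHom.of_ringEquiv e.toRingEquiv)
  have e2 : (((e : A →ₐ[R] A').comp α : MvPolynomial (Fin n) R →ₐ[R] A') :
        MvPolynomial (Fin n) R →+* A') =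
      ((e.toRingEquiv : A →+* A')).comp (α : MvPolynomial (Fin n) R →+* A) :=
    RingHom.ext fun _ => rfl
  rw [e2]
  exact this

end basic

section tower

variable {R A B : Type u} [CommRing R] [CommRing A] [CommRing B] [Algebra R A] [Algebra A B]
  [Algebra R B] [IsScalarTower R A B]

theorem relPC_tower_iff (hA : PCAlg R A) [Algebra.FiniteType A B] (K : Dual.D B) (m : ℤ) :
    DerCA.IsRelPseudoCoherent A B m K ↔ DerCA.IsRelPseudoCoherent R B m K :=
  haveI := hA.finiteType
  (relPC_iff_of_intermediate hA K m).1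

theorem PCAlg.trans (hA : PCAlg R A) (hB : PCAlg A B) : PCAlg R B := by
  haveI := hB.finiteType
  intro m
  exact (relPC_tower_iff hA _ m).1 (hB m)

theorem PCAlg.of_tower (hA : PCAlg R A) (hB : PCAlg R B) : PCAlg A B := by
  haveI : Algebra.FiniteType R B := hB.finiteType
  haveI : Algebra.FiniteType A B := Algebra.FiniteType.of_restrictScalars_finiteType R A B
  intro m
  exact (relPC_tower_iff hA _ m).2 (hB m)

end tower

section loc

open Polynomial

variable {R : Type u} [CommRing R]

theorem PCAlg.adjoinRoot_away (r : R) : PCAlg R (AdjoinRoot (C r * X - 1 : R[X])) := by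
  let g : R[X] := C r * X - 1
  let e : MvPolynomial (Fin 1) R ≃ₐ[R] R[X] := MvPolynomial.uniqueAlgEquiv R (Fin 1)
  let α : MvPolynomial (Fin 1) R →ₐ[R] AdjoinRoot g := (AdjoinRoot.mkₐ g).comp e.toAlgHom
  have hα : Function.Surjective α := AdjoinRoot.mk_surjective.comp e.surjective
  show PCAlg R (AdjoinRoot g)
  rw [pcAlg_iff_via α hα]
  have h1 : PCHom (AdjoinRoot.mk g) := pcHom_quotient_mk g (isLeftRegular_C_mul_X_sub_one r)
  have := PCHom.comp (PCHom.of_ringEquiv e.toRingEquiv) h1
  have e2 : (α : MvPolynomial (Fin 1) R →+* AdjoinRoot g) =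
      (AdjoinRoot.mk g).comp (e.toRingEquiv : MvPolynomial (Fin 1) R →+* R[X]) :=
    RingHom.ext fun _ => rfl
  rw [e2]
  exact this

theorem PCAlg.localization_away (r : R) (S : Type u) [CommRing S] [Algebra R S]
    [IsLocalization.Away r S] : PCAlg R S :=
  haveI := IsLocalization.adjoin_inv r
  (PCAlg.adjoinRoot_away r).of_algEquiv (IsLocalization.algEquiv (Submonoid.powers r) _ S)

end loc

end Groth.Agent.Lib.Helper9.PCM
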