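import Mathlib
import Groth.Agent.Lib.Helper9.PCAlg

/-!
# Relative pseudo-coherence is Zariski local on the algebra (helper9)
-/

set_option autoImplicit false
set_option linter.style.haveILetI false
universe u
open CategoryTheory CategoryTheory.Limits CategoryTheory.Pretriangulated DerivedCategory
open TensorProduct
open Groth.Agent.Lib.Helper18.DR

attribute [local instance] HasDerivedCategory.standard

namespace Groth.Agent.Lib.Helper9.PCM

section key

variable {R P A : Type u} [CommRing R] [CommRing P] [CommRing A] [Algebra R P] [Algebra R A]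

theorem relPC_away_iff (φ : P →+* A) (hφR : ∀ r, φ (algebraMap R P r) = algebraMap R A r)
    (hφ : Function.Surjective φ) (hP : PCAlg R P) (h : P)
    (K' : Dual.D (Localization.Away (φ h))) (m : ℤ) :
    DerCA.IsRelPseudoCoherent R (Localization.Away (φ h)) m K' ↔
      DRing.IsPseudoCoherent (Localization.Away h) m
        ((DRing.restrictD (Localization.awayMap φ h)).obj K') := by
  letI : Algebra (Localization.Away h) (Localization.Away (φ h)) :=
    (Localization.awayMap φ h).toAlgebra
  haveI : IsScalarTower R (Localization.Away h) (Localization.Away (φ h)) :=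
    IsScalarTower.of_algebraMap_eq (fun x => by
      rw [IsScalarTower.algebraMap_apply R A (Localization.Away (φ h)),
        IsScalarTower.algebraMap_apply R P (Localization.Away h)]
      have h1 := away_map_algebraMap (Localization.Away h) (Localization.Away (φ h)) φ h
        (algebraMap R P x)
      rw [hφR] at h1
      exact h1.symm)
  have hs : Function.Surjective (algebraMap (Localization.Away h) (Localization.Away (φ h))) := by
    have : Function.Surjective (Localization.awayMap φ h) := by
      rw [Localization.awayMap_surjective_iff]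
      intro a
      obtain ⟨b, hb⟩ := hφ a
      exact ⟨b, 0, by rw [hb, pow_zero, one_mul]⟩
    exact this
  have hQ : PCAlg R (Localization.Away h) := hP.trans (PCAlg.localization_away h _)
  haveI : Algebra.FiniteType (Localization.Away h) (Localization.Away (φ h)) :=
    Algebra.FiniteType.of_surjective (Algebra.ofId _ _) hs
  rw [← relPC_tower_iff hQ K' m, relPC_iff_of_surjective hs]
  exact Iff.rfl

end key

section local_

variable {R A : Type u} [CommRing R] [CommRing A] [Algebra R A]

/-- relative pseudo-coherence passes to principal localizations of the algebra -/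
theorem relPC_away_of_relPC (K : Dual.D A) (m : ℤ) (a : A)
    (hK : DerCA.IsRelPseudoCoherent R A m K) :
    DerCA.IsRelPseudoCoherent R (Localization.Away a) m
      ((extD A (Localization.Away a)).obj K) := by
  obtain ⟨n, α, hα, hv⟩ := hK
  have hα' : Function.Surjective (α : MvPolynomial (Fin n) R →+* A) := hα
  obtain ⟨h, rfl⟩ := hα' a
  exact (relPC_away_iff (α : MvPolynomial (Fin n) R →+* A) α.commutes hα'
    (PCAlg.mvPolynomial R n) h _ m).2
    (pc_away_of_pc (α : MvPolynomial (Fin n) R →+* A) h K m hv)

/-- relative pseudo-coherence can be checked on a finite Zariski covering of the algebra -/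
theorem relPC_of_relPC_away [Algebra.FiniteType R A] (K : Dual.D A) (m : ℤ) {r : ℕ}
    (f : Fin r → A) (hf : Ideal.span (Set.range f) = ⊤)
    (hK : ∀ i, DerCA.IsRelPseudoCoherent R (Localization.Away (f i)) m
      ((extD A (Localization.Away (f i))).obj K)) :
    DerCA.IsRelPseudoCoherent R A m K := by
  obtain ⟨n, α, hα⟩ := exists_presentation (R := R) (A := A)
  let φ : MvPolynomial (Fin n) R →+* A := (α : MvPolynomial (Fin n) R →+* A)
  have hφ : Function.Surjective φ := hα
  choose h hh using fun i => hφ (f i)
  obtain rfl : f = fun i => φ (h i) := funext fun i => (hh i).symm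
  have h1 : (1 : A) ∈ Ideal.span (Set.range fun i => φ (h i)) := by rw [hf]; trivial
  obtain ⟨c, hc⟩ := Ideal.mem_span_range_iff_exists_fun.1 h1
  choose c' hc' using fun i => hφ (c i)
  let h0 : MvPolynomial (Fin n) R := 1 - ∑ i, c' i * h i
  have hh0 : φ h0 = 0 := by
    simp only [h0, map_sub, map_one, map_sum, map_mul, hc']
    rw [hc, sub_self]
  let g : Option (Fin r) → MvPolynomial (Fin n) R := fun o => o.elim h0 h
  have hg : Ideal.span (Set.range g) = ⊤ := by
    rw [Ideal.eq_top_iff_one]
    have e : (1 : MvPolynomial (Fin n) R) = g none + ∑ i, c' i * g (some i) :=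
      (sub_add_cancel 1 (∑ i, c' i * h i)).symm
    rw [e]
    refine Ideal.add_mem _ (Ideal.subset_span ⟨none, rfl⟩) (Ideal.sum_mem _ fun i _ => ?_)
    exact Ideal.mul_mem_left _ _ (Ideal.subset_span ⟨some i, rfl⟩)
  rw [relPC_iff_via α hα]
  refine pc_of_pc_away φ g hg K m (fun o => ?_)
  cases o with
  | none =>
    haveI : Subsingleton (Localization.Away (φ (g none))) :=
      IsLocalization.subsingleton (M := Submonoid.powers (φ (g none)))
        ((Submonoid.mem_powers_iff _ _).2 ⟨1, by rw [pow_one]; exact hh0⟩)
    exact isPseudoCoherent_of_subsingleton _ _ m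
  | some i =>
    exact (relPC_away_iff φ α.commutes hφ (PCAlg.mvPolynomial R n) (h i) _ m).1 (hK i)

end local_

/-- flat base change of the ring itself -/
noncomputable def extDInDSelfIso (A B : Type u) [CommRing A] [CommRing B] [Algebra A B]
    [Module.Flat A B] : (extD A B).obj (Dual.inD A A) ≅ Dual.inD B B :=
  extDInDIso (A := A) (B := B) A ≪≫ (singleFunctor (ModuleCat.{u} B) 0).mapIso
    (TensorProduct.AlgebraTensorModule.rid A B B).toModuleIso

section pcalg

variable {R S : Type u} [CommRing R] [CommRing S] [Algebra R S]

theorem PCAlg.away (h : PCAlg R S) (a : S) : PCAlg R (Localization.Away a) := fun m =>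
  relPC_of_iso (extDInDSelfIso S (Localization.Away a)) (relPC_away_of_relPC _ m a (h m))

theorem PCAlg.of_away [Algebra.FiniteType R S] {r : ℕ} (f : Fin r → S)
    (hf : Ideal.span (Set.range f) = ⊤) (H : ∀ i, PCAlg R (Localization.Away (f i))) :
    PCAlg R S := by
  intro m
  refine relPC_of_relPC_away _ m f hf (fun i => ?_)
  exact relPC_of_iso (extDInDSelfIso S (Localization.Away (f i))).symm (H i m)

end pcalg

end Groth.Agent.Lib.Helper9.PCM
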