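import Mathlib
import Groth.Agent.Lib.Helper9.PCLocal

/-!
# Pseudo-coherent ring maps as a local property of ring homomorphisms (helper9)
-/

set_option autoImplicit false
set_option linter.style.haveILetI false
universe u
open CategoryTheory CategoryTheory.Limits CategoryTheory.Pretriangulated DerivedCategory
open TensorProduct
open Groth.Agent.Lib.Helper18.DR

attribute [local instance] HasDerivedCategory.standard

namespace Groth.Agent.Lib.Helper9.PCM

/-- the ring-hom property "pseudo-coherent" -/
def PCRingHom {R S : Type u} [CommRing R] [CommRing S] (f : R →+* S) : Prop :=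
  @MoreMor.IsPseudoCoherentHom R S _ _ f.toAlgebra

lemma pcRingHom_iff {R S : Type u} [CommRing R] [CommRing S] (f : R →+* S) :
    PCRingHom f ↔ @PCAlg R S _ _ f.toAlgebra :=
  (@pcAlg_iff_isPseudoCoherentHom R S _ _ f.toAlgebra).symm

lemma pcRingHom_algebraMap {R S : Type u} [CommRing R] [CommRing S] [inst : Algebra R S] :
    PCRingHom (algebraMap R S) ↔ PCAlg R S := by
  rw [pcRingHom_iff]
  have : (algebraMap R S).toAlgebra = inst := Algebra.algebra_ext _ _ (fun _ => rfl)
  rw [this]

theorem pcRingHom_stableUnderComposition : RingHom.StableUnderComposition @PCRingHom := by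
  intro R S T _ _ _ f g hf hg
  rw [pcRingHom_iff] at hf hg ⊢
  letI := f.toAlgebra
  letI := g.toAlgebra
  letI := (g.comp f).toAlgebra
  haveI : IsScalarTower R S T := IsScalarTower.of_algebraMap_eq (fun _ => rfl)
  exact PCAlg.trans hf hg

theorem pcRingHom_holdsForLocalizationAway : RingHom.HoldsForLocalizationAway @PCRingHom := by
  intro R S _ _ _ r _
  rw [pcRingHom_algebraMap]
  exact PCAlg.localization_away r S

theorem pcRingHom_cancel {R S T : Type u} [CommRing R] [CommRing S] [CommRing T] (f : R →+* S)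
    (g : S →+* T) (hf : PCRingHom f) (hgf : PCRingHom (g.comp f)) : PCRingHom g := by
  rw [pcRingHom_iff] at hf hgf ⊢
  letI := f.toAlgebra
  letI := g.toAlgebra
  letI := (g.comp f).toAlgebra
  haveI : IsScalarTower R S T := IsScalarTower.of_algebraMap_eq (fun _ => rfl)
  exact PCAlg.of_tower hf hgf

theorem pcRingHom_localizationAwayPreserves : RingHom.LocalizationAwayPreserves @PCRingHom := by
  intro R S _ _ f r R' S' _ _ _ _ _ _ hf
  have h1 : PCRingHom ((algebraMap S S').comp f) :=
    pcRingHom_stableUnderComposition f _ hf (pcRingHom_holdsForLocalizationAway S' (f r))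
  have h2 : PCRingHom (algebraMap R R') := pcRingHom_holdsForLocalizationAway R' r
  have e : (IsLocalization.Away.map R' S' f r).comp (algebraMap R R') =
      (algebraMap S S').comp f := by
    ext x
    exact away_map_algebraMap R' S' f r x
  rw [← e] at h1
  exact pcRingHom_cancel _ _ h2 h1

theorem pcRingHom_ofLocalizationSpanTarget : RingHom.OfLocalizationSpanTarget @PCRingHom := by
  rw [RingHom.ofLocalizationSpanTarget_iff_finite]
  intro R S _ _ f s hs H
  letI := f.toAlgebra
  have H' : ∀ r : s, PCAlg R (Localization.Away (r : S)) := by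
    intro r
    have := H r
    rw [show (algebraMap S (Localization.Away (r : S))).comp f =
      algebraMap R (Localization.Away (r : S)) from
      (IsScalarTower.algebraMap_eq R S _).symm] at this
    exact pcRingHom_algebraMap.1 this
  have hft : f.FiniteType := RingHom.finiteType_ofLocalizationSpanTarget f (s : Set S) hs
    (fun r => @PCAlg.finiteType R (Localization.Away (r : S)) _ _
      (((algebraMap S (Localization.Away (r : S))).comp f).toAlgebra)
      ((pcRingHom_iff _).1 (H ⟨r.1, Finset.mem_coe.1 r.2⟩)))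
  haveI : Algebra.FiniteType R S := hft
  let e := s.equivFin
  let f' : Fin s.card → S := fun i => ((e.symm i : s) : S)
  have hrange : Set.range f' = (s : Set S) := by
    ext x
    constructor
    · rintro ⟨i, rfl⟩
      exact (e.symm i).2
    · intro hx
      exact ⟨e ⟨x, hx⟩, by simp [f']⟩
  rw [pcRingHom_iff]
  exact PCAlg.of_away f' (by rw [hrange]; exact hs) (fun i => H' (e.symm i))

theorem pcRingHom_isLocal : RingHom.PropertyIsLocal @PCRingHom :=
  ⟨pcRingHom_localizationAwayPreserves, pcRingHom_ofLocalizationSpanTarget,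
    pcRingHom_ofLocalizationSpanTarget.ofLocalizationSpan
      (pcRingHom_stableUnderComposition.stableUnderCompositionWithLocalizationAway
        pcRingHom_holdsForLocalizationAway).left,
    (pcRingHom_stableUnderComposition.stableUnderCompositionWithLocalizationAway
      pcRingHom_holdsForLocalizationAway).right⟩

theorem pcRingHom_respectsIso : RingHom.RespectsIso @PCRingHom :=
  pcRingHom_isLocal.respectsIso

/-! ### flat base change -/

section bc

attribute [local instance] Algebra.TensorProduct.rightAlgebra MvPolynomial.algebraMvPolynomial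

variable (R R' A : Type u) [CommRing R] [CommRing R'] [CommRing A] [Algebra R R'] [Algebra R A]
  (n : ℕ) (ψ : MvPolynomial (Fin n) R →ₐ[R] A)

/-- the base-changed presentation `R'[x] → R' ⊗ A` (copied from helper18's `FbcD`) -/
noncomputable def psiBC : MvPolynomial (Fin n) R' →ₐ[R'] (R' ⊗[R] A) :=
  MvPolynomial.aeval (fun i => (1 : R') ⊗ₜ[R] ψ (MvPolynomial.X i))

lemma psiBC_map (p : MvPolynomial (Fin n) R) :
    psiBC R R' A n ψ (MvPolynomial.map (algebraMap R R') p) = (1 : R') ⊗ₜ[R] ψ p := by
  have h : (psiBC R R' A n ψ).toRingHom.comp (MvPolynomial.map (algebraMap R R')) =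
      (Algebra.TensorProduct.includeRight : A →ₐ[R] R' ⊗[R] A).toRingHom.comp ψ.toRingHom := by
    apply MvPolynomial.ringHom_ext
    · intro r
      change psiBC R R' A n ψ (MvPolynomial.map (algebraMap R R') (MvPolynomial.C r)) =
        (1 : R') ⊗ₜ[R] ψ (MvPolynomial.C r)
      rw [MvPolynomial.map_C, ← MvPolynomial.algebraMap_eq, ← MvPolynomial.algebraMap_eq,
        AlgHom.commutes, AlgHom.commutes, Algebra.TensorProduct.algebraMap_apply,
        Algebra.algebraMap_self_apply, Algebra.algebraMap_eq_smul_one r,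
        Algebra.algebraMap_eq_smul_one r, TensorProduct.smul_tmul]
    · intro i
      change psiBC R R' A n ψ (MvPolynomial.map (algebraMap R R') (MvPolynomial.X i)) =
        (1 : R') ⊗ₜ[R] ψ (MvPolynomial.X i)
      rw [MvPolynomial.map_X]
      unfold psiBC
      rw [MvPolynomial.aeval_X]
  exact RingHom.congr_fun h p

lemma psiBC_surjective (hψ : Function.Surjective ψ) :
    Function.Surjective (psiBC R R' A n ψ) := by
  intro z
  induction z using TensorProduct.induction_on with
  | zero => exact ⟨0, map_zero _⟩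
  | tmul r' a =>
    obtain ⟨p, rfl⟩ := hψ a
    refine ⟨r' • MvPolynomial.map (algebraMap R R') p, ?_⟩
    rw [map_smul, psiBC_map, TensorProduct.smul_tmul', smul_eq_mul, mul_one]
  | add x y hx hy =>
    obtain ⟨x', rfl⟩ := hx
    obtain ⟨y', rfl⟩ := hy
    exact ⟨x' + y', map_add _ _ _⟩

variable {R R' A}

/-- flat base change of a pseudo-coherent algebra -/
theorem PCAlg.tensorProduct [Module.Flat R R'] (h : PCAlg R A) : PCAlg R' (R' ⊗[R] A) := by
  obtain ⟨n, ψ, hψ, -⟩ := h 0
  have hpc := (pcAlg_iff_via ψ hψ).1 h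
  letI algPA : Algebra (MvPolynomial (Fin n) R) A := ψ.toRingHom.toAlgebra
  letI algP'A' : Algebra (MvPolynomial (Fin n) R') (R' ⊗[R] A) :=
    (psiBC R R' A n ψ).toRingHom.toAlgebra
  letI algPA' : Algebra (MvPolynomial (Fin n) R) (R' ⊗[R] A) :=
    ((algebraMap A (R' ⊗[R] A)).comp (algebraMap (MvPolynomial (Fin n) R) A)).toAlgebra
  haveI t1 : IsScalarTower (MvPolynomial (Fin n) R) A (R' ⊗[R] A) :=
    IsScalarTower.of_algebraMap_eq (fun _ => rfl)
  haveI t2 : IsScalarTower (MvPolynomial (Fin n) R) (MvPolynomial (Fin n) R') (R' ⊗[R] A) :=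
    IsScalarTower.of_algebraMap_eq (fun p => (psiBC_map R R' A n ψ p).symm)
  haveI t3 : IsScalarTower R (MvPolynomial (Fin n) R) A :=
    IsScalarTower.of_algebraMap_eq (fun r => (ψ.commutes r).symm)
  haveI t4 : IsScalarTower R' (MvPolynomial (Fin n) R') (R' ⊗[R] A) :=
    IsScalarTower.of_algebraMap_eq (fun r => ((psiBC R R' A n ψ).commutes r).symm)
  haveI t5 : IsScalarTower R (MvPolynomial (Fin n) R') (R' ⊗[R] A) :=
    IsScalarTower.of_algebraMap_eq (fun r => by
      rw [IsScalarTower.algebraMap_apply R R' (R' ⊗[R] A),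
        IsScalarTower.algebraMap_apply R R' (MvPolynomial (Fin n) R'),
        ← IsScalarTower.algebraMap_apply R' (MvPolynomial (Fin n) R') (R' ⊗[R] A)])
  have hpo : Algebra.IsPushout (MvPolynomial (Fin n) R) A (MvPolynomial (Fin n) R') (R' ⊗[R] A) :=
    (Algebra.IsPushout.comp_iff R (MvPolynomial (Fin n) R) R' (MvPolynomial (Fin n) R')
      (T := A) (T' := R' ⊗[R] A)).1 inferInstance
  haveI hpo' : Algebra.IsPushout (MvPolynomial (Fin n) R) (MvPolynomial (Fin n) R') A
      (R' ⊗[R] A) := hpo.symm
  haveI : Module.Flat (MvPolynomial (Fin n) R) (MvPolynomial (Fin n) R') :=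
    Fbc.flat_of_isPushout R (MvPolynomial (Fin n) R) R' (MvPolynomial (Fin n) R')
  haveI : Module.Flat A (R' ⊗[R] A) := Fbc.flat_of_isPushout R A R' (R' ⊗[R] A)
  rw [pcAlg_iff_via (psiBC R R' A n ψ) (psiBC_surjective R R' A n ψ hψ)]
  intro m
  have h2 : DRing.IsPseudoCoherent (MvPolynomial (Fin n) R) m
      ((DRing.restrictD (algebraMap (MvPolynomial (Fin n) R) A)).obj (Dual.inD A A)) :=
    isPseudoCoherent_of_iso (restrictDSgIso _ 0 (ModuleCat.of A A)).symm (hpc m)
  have h3 := isPseudoCoherent_extD (B := MvPolynomial (Fin n) R') m _ h2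
  have h4 := isPseudoCoherent_of_iso
    ((Fbc.betaIso (MvPolynomial (Fin n) R) A (MvPolynomial (Fin n) R') (R' ⊗[R] A)).app
      (Dual.inD A A)).symm h3
  have h5 := isPseudoCoherent_of_iso
    ((DRing.restrictD (algebraMap (MvPolynomial (Fin n) R') (R' ⊗[R] A))).mapIso
      (extDInDSelfIso A (R' ⊗[R] A))) h4
  exact isPseudoCoherent_of_iso (restrictDSgIso _ 0 (ModuleCat.of (R' ⊗[R] A) (R' ⊗[R] A))) h5

end bc

theorem pcRingHom_flat_baseChange {R S R' S' : Type u} [CommRing R] [CommRing S] [CommRing R']
    [CommRing S'] [Algebra R S] [Algebra R R'] [Algebra R S'] [Algebra S S'] [Algebra R' S']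
    [IsScalarTower R S S'] [IsScalarTower R R' S'] [Algebra.IsPushout R S R' S'] [Module.Flat R S]
    (h : PCRingHom (algebraMap R R')) : PCRingHom (algebraMap S S') := by
  rw [pcRingHom_algebraMap] at h ⊢
  have h1 : PCAlg S (S ⊗[R] R') := PCAlg.tensorProduct h
  exact h1.of_algEquiv (Algebra.IsPushout.equiv R S R' S')

end Groth.Agent.Lib.Helper9.PCM
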