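import Mathlib
import Groth.Agent.Lib.Helper9.PCRingHom

/-!
# Pseudo-coherent morphisms of schemes as a `HasRingHomProperty` (helper9)
-/

set_option autoImplicit false
set_option linter.style.haveILetI false
universe u
open CategoryTheory Opposite TopologicalSpace CategoryTheory.Limits AlgebraicGeometry

namespace Groth.Agent.Lib.Helper9.PCM

/-- pseudo-coherent morphisms as a morphism property -/
def pcMor : MorphismProperty Scheme.{u} := fun _ _ f => MoreMor.IsPseudoCoherentMor f

lemma pcMor_iff {X Y : Scheme.{u}} (f : X ⟶ Y) : pcMor f ↔ MoreMor.IsPseudoCoherentMor f := Iff.rfl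

instance pcMor_hasRingHomProperty : HasRingHomProperty pcMor.{u} PCRingHom where
  isLocal_ringHomProperty := pcRingHom_isLocal
  eq_affineLocally' := by
    ext X Y f
    rw [affineLocally_iff_affineOpens_le]
    constructor
    · intro h U V e
      exact h V.1 U.1 V.2 U.2 e
    · intro h U V hU hV e
      exact h ⟨V, hV⟩ ⟨U, hU⟩ e

lemma pcRingHom_sourceLoc :
    RingHom.StableUnderCompositionWithLocalizationAwaySource @PCRingHom.{u} :=
  (pcRingHom_stableUnderComposition.stableUnderCompositionWithLocalizationAway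
    pcRingHom_holdsForLocalizationAway).left

instance pcMor_isStableUnderComposition : pcMor.{u}.IsStableUnderComposition :=
  HasRingHomProperty.stableUnderComposition pcRingHom_stableUnderComposition

lemma pcMor_of_isOpenImmersion {X Y : Scheme.{u}} (f : X ⟶ Y) [IsOpenImmersion f] : pcMor f :=
  HasRingHomProperty.of_isOpenImmersion (P := pcMor)
    pcRingHom_holdsForLocalizationAway.containsIdentities

/-- cancellation for properties induced from ring-hom properties -/
theorem of_comp_of_cancel {P : MorphismProperty Scheme.{u}}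
    {Q : ∀ {R S : Type u} [CommRing R] [CommRing S], (R →+* S) → Prop} [HasRingHomProperty P Q]
    (H : ∀ {R S T : Type u} [CommRing R] [CommRing S] [CommRing T] (f : R →+* S) (g : S →+* T),
      Q f → Q (g.comp f) → Q g)
    {X Y Z : Scheme.{u}} {f : X ⟶ Y} {g : Y ⟶ Z} (h : P (f ≫ g)) (hg : P g) : P f := by
  wlog hZ : IsAffine Z generalizing X Y Z
  · rw [IsZariskiLocalAtTarget.iff_of_iSup_eq_top (P := P) _
      (g.iSup_preimage_eq_top (iSup_affineOpens_eq_top Z))]
    intro U
    have H' := IsZariskiLocalAtTarget.restrict h U.1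
    rw [morphismRestrict_comp] at H'
    exact this H' (IsZariskiLocalAtTarget.restrict hg U.1) inferInstance
  wlog hY : IsAffine Y generalizing X Y
  · rw [IsZariskiLocalAtTarget.iff_of_iSup_eq_top (P := P) _ (iSup_affineOpens_eq_top Y)]
    intro U
    have H' := HasRingHomProperty.comp_of_isOpenImmersion P (f ⁻¹ᵁ U.1).ι (f ≫ g) h
    rw [← morphismRestrict_ι_assoc] at H'
    exact this H' (HasRingHomProperty.comp_of_isOpenImmersion P U.1.ι g hg) inferInstance
  wlog hX : IsAffine X generalizing X
  · rw [IsZariskiLocalAtSource.iff_of_iSup_eq_top (P := P) _ (iSup_affineOpens_eq_top X)]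
    intro U
    have H' := HasRingHomProperty.comp_of_isOpenImmersion P U.1.ι (f ≫ g) h
    rw [← Category.assoc] at H'
    exact this H' inferInstance
  rw [HasRingHomProperty.iff_of_isAffine (P := P)] at h hg ⊢
  rw [Scheme.Hom.comp_appTop, CommRingCat.hom_comp] at h
  exact H _ _ hg h

theorem pcMor_of_comp {X Y Z : Scheme.{u}} {f : X ⟶ Y} {g : Y ⟶ Z} (h : pcMor (f ≫ g))
    (hg : pcMor g) : pcMor f :=
  of_comp_of_cancel (P := pcMor) (fun f g hf hgf => pcRingHom_cancel f g hf hgf) h hg

theorem pcMor_iff_exists {X S : Scheme.{u}} (f : X ⟶ S) :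
    pcMor f ↔ ∀ x : X, ∃ (U : S.affineOpens) (V : X.affineOpens) (_ : x ∈ V.1)
      (e : V.1 ≤ f ⁻¹ᵁ U.1), PCRingHom (f.appLE U V e).hom :=
  HasRingHomProperty.iff_exists_appLE (P := pcMor) pcRingHom_sourceLoc

end Groth.Agent.Lib.Helper9.PCM
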