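import Mathlib
import Groth.Agent.Lib.Helper9.PCMor

/-!
# Flat base change of pseudo-coherent morphisms (helper9)
-/

set_option autoImplicit false
set_option linter.style.haveILetI false
universe u
open CategoryTheory Opposite TopologicalSpace CategoryTheory.Limits AlgebraicGeometry TensorProduct

namespace Groth.Agent.Lib.Helper9.PCM

/-- flat base change, in the shape of `RingHom.IsStableUnderBaseChange` -/
theorem pcRingHom_flat_baseChange' {R S R' S' : Type u} [CommRing R] [CommRing S] [CommRing R']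
    [CommRing S'] [Algebra R S] [Algebra R R'] [Algebra R S'] [Algebra S S'] [Algebra R' S']
    [IsScalarTower R S S'] [IsScalarTower R R' S'] [Algebra.IsPushout R S R' S']
    [Module.Flat R R'] (h : PCRingHom (algebraMap R S)) : PCRingHom (algebraMap R' S') :=
  haveI : Algebra.IsPushout R R' S S' := Algebra.IsPushout.symm inferInstance
  pcRingHom_flat_baseChange (R := R) (S := R') (R' := S) (S' := S') h

attribute [local instance] Algebra.TensorProduct.rightAlgebra in
set_option backward.isDefEq.respectTransparency false in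
theorem pushout_inl_of_flat {R S T : CommRingCat.{u}} (f : R ⟶ S) (g : R ⟶ T) (hf : f.hom.Flat)
    (H : PCRingHom g.hom) : PCRingHom (pushout.inl f g).hom := by
  let := f.hom.toAlgebra
  let := g.hom.toAlgebra
  rw [← show _ = pushout.inl f g from
      colimit.isoColimitCocone_ι_inv ⟨_, CommRingCat.pushoutCoconeIsColimit R S T⟩ WalkingSpan.left,
    CommRingCat.hom_comp, pcRingHom_respectsIso.cancel_right_isIso]
  dsimp only [CommRingCat.pushoutCocone_inl, PushoutCocone.ι_app_left]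
  haveI : Module.Flat R S := hf
  exact pcRingHom_flat_baseChange' (R := R) (S := T) (R' := S) (S' := S ⊗[R] T) H

set_option backward.defeqAttrib.useBackward true in
set_option backward.isDefEq.respectTransparency false in
theorem pullback_fst_appTop_of_flat {X Y S : Scheme.{u}} [IsAffine X] [IsAffine Y] [IsAffine S]
    (f : X ⟶ S) (g : Y ⟶ S) (hf : f.appTop.hom.Flat) (H : PCRingHom g.appTop.hom) :
    PCRingHom (pullback.fst f g).appTop.hom := by
  erw [← PreservesPullback.iso_inv_fst AffineScheme.forgetToScheme (AffineScheme.ofHom f)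
      (AffineScheme.ofHom g)]
  rw [Scheme.Hom.comp_appTop, CommRingCat.hom_comp, pcRingHom_respectsIso.cancel_right_isIso,
    AffineScheme.forgetToScheme_map]
  have := congr_arg Quiver.Hom.unop
      (PreservesPullback.iso_hom_fst AffineScheme.Γ.rightOp (AffineScheme.ofHom f)
        (AffineScheme.ofHom g))
  simp only [AffineScheme.Γ, Functor.rightOp_obj, Functor.comp_obj, Functor.op_obj, unop_comp,
    AffineScheme.forgetToScheme_obj, Scheme.Γ_obj, Functor.rightOp_map, Functor.comp_map,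
    Functor.op_map, Quiver.Hom.unop_op, AffineScheme.forgetToScheme_map, Scheme.Γ_map] at this
  rw [← this, CommRingCat.hom_comp, pcRingHom_respectsIso.cancel_right_isIso,
    ← pushoutIsoUnopPullback_inl_hom,
    CommRingCat.hom_comp, pcRingHom_respectsIso.cancel_right_isIso]
  exact pushout_inl_of_flat _ _ hf H

theorem pcMor_pullback_fst_of_isAffine {X Y S : Scheme.{u}} [IsAffine X] [IsAffine Y] [IsAffine S]
    (f : X ⟶ S) (g : Y ⟶ S) [Flat f] (hg : pcMor g) : pcMor (pullback.fst f g) := by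
  rw [HasRingHomProperty.iff_of_isAffine (P := pcMor)] at hg ⊢
  exact pullback_fst_appTop_of_flat f g (HasRingHomProperty.appTop @Flat f inferInstance) hg

lemma isPullback_of_comp_mono {C : Type*} [Category C] {P X Y V S : C} {fst : P ⟶ X}
    {snd : P ⟶ Y} {f : X ⟶ V} {g : Y ⟶ V} (i : V ⟶ S) [Mono i]
    (h : IsPullback fst snd (f ≫ i) (g ≫ i)) : IsPullback fst snd f g := by
  have w : fst ≫ f = snd ≫ g := by
    rw [← cancel_mono i, Category.assoc, Category.assoc]
    exact h.w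
  have hb : IsPullback g (𝟙 Y) i (g ≫ i) := IsPullback.of_vert_isIso_mono ⟨by simp⟩
  exact IsPullback.of_bot (by simpa using h) w hb

theorem pcMor_of_isPullback_of_affine {X S X' S' : Scheme.{u}} [IsAffine X] [IsAffine S']
    {f : X ⟶ S} {f' : X' ⟶ S'} {g' : X' ⟶ X} {g : S' ⟶ S} [Flat g]
    (hc : IsPullback g' f' f g) (hf : pcMor f) (V : S.Opens) (hV : IsAffineOpen V)
    (hfV : ∀ x, f x ∈ V) (hgV : ∀ y, g y ∈ V) : pcMor f' := by
  haveI : IsAffine V.toScheme := hV
  let fV : X ⟶ V.toScheme := IsOpenImmersion.lift V.ι f (by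
    rw [Scheme.Opens.range_ι]
    rintro _ ⟨x, rfl⟩
    exact hfV x)
  let gV : S' ⟶ V.toScheme := IsOpenImmersion.lift V.ι g (by
    rw [Scheme.Opens.range_ι]
    rintro _ ⟨x, rfl⟩
    exact hgV x)
  have hfV' : fV ≫ V.ι = f := IsOpenImmersion.lift_fac _ _ _
  have hgV' : gV ≫ V.ι = g := IsOpenImmersion.lift_fac _ _ _
  have hc' : IsPullback g' f' fV gV :=
    isPullback_of_comp_mono V.ι (by rw [hfV', hgV']; exact hc)
  have hPfV : pcMor fV :=
    pcMor_of_comp (f := fV) (g := V.ι) (by rw [hfV']; exact hf) (pcMor_of_isOpenImmersion V.ι)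
  haveI : Flat gV := by
    have sq : IsPullback (𝟙 S') gV g V.ι := IsPullback.of_horiz_isIso_mono ⟨by simp [hgV']⟩
    exact IsZariskiLocalAtTarget.of_isPullback (P := @Flat) sq inferInstance
  rw [← hc'.flip.isoPullback_hom_fst, pcMor.cancel_left_of_respectsIso]
  exact pcMor_pullback_fst_of_isAffine gV fV hPfV

theorem isPullback_resLE {X S X' S' : Scheme.{u}} {f : X ⟶ S} {f' : X' ⟶ S'} {g' : X' ⟶ X}
    {g : S' ⟶ S} (hc : IsPullback g' f' f g) (U : X.Opens) (W : S'.Opens) :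
    IsPullback (g'.resLE U (g' ⁻¹ᵁ U ⊓ f' ⁻¹ᵁ W) inf_le_left)
      (f'.resLE W (g' ⁻¹ᵁ U ⊓ f' ⁻¹ᵁ W) inf_le_right) (U.ι ≫ f) (W.ι ≫ g) := by
  set U' : X'.Opens := g' ⁻¹ᵁ U ⊓ f' ⁻¹ᵁ W with hU'
  set a := g'.resLE U U' inf_le_left with ha
  set b := f'.resLE W U' inf_le_right with hb
  have wa : a ≫ U.ι = U'.ι ≫ g' := Scheme.Hom.resLE_comp_ι _ _
  have wb : b ≫ W.ι = U'.ι ≫ f' := Scheme.Hom.resLE_comp_ι _ _
  have w : a ≫ U.ι ≫ f = b ≫ W.ι ≫ g := by
    rw [← Category.assoc, wa, ← Category.assoc b, wb, Category.assoc, Category.assoc, hc.w]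
  have hmemU : ∀ y : U.toScheme, U.ι y ∈ U := fun y => by
    have := Set.mem_range_self (f := U.ι) y
    rw [Scheme.Opens.range_ι] at this
    exact this
  have hmemW : ∀ y : W.toScheme, W.ι y ∈ W := fun y => by
    have := Set.mem_range_self (f := W.ι) y
    rw [Scheme.Opens.range_ι] at this
    exact this
  -- the lift
  have hlift : ∀ s : PullbackCone (U.ι ≫ f) (W.ι ≫ g),
      ∃ l' : s.pt ⟶ U'.toScheme, l' ≫ U'.ι = hc.lift (s.fst ≫ U.ι) (s.snd ≫ W.ι)
        (by simpa using s.condition) := by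
    intro s
    set l := hc.lift (s.fst ≫ U.ι) (s.snd ≫ W.ι) (by simpa using s.condition) with hl
    have hl1 : l ≫ g' = s.fst ≫ U.ι := hc.lift_fst _ _ _
    have hl2 : l ≫ f' = s.snd ≫ W.ι := hc.lift_snd _ _ _
    have hr : Set.range l ⊆ Set.range U'.ι := by
      rw [Scheme.Opens.range_ι]
      rintro _ ⟨t, rfl⟩
      refine ⟨?_, ?_⟩
      · show g' (l t) ∈ U
        have e : g' (l t) = U.ι (s.fst t) := by
          rw [← Scheme.Hom.comp_apply, hl1, Scheme.Hom.comp_apply]
        rw [e]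
        exact hmemU _
      · show f' (l t) ∈ W
        have e : f' (l t) = W.ι (s.snd t) := by
          rw [← Scheme.Hom.comp_apply, hl2, Scheme.Hom.comp_apply]
        rw [e]
        exact hmemW _
    exact ⟨IsOpenImmersion.lift U'.ι l hr, IsOpenImmersion.lift_fac _ _ _⟩
  choose lift hlift' using hlift
  refine ⟨⟨w⟩, ⟨PullbackCone.IsLimit.mk w lift ?_ ?_ ?_⟩⟩
  · intro s
    rw [← cancel_mono U.ι, Category.assoc, wa, ← Category.assoc, hlift' s]
    exact hc.lift_fst _ _ _
  · intro s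
    rw [← cancel_mono W.ι, Category.assoc, wb, ← Category.assoc, hlift' s]
    exact hc.lift_snd _ _ _
  · intro s m h1 h2
    rw [← cancel_mono U'.ι, hlift' s]
    apply hc.hom_ext
    · rw [hc.lift_fst, Category.assoc, ← wa, ← Category.assoc, h1]
    · rw [hc.lift_snd, Category.assoc, ← wb, ← Category.assoc, h2]

/-- flat base change of pseudo-coherent morphisms -/
theorem pcMor_flat_baseChange {X S X' S' : Scheme.{u}} {f : X ⟶ S} {f' : X' ⟶ S'} {g' : X' ⟶ X}
    {g : S' ⟶ S} [Flat g] (hc : IsPullback g' f' f g) (hf : pcMor f) : pcMor f' := by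
  have key : ∀ x' : X', ∃ U' : X'.Opens, x' ∈ U' ∧ pcMor (U'.ι ≫ f') := by
    intro x'
    obtain ⟨V, hV, hxV⟩ : ∃ V : S.Opens, IsAffineOpen V ∧ g (f' x') ∈ V := by
      obtain ⟨V, hV, hxV, -⟩ := Opens.isBasis_iff_nbhd.mp S.isBasis_affineOpens
        (Opens.mem_top (g (f' x')))
      exact ⟨V, hV, hxV⟩
    obtain ⟨W, hW, hxW, hWV⟩ : ∃ W : S'.Opens, IsAffineOpen W ∧ f' x' ∈ W ∧ W ≤ g ⁻¹ᵁ V := by
      obtain ⟨W, hW, hxW, hWV⟩ := Opens.isBasis_iff_nbhd.mp S'.isBasis_affineOpens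
        (show f' x' ∈ g ⁻¹ᵁ V from hxV)
      exact ⟨W, hW, hxW, hWV⟩
    have hfx : f (g' x') ∈ V := by
      have e : f (g' x') = g (f' x') := by
        rw [← Scheme.Hom.comp_apply, ← Scheme.Hom.comp_apply, hc.w]
      rw [e]
      exact hxV
    obtain ⟨U, hU, hxU, hUV⟩ : ∃ U : X.Opens, IsAffineOpen U ∧ g' x' ∈ U ∧ U ≤ f ⁻¹ᵁ V := by
      obtain ⟨U, hU, hxU, hUV⟩ := Opens.isBasis_iff_nbhd.mp X.isBasis_affineOpens
        (show g' x' ∈ f ⁻¹ᵁ V from hfx)
      exact ⟨U, hU, hxU, hUV⟩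
    refine ⟨g' ⁻¹ᵁ U ⊓ f' ⁻¹ᵁ W, ⟨hxU, hxW⟩, ?_⟩
    have sq := isPullback_resLE hc U W
    haveI : IsAffine U.toScheme := hU
    haveI : IsAffine W.toScheme := hW
    have hmemU : ∀ y : U.toScheme, U.ι y ∈ U := fun y => by
      have := Set.mem_range_self (f := U.ι) y
      rw [Scheme.Opens.range_ι] at this
      exact this
    have hmemW : ∀ y : W.toScheme, W.ι y ∈ W := fun y => by
      have := Set.mem_range_self (f := W.ι) y
      rw [Scheme.Opens.range_ι] at this
      exact this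
    have hb : pcMor (f'.resLE W (g' ⁻¹ᵁ U ⊓ f' ⁻¹ᵁ W) inf_le_right) :=
      pcMor_of_isPullback_of_affine sq
        (HasRingHomProperty.comp_of_isOpenImmersion pcMor U.ι f hf) V hV
        (fun y => by rw [Scheme.Hom.comp_apply]; exact hUV (hmemU y))
        (fun y => by rw [Scheme.Hom.comp_apply]; exact hWV (hmemW y))
    rw [← Scheme.Hom.resLE_comp_ι f' (inf_le_right : g' ⁻¹ᵁ U ⊓ f' ⁻¹ᵁ W ≤ f' ⁻¹ᵁ W)]
    exact pcMor.comp_mem _ _ hb (pcMor_of_isOpenImmersion W.ι)
  choose U hxU hU using key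
  rw [IsZariskiLocalAtSource.iff_of_iSup_eq_top (P := pcMor) U
    (eq_top_iff.2 fun x _ => Opens.mem_iSup.2 ⟨x, hxU x⟩)]
  exact hU

end Groth.Agent.Lib.Helper9.PCM
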