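import Mathlib
import Groth.Agent.Lib.Helper9.PCFlatBC

/-!
# Flat base change for morphism properties induced by ring-hom properties (helper9)

Generic version of `PCFlatBC`: a `HasRingHomProperty P Q` with `Q` stable under flat base change is
stable under flat base change of schemes.
-/

set_option autoImplicit false
set_option linter.style.haveILetI false
universe u
open CategoryTheory Opposite TopologicalSpace CategoryTheory.Limits AlgebraicGeometry TensorProduct

namespace Groth.Agent.Lib.Helper9.PCM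

/-- `Q` is stable under flat base change -/
def FlatBaseChangeStable (Q : ∀ {R S : Type u} [CommRing R] [CommRing S], (R →+* S) → Prop) :
    Prop :=
  ∀ ⦃R S R' S' : Type u⦄ [CommRing R] [CommRing S] [CommRing R'] [CommRing S'] [Algebra R S]
    [Algebra R R'] [Algebra R S'] [Algebra S S'] [Algebra R' S'] [IsScalarTower R S S']
    [IsScalarTower R R' S'] [Algebra.IsPushout R S R' S'] [Module.Flat R R'],
    Q (algebraMap R S) → Q (algebraMap R' S')

section generic

variable {Q : ∀ {R S : Type u} [CommRing R] [CommRing S], (R →+* S) → Prop}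

attribute [local instance] Algebra.TensorProduct.rightAlgebra in
set_option backward.isDefEq.respectTransparency false in
theorem pushout_inl_of_flat' (hQ : FlatBaseChangeStable Q) (hQ' : RingHom.RespectsIso Q)
    {R S T : CommRingCat.{u}} (f : R ⟶ S) (g : R ⟶ T) (hf : f.hom.Flat)
    (H : Q g.hom) : Q (pushout.inl f g).hom := by
  let := f.hom.toAlgebra
  let := g.hom.toAlgebra
  rw [← show _ = pushout.inl f g from
      colimit.isoColimitCocone_ι_inv ⟨_, CommRingCat.pushoutCoconeIsColimit R S T⟩ WalkingSpan.left,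
    CommRingCat.hom_comp, hQ'.cancel_right_isIso]
  dsimp only [CommRingCat.pushoutCocone_inl, PushoutCocone.ι_app_left]
  haveI : Module.Flat R S := hf
  exact hQ (R := R) (S := T) (R' := S) (S' := S ⊗[R] T) H

set_option backward.defeqAttrib.useBackward true in
set_option backward.isDefEq.respectTransparency false in
theorem pullback_fst_appTop_of_flat' (hQ : FlatBaseChangeStable Q) (hQ' : RingHom.RespectsIso Q)
    {X Y S : Scheme.{u}} [IsAffine X] [IsAffine Y] [IsAffine S]
    (f : X ⟶ S) (g : Y ⟶ S) (hf : f.appTop.hom.Flat) (H : Q g.appTop.hom) :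
    Q (pullback.fst f g).appTop.hom := by
  erw [← PreservesPullback.iso_inv_fst AffineScheme.forgetToScheme (AffineScheme.ofHom f)
      (AffineScheme.ofHom g)]
  rw [Scheme.Hom.comp_appTop, CommRingCat.hom_comp, hQ'.cancel_right_isIso,
    AffineScheme.forgetToScheme_map]
  have := congr_arg Quiver.Hom.unop
      (PreservesPullback.iso_hom_fst AffineScheme.Γ.rightOp (AffineScheme.ofHom f)
        (AffineScheme.ofHom g))
  simp only [AffineScheme.Γ, Functor.rightOp_obj, Functor.comp_obj, Functor.op_obj, unop_comp,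
    AffineScheme.forgetToScheme_obj, Scheme.Γ_obj, Functor.rightOp_map, Functor.comp_map,
    Functor.op_map, Quiver.Hom.unop_op, AffineScheme.forgetToScheme_map, Scheme.Γ_map] at this
  rw [← this, CommRingCat.hom_comp, hQ'.cancel_right_isIso,
    ← pushoutIsoUnopPullback_inl_hom,
    CommRingCat.hom_comp, hQ'.cancel_right_isIso]
  exact pushout_inl_of_flat' hQ hQ' _ _ hf H

variable {P : MorphismProperty Scheme.{u}} [HasRingHomProperty P Q]

theorem pullback_fst_of_isAffine_of_flat (hQ : FlatBaseChangeStable Q)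
    {X Y S : Scheme.{u}} [IsAffine X] [IsAffine Y] [IsAffine S]
    (f : X ⟶ S) (g : Y ⟶ S) [Flat f] (hg : P g) : P (pullback.fst f g) := by
  rw [HasRingHomProperty.iff_of_isAffine (P := P)] at hg ⊢
  exact pullback_fst_appTop_of_flat' hQ (HasRingHomProperty.isLocal_ringHomProperty P).respectsIso
    f g (HasRingHomProperty.appTop @Flat f inferInstance) hg

theorem of_isPullback_of_affine_of_flat (hQ : FlatBaseChangeStable Q)
    {X S X' S' : Scheme.{u}} [IsAffine X] [IsAffine S']
    {f : X ⟶ S} {f' : X' ⟶ S'} {g' : X' ⟶ X} {g : S' ⟶ S} [Flat g]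
    (hc : IsPullback g' f' f g) (hf : P f) (V : S.Opens) (hV : IsAffineOpen V)
    (hfV : ∀ x, f x ∈ V) (hgV : ∀ y, g y ∈ V) : P f' := by
  haveI : IsAffine V.toScheme := hV
  let fV : X ⟶ V.toScheme := IsOpenImmersion.lift V.ι f (by
    rw [Scheme.Opens.range_ι]
    rintro _ ⟨x, rfl⟩
    exact hfV x)
  let gV : S' ⟶ V.toScheme := IsOpenImmersion.lift V.ι g (by
    rw [Scheme.Opens.range_ι]
    rintro _ ⟨x, rfl⟩
    exact hgV x)
  have hfV' : fV ≫ V.ι = f := IsOpenImmersion.lift_fac _ _ _
  have hgV' : gV ≫ V.ι = g := IsOpenImmersion.lift_fac _ _ _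
  have hc' : IsPullback g' f' fV gV :=
    isPullback_of_comp_mono V.ι (by rw [hfV', hgV']; exact hc)
  have hPfV : P fV := by
    have sq : IsPullback (𝟙 X) fV f V.ι := IsPullback.of_horiz_isIso_mono ⟨by simp [hfV']⟩
    exact IsZariskiLocalAtTarget.of_isPullback (P := P) sq hf
  haveI : Flat gV := by
    have sq : IsPullback (𝟙 S') gV g V.ι := IsPullback.of_horiz_isIso_mono ⟨by simp [hgV']⟩
    exact IsZariskiLocalAtTarget.of_isPullback (P := @Flat) sq inferInstance
  rw [← hc'.flip.isoPullback_hom_fst, P.cancel_left_of_respectsIso]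
  exact pullback_fst_of_isAffine_of_flat hQ gV fV hPfV

/-- flat base change -/
theorem flat_baseChange_of_hasRingHomProperty (hQ : FlatBaseChangeStable Q)
    (hQs : RingHom.StableUnderCompositionWithLocalizationAwaySource Q)
    {X S X' S' : Scheme.{u}} {f : X ⟶ S} {f' : X' ⟶ S'} {g' : X' ⟶ X}
    {g : S' ⟶ S} [Flat g] (hc : IsPullback g' f' f g) (hf : P f) : P f' := by
  have hresp := HasRingHomProperty.respects_isOpenImmersion (P := P) hQs
  have key : ∀ x' : X', ∃ U' : X'.Opens, x' ∈ U' ∧ P (U'.ι ≫ f') := by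
    intro x'
    obtain ⟨V, hV, hxV⟩ : ∃ V : S.Opens, IsAffineOpen V ∧ g (f' x') ∈ V := by
      obtain ⟨V, hV, hxV, -⟩ := Opens.isBasis_iff_nbhd.mp S.isBasis_affineOpens
        (Opens.mem_top (g (f' x')))
      exact ⟨V, hV, hxV⟩
    obtain ⟨W, hW, hxW, hWV⟩ : ∃ W : S'.Opens, IsAffineOpen W ∧ f' x' ∈ W ∧ W ≤ g ⁻¹ᵁ V := by
      obtain ⟨W, hW, hxW, hWV⟩ := Opens.isBasis_iff_nbhd.mp S'.isBasis_affineOpens
        (show f' x' ∈ g ⁻¹ᵁ V from hxV)
      exact ⟨W, hW, hxW, hWV⟩
    have hfx : f (g' x') ∈ V := by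
      have e : f (g' x') = g (f' x') := by
        rw [← Scheme.Hom.comp_apply, ← Scheme.Hom.comp_apply, hc.w]
      rw [e]
      exact hxV
    obtain ⟨U, hU, hxU, hUV⟩ : ∃ U : X.Opens, IsAffineOpen U ∧ g' x' ∈ U ∧ U ≤ f ⁻¹ᵁ V := by
      obtain ⟨U, hU, hxU, hUV⟩ := Opens.isBasis_iff_nbhd.mp X.isBasis_affineOpens
        (show g' x' ∈ f ⁻¹ᵁ V from hfx)
      exact ⟨U, hU, hxU, hUV⟩
    refine ⟨g' ⁻¹ᵁ U ⊓ f' ⁻¹ᵁ W, ⟨hxU, hxW⟩, ?_⟩
    have sq := isPullback_resLE hc U W
    haveI : IsAffine U.toScheme := hU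
    haveI : IsAffine W.toScheme := hW
    have hmemU : ∀ y : U.toScheme, U.ι y ∈ U := fun y => by
      have := Set.mem_range_self (f := U.ι) y
      rw [Scheme.Opens.range_ι] at this
      exact this
    have hmemW : ∀ y : W.toScheme, W.ι y ∈ W := fun y => by
      have := Set.mem_range_self (f := W.ι) y
      rw [Scheme.Opens.range_ι] at this
      exact this
    have hb : P (f'.resLE W (g' ⁻¹ᵁ U ⊓ f' ⁻¹ᵁ W) inf_le_right) :=
      of_isPullback_of_affine_of_flat hQ sq
        (HasRingHomProperty.comp_of_isOpenImmersion P U.ι f hf) V hV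
        (fun y => by rw [Scheme.Hom.comp_apply]; exact hUV (hmemU y))
        (fun y => by rw [Scheme.Hom.comp_apply]; exact hWV (hmemW y))
    rw [← Scheme.Hom.resLE_comp_ι f' (inf_le_right : g' ⁻¹ᵁ U ⊓ f' ⁻¹ᵁ W ≤ f' ⁻¹ᵁ W)]
    exact hresp.postcomp W.ι inferInstance _ hb
  choose U hxU hU using key
  rw [IsZariskiLocalAtSource.iff_of_iSup_eq_top (P := P) U
    (eq_top_iff.2 fun x _ => Opens.mem_iSup.2 ⟨x, hxU x⟩)]
  exact hU

end generic

end Groth.Agent.Lib.Helper9.PCM
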