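import Mathlib
import Groth.Agent.Lib.Helper18.DRTorZ3
import Groth.Agent.Lib.Helper18.DRExt2
import Groth.Agent.Lib.Helper9.PCBase

/-!
# Finite tor dimension of algebras: composition, flat base change, Zariski locality (helper9)
-/

set_option autoImplicit false
set_option linter.style.haveILetI false
universe u
open CategoryTheory CategoryTheory.Limits CategoryTheory.Pretriangulated DerivedCategory
open TensorProduct
open Groth.Agent.Lib.Helper18.DR Groth.Agent.Lib.Helper14.TorKer

attribute [local instance] HasDerivedCategory.standard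

namespace Groth.Agent.Lib.Helper9.PCM

section basic

variable {A : Type u} [CommRing A]

lemma hasTorDimLE_mono {d d' : ℕ} (h : d ≤ d') {M : Type u} [AddCommGroup M] [Module A M]
    (hM : DRing.HasTorDimLE A d M) : DRing.HasTorDimLE A d' M :=
  fun N _ _ p hp => hM N p (lt_of_le_of_lt h hp)

lemma hasTorDimLE_of_linearEquiv {M M' : Type u} [AddCommGroup M] [Module A M]
    [AddCommGroup M'] [Module A M'] (e : M ≃ₗ[A] M') (d : ℕ)
    (h : DRing.HasTorDimLE A d M) : DRing.HasTorDimLE A d M' := by
  rw [(hasTorDimLE_iff_hasTorAmplitudeIn_single A M' d).1]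
  rw [(hasTorDimLE_iff_hasTorAmplitudeIn_single A M d).1] at h
  exact hasTorAmplitudeIn_of_iso ((singleFunctor (ModuleCat.{u} A) 0).mapIso e.toModuleIso) h

lemma hasTorDimLE_zero_of_flat (M : Type u) [AddCommGroup M] [Module A M] [Module.Flat A M] :
    DRing.HasTorDimLE A 0 M :=
  (hasTorDimLE_iff_hasTorAmplitudeIn_single A M 0).2.2 inferInstance

end basic

theorem hasTorDimLE_trans {A B C : Type u} [CommRing A] [CommRing B] [CommRing C] [Algebra A B]
    [Algebra B C] [Algebra A C] [IsScalarTower A B C] (d e : ℕ)
    (hB : DRing.HasTorDimLE A d B) (hC : DRing.HasTorDimLE B e C) :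
    DRing.HasTorDimLE A (d + e) C := by
  have hB' := (hasTorDimLE_iff_hasTorAmplitudeIn_single A B d).1.1 hB
  have hC' := (hasTorDimLE_iff_hasTorAmplitudeIn_single B C e).1.1 hC
  have h1 := hasTorAmplitudeIn_restrictScalars_of_torDim_algebra d hB' (Dual.inD B C)
    (-(e : ℤ)) 0 hC'
  let l : resM (algebraMap A B) (ModuleCat.of B C) ≃ₗ[A] C :=
    { toFun := fun c => c
      invFun := fun c => c
      map_add' := fun _ _ => rfl
      map_smul' := fun a c => algebraMap_smul B a (show C from c)
      left_inv := fun _ => rfl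
      right_inv := fun _ => rfl }
  have h2 : DRing.HasTorAmplitudeIn A (-(e : ℤ) - d) 0 (Dual.inD A C) :=
    hasTorAmplitudeIn_of_iso (restrictDSgIso _ 0 (ModuleCat.of B C) ≪≫
      (singleFunctor (ModuleCat.{u} A) 0).mapIso l.toModuleIso) h1
  rw [(hasTorDimLE_iff_hasTorAmplitudeIn_single A C (d + e)).1]
  have e' : (-(e : ℤ) - d) = -((d + e : ℕ) : ℤ) := by push_cast; ring
  rw [← e']
  exact h2

theorem hasTorDimLE_tensorProduct {R R' S : Type u} [CommRing R] [CommRing R'] [CommRing S]
    [Algebra R R'] [Algebra R S] [Module.Flat R R'] (d : ℕ) (h : DRing.HasTorDimLE R d S) :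
    DRing.HasTorDimLE R' d (R' ⊗[R] S) := by
  rw [(hasTorDimLE_iff_hasTorAmplitudeIn_single _ _ d).1] at h ⊢
  exact hasTorAmplitudeIn_single_baseChange_of_flat (-(d : ℤ)) 0 S h

/-! ### locality -/

section loc

variable {A B : Type u} [CommRing A] [CommRing B] [Algebra A B]

lemma lTensor_exact_of_away {ι : Type*} (s : ι → B) (hs : Ideal.span (Set.range s) = ⊤)
    {X Y Z : Type u} [AddCommGroup X] [Module A X] [AddCommGroup Y] [Module A Y]
    [AddCommGroup Z] [Module A Z] (f : X →ₗ[A] Y) (g : Y →ₗ[A] Z)
    (h : ∀ i, Function.Exact (f.lTensor (Localization.Away (s i)))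
      (g.lTensor (Localization.Away (s i)))) :
    Function.Exact (f.lTensor B) (g.lTensor B) := by
  have key : Function.Exact (AlgebraTensorModule.lTensor B B f)
      (AlgebraTensorModule.lTensor B B g) := by
    refine exact_of_isLocalized_span (Set.range s) hs
      (fun r => Localization.Away r.1 ⊗[A] X)
      (fun r => AlgebraTensorModule.rTensor A X (Algebra.linearMap B (Localization.Away r.1)))
      (fun r => Localization.Away r.1 ⊗[A] Y)
      (fun r => AlgebraTensorModule.rTensor A Y (Algebra.linearMap B (Localization.Away r.1)))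
      (fun r => Localization.Away r.1 ⊗[A] Z)
      (fun r => AlgebraTensorModule.rTensor A Z (Algebra.linearMap B (Localization.Away r.1)))
      _ _ ?_
    rintro ⟨_, i, rfl⟩
    rw [IsLocalizedModule.map_lTensor, IsLocalizedModule.map_lTensor]
    exact h i
  exact key

lemma rTensor_exact_of_away {ι : Type*} (s : ι → B) (hs : Ideal.span (Set.range s) = ⊤)
    {X Y Z : Type u} [AddCommGroup X] [Module A X] [AddCommGroup Y] [Module A Y]
    [AddCommGroup Z] [Module A Z] (f : X →ₗ[A] Y) (g : Y →ₗ[A] Z)
    (h : ∀ i, Function.Exact (f.rTensor (Localization.Away (s i)))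
      (g.rTensor (Localization.Away (s i)))) :
    Function.Exact (f.rTensor B) (g.rTensor B) := by
  have h1 : ∀ i, Function.Exact (f.lTensor (Localization.Away (s i)))
      (g.lTensor (Localization.Away (s i))) := fun i =>
    exact_of_ladder' (TensorProduct.comm A (Localization.Away (s i)) X).toAddEquiv
      (TensorProduct.comm A (Localization.Away (s i)) Y).toAddEquiv
      (TensorProduct.comm A (Localization.Away (s i)) Z).toAddEquiv
      (fun x => by
        induction x using TensorProduct.induction_on with
        | zero => simp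
        | add x y hx hy => simp only [map_add, hx, hy]
        | tmul x m => simp)
      (fun x => by
        induction x using TensorProduct.induction_on with
        | zero => simp
        | add x y hx hy => simp only [map_add, hx, hy]
        | tmul x m => simp) (h i)
  have h2 := lTensor_exact_of_away s hs f g h1
  exact exact_of_ladder' (TensorProduct.comm A X B).toAddEquiv
    (TensorProduct.comm A Y B).toAddEquiv (TensorProduct.comm A Z B).toAddEquiv
    (fun x => comm_rTensor B f x) (fun x => comm_rTensor B g x) h2

theorem hasTorDimLE_of_away (d : ℕ) {ι : Type*} (s : ι → B)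
    (hs : Ideal.span (Set.range s) = ⊤)
    (h : ∀ i, DRing.HasTorDimLE A d (Localization.Away (s i))) : DRing.HasTorDimLE A d B := by
  intro N _ _ p hp
  obtain ⟨n, rfl⟩ : ∃ n, p = n + 1 := ⟨p - 1, by omega⟩
  let Q := ProjectiveResolution.of (ModuleCat.of A N)
  change TorZ A (n + 1) B N
  rw [torZ_iff_isZero Q, isZero_T_iff]
  have h1 : ∀ i, Function.Exact
      ((Q.complex.d (n + 2) (n + 1)).hom.rTensor (Localization.Away (s i)))
      ((Q.complex.d (n + 1) n).hom.rTensor (Localization.Away (s i))) := by
    intro i
    have h2 : TorZ A (n + 1) (Localization.Away (s i)) N := h i N (n + 1) hp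
    rw [torZ_iff_isZero Q, isZero_T_iff] at h2
    exact h2
  exact rTensor_exact_of_away s hs _ _ h1

end loc

end Groth.Agent.Lib.Helper9.PCM
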