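import Mathlib
import Groth.Agent.Lib.Helper9.TorDimLib
import Groth.Agent.Lib.Helper9.PCRingHom

/-!
# Perfect ring maps as a local property of ring homomorphisms (helper9)
-/

set_option autoImplicit false
set_option linter.style.haveILetI false
universe u
open TensorProduct
open Groth.Agent.Lib.Helper18.DR

namespace Groth.Agent.Lib.Helper9.PCM

/-- the ring-hom property "finite tor dimension" -/
def FTDRingHom {R S : Type u} [CommRing R] [CommRing S] (f : R →+* S) : Prop :=
  @DRing.HasFiniteTorDim R _ S _ f.toAlgebra.toModule

lemma ftdRingHom_algebraMap {R S : Type u} [CommRing R] [CommRing S] [inst : Algebra R S] :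
    FTDRingHom (algebraMap R S) ↔ DRing.HasFiniteTorDim R S := by
  have : (algebraMap R S).toAlgebra = inst := Algebra.algebra_ext _ _ (fun _ => rfl)
  unfold FTDRingHom
  rw [this]

theorem ftd_stableUnderComposition : RingHom.StableUnderComposition @FTDRingHom := by
  intro R S T _ _ _ f g hf hg
  letI := f.toAlgebra
  letI := g.toAlgebra
  letI := (g.comp f).toAlgebra
  haveI : IsScalarTower R S T := IsScalarTower.of_algebraMap_eq (fun _ => rfl)
  obtain ⟨d, hd⟩ := hf
  obtain ⟨e, he⟩ := hg
  exact ⟨d + e, hasTorDimLE_trans d e hd he⟩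

theorem ftd_holdsForLocalizationAway : RingHom.HoldsForLocalizationAway @FTDRingHom := by
  intro R S _ _ _ r _
  rw [ftdRingHom_algebraMap]
  haveI : Module.Flat R S := IsLocalization.flat S (Submonoid.powers r)
  exact ⟨0, hasTorDimLE_zero_of_flat S⟩

theorem ftd_localizationAwayPreserves : RingHom.LocalizationAwayPreserves @FTDRingHom := by
  intro R S _ _ f r R' S' _ _ _ _ _ _ hf
  letI := f.toAlgebra
  letI : Algebra R' S' := (IsLocalization.Away.map R' S' f r).toAlgebra
  letI : Algebra R S' := ((algebraMap S S').comp f).toAlgebra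
  haveI : IsScalarTower R S S' := IsScalarTower.of_algebraMap_eq (fun _ => rfl)
  haveI : IsScalarTower R R' S' :=
    IsScalarTower.of_algebraMap_eq (fun x => (away_map_algebraMap R' S' f r x).symm)
  haveI : IsLocalization (Algebra.algebraMapSubmonoid S (Submonoid.powers r)) S' := by
    have e : Algebra.algebraMapSubmonoid S (Submonoid.powers r) = Submonoid.powers (f r) :=
      Submonoid.map_powers _ _
    rw [e]; infer_instance
  haveI : Algebra.IsPushout R R' S S' :=
    (Algebra.isPushout_of_isLocalization (Submonoid.powers r) R' S S').symm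
  haveI : Module.Flat R R' := IsLocalization.flat R' (Submonoid.powers r)
  obtain ⟨d, hd⟩ := hf
  exact ⟨d, hasTorDimLE_of_linearEquiv (Algebra.IsPushout.equiv R R' S S').toLinearEquiv d
    (hasTorDimLE_tensorProduct d hd)⟩

theorem ftd_ofLocalizationSpanTarget : RingHom.OfLocalizationSpanTarget @FTDRingHom := by
  rw [RingHom.ofLocalizationSpanTarget_iff_finite]
  intro R S _ _ f s hs H
  letI := f.toAlgebra
  have H' : ∀ r : s, DRing.HasFiniteTorDim R (Localization.Away (r : S)) := by
    intro r
    have := H r
    rw [show (algebraMap S (Localization.Away (r : S))).comp f =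
      algebraMap R (Localization.Away (r : S)) from
      (IsScalarTower.algebraMap_eq R S _).symm] at this
    exact ftdRingHom_algebraMap.1 this
  choose d hd using H'
  obtain ⟨D, hD⟩ := Finite.exists_le d
  have hr : Set.range (fun r : s => (r : S)) = (s : Set S) := by
    ext x
    simp
  exact ⟨D, hasTorDimLE_of_away D (fun r : s => (r : S)) (by rw [hr]; exact hs)
    (fun r => hasTorDimLE_mono (hD r) (hd r))⟩

theorem ftd_isLocal : RingHom.PropertyIsLocal @FTDRingHom :=
  ⟨ftd_localizationAwayPreserves, ftd_ofLocalizationSpanTarget,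
    ftd_ofLocalizationSpanTarget.ofLocalizationSpan
      (ftd_stableUnderComposition.stableUnderCompositionWithLocalizationAway
        ftd_holdsForLocalizationAway).left,
    (ftd_stableUnderComposition.stableUnderCompositionWithLocalizationAway
      ftd_holdsForLocalizationAway).right⟩

theorem ftd_flat_baseChange' {R S R' S' : Type u} [CommRing R] [CommRing S] [CommRing R']
    [CommRing S'] [Algebra R S] [Algebra R R'] [Algebra R S'] [Algebra S S'] [Algebra R' S']
    [IsScalarTower R S S'] [IsScalarTower R R' S'] [Algebra.IsPushout R S R' S']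
    [Module.Flat R R'] (h : FTDRingHom (algebraMap R S)) : FTDRingHom (algebraMap R' S') := by
  rw [ftdRingHom_algebraMap] at h ⊢
  haveI : Algebra.IsPushout R R' S S' := Algebra.IsPushout.symm inferInstance
  obtain ⟨d, hd⟩ := h
  exact ⟨d, hasTorDimLE_of_linearEquiv (Algebra.IsPushout.equiv R R' S S').toLinearEquiv d
    (hasTorDimLE_tensorProduct d hd)⟩

/-- the ring-hom property "perfect" -/
def PerfRingHom {R S : Type u} [CommRing R] [CommRing S] (f : R →+* S) : Prop :=
  PCRingHom f ∧ FTDRingHom f

theorem perfRingHom_isLocal : RingHom.PropertyIsLocal @PerfRingHom :=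
  pcRingHom_isLocal.and ftd_isLocal

theorem perfRingHom_stableUnderComposition : RingHom.StableUnderComposition @PerfRingHom :=
  pcRingHom_stableUnderComposition.and ftd_stableUnderComposition

theorem perfRingHom_holdsForLocalizationAway : RingHom.HoldsForLocalizationAway @PerfRingHom :=
  fun _ S _ _ _ r _ => ⟨pcRingHom_holdsForLocalizationAway S r, ftd_holdsForLocalizationAway S r⟩

end Groth.Agent.Lib.Helper9.PCM
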