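import Mathlib
import Groth.Agent.Lib.Helper9.FlatBC
import Groth.Agent.Lib.Helper9.PerfRingHom
import Groth.Agent.Lib.Helper9.PCMor

/-!
# Perfect morphisms of schemes as a `HasRingHomProperty` (helper9)
-/

set_option autoImplicit false
set_option linter.style.haveILetI false
universe u
open CategoryTheory Opposite TopologicalSpace CategoryTheory.Limits AlgebraicGeometry

namespace Groth.Agent.Lib.Helper9.PCM

/-- perfect morphisms as a morphism property -/
def perfMor : MorphismProperty Scheme.{u} := fun _ _ f => MoreMor.IsPerfectMor f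

lemma perfMor_iff {X Y : Scheme.{u}} (f : X ⟶ Y) : perfMor f ↔ MoreMor.IsPerfectMor f := Iff.rfl

instance perfMor_hasRingHomProperty : HasRingHomProperty perfMor.{u} PerfRingHom where
  isLocal_ringHomProperty := perfRingHom_isLocal
  eq_affineLocally' := by
    ext X Y f
    rw [affineLocally_iff_affineOpens_le]
    constructor
    · intro h U V e
      exact h V.1 U.1 V.2 U.2 e
    · intro h U V hU hV e
      exact h ⟨V, hV⟩ ⟨U, hU⟩ e

lemma perfRingHom_sourceLoc :
    RingHom.StableUnderCompositionWithLocalizationAwaySource @PerfRingHom.{u} :=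
  (perfRingHom_stableUnderComposition.stableUnderCompositionWithLocalizationAway
    perfRingHom_holdsForLocalizationAway).left

instance perfMor_isStableUnderComposition : perfMor.{u}.IsStableUnderComposition :=
  HasRingHomProperty.stableUnderComposition perfRingHom_stableUnderComposition

lemma perfMor_of_isOpenImmersion {X Y : Scheme.{u}} (f : X ⟶ Y) [IsOpenImmersion f] : perfMor f :=
  HasRingHomProperty.of_isOpenImmersion (P := perfMor)
    perfRingHom_holdsForLocalizationAway.containsIdentities

theorem perfMor_iff_exists {X S : Scheme.{u}} (f : X ⟶ S) :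
    perfMor f ↔ ∀ x : X, ∃ (U : S.affineOpens) (V : X.affineOpens) (_ : x ∈ V.1)
      (e : V.1 ≤ f ⁻¹ᵁ U.1), PerfRingHom (f.appLE U V e).hom :=
  HasRingHomProperty.iff_exists_appLE (P := perfMor) perfRingHom_sourceLoc

theorem perfRingHom_flatBaseChangeStable : FlatBaseChangeStable @PerfRingHom.{u} := by
  intro R S R' S' _ _ _ _ _ _ _ _ _ _ _ _ _ h
  exact ⟨pcRingHom_flat_baseChange' h.1, ftd_flat_baseChange' h.2⟩

theorem perfMor_flat_baseChange {X S X' S' : Scheme.{u}} {f : X ⟶ S} {f' : X' ⟶ S'}
    {g' : X' ⟶ X} {g : S' ⟶ S} [Flat g] (hc : IsPullback g' f' f g) (hf : perfMor f) :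
    perfMor f' :=
  flat_baseChange_of_hasRingHomProperty (P := perfMor) perfRingHom_flatBaseChangeStable
    perfRingHom_sourceLoc hc hf

end Groth.Agent.Lib.Helper9.PCM
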