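import Mathlib
import Groth.Prelude.Def_Mor2
import Groth.Agent.Lib.Helper9.PerfMor
import Groth.Agent.Lib.Helper18.DRTri
import Groth.Agent.Lib.Helper18.DRTorB
import Groth.Agent.Lib.Helper18.DRPC3

/-!
# Quotients by regular sequences are perfect (helper9)
-/

set_option autoImplicit false
set_option linter.style.haveILetI false
universe u
open CategoryTheory CategoryTheory.Limits CategoryTheory.Pretriangulated DerivedCategory
open AlgebraicGeometry
open Groth.Agent.Lib.Helper18.DR
open scoped Pointwise

attribute [local instance] HasDerivedCategory.standard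

namespace Groth.Agent.Lib.Helper9.PCM

section regseq

variable (A : Type u) [CommRing A]

/-- pseudo-coherent module with tor amplitude in `[-k, 0]` -/
def PerfModLE (k : ℕ) (M : Type u) [AddCommGroup M] [Module A M] : Prop :=
  DRing.IsPseudoCoherent' A (Dual.inD A M) ∧
    DRing.HasTorAmplitudeIn A (-(k : ℤ)) 0 (Dual.inD A M)

variable {A}

lemma PerfModLE.of_linearEquiv {k : ℕ} {M M' : Type u} [AddCommGroup M] [Module A M]
    [AddCommGroup M'] [Module A M'] (e : M ≃ₗ[A] M') (h : PerfModLE A k M) : PerfModLE A k M' :=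
  ⟨isPseudoCoherent'_of_iso ((singleFunctor (ModuleCat.{u} A) 0).mapIso e.toModuleIso) h.1,
   hasTorAmplitudeIn_of_iso ((singleFunctor (ModuleCat.{u} A) 0).mapIso e.toModuleIso) h.2⟩

lemma PerfModLE.mono {k k' : ℕ} (hk : k ≤ k') {M : Type u} [AddCommGroup M] [Module A M]
    (h : PerfModLE A k M) : PerfModLE A k' M :=
  ⟨h.1, hasTorAmplitudeIn_mono h.2 (by omega) le_rfl⟩

/-- `0 → M --r--> M → M/rM → 0` -/
noncomputable def smulSC (r : A) (M : Type u) [AddCommGroup M] [Module A M] :
    ShortComplex (ModuleCat.{u} A) :=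
  ShortComplex.mk (ModuleCat.ofHom (LinearMap.lsmul A M r))
    (ModuleCat.ofHom (Submodule.mkQ (r • ⊤ : Submodule A M))) (by
      ext x
      exact (Submodule.Quotient.mk_eq_zero _).2
        (Submodule.smul_mem_pointwise_smul x r ⊤ Submodule.mem_top))

lemma smulSC_f_apply (r : A) (M : Type u) [AddCommGroup M] [Module A M] (x : M) :
    (smulSC r M).f x = r • x := rfl

lemma smulSC_g_apply (r : A) (M : Type u) [AddCommGroup M] [Module A M] (x : M) :
    (smulSC r M).g x = Submodule.Quotient.mk x := rfl

lemma smulSC_shortExact (r : A) (M : Type u) [AddCommGroup M] [Module A M]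
    (hr : IsSMulRegular M r) : (smulSC r M).ShortExact := by
  apply ModuleCat.shortComplex_shortExact
  · intro (y : M)
    constructor
    · intro hy
      rw [smulSC_g_apply] at hy
      have h1 : y ∈ (r • ⊤ : Submodule A M) := (Submodule.Quotient.mk_eq_zero _).1 hy
      obtain ⟨b, -, hb⟩ := (Submodule.mem_smul_pointwise_iff_exists _ _ _).1 h1
      exact ⟨b, hb⟩
    · rintro ⟨(b : M), rfl⟩
      rw [smulSC_f_apply, smulSC_g_apply]
      exact (Submodule.Quotient.mk_eq_zero _).2
        (Submodule.smul_mem_pointwise_smul b r ⊤ Submodule.mem_top)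
  · intro (p : M) (q : M) h
    exact hr h
  · intro (y : M ⧸ (r • ⊤ : Submodule A M))
    obtain ⟨p, rfl⟩ := Submodule.Quotient.mk_surjective _ y
    exact ⟨p, rfl⟩

lemma PerfModLE.quotSMulTop {k : ℕ} {M : Type u} [AddCommGroup M] [Module A M] (r : A)
    (hr : IsSMulRegular M r) (h : PerfModLE A k M) : PerfModLE A (k + 1) (QuotSMulTop r M) := by
  have hT := (smulSC_shortExact r M hr).singleTriangle_distinguished
  refine ⟨isPseudoCoherent'_obj₃ _ hT h.1 h.1, ?_⟩
  exact hasTorAmplitudeIn_obj₃ _ hT (-((k + 1 : ℕ) : ℤ)) 0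
    (hasTorAmplitudeIn_mono h.2 (by push_cast; omega) (by omega))
    (hasTorAmplitudeIn_mono h.2 (by push_cast; omega) le_rfl)

theorem PerfModLE.quot_of_isWeaklyRegular (rs : List A) :
    ∀ {M : Type u} [AddCommGroup M] [Module A M] (k : ℕ),
      RingTheory.Sequence.IsWeaklyRegular M rs → PerfModLE A k M →
      PerfModLE A (k + rs.length) (M ⧸ (Ideal.ofList rs • ⊤ : Submodule A M)) := by
  induction rs with
  | nil =>
    intro M _ _ k _ h
    have e : (M ⧸ (Ideal.ofList ([] : List A) • ⊤ : Submodule A M)) ≃ₗ[A] M :=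
      Submodule.quotEquivOfEqBot _ (by rw [Ideal.ofList_nil, Submodule.bot_smul])
    exact (h.of_linearEquiv e.symm).mono (by simp)
  | cons r rs ih =>
    intro M _ _ k hreg h
    rw [RingTheory.Sequence.isWeaklyRegular_cons_iff] at hreg
    have h1 := h.quotSMulTop r hreg.1
    have h2 := ih (k + 1) hreg.2 h1
    have e := Submodule.quotOfListConsSMulTopEquivQuotSMulTopInner M r rs
    exact (h2.of_linearEquiv e.symm).mono (by simp; omega)

lemma perfModLE_self : PerfModLE A 0 A := by
  constructor
  · rw [← isPseudoCoherent'_iff_forall]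
    intro m
    haveI : Module.Finite A (ModuleCat.of A A) := inferInstanceAs (Module.Finite A A)
    haveI : Module.Free A (ModuleCat.of A A) := inferInstanceAs (Module.Free A A)
    exact isPseudoCoherent_Sg 0 (ModuleCat.of A A) m
  · exact (hasTorDimLE_iff_hasTorAmplitudeIn_single A A 0).1.1 (hasTorDimLE_zero_of_flat A)

end regseq

/-- a surjective ring map making the target a "perfect module" is perfect -/
theorem perfRingHom_of_surjective_of_perfModLE {A B : Type u} [CommRing A] [CommRing B]
    (f : A →+* B) (hf : Function.Surjective f) (n : ℕ)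
    (h : @PerfModLE A _ n B _ f.toAlgebra.toModule) : PerfRingHom f := by
  letI := f.toAlgebra
  have hf' : Function.Surjective (algebraMap A B) := hf
  constructor
  · rw [pcRingHom_iff]
    apply PCAlg.of_surjective_pcHom hf'
    intro m
    let l : resM (algebraMap A B) (ModuleCat.of B B) ≃ₗ[A] B :=
      { toFun := fun c => c
        invFun := fun c => c
        map_add' := fun _ _ => rfl
        map_smul' := fun a c => rfl
        left_inv := fun _ => rfl
        right_inv := fun _ => rfl }
    exact isPseudoCoherent_of_iso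
      ((singleFunctor (ModuleCat.{u} A) 0).mapIso l.toModuleIso).symm
      (isPseudoCoherent_of_isPseudoCoherent' h.1 m)
  · exact ⟨n, (hasTorDimLE_iff_hasTorAmplitudeIn_single A B n).1.2 h.2⟩

/-- a surjective ring map whose kernel is generated by a (weakly) regular sequence is perfect -/
theorem perfRingHom_of_surjective_of_ker_eq_ofList {A B : Type u} [CommRing A] [CommRing B]
    (f : A →+* B) (hf : Function.Surjective f) (rs : List A)
    (hreg : RingTheory.Sequence.IsWeaklyRegular A rs) (hker : RingHom.ker f = Ideal.ofList rs) :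
    PerfRingHom f := by
  letI := f.toAlgebra
  have hf' : Function.Surjective (algebraMap A B) := hf
  have h0 := PerfModLE.quot_of_isWeaklyRegular rs 0 hreg perfModLE_self
  have hk : (Ideal.ofList rs • ⊤ : Submodule A A) = LinearMap.ker (Algebra.linearMap A B) := by
    have h1 : (Ideal.ofList rs • ⊤ : Submodule A A) = Ideal.ofList rs := by
      show Ideal.ofList rs • (⊤ : Ideal A) = Ideal.ofList rs
      rw [smul_eq_mul, Ideal.mul_top]
    rw [h1, ← hker]
    ext x
    rw [RingHom.mem_ker, LinearMap.mem_ker]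
    rfl
  let e : (A ⧸ (Ideal.ofList rs • ⊤ : Submodule A A)) ≃ₗ[A] B :=
    (Submodule.quotEquivOfEq _ _ hk) ≪≫ₗ
      (LinearMap.quotKerEquivOfSurjective (Algebra.linearMap A B) hf')
  exact perfRingHom_of_surjective_of_perfModLE f hf (0 + rs.length) (h0.of_linearEquiv e)

/-- regular closed immersions are perfect -/
theorem perfMor_of_isRegularClosedImmersion {Z X : Scheme.{u}} (i : Z ⟶ X)
    (hi : Mor2.IsRegularClosedImmersion i) : perfMor i := by
  obtain ⟨hci, h⟩ := hi
  haveI := hci
  rw [perfMor_iff_exists]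
  intro z
  obtain ⟨U, hU, hzU, rs, hreg, hker⟩ := h z
  refine ⟨⟨U, hU⟩, ⟨i ⁻¹ᵁ U, hU.preimage i⟩, hzU, le_rfl, ?_⟩
  have e : i.appLE U (i ⁻¹ᵁ U) le_rfl = i.app U := Scheme.Hom.appLE_eq_app i
  show PerfRingHom (i.appLE U (i ⁻¹ᵁ U) le_rfl).hom
  rw [e]
  apply perfRingHom_of_surjective_of_ker_eq_ofList _ (i.app_surjective U hU) rs
    hreg.toIsWeaklyRegular
  rw [← hker, Scheme.Hom.ker_apply]

end Groth.Agent.Lib.Helper9.PCM
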