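import Mathlib
import Groth.Prelude.Def_LCI2
import Groth.Agent.Lib.Helper9.PerfReg
import Groth.Agent.Lib.Helper1.KoszulConcat

/-!
# Koszul-regular quotients and lci ring maps are perfect (helper9)
-/

set_option autoImplicit false
set_option linter.style.haveILetI false
universe u
open CategoryTheory CategoryTheory.Limits CategoryTheory.Pretriangulated DerivedCategory
open AlgebraicGeometry
open Groth.Agent.Lib.Helper18.DR

attribute [local instance] HasDerivedCategory.standard

namespace Groth.Agent.Lib.Helper9.PCM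

section koszul

variable {A : Type u} [CommRing A]

lemma koszul_nil : Koszul.koszul A [] =
    (CochainComplex.singleFunctor (ModuleCat.{u} A) 0).obj (ModuleCat.of A A) := rfl

lemma koszul_cons (f : A) (l : List A) :
    Koszul.koszul A (f :: l) = CochainComplex.mappingCone (f • 𝟙 (Koszul.koszul A l)) := rfl

lemma koszul_termwiseFiniteFree (l : List A) : DRing.TermwiseFiniteFree (Koszul.koszul A l) := by
  induction l with
  | nil =>
    haveI : Module.Finite A (ModuleCat.of A A) := inferInstanceAs (Module.Finite A A)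
    haveI : Module.Free A (ModuleCat.of A A) := inferInstanceAs (Module.Free A A)
    rw [koszul_nil]
    exact termwiseFiniteFree_single 0 (ModuleCat.of A A)
  | cons f l ih =>
    rw [koszul_cons]
    exact termwiseFiniteFree_cone _ ih ih

lemma koszul_vanishesOutside (l : List A) :
    DRing.VanishesOutside (Koszul.koszul A l) (-(l.length : ℤ)) 0 := by
  induction l with
  | nil =>
    rw [koszul_nil]
    have := vanishesOutside_single (R := A) 0 (ModuleCat.of A A)
    exact VanishesOutside.mono this (by simp) le_rfl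
  | cons f l ih =>
    rw [koszul_cons]
    apply vanishesOutside_cone
    · exact VanishesOutside.mono ih (by simp only [List.length_cons]; push_cast; omega) (by omega)
    · exact VanishesOutside.mono ih (by simp only [List.length_cons]; push_cast; omega) le_rfl

lemma koszul_toD_iso (l : List A) (hl : LCI.IsKoszulRegularSeq A l) :
    Nonempty (DRing.toD (Koszul.koszul A l) ≅ Dual.inD A (A ⧸ Ideal.ofList l)) := by
  have hz : ∀ i : ℤ, i ≠ 0 → IsZero ((DerivedCategory.homologyFunctor (ModuleCat.{u} A) i).obj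
      (DRing.toD (Koszul.koszul A l))) := fun i hi =>
    (hl i hi).of_iso
      ((DerivedCategory.homologyFunctorFactors (ModuleCat.{u} A) i).app (Koszul.koszul A l))
  haveI : (DRing.toD (Koszul.koszul A l)).IsGE 0 :=
    (DerivedCategory.isGE_iff _ _).2 (fun i hi => hz i (by omega))
  haveI : (DRing.toD (Koszul.koszul A l)).IsLE 0 :=
    (DerivedCategory.isLE_iff _ _).2 (fun i hi => hz i (by omega))
  obtain ⟨Y, ⟨e⟩⟩ := DerivedCategory.exists_iso_singleFunctor_obj_of_isGE_of_isLE
    (DRing.toD (Koszul.koszul A l)) 0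
  have e1 : (Koszul.koszul A l).homology 0 ≅ Y :=
    ((DerivedCategory.homologyFunctorFactors (ModuleCat.{u} A) 0).app (Koszul.koszul A l)).symm ≪≫
      (DerivedCategory.homologyFunctor (ModuleCat.{u} A) 0).mapIso e ≪≫ HSg 0 Y
  obtain ⟨e2⟩ := Groth.Agent.Lib.Helper1.KoszulConcat.nonempty_h0_iso l
  rw [← Groth.Agent.Lib.Helper14.KoszulFun.koszul_eq_koszulCx] at e2
  exact ⟨e ≪≫ (DerivedCategory.singleFunctor (ModuleCat.{u} A) 0).mapIso (e1.symm ≪≫ e2.symm)⟩

theorem perfModLE_of_koszulRegular (l : List A) (hl : LCI.IsKoszulRegularSeq A l) :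
    PerfModLE A l.length (A ⧸ Ideal.ofList l) := by
  obtain ⟨e⟩ := koszul_toD_iso l hl
  refine ⟨isPseudoCoherent'_of_iso e ⟨Koszul.koszul A l, 0, VanishesOutside.above (koszul_vanishesOutside l),
      koszul_termwiseFiniteFree l, ⟨Iso.refl _⟩⟩,
    hasTorAmplitudeIn_of_iso e ⟨Koszul.koszul A l, koszul_vanishesOutside l, fun i => ?_,
      ⟨Iso.refl _⟩⟩⟩
  haveI := (koszul_termwiseFiniteFree l i).2
  infer_instance

end koszul

theorem perfRingHom_of_koszulRegular {A B : Type u} [CommRing A] [CommRing B] (f : A →+* B)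
    (hf : Function.Surjective f) (l : List A) (hl : LCI.IsKoszulRegularSeq A l)
    (hker : RingHom.ker f = Ideal.ofList l) : PerfRingHom f := by
  letI := f.toAlgebra
  have hf' : Function.Surjective (algebraMap A B) := hf
  have hk : (Ideal.ofList l : Submodule A A) = LinearMap.ker (Algebra.linearMap A B) := by
    rw [← hker]
    ext x
    rw [RingHom.mem_ker, LinearMap.mem_ker]
    rfl
  let e : (A ⧸ Ideal.ofList l) ≃ₗ[A] B :=
    (Submodule.quotEquivOfEq _ _ hk) ≪≫ₗ
      (LinearMap.quotKerEquivOfSurjective (Algebra.linearMap A B) hf')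
  exact perfRingHom_of_surjective_of_perfModLE f hf l.length
    ((perfModLE_of_koszulRegular l hl).of_linearEquiv e)

lemma awayMap_surjective {R S : Type u} [CommRing R] [CommRing S] (f : R →+* S)
    (hf : Function.Surjective f) (r : R) : Function.Surjective (Localization.awayMap f r) := by
  rw [Localization.awayMap_surjective_iff]
  intro a
  obtain ⟨b, rfl⟩ := hf a
  exact ⟨b, 0, by simp⟩

theorem perfRingHom_of_isKoszulRegularIdeal {P B : Type u} [CommRing P] [CommRing B]
    (φ : P →+* B) (hφ : Function.Surjective φ)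
    (hI : LCI.IsKoszulRegularIdeal (RingHom.ker φ)) : PerfRingHom φ := by
  let s : Set B := {b | PerfRingHom ((algebraMap B (Localization.Away b)).comp φ)}
  have hs : Ideal.span s = ⊤ := by
    by_contra hne
    obtain ⟨𝔪, hmax, hle⟩ := Ideal.exists_le_maximal _ hne
    haveI := hmax.isPrime
    let 𝔭 : PrimeSpectrum P := ⟨𝔪.comap φ, inferInstance⟩
    have hI𝔭 : RingHom.ker φ ≤ 𝔭.asIdeal := fun x hx => by
      show φ x ∈ 𝔪
      rw [RingHom.mem_ker.1 hx]
      exact 𝔪.zero_mem
    obtain ⟨g, hg, l, hl, hmap⟩ := hI 𝔭 hI𝔭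
    have hb : φ g ∈ s := by
      show PerfRingHom ((algebraMap B (Localization.Away (φ g))).comp φ)
      have e : (algebraMap B (Localization.Away (φ g))).comp φ =
          (Localization.awayMap φ g).comp (algebraMap P (Localization.Away g)) :=
        (IsLocalization.map_comp _).symm
      rw [e]
      refine perfRingHom_stableUnderComposition _ _
        (perfRingHom_holdsForLocalizationAway (Localization.Away g) g) ?_
      refine perfRingHom_of_koszulRegular _ (awayMap_surjective φ hφ g) l hl ?_
      show RingHom.ker (Localization.awayMap φ g) = Ideal.span {x | x ∈ l}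
      rw [← hmap]
      exact IsLocalization.ker_map (Localization.Away (φ g)) φ (Submonoid.map_powers φ g)
    exact hg (hle (Ideal.subset_span hb))
  exact perfRingHom_isLocal.ofLocalizationSpanTarget φ s hs (fun r => r.2)

theorem perfRingHom_of_isLCI {A B : Type u} [CommRing A] [CommRing B] (g : A →+* B)
    (h : @LCI.IsLCI A _ B _ g.toAlgebra) : PerfRingHom g := by
  letI := g.toAlgebra
  obtain ⟨-, n, φ, hφ, hI⟩ := h
  have h1 : PerfRingHom (algebraMap A (MvPolynomial (Fin n) A)) :=
    ⟨pcRingHom_algebraMap.2 (PCAlg.mvPolynomial (R := A) n),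
      ftdRingHom_algebraMap.2 ⟨0, hasTorDimLE_zero_of_flat _⟩⟩
  have h2 : PerfRingHom φ.toRingHom := perfRingHom_of_isKoszulRegularIdeal φ.toRingHom hφ hI
  have e : g = φ.toRingHom.comp (algebraMap A (MvPolynomial (Fin n) A)) := by
    ext x
    exact (φ.commutes x).symm
  rw [e]
  exact perfRingHom_stableUnderComposition _ _ h1 h2

theorem finitePresentation_of_isLCI {A B : Type u} [CommRing A] [CommRing B] [Algebra A B]
    (h : LCI.IsLCI A B) : Algebra.FinitePresentation A B := by
  classical
  obtain ⟨-, n, φ, hφ, hI⟩ := h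
  refine Algebra.FinitePresentation.of_surjective hφ ?_
  let t : Set (MvPolynomial (Fin n) A) :=
    {g | ((RingHom.ker φ.toRingHom).map (algebraMap _ (Localization.Away g))).FG}
  have ht : Ideal.span t = ⊤ := by
    by_contra hne
    obtain ⟨𝔪, hmax, hle⟩ := Ideal.exists_le_maximal _ hne
    by_cases hI𝔪 : RingHom.ker φ.toRingHom ≤ 𝔪
    · obtain ⟨g, hg, l, -, hmap⟩ := hI ⟨𝔪, hmax.isPrime⟩ hI𝔪
      apply hg
      apply hle
      apply Ideal.subset_span
      show ((RingHom.ker φ.toRingHom).map _).FG
      rw [hmap]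
      exact ⟨l.toFinset, by rw [List.coe_toFinset]⟩
    · obtain ⟨g, hgI, hg𝔪⟩ := SetLike.not_le_iff_exists.1 hI𝔪
      apply hg𝔪
      apply hle
      apply Ideal.subset_span
      show ((RingHom.ker φ.toRingHom).map _).FG
      have : (RingHom.ker φ.toRingHom).map (algebraMap _ (Localization.Away g)) = ⊤ :=
        Ideal.eq_top_of_isUnit_mem _ (Ideal.mem_map_of_mem _ hgI)
          (IsLocalization.Away.algebraMap_isUnit g)
      rw [this]
      refine ⟨{1}, ?_⟩
      show Ideal.span _ = ⊤
      rw [Finset.coe_singleton, Ideal.span_singleton_one]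
  exact Ideal.fg_of_localizationSpan t ht (fun g => g.2)

/-- lci morphisms are locally of finite presentation, pseudo-coherent and perfect -/
theorem lci_mor {X S : Scheme.{u}} (f : X ⟶ S)
    (hf : (∀ (U : X.Opens) (V : S.Opens) (hU : IsAffineOpen U) (hV : IsAffineOpen V)
        (hUV : U ≤ f ⁻¹ᵁ V),
        letI := (f.appLE V U hUV).hom.toAlgebra
        LCI.IsLCI Γ(S, V) Γ(X, U))) :
    LocallyOfFinitePresentation f ∧ MoreMor.IsPseudoCoherentMor f ∧ MoreMor.IsPerfectMor f := by
  have hperf : MoreMor.IsPerfectMor f := fun U V hU hV hUV =>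
    perfRingHom_of_isLCI _ (hf U V hU hV hUV)
  refine ⟨?_, fun U V hU hV hUV => (hperf U V hU hV hUV).1, hperf⟩
  rw [HasRingHomProperty.iff_appLE (P := @LocallyOfFinitePresentation)]
  intro U V e
  exact @finitePresentation_of_isLCI _ _ _ _ (f.appLE U.1 V.1 e).hom.toAlgebra (hf V.1 U.1 V.2 U.2 e)

end Groth.Agent.Lib.Helper9.PCM
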