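import Mathlib

/-!
# Definitions for D12 (helper18, S12265): the local ring of a `k`-scheme at a rational point
-/

set_option autoImplicit false
set_option linter.style.haveILetI false
universe u
open CategoryTheory CategoryTheory.Limits AlgebraicGeometry

namespace Groth.Agent.Lib.Helper9.HilbD12Defs

variable {k : Type u} [Field k] {Hs : Scheme.{u}} (ϖ : Hs ⟶ Spec (CommRingCat.of k))
  (h₀ : Spec (CommRingCat.of k) ⟶ Hs)

/-- the residue map `𝒪_{H,p} ⟶ k` of the rational point `h₀`, `p = h₀(pt)` -/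
noncomputable def resRing :
    Hs.presheaf.stalk (h₀.base (IsLocalRing.closedPoint k)) ⟶ CommRingCat.of k :=
  Scheme.stalkClosedPointTo h₀

/-- the structure map `k ⟶ 𝒪_{H,p}` -/
noncomputable def algRing :
    CommRingCat.of k ⟶ Hs.presheaf.stalk (h₀.base (IsLocalRing.closedPoint k)) :=
  (Scheme.ΓSpecIso (CommRingCat.of k)).inv ≫ ϖ.appTop ≫
    Hs.presheaf.germ ⊤ (h₀.base (IsLocalRing.closedPoint k)) trivial

/-- the morphism `Spec A ⟶ H` attached to `φ : 𝒪_{H,p} ⟶ A` -/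
noncomputable def gOf {A : CommRingCat.{u}}
    (φ : Hs.presheaf.stalk (h₀.base (IsLocalRing.closedPoint k)) ⟶ A) : Spec A ⟶ Hs :=
  Spec.map φ ≫ Hs.fromSpecStalk (h₀.base (IsLocalRing.closedPoint k))

/-- Q3 -/
theorem res_gOf {A : CommRingCat.{u}}
    (φ : Hs.presheaf.stalk (h₀.base (IsLocalRing.closedPoint k)) ⟶ A) (ρ : A ⟶ CommRingCat.of k)
    (hρ : φ ≫ ρ = resRing h₀) : Spec.map ρ ≫ gOf h₀ φ = h₀ := by
  unfold gOf
  rw [← Category.assoc, ← Spec.map_comp, hρ]
  exact Scheme.Spec_stalkClosedPointTo_fromSpecStalk h₀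

/-- Q5 -/
theorem gOf_injective {A : CommRingCat.{u}}
    (φ₁ φ₂ : Hs.presheaf.stalk (h₀.base (IsLocalRing.closedPoint k)) ⟶ A)
    (h : gOf h₀ φ₁ = gOf h₀ φ₂) : φ₁ = φ₂ := by
  unfold gOf at h
  haveI : Mono (Hs.fromSpecStalk (h₀.base (IsLocalRing.closedPoint k))) := inferInstance
  exact Spec.map_injective ((cancel_mono _).mp h)

end Groth.Agent.Lib.Helper9.HilbD12Defs
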