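import Mathlib
import Groth.Agent.Lib.Helper9.RegLocal
import Groth.Agent.Lib.Helper9.QuasiReg

/-!
# The discrete valuation ring of the `J`-adic order (helper9)

For a domain `A` and an ideal `J` whose adic order is multiplicative (`Hyp J`), the set `V J H` of
fractions `a/b` with `ord a ≥ ord b` is a subalgebra of `Frac A`; it is a local ring whose maximal
ideal contracts to `J`, a discrete valuation ring as soon as some element has order exactly one, and
has fraction field `Frac A`.

For a regular local ring the maximal ideal satisfies `Hyp` (`hyp_maximalIdeal`), via quasi-regularity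
of a regular system of parameters (`exists_params`).
-/

set_option autoImplicit false
universe u

namespace Groth.Agent.Lib.Helper9.OrdVal

section defs

variable {A : Type u} [CommRing A] (J : Ideal A)

/-- `b` has `J`-adic order exactly `m`. -/
def ExactOrd (m : ℕ) (b : A) : Prop := b ∈ J ^ m ∧ b ∉ J ^ (m + 1)

/-- The `J`-adic order is a (discrete) valuation. -/
structure Hyp : Prop where
  mul : ∀ {m m' : ℕ} {b b' : A}, ExactOrd J m b → ExactOrd J m' b' → ExactOrd J (m + m') (b * b')
  ne_top : J ≠ ⊤
  krull : ∀ a : A, a ≠ 0 → ∃ m, a ∉ J ^ m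

variable {J}

lemma ExactOrd.ne_zero {m : ℕ} {b : A} (h : ExactOrd J m b) : b ≠ 0 := by
  rintro rfl
  exact h.2 (zero_mem _)

lemma exactOrd_one (H : Hyp J) : ExactOrd J 0 (1 : A) := by
  refine ⟨by rw [pow_zero, Ideal.one_eq_top]; trivial, ?_⟩
  rw [zero_add, pow_one]
  exact fun h => H.ne_top ((Ideal.eq_top_iff_one J).mpr h)

lemma exactOrd_pow (H : Hyp J) {x0 : A} (hx : ExactOrd J 1 x0) :
    ∀ k : ℕ, ExactOrd J k (x0 ^ k) := by
  intro k
  induction k with
  | zero => rw [pow_zero]; exact exactOrd_one H
  | succ k ih => rw [pow_succ]; exact H.mul ih hx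

lemma exists_exactOrd (H : Hyp J) {a : A} (ha : a ≠ 0) {m : ℕ} (ham : a ∈ J ^ m) :
    ∃ k, ExactOrd J (m + k) a := by
  classical
  have hex := H.krull a ha
  have hlt : m < Nat.find hex := by
    by_contra hle
    push_neg at hle
    exact Nat.find_spec hex (Ideal.pow_le_pow_right hle ham)
  obtain ⟨k, hk⟩ := Nat.exists_eq_add_of_lt hlt
  refine ⟨k, ?_, ?_⟩
  · by_contra h
    have := Nat.find_min' hex h
    omega
  · have := Nat.find_spec hex
    rw [hk] at this
    exact this

lemma mul_mem_pow {i j k : ℕ} {a b : A} (ha : a ∈ J ^ i) (hb : b ∈ J ^ j) (h : i + j = k) :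
    a * b ∈ J ^ k := by
  subst h
  rw [pow_add]
  exact Ideal.mul_mem_mul ha hb

end defs

section V

variable {A : Type u} [CommRing A] [IsDomain A] (J : Ideal A)

/-- `z = a/b` with `ord a ≥ ord b`. -/
def Big (z : FractionRing A) : Prop :=
  ∃ (m : ℕ) (a b : A), a ∈ J ^ m ∧ ExactOrd J m b ∧
    z * algebraMap A (FractionRing A) b = algebraMap A (FractionRing A) a

/-- `z = a/b` with `ord a > ord b`. -/
def Small (z : FractionRing A) : Prop :=
  ∃ (m : ℕ) (a b : A), a ∈ J ^ (m + 1) ∧ ExactOrd J m b ∧
    z * algebraMap A (FractionRing A) b = algebraMap A (FractionRing A) a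

variable {J}

lemma Small.big {z : FractionRing A} (h : Small J z) : Big J z := by
  obtain ⟨m, a, b, ha, hb, h⟩ := h
  exact ⟨m, a, b, Ideal.pow_le_pow_right (Nat.le_succ m) ha, hb, h⟩

lemma wd (H : Hyp J) {z : FractionRing A} (hz : Small J z) {m : ℕ} {a b : A} (ha : a ∈ J ^ m)
    (hb : ExactOrd J m b)
    (h : z * algebraMap A (FractionRing A) b = algebraMap A (FractionRing A) a) :
    a ∈ J ^ (m + 1) := by
  obtain ⟨m', a', b', ha', hb', h'⟩ := hz
  by_contra hna
  have hE : ExactOrd J (m + m') (a * b') := H.mul ⟨ha, hna⟩ hb'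
  have heq : a * b' = a' * b := by
    apply IsFractionRing.injective A (FractionRing A)
    rw [map_mul, map_mul, ← h, ← h']
    ring
  apply hE.2
  rw [heq]
  exact mul_mem_pow ha' hb.1 (by omega)

lemma big_algebraMap (H : Hyp J) (c : A) : Big J (algebraMap A (FractionRing A) c) :=
  ⟨0, c, 1, by rw [pow_zero, Ideal.one_eq_top]; trivial, exactOrd_one H, by rw [map_one, mul_one]⟩

lemma big_mul (H : Hyp J) {z z' : FractionRing A} (hz : Big J z) (hz' : Big J z') :
    Big J (z * z') := by
  obtain ⟨m, a, b, ha, hb, h⟩ := hz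
  obtain ⟨m', a', b', ha', hb', h'⟩ := hz'
  refine ⟨m + m', a * a', b * b', mul_mem_pow ha ha' rfl, H.mul hb hb', ?_⟩
  rw [map_mul, map_mul, ← h, ← h']
  ring

lemma big_add (H : Hyp J) {z z' : FractionRing A} (hz : Big J z) (hz' : Big J z') :
    Big J (z + z') := by
  obtain ⟨m, a, b, ha, hb, h⟩ := hz
  obtain ⟨m', a', b', ha', hb', h'⟩ := hz'
  refine ⟨m + m', a * b' + a' * b, b * b', ?_, H.mul hb hb', ?_⟩
  · exact add_mem (mul_mem_pow ha hb'.1 rfl) (mul_mem_pow ha' hb.1 (by omega))
  · rw [map_add, map_mul, map_mul, map_mul, ← h, ← h']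
    ring

lemma small_add (H : Hyp J) {z z' : FractionRing A} (hz : Small J z) (hz' : Small J z') :
    Small J (z + z') := by
  obtain ⟨m, a, b, ha, hb, h⟩ := hz
  obtain ⟨m', a', b', ha', hb', h'⟩ := hz'
  refine ⟨m + m', a * b' + a' * b, b * b', ?_, H.mul hb hb', ?_⟩
  · exact add_mem (mul_mem_pow ha hb'.1 (by omega)) (mul_mem_pow ha' hb.1 (by omega))
  · rw [map_add, map_mul, map_mul, map_mul, ← h, ← h']
    ring

variable (J) in
/-- The valuation ring of the `J`-adic order. -/
def V (H : Hyp J) : Subalgebra A (FractionRing A) where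
  carrier := {z | Big J z}
  mul_mem' := fun hz hz' => big_mul H hz hz'
  add_mem' := fun hz hz' => big_add H hz hz'
  algebraMap_mem' := fun c => big_algebraMap H c
  one_mem' := by
    have := big_algebraMap H (1 : A)
    rwa [map_one] at this
  zero_mem' := by
    have := big_algebraMap H (0 : A)
    rwa [map_zero] at this

lemma mem_V (H : Hyp J) {z : FractionRing A} : z ∈ V J H ↔ Big J z := Iff.rfl

lemma isUnit_iff (H : Hyp J) (z : V J H) : IsUnit z ↔ ¬ Small J (z : FractionRing A) := by
  constructor
  · rintro hu hs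
    obtain ⟨w, hw⟩ := isUnit_iff_exists_inv.mp hu
    obtain ⟨m, a, b, ha, hb, h⟩ := hs
    obtain ⟨m', a', b', ha', hb', h'⟩ := (w.2 : Big J (w : FractionRing A))
    have hzw : (z : FractionRing A) * (w : FractionRing A) = 1 := by
      have h1 : ((z * w : V J H) : FractionRing A) = ((1 : V J H) : FractionRing A) :=
        congrArg Subtype.val hw
      rwa [Subalgebra.coe_mul, Subalgebra.coe_one] at h1
    have heq : b * b' = a * a' := by
      apply IsFractionRing.injective A (FractionRing A)
      rw [map_mul, map_mul, ← h, ← h']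
      calc algebraMap A (FractionRing A) b * algebraMap A (FractionRing A) b'
          = ((z : FractionRing A) * (w : FractionRing A)) *
              (algebraMap A (FractionRing A) b * algebraMap A (FractionRing A) b') := by
            rw [hzw, one_mul]
        _ = _ := by ring
    have hE := H.mul hb hb'
    apply hE.2
    rw [heq]
    exact mul_mem_pow ha ha' (by omega)
  · intro hns
    obtain ⟨m, a, b, ha, hb, h⟩ := (z.2 : Big J (z : FractionRing A))
    have hna : a ∉ J ^ (m + 1) := fun ha' => hns ⟨m, a, b, ha', hb, h⟩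
    have hE : ExactOrd J m a := ⟨ha, hna⟩
    have ha0 : algebraMap A (FractionRing A) a ≠ 0 :=
      (map_ne_zero_iff _ (IsFractionRing.injective A (FractionRing A))).mpr hE.ne_zero
    have hz0 : (z : FractionRing A) ≠ 0 := by
      intro h0
      rw [h0, zero_mul] at h
      exact ha0 h.symm
    have hinv : Big J ((z : FractionRing A)⁻¹) := ⟨m, b, a, hb.1, hE, by
      rw [← h, inv_mul_cancel_left₀ hz0]⟩
    rw [isUnit_iff_exists_inv]
    refine ⟨⟨(z : FractionRing A)⁻¹, hinv⟩, ?_⟩
    apply Subtype.ext
    rw [Subalgebra.coe_mul, Subalgebra.coe_one]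
    exact mul_inv_cancel₀ hz0

theorem isLocalRing (H : Hyp J) : IsLocalRing (V J H) := by
  apply IsLocalRing.of_nonunits_add
  intro a b ha hb
  rw [mem_nonunits_iff, isUnit_iff, not_not] at ha hb ⊢
  rw [Subalgebra.coe_add]
  exact small_add H ha hb

lemma mem_maximalIdeal_iff (H : Hyp J) [IsLocalRing (V J H)] (z : V J H) :
    z ∈ IsLocalRing.maximalIdeal (V J H) ↔ Small J (z : FractionRing A) := by
  rw [IsLocalRing.mem_maximalIdeal, mem_nonunits_iff, isUnit_iff, not_not]

theorem comap_maximalIdeal (H : Hyp J) [IsLocalRing (V J H)] :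
    (IsLocalRing.maximalIdeal (V J H)).comap (algebraMap A (V J H)) = J := by
  ext a
  rw [Ideal.mem_comap, mem_maximalIdeal_iff, Subalgebra.coe_algebraMap]
  constructor
  · intro hs
    have := wd H hs (m := 0) (a := a) (b := 1) (by rw [pow_zero, Ideal.one_eq_top]; trivial)
      (exactOrd_one H) (by rw [map_one, mul_one])
    rwa [zero_add, pow_one] at this
  · intro ha
    exact ⟨0, a, 1, by rw [zero_add, pow_one]; exact ha, exactOrd_one H, by rw [map_one, mul_one]⟩

lemma big_div_pow (H : Hyp J) {x0 : A} (hx : ExactOrd J 1 x0) {m : ℕ} {a : A} (ha : a ∈ J ^ m) :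
    Big J (algebraMap A (FractionRing A) a / (algebraMap A (FractionRing A) x0) ^ m) := by
  have hx0 : algebraMap A (FractionRing A) x0 ≠ 0 :=
    (map_ne_zero_iff _ (IsFractionRing.injective A (FractionRing A))).mpr hx.ne_zero
  exact ⟨m, a, x0 ^ m, ha, exactOrd_pow H hx m, by
    rw [map_pow, div_mul_cancel₀ _ (pow_ne_zero m hx0)]⟩

theorem isDVR (H : Hyp J) {x0 : A} (hx : ExactOrd J 1 x0) :
    IsDiscreteValuationRing (V J H) := by
  apply IsDiscreteValuationRing.ofHasUnitMulPowIrreducibleFactorization
  have hx0 : algebraMap A (FractionRing A) x0 ≠ 0 :=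
    (map_ne_zero_iff _ (IsFractionRing.injective A (FractionRing A))).mpr hx.ne_zero
  have hp : ((algebraMap A (V J H) x0 : V J H) : FractionRing A) =
      algebraMap A (FractionRing A) x0 := Subalgebra.coe_algebraMap _ _
  have hpsmall : Small J ((algebraMap A (V J H) x0 : V J H) : FractionRing A) :=
    ⟨0, x0, 1, by rw [zero_add]; exact hx.1, exactOrd_one H, by rw [hp, map_one, mul_one]⟩
  refine ⟨algebraMap A (V J H) x0, ⟨?_, ?_⟩, ?_⟩
  · rw [isUnit_iff, not_not]
    exact hpsmall
  · intro y z hyz
    by_contra hcon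
    push_neg at hcon
    obtain ⟨hy, hz⟩ := hcon
    rw [isUnit_iff, not_not] at hy hz
    obtain ⟨m1, a1, b1, ha1, hb1, h1⟩ := hy
    obtain ⟨m2, a2, b2, ha2, hb2, h2⟩ := hz
    have hyz' : algebraMap A (FractionRing A) x0 =
        (y : FractionRing A) * (z : FractionRing A) := by
      rw [← hp, hyz, Subalgebra.coe_mul]
    have heq : x0 * (b1 * b2) = a1 * a2 := by
      apply IsFractionRing.injective A (FractionRing A)
      rw [map_mul, map_mul, map_mul, hyz', ← h1, ← h2]
      ring
    have hE := H.mul hx (H.mul hb1 hb2)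
    apply hE.2
    rw [heq]
    exact mul_mem_pow ha1 ha2 (by omega)
  · intro z hz
    obtain ⟨m, a, b, ha, hb, h⟩ := (z.2 : Big J (z : FractionRing A))
    have hz0 : (z : FractionRing A) ≠ 0 := fun h0 => hz (Subtype.ext h0)
    have hb0 : algebraMap A (FractionRing A) b ≠ 0 :=
      (map_ne_zero_iff _ (IsFractionRing.injective A (FractionRing A))).mpr hb.ne_zero
    have ha0 : a ≠ 0 := by
      rintro rfl
      rw [map_zero] at h
      exact (mul_ne_zero hz0 hb0) h
    obtain ⟨k, hk⟩ := exists_exactOrd H ha0 ha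
    have hEb : ExactOrd J (m + k) (b * x0 ^ k) := H.mul hb (exactOrd_pow H hx k)
    have hrel : (z : FractionRing A) / (algebraMap A (FractionRing A) x0) ^ k *
        algebraMap A (FractionRing A) (b * x0 ^ k) = algebraMap A (FractionRing A) a := by
      rw [map_mul, map_pow, ← h]
      field_simp
    have hbig : Big J ((z : FractionRing A) / (algebraMap A (FractionRing A) x0) ^ k) :=
      ⟨m + k, a, b * x0 ^ k, hk.1, hEb, hrel⟩
    have hu : IsUnit (⟨(z : FractionRing A) / (algebraMap A (FractionRing A) x0) ^ k, hbig⟩ :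
        V J H) := by
      rw [isUnit_iff]
      intro hs
      exact hk.2 (wd H hs hk.1 hEb hrel)
    refine ⟨k, hu.unit, ?_⟩
    rw [IsUnit.unit_spec]
    apply Subtype.ext
    rw [Subalgebra.coe_mul, Subalgebra.coe_pow, hp]
    show (algebraMap A (FractionRing A) x0) ^ k *
      ((z : FractionRing A) / (algebraMap A (FractionRing A) x0) ^ k) = z
    field_simp

theorem isFractionRing (H : Hyp J) : IsFractionRing (V J H) (FractionRing A) := by
  haveI : FaithfulSMul (V J H) (FractionRing A) :=
    (faithfulSMul_iff_algebraMap_injective _ _).mpr Subtype.val_injective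
  apply IsFractionRing.of_field
  intro z
  obtain ⟨a, b, _, rfl⟩ := IsFractionRing.div_surjective (A := A) z
  exact ⟨algebraMap A (V J H) a, algebraMap A (V J H) b, rfl⟩

end V

section regular

open IsLocalRing

/-- A regular system of parameters is a regular sequence (elementary form). -/
theorem myReg_of_linearIndependent (A : Type u) [CommRing A] [IsRegularLocalRing A] :
    ∀ (r : ℕ) (x : Fin r → maximalIdeal A),
      LinearIndependent (ResidueField A) (fun i => (maximalIdeal A).toCotangent (x i)) →
      QuasiReg.MyReg r (fun i => (x i : A)) := by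
  intro r
  induction r with
  | zero => intro x _; trivial
  | succ r ih =>
    intro x hx
    have hx' : LinearIndependent (ResidueField A)
        (fun i : Fin r => (maximalIdeal A).toCotangent (x (Fin.castSucc i))) :=
      hx.comp Fin.castSucc (Fin.castSucc_injective r)
    refine ⟨ih (fun i => x (Fin.castSucc i)) hx', ?_⟩
    intro y hy
    obtain ⟨-, hreg⟩ := RegLocal.quotient_regular A r (fun i => x (Fin.castSucc i)) hx'
    haveI := hreg
    haveI := RegLocal.isDomain_of_isRegularLocalRing
      (A ⧸ Ideal.span (Set.range fun i : Fin r => ((x (Fin.castSucc i) : maximalIdeal A) : A)))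
    have h1 : Ideal.Quotient.mk
        (Ideal.span (Set.range fun i : Fin r => ((x (Fin.castSucc i) : maximalIdeal A) : A)))
        ((x (Fin.last r) : maximalIdeal A) : A) * Ideal.Quotient.mk _ y = 0 := by
      rw [← map_mul, Ideal.Quotient.eq_zero_iff_mem]
      exact hy
    rcases mul_eq_zero.mp h1 with h2 | h2
    · exfalso
      rw [Ideal.Quotient.eq_zero_iff_mem] at h2
      obtain ⟨c, hc⟩ := (Ideal.mem_span_range_iff_exists_fun).mp h2
      have h3 : x (Fin.last r) = ∑ i, c i • x (Fin.castSucc i) := by
        apply Subtype.ext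
        rw [← hc, Submodule.coe_sum]
        rfl
      have h4 : (maximalIdeal A).toCotangent (x (Fin.last r)) ∈
          Submodule.span (ResidueField A)
            ((fun i => (maximalIdeal A).toCotangent (x i)) '' (Set.range Fin.castSucc)) := by
        rw [h3, map_sum]
        refine Submodule.sum_mem _ fun i _ => ?_
        rw [map_smul, ← algebraMap_smul (ResidueField A) (c i)]
        exact Submodule.smul_mem _ _ (Submodule.subset_span ⟨Fin.castSucc i, ⟨i, rfl⟩, rfl⟩)
      refine hx.notMem_span_image (s := Set.range Fin.castSucc) (x := Fin.last r) ?_ h4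
      rintro ⟨i, hi⟩
      exact (Fin.castSucc_lt_last i).ne hi
    · exact Ideal.Quotient.eq_zero_iff_mem.mp h2

/-- A regular system of parameters: generates `𝔪`, is quasi-regular, no member lies in `𝔪²`. -/
theorem exists_params (A : Type u) [CommRing A] [IsRegularLocalRing A] :
    ∃ (d : ℕ) (y : Fin d → A), Ideal.span (Set.range y) = maximalIdeal A ∧ QuasiReg.QR y ∧
      ∀ i, y i ∉ maximalIdeal A ^ 2 := by
  classical
  let b := Module.finBasis (ResidueField A) (CotangentSpace A)
  have hlift : ∀ i, ∃ y : maximalIdeal A, (maximalIdeal A).toCotangent y = b i :=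
    fun i => (maximalIdeal A).toCotangent_surjective (b i)
  choose x hx using hlift
  have hfun : (fun i => (maximalIdeal A).toCotangent (x i)) = b := funext hx
  have hlin : LinearIndependent (ResidueField A) (fun i => (maximalIdeal A).toCotangent (x i)) := by
    rw [hfun]
    exact b.linearIndependent
  refine ⟨_, fun i => (x i : A), ?_, ?_, ?_⟩
  · have h := (RegLocal.span_cotangent_sup_eq_top_iff x (fun e : Empty => e.elim)).mp (by
      rw [hfun, b.span_eq, top_sup_eq])
    rw [Set.range_eq_empty (fun e : Empty => ((e.elim : maximalIdeal A) : A)), Ideal.span_empty,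
      sup_bot_eq] at h
    exact h
  · exact QuasiReg.qr_of_myReg _ _ (myReg_of_linearIndependent A _ x hlin)
  · intro i h
    exact hlin.ne_zero i ((Ideal.toCotangent_eq_zero _ _).mpr h)

/-- Multiplicativity of exact orders from quasi-regularity. -/
lemma exactOrd_mul_of_QR {A : Type u} [CommRing A] {d : ℕ} (x : Fin d → A) (hQR : QuasiReg.QR x)
    [hJ : (Ideal.span (Set.range x)).IsPrime] {m m' : ℕ} {b b' : A}
    (hb : ExactOrd (Ideal.span (Set.range x)) m b)
    (hb' : ExactOrd (Ideal.span (Set.range x)) m' b') :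
    ExactOrd (Ideal.span (Set.range x)) (m + m') (b * b') := by
  obtain ⟨F, hF, rfl⟩ := (Ideal.mem_span_pow_iff_exists_isHomogeneous x b).mp hb.1
  obtain ⟨G, hG, rfl⟩ := (Ideal.mem_span_pow_iff_exists_isHomogeneous x b').mp hb'.1
  have hFn : F ∉ Ideal.map (MvPolynomial.C : A →+* MvPolynomial (Fin d) A)
      (Ideal.span (Set.range x)) := fun h => hb.2 (QuasiReg.eval_mem_pow_succ x hF h)
  have hGn : G ∉ Ideal.map (MvPolynomial.C : A →+* MvPolynomial (Fin d) A)
      (Ideal.span (Set.range x)) := fun h => hb'.2 (QuasiReg.eval_mem_pow_succ x hG h)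
  have hker : ∀ P : MvPolynomial (Fin d) A,
      P ∈ Ideal.map (MvPolynomial.C : A →+* MvPolynomial (Fin d) A) (Ideal.span (Set.range x)) ↔
      MvPolynomial.map (Ideal.Quotient.mk (Ideal.span (Set.range x))) P = 0 := by
    intro P
    rw [← RingHom.mem_ker, MvPolynomial.ker_map, Ideal.mk_ker]
  refine ⟨mul_mem_pow hb.1 hb'.1 rfl, ?_⟩
  intro h
  have h1 : F * G ∈ Ideal.map (MvPolynomial.C : A →+* MvPolynomial (Fin d) A)
      (Ideal.span (Set.range x)) :=
    hQR (m + m') (F * G) (hF.mul hG) (by rw [map_mul]; exact h)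
  rw [hker, map_mul] at h1
  haveI : IsDomain (A ⧸ Ideal.span (Set.range x)) := Ideal.Quotient.isDomain _
  rcases mul_eq_zero.mp h1 with h2 | h2
  · exact hFn ((hker F).mpr h2)
  · exact hGn ((hker G).mpr h2)

/-- The `𝔪`-adic order of a regular local ring is a discrete valuation. -/
theorem hyp_of_params {A : Type u} [CommRing A] [IsLocalRing A] [IsNoetherianRing A] {d : ℕ}
    (y : Fin d → A) (hspan : Ideal.span (Set.range y) = maximalIdeal A) (hQR : QuasiReg.QR y) :
    Hyp (maximalIdeal A) := by
  have key : Hyp (Ideal.span (Set.range y)) := by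
    haveI : (Ideal.span (Set.range y)).IsPrime := by
      rw [hspan]
      infer_instance
    refine ⟨fun hb hb' => exactOrd_mul_of_QR y hQR hb hb', ?_, ?_⟩
    · rw [hspan]
      exact Ideal.IsPrime.ne_top'
    · intro a ha
      by_contra hall
      push_neg at hall
      apply ha
      have h1 : a ∈ ⨅ i, (Ideal.span (Set.range y)) ^ i := by
        rw [Ideal.mem_iInf]
        exact hall
      rw [Ideal.iInf_pow_eq_bot_of_isLocalRing _ (by rw [hspan]; exact Ideal.IsPrime.ne_top')] at h1
      exact h1
  rw [hspan] at key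
  exact key

end regular

end Groth.Agent.Lib.Helper9.OrdVal
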