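import Groth.Agent.Lib.Helper9.GeomLib

/-!
# Base change along field extensions: algebraically closed and purely inseparable cases
-/

namespace Groth.Agent.Lib.Helper9.GeomLib

open TensorProduct Module

universe u

section AlgClosed

variable {k K R : Type u} [Field k] [Field K] [Algebra k K] [CommRing R] [Algebra k R]

theorem exists_fg_subalgebra (x y : K ⊗[k] R) :
    ∃ (A : Subalgebra k K), A.FG ∧
      x ∈ Set.range (Algebra.TensorProduct.map A.val (AlgHom.id k R)) ∧
      y ∈ Set.range (Algebra.TensorProduct.map A.val (AlgHom.id k R)) := by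
  classical
  obtain ⟨s, hs⟩ := exists_finset_range x
  obtain ⟨t, ht⟩ := exists_finset_range y
  refine ⟨Algebra.adjoin k ((s ∪ t : Finset K) : Set K), Subalgebra.fg_adjoin_finset _, ?_, ?_⟩
  · apply hs
    intro z hz
    exact ⟨⟨z, Algebra.subset_adjoin
      (Finset.mem_coe.mpr (Finset.mem_union_left _ (Finset.mem_coe.mp hz)))⟩, rfl⟩
  · apply ht
    intro z hz
    exact ⟨⟨z, Algebra.subset_adjoin
      (Finset.mem_coe.mpr (Finset.mem_union_right _ (Finset.mem_coe.mp hz)))⟩, rfl⟩

variable [IsAlgClosed k]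

theorem noZeroDivisors_tensor_of_isAlgClosed [IsDomain R] : NoZeroDivisors (K ⊗[k] R) := by
  classical
  refine ⟨fun {x y} hxy => ?_⟩
  obtain ⟨A, hfg, ⟨xA, rfl⟩, ⟨yA, rfl⟩⟩ := exists_fg_subalgebra x y
  have hinj := map_injective (R := R) A.val Subtype.val_injective
  have hA0 : xA * yA = 0 := hinj (by rw [map_mul, hxy, map_zero])
  haveI : Algebra.FiniteType k A := ⟨(Subalgebra.fg_top A).mpr hfg⟩
  let b := Module.Free.chooseBasis k R
  let bA := Algebra.TensorProduct.basis A b
  have key : ∀ i i', bA.repr xA i * bA.repr yA i' = 0 := by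
    intro i i'
    by_contra hne
    obtain ⟨φ, hφ⟩ := exists_algHom_ne_zero (k := k) A _ hne
    apply hφ
    have h0 : spec φ xA * spec φ yA = 0 := by rw [← map_mul, hA0, map_zero]
    rw [map_mul]
    rcases mul_eq_zero.mp h0 with h | h
    · have := repr_spec b φ xA i
      rw [h, map_zero, Finsupp.zero_apply] at this
      rw [← this, zero_mul]
    · have := repr_spec b φ yA i'
      rw [h, map_zero, Finsupp.zero_apply] at this
      rw [← this, mul_zero]
  by_cases hx0 : bA.repr xA = 0
  · left
    have : xA = 0 := (LinearEquiv.map_eq_zero_iff _).mp hx0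
    rw [this, map_zero]
  · right
    obtain ⟨i, hi⟩ := Finsupp.ne_iff.mp hx0
    have hy0 : bA.repr yA = 0 :=
      Finsupp.ext fun i' => (mul_eq_zero.mp (key i i')).resolve_left hi
    have : yA = 0 := (LinearEquiv.map_eq_zero_iff _).mp hy0
    rw [this, map_zero]

theorem isDomain_tensor_of_isAlgClosed [IsDomain R] : IsDomain (K ⊗[k] R) := by
  haveI : NoZeroDivisors (K ⊗[k] R) := noZeroDivisors_tensor_of_isAlgClosed
  haveI : Nontrivial (K ⊗[k] R) :=
    Algebra.TensorProduct.nontrivial_of_algebraMap_injective_of_flat_right k K R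
      (algebraMap k K).injective
  exact NoZeroDivisors.to_isDomain _

theorem trivIdem_tensor_of_isAlgClosed (hR : TrivIdem R) : TrivIdem (K ⊗[k] R) := by
  classical
  intro e he
  obtain ⟨A, hfg, ⟨eA, rfl⟩, -⟩ := exists_fg_subalgebra e e
  have hinj := map_injective (R := R) A.val Subtype.val_injective
  have heA : IsIdempotentElem eA := hinj (by rw [map_mul]; exact he)
  haveI : Algebra.FiniteType k A := ⟨(Subalgebra.fg_top A).mpr hfg⟩
  let b := Module.Free.chooseBasis k R
  let bA := Algebra.TensorProduct.basis A b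
  have key : ∀ i i', bA.repr eA i * (bA.repr eA i' - algebraMap k A (b.repr 1 i')) = 0 := by
    intro i i'
    by_contra hne
    obtain ⟨φ, hφ⟩ := exists_algHom_ne_zero (k := k) A _ hne
    apply hφ
    rw [map_mul, map_sub, AlgHom.commutes, ← repr_spec b φ eA i, ← repr_spec b φ eA i']
    rcases hR _ (heA.map (spec φ)) with h | h
    · rw [h]
      simp
    · rw [h]
      simp
  have h1 : bA.repr 1 = Finsupp.mapRange (algebraMap k A) (map_zero _) (b.repr 1) := by
    rw [Algebra.TensorProduct.one_def, Algebra.TensorProduct.basis_repr_tmul, one_smul]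
  by_cases h0 : bA.repr eA = 0
  · left
    have : eA = 0 := (LinearEquiv.map_eq_zero_iff _).mp h0
    rw [this, map_zero]
  · right
    obtain ⟨i, hi⟩ := Finsupp.ne_iff.mp h0
    have h2 : bA.repr eA = bA.repr 1 := by
      refine Finsupp.ext fun i' => ?_
      rw [h1, Finsupp.mapRange_apply]
      exact sub_eq_zero.mp ((mul_eq_zero.mp (key i i')).resolve_left hi)
    have : eA = 1 := bA.repr.injective h2
    rw [this, map_one]

theorem nilradical_isPrime_tensor_of_isAlgClosed (hR : (nilradical R).IsPrime) :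
    (nilradical (K ⊗[k] R)).IsPrime := by
  haveI := hR
  haveI : IsDomain (R ⧸ nilradical R) := Ideal.Quotient.isDomain _
  let g : R →ₐ[k] (R ⧸ nilradical R) := Ideal.Quotient.mkₐ k (nilradical R)
  have hg : Function.Surjective g := Ideal.Quotient.mkₐ_surjective k _
  let G : K ⊗[k] R →ₐ[k] K ⊗[k] (R ⧸ nilradical R) :=
    Algebra.TensorProduct.map (AlgHom.id k K) g
  have hker : RingHom.ker G =
      (RingHom.ker g).map (Algebra.TensorProduct.includeRight : R →ₐ[k] K ⊗[k] R) :=
    Algebra.TensorProduct.lTensor_ker (A := K) g hg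
  haveI : IsDomain (K ⊗[k] (R ⧸ nilradical R)) := isDomain_tensor_of_isAlgClosed
  have hle : RingHom.ker G ≤ nilradical (K ⊗[k] R) := by
    rw [hker, Ideal.map_le_iff_le_comap]
    intro r hr
    have hr' : r ∈ nilradical R := by
      have : g r = 0 := hr
      exact Ideal.Quotient.eq_zero_iff_mem.mp this
    rw [Ideal.mem_comap, mem_nilradical]
    exact (mem_nilradical.mp hr').map _
  have heq : nilradical (K ⊗[k] R) = RingHom.ker G := by
    apply le_antisymm
    · intro x hx
      rw [RingHom.mem_ker]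
      exact ((mem_nilradical.mp hx).map G).eq_zero
    · exact hle
  rw [heq]
  exact RingHom.ker_isPrime G

end AlgClosed

section PurelyInsep

variable {k K R : Type u} [Field k] [Field K] [Algebra k K] [IsPurelyInseparable k K]
  [CommRing R] [Algebra k R]

theorem exists_pow_eq_one_tmul (q : ℕ) [ExpChar k q] (x : K ⊗[k] R) :
    ∃ (n : ℕ) (r : R), x ^ q ^ n = (1 : K) ⊗ₜ[k] r := by
  rcases subsingleton_or_nontrivial (K ⊗[k] R) with hsub | hnt
  · exact ⟨0, 0, Subsingleton.elim _ _⟩
  haveI : ExpChar (K ⊗[k] R) q :=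
    expChar_of_injective_algebraMap (algebraMap k (K ⊗[k] R)).injective q
  induction x using TensorProduct.induction_on with
  | zero => exact ⟨0, 0, by simp⟩
  | tmul a r =>
    obtain ⟨n, c, hc⟩ := IsPurelyInseparable.pow_mem k q a
    refine ⟨n, c • r ^ q ^ n, ?_⟩
    rw [Algebra.TensorProduct.tmul_pow, ← hc, Algebra.algebraMap_eq_smul_one,
      TensorProduct.smul_tmul]
  | add x y hx hy =>
    obtain ⟨n, r, hr⟩ := hx
    obtain ⟨m, s, hs⟩ := hy
    refine ⟨n + m, r ^ q ^ m + s ^ q ^ n, ?_⟩
    rw [add_pow_expChar_pow, TensorProduct.tmul_add]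
    congr 1
    · rw [pow_add, pow_mul, hr, Algebra.TensorProduct.tmul_pow, one_pow]
    · rw [add_comm n m, pow_add, pow_mul, hs, Algebra.TensorProduct.tmul_pow, one_pow]

theorem includeRight_injective' :
    Function.Injective (Algebra.TensorProduct.includeRight : R →ₐ[k] K ⊗[k] R) :=
  Algebra.TensorProduct.includeRight_injective (algebraMap k K).injective

omit [IsPurelyInseparable k K] in
theorem pow_eq_self_of_idem {T : Type*} [Monoid T] {e : T} (he : IsIdempotentElem e) {n : ℕ}
    (hn : 0 < n) : e ^ n = e := by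
  obtain ⟨m, rfl⟩ := Nat.exists_eq_succ_of_ne_zero hn.ne'
  exact he.pow_succ_eq m

theorem trivIdem_tensor_of_isPurelyInseparable (hR : TrivIdem R) : TrivIdem (K ⊗[k] R) := by
  intro e he
  obtain ⟨n, r, hr⟩ := exists_pow_eq_one_tmul (ringExpChar k) e
  have hpos : 0 < ringExpChar k ^ n := pow_pos (expChar_pos k (ringExpChar k)) n
  rw [pow_eq_self_of_idem he hpos] at hr
  have hinc := includeRight_injective' (k := k) (K := K) (R := R)
  have hr' : e = Algebra.TensorProduct.includeRight r := hr
  have hidem : IsIdempotentElem r := hinc (by rw [map_mul, ← hr']; exact he)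
  rcases hR r hidem with rfl | rfl
  · left
    rw [hr', map_zero]
  · right
    rw [hr', map_one]

theorem nilradical_isPrime_tensor_of_isPurelyInseparable (hR : (nilradical R).IsPrime) :
    (nilradical (K ⊗[k] R)).IsPrime := by
  have hinc := includeRight_injective' (k := k) (K := K) (R := R)
  haveI : Nontrivial R :=
    ⟨0, 1, fun h => hR.ne_top ((Ideal.eq_top_iff_one _).mpr (by rw [← h]; exact zero_mem _))⟩
  have hq : 0 < ringExpChar k := expChar_pos k (ringExpChar k)
  refine ⟨?_, ?_⟩
  · rw [Ne, Ideal.eq_top_iff_one, mem_nilradical]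
    rintro ⟨N, hN⟩
    rw [one_pow] at hN
    have : (Algebra.TensorProduct.includeRight : R →ₐ[k] K ⊗[k] R) 1 =
        Algebra.TensorProduct.includeRight 0 := by rw [map_one, map_zero, hN]
    exact one_ne_zero (hinc this)
  · intro x y hxy
    obtain ⟨n, r, hr⟩ := exists_pow_eq_one_tmul (ringExpChar k) x
    obtain ⟨m, s, hs⟩ := exists_pow_eq_one_tmul (ringExpChar k) y
    have h1 : x ^ ringExpChar k ^ n * y ^ ringExpChar k ^ m ∈ nilradical (K ⊗[k] R) := by
      obtain ⟨a, ha⟩ := Nat.exists_eq_succ_of_ne_zero (pow_pos hq n).ne'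
      obtain ⟨b, hb⟩ := Nat.exists_eq_succ_of_ne_zero (pow_pos hq m).ne'
      rw [ha, hb, pow_succ, pow_succ]
      have : x ^ a * x * (y ^ b * y) = (x * y) * (x ^ a * y ^ b) := by ring
      rw [this]
      exact Ideal.mul_mem_right _ _ hxy
    rw [hr, hs, Algebra.TensorProduct.tmul_mul_tmul, one_mul] at h1
    have h2 : r * s ∈ nilradical R := by
      rw [mem_nilradical] at h1 ⊢
      obtain ⟨N, hN⟩ := h1
      refine ⟨N, hinc ?_⟩
      rw [map_zero, map_pow]
      exact hN
    rcases hR.mem_or_mem h2 with h | h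
    · left
      obtain ⟨N, hN⟩ := mem_nilradical.mp h
      refine mem_nilradical.mpr ⟨ringExpChar k ^ n * N, ?_⟩
      rw [pow_mul, hr, Algebra.TensorProduct.tmul_pow, one_pow, hN, TensorProduct.tmul_zero]
    · right
      obtain ⟨N, hN⟩ := mem_nilradical.mp h
      refine mem_nilradical.mpr ⟨ringExpChar k ^ m * N, ?_⟩
      rw [pow_mul, hs, Algebra.TensorProduct.tmul_pow, one_pow, hN, TensorProduct.tmul_zero]

end PurelyInsep

end Groth.Agent.Lib.Helper9.GeomLib
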