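import Mathlib
import Groth.Agent.Lib.Helper1.KDesc8

/-!
# Faithfully flat descent of ideals locally generated by sequences of a given kind (helper9)

A generic-kind version of helper1's `KDesc` development: `Q R l` is a property of finite sequences
`l` in rings `R` satisfying the axioms `GoodQ` (stable under flat base change, length bounded by any
generating family, independent of the generators in a local ring, local for the flat topology,
true for sequences generating the unit ideal).
-/

set_option autoImplicit false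
set_option linter.style.haveILetI false
universe u
open TensorProduct

namespace Groth.Agent.Lib.Helper9.QDesc

open Groth.Agent.Lib.Helper1 Groth.Agent.Lib.Helper1.KDesc

/-- sequence properties that descend -/
structure GoodQ (Q : ∀ (R : Type u) [CommRing R], List R → Prop) : Prop where
  map_of_flat : ∀ {A B : Type u} [CommRing A] [CommRing B] [Algebra A B] [Module.Flat A B]
    (l : List A), Q A l → Q B (l.map (algebraMap A B))
  length_le : ∀ {R : Type u} [CommRing R] (l' l : List R), Ideal.ofList l' = Ideal.ofList l →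
    Ideal.ofList l ≠ ⊤ → Q R l → l.length ≤ l'.length
  of_ofList_eq : ∀ {R : Type u} [CommRing R] [IsLocalRing R] (f l : List R),
    f.length = l.length → Ideal.ofList f = Ideal.ofList l → Q R l → Q R f
  of_forall_prime : ∀ {R : Type u} [CommRing R] (l : List R),
    (∀ P : PrimeSpectrum R, ∃ (Y : Type u) (_ : CommRing Y) (_ : Algebra R Y)
      (_ : Module.Flat R Y), (∃ 𝔔 : Ideal Y, 𝔔 ≠ ⊤ ∧ P.asIdeal.map (algebraMap R Y) ≤ 𝔔) ∧
        Q Y (l.map (algebraMap R Y))) → Q R l
  of_eq_top : ∀ {R : Type u} [CommRing R] (l : List R), Ideal.ofList l = ⊤ → Q R l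

section Basic

variable {Q : ∀ (R : Type u) [CommRing R], List R → Prop}

theorem GoodQ.of_ringEquiv (hQ : GoodQ Q) {A B : Type u} [CommRing A] [CommRing B] (e : A ≃+* B)
    (l : List A) (hl : Q A l) : Q B (l.map e) := by
  letI : Algebra A B := e.toRingHom.toAlgebra
  haveI : Module.Flat A B := by
    let le : B ≃ₗ[A] A :=
      { toFun := e.symm
        invFun := e
        left_inv := e.apply_symm_apply
        right_inv := e.symm_apply_apply
        map_add' := map_add e.symm
        map_smul' := fun a b => by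
          change e.symm (e a * b) = a * e.symm b
          rw [map_mul, e.symm_apply_apply] }
    exact Module.Flat.of_linearEquiv le
  exact hQ.map_of_flat l hl

variable (Q)

/-- `K` is generated by a sequence of kind `Q` of length `N` after inverting `G` -/
def IsQNear {R : Type u} [CommRing R] (K : Ideal R) (G : R) (N : ℕ) : Prop :=
  ∃ (R' : Type u) (_ : CommRing R') (_ : Algebra R R') (_ : IsLocalization.Away G R')
    (l : List R'), l.length = N ∧ Q R' l ∧ K.map (algebraMap R R') = Ideal.ofList l

/-- `K` is locally (around each prime containing it) generated by a sequence of kind `Q` -/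
def IsQIdeal {R : Type u} [CommRing R] (K : Ideal R) : Prop :=
  ∀ p : PrimeSpectrum R, K ≤ p.asIdeal → ∃ G : R, G ∉ p.asIdeal ∧ ∃ N, IsQNear Q K G N

variable {Q}

theorem IsQNear.forall_loc (hQ : GoodQ Q) {R : Type u} [CommRing R] {K : Ideal R} {G : R} {N : ℕ}
    (h : IsQNear Q K G N) (S : Type u) [CommRing S] [Algebra R S] [IsLocalization.Away G S] :
    ∃ l : List S, l.length = N ∧ Q S l ∧ K.map (algebraMap R S) = Ideal.ofList l := by
  obtain ⟨R', _, _, _, l, hlen, hl, hK⟩ := h
  let e : R' ≃ₐ[R] S := IsLocalization.algEquiv (Submonoid.powers G) R' S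
  refine ⟨l.map e, by simpa using hlen, hQ.of_ringEquiv e.toRingEquiv l hl, ?_⟩
  have h1 : (algebraMap R S) = (e.toRingEquiv : R' →+* S).comp (algebraMap R R') := by
    ext r
    exact (e.commutes r).symm
  rw [h1, ← Ideal.map_map, hK]
  exact (RegComp.ofList_map _ l).symm

theorem IsQNear.mul (hQ : GoodQ Q) {R : Type u} [CommRing R] {K : Ideal R} {G : R} {N : ℕ}
    (h : IsQNear Q K G N) (c : R) : IsQNear Q K (G * c) N := by
  obtain ⟨R', _, _, _, l, hlen, hl, hK⟩ := h
  let R'' := Localization.Away (algebraMap R R' c)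
  haveI : IsScalarTower R R' R'' := inferInstanceAs
    (IsScalarTower R R' (Localization.Away (algebraMap R R' c)))
  haveI : IsLocalization.Away (G * c) R'' := IsLocalization.Away.mul' R' R'' G c
  haveI : Module.Flat R' R'' := IsLocalization.flat R'' (Submonoid.powers (algebraMap R R' c))
  refine ⟨R'', inferInstance, inferInstance, inferInstance, l.map (algebraMap R' R''),
    by simpa using hlen, hQ.map_of_flat l hl, ?_⟩
  rw [RegComp.ofList_map, ← hK, Ideal.map_map, ← IsScalarTower.algebraMap_eq]

/-- being locally of kind `Q` near a prime can be checked in a principal localization -/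
theorem exists_isQNear_of_localization (hQ : GoodQ Q) {R₀ : Type u} [CommRing R₀] (I : Ideal R₀)
    (u : R₀) (S : Type u) [CommRing S]
    [Algebra R₀ S] [IsLocalization.Away u S]
    (hI : IsQIdeal Q (I.map (algebraMap R₀ S))) (p : Ideal R₀) [p.IsPrime]
    (hIp : I ≤ p) (hu : u ∉ p) : ∃ G : R₀, G ∉ p ∧ ∃ N, IsQNear Q I G N := by
  have hdisj : Disjoint (Submonoid.powers u : Set R₀) (p : Set R₀) := by
    rw [Set.disjoint_left]
    rintro _ ⟨k, rfl⟩ hk
    exact hu (Ideal.IsPrime.mem_of_pow_mem inferInstance k hk)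
  haveI hp' : (p.map (algebraMap R₀ S)).IsPrime :=
    IsLocalization.isPrime_of_isPrime_disjoint (Submonoid.powers u) S p inferInstance hdisj
  have hcomap : (p.map (algebraMap R₀ S)).comap (algebraMap R₀ S) = p :=
    IsLocalization.under_map_of_isPrime_disjoint (Submonoid.powers u) S inferInstance hdisj
  obtain ⟨G', hG', N, hN⟩ := hI ⟨_, hp'⟩ (Ideal.map_mono hIp)
  obtain ⟨k, G₀, hG₀⟩ := IsLocalization.Away.surj u G'
  have hN' := hN.mul hQ (algebraMap R₀ S u ^ k)
  rw [hG₀] at hN'
  have hG₀p : G₀ ∉ p := by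
    intro hmem
    have h1 : algebraMap R₀ S G₀ ∈ p.map (algebraMap R₀ S) := Ideal.mem_map_of_mem _ hmem
    rw [← hG₀] at h1
    rcases hp'.mem_or_mem h1 with h2 | h2
    · exact hG' h2
    · have h3 : algebraMap R₀ S (u ^ k) ∈ p.map (algebraMap R₀ S) := by rwa [map_pow]
      have h4 : u ^ k ∈ (p.map (algebraMap R₀ S)).comap (algebraMap R₀ S) := h3
      rw [hcomap] at h4
      exact hu (Ideal.IsPrime.mem_of_pow_mem inferInstance k h4)
  refine ⟨u * G₀, ?_, N, ?_⟩
  · intro hmem
    rcases Ideal.IsPrime.mem_or_mem inferInstance hmem with h | h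
    · exact hu h
    · exact hG₀p h
  · obtain ⟨S'', _, _, _, l, hlen, hl, hIl⟩ := hN'
    letI : Algebra R₀ S'' := ((algebraMap S S'').comp (algebraMap R₀ S)).toAlgebra
    haveI : IsScalarTower R₀ S S'' := IsScalarTower.of_algebraMap_eq (fun _ => rfl)
    haveI : IsLocalization.Away (u * G₀) S'' := IsLocalization.Away.mul' S S'' u G₀
    refine ⟨S'', inferInstance, inferInstance, inferInstance, l, hlen, hl, ?_⟩
    rw [← hIl, Ideal.map_map]
    rfl

end Basic

section LocLen

variable (Q : ∀ (R : Type u) [CommRing R], List R → Prop)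

variable {B : Type u} [CommRing B]

/-- `J` is generated in the local ring at `q` by a sequence of kind `Q` of length `r` -/
def LocLen (J : Ideal B) (q : Ideal B) [q.IsPrime] (r : ℕ) : Prop :=
  ∃ l : List (Localization.AtPrime q), l.length = r ∧
    Q (Localization.AtPrime q) l ∧
    J.map (algebraMap B (Localization.AtPrime q)) = Ideal.ofList l

variable {Q}

theorem LocLen.unique (hQ : GoodQ Q) {J : Ideal B} {q : Ideal B} [q.IsPrime] {r r' : ℕ}
    (hJq : J ≤ q) (h : LocLen Q J q r) (h' : LocLen Q J q r') : r = r' := by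
  obtain ⟨l, hlen, hl, hJ⟩ := h
  obtain ⟨l', hlen', hl', hJ'⟩ := h'
  have hne : Ideal.ofList l ≠ ⊤ := by rw [← hJ]; exact map_ne_top J q hJq
  have hne' : Ideal.ofList l' ≠ ⊤ := by rw [← hJ']; exact map_ne_top J q hJq
  have h1 := hQ.length_le l' l (hJ'.symm.trans hJ) hne hl
  have h2 := hQ.length_le l l' (hJ.symm.trans hJ') hne' hl'
  omega

/-- from a chart to the local ring -/
theorem IsQNear.locLen (hQ : GoodQ Q) {J : Ideal B} {h : B} {r : ℕ} (hN : IsQNear Q J h r)
    (q : Ideal B) [q.IsPrime] (hq : h ∉ q) : LocLen Q J q r := by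
  obtain ⟨l, hlen, hl, hJ⟩ := hN.forall_loc hQ (Localization.Away h)
  have hunit : IsUnit (algebraMap B (Localization.AtPrime q) h) :=
    IsLocalization.map_units (M := q.primeCompl) (Localization.AtPrime q) ⟨h, hq⟩
  let φ : Localization.Away h →+* Localization.AtPrime q := IsLocalization.Away.lift h hunit
  have hφ : ∀ b, φ (algebraMap B (Localization.Away h) b) =
      algebraMap B (Localization.AtPrime q) b := fun b => IsLocalization.Away.lift_eq h hunit b
  letI : Algebra (Localization.Away h) (Localization.AtPrime q) := φ.toAlgebra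
  haveI : IsScalarTower B (Localization.Away h) (Localization.AtPrime q) :=
    IsScalarTower.of_algebraMap_eq (fun b => (hφ b).symm)
  haveI : Module.Flat B (Localization.AtPrime q) :=
    IsLocalization.flat (Localization.AtPrime q) q.primeCompl
  haveI : Module.Flat (Localization.Away h) (Localization.AtPrime q) :=
    (Module.flat_iff_of_isLocalization (Localization.Away h) (Submonoid.powers h)
      (Localization.AtPrime q)).mpr inferInstance
  refine ⟨l.map (algebraMap (Localization.Away h) (Localization.AtPrime q)), by simpa using hlen,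
    hQ.map_of_flat l hl, ?_⟩
  rw [RegComp.ofList_map, ← hJ, Ideal.map_map, ← IsScalarTower.algebraMap_eq]

/-- in the local ring any generating sequence of the right length is of kind `Q` -/
theorem LocLen.isQ (hQ : GoodQ Q) {J : Ideal B} {q : Ideal B} [q.IsPrime] {r : ℕ}
    (h : LocLen Q J q r) (f : List (Localization.AtPrime q)) (hlen : f.length = r)
    (hf : J.map (algebraMap B (Localization.AtPrime q)) = Ideal.ofList f) :
    Q (Localization.AtPrime q) f := by
  obtain ⟨l, hlen', hl, hJ⟩ := h
  exact hQ.of_ofList_eq f l (hlen.trans hlen'.symm) (hf.symm.trans hJ) hl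

/-- an ideal locally of kind `Q` is finitely generated -/
theorem fg_of_isQIdeal (hQ : GoodQ Q) (J : Ideal B) (h : IsQIdeal Q J) : J.FG := by
  let t : Set B := {g | (J.map (algebraMap B (Localization.Away g))).FG}
  have ht : Ideal.span t = ⊤ := by
    by_contra hne
    obtain ⟨m, hm, hle⟩ := Ideal.exists_le_maximal _ hne
    haveI := hm.isPrime
    by_cases hJ : J ≤ m
    · obtain ⟨g, hg, N, hN⟩ := h ⟨m, hm.isPrime⟩ hJ
      obtain ⟨l, -, -, hl⟩ := hN.forall_loc hQ (Localization.Away g)
      apply hg
      apply hle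
      apply Ideal.subset_span
      change (J.map (algebraMap B (Localization.Away g))).FG
      rw [hl]
      exact ofList_fg l
    · obtain ⟨g, hgJ, hgm⟩ := Set.not_subset.mp hJ
      apply hgm
      apply hle
      apply Ideal.subset_span
      change (J.map (algebraMap B (Localization.Away g))).FG
      have : J.map (algebraMap B (Localization.Away g)) = ⊤ := by
        rw [Ideal.eq_top_iff_one]
        have hu : IsUnit (algebraMap B (Localization.Away g) g) :=
          IsLocalization.Away.algebraMap_isUnit g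
        have h1 : algebraMap B (Localization.Away g) g ∈
            J.map (algebraMap B (Localization.Away g)) := Ideal.mem_map_of_mem _ hgJ
        exact (Ideal.eq_top_of_isUnit_mem _ h1 hu) ▸ Submodule.mem_top
      rw [this]
      exact ⟨{1}, by simp⟩
  exact Ideal.fg_of_localizationSpan t ht (fun g => g.2)

theorem isOpen_locLen (hQ : GoodQ Q) (J : Ideal B) (hJ : IsQIdeal Q J) (r : ℕ) :
    IsOpen {q : PrimeSpectrum B | J ≤ q.asIdeal → LocLen Q J q.asIdeal r} := by
  rw [isOpen_iff_forall_mem_open]
  intro q hq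
  by_cases hJq : J ≤ q.asIdeal
  · obtain ⟨g, hg, N, hN⟩ := hJ q hJq
    have hNr : N = r := LocLen.unique hQ hJq (IsQNear.locLen hQ hN q.asIdeal hg) (hq hJq)
    subst hNr
    refine ⟨PrimeSpectrum.basicOpen g, ?_, (PrimeSpectrum.basicOpen g).isOpen, hg⟩
    intro q' hq' _
    exact IsQNear.locLen hQ hN q'.asIdeal hq'
  · obtain ⟨b, hbJ, hbq⟩ := Set.not_subset.mp hJq
    refine ⟨PrimeSpectrum.basicOpen b, ?_, (PrimeSpectrum.basicOpen b).isOpen, hbq⟩
    intro q' hq' hJq'
    exact absurd (hJq' hbJ) hq'

end LocLen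

section L3

variable {Q : ∀ (R : Type u) [CommRing R], List R → Prop}

variable {A B : Type u} [CommRing A] [CommRing B] [Algebra A B]

/-- generators of `I B_q` coming from `I` -/
theorem LocLen.exists_generators (I : Ideal A) (q : Ideal B) [q.IsPrime] (r : ℕ)
    (h : LocLen Q (I.map (algebraMap A B)) q r) :
    ∃ f : List A, f.length = r ∧ (∀ x ∈ f, x ∈ I) ∧
      I.map (algebraMap A (Localization.AtPrime q)) =
        Ideal.ofList (f.map (algebraMap A (Localization.AtPrime q))) := by
  obtain ⟨l, hlen, -, hJ⟩ := h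
  rw [Ideal.map_map, ← IsScalarTower.algebraMap_eq] at hJ
  obtain ⟨t, htlen, htT, htgen⟩ := exists_generators_of_span
    (I.map (algebraMap A (Localization.AtPrime q)))
    ((algebraMap A (Localization.AtPrime q)) '' (I : Set A)) rfl l [] (by simpa using hJ.symm)
  have key : ∀ t : List (Localization.AtPrime q),
      (∀ x ∈ t, x ∈ (algebraMap A (Localization.AtPrime q)) '' (I : Set A) ∨ x = 0) →
      ∃ f : List A, (∀ x ∈ f, x ∈ I) ∧ f.map (algebraMap A (Localization.AtPrime q)) = t := by
    intro t
    induction t with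
    | nil => intro _; exact ⟨[], by simp, rfl⟩
    | cons a t ih =>
      intro h
      obtain ⟨f, hf, hft⟩ := ih (fun x hx => h x (List.mem_cons_of_mem _ hx))
      rcases h a List.mem_cons_self with ⟨a₀, ha₀, rfl⟩ | rfl
      · refine ⟨a₀ :: f, ?_, by rw [List.map_cons, hft]⟩
        intro x hx
        rcases List.mem_cons.mp hx with rfl | hx
        · exact ha₀
        · exact hf x hx
      · refine ⟨0 :: f, ?_, by rw [List.map_cons, hft, map_zero]⟩
        intro x hx
        rcases List.mem_cons.mp hx with rfl | hx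
        · exact Ideal.zero_mem _
        · exact hf x hx
  obtain ⟨f, hfI, hft⟩ := key t htT
  refine ⟨f, ?_, hfI, ?_⟩
  · rw [← hlen, ← htlen, ← hft, List.length_map]
  · rw [hft]
    simpa using htgen.symm

/-- the local length is bounded by the number of generators -/
theorem LocLen.le_of_factor (hQ : GoodQ Q) (I : Ideal A) (q : Ideal B) [q.IsPrime] (r : ℕ)
    (h : LocLen Q (I.map (algebraMap A B)) q r) (hIq : I.map (algebraMap A B) ≤ q)
    (f : List A) (G : A) (hf : ∀ x ∈ f, x ∈ I) (hG : ∀ x ∈ I, G * x ∈ Ideal.ofList f)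
    (hGq : G ∉ q.comap (algebraMap A B)) : r ≤ f.length := by
  have hne := map_ne_top _ q hIq
  obtain ⟨l, hlen, hl, hJ⟩ := h
  rw [hJ] at hne
  rw [Ideal.map_map, ← IsScalarTower.algebraMap_eq,
    map_eq_ofList_of_isUnit I f G hf hG (Localization.AtPrime q)
      (isUnit_algebraMap_of_notMem q G hGq)] at hJ
  have := hQ.length_le _ l hJ hne hl
  simpa [hlen] using this

/-- the local length is constant along fibres -/
theorem LocLen.le_of_comap_eq (hQ : GoodQ Q) [Module.Flat A B] (I : Ideal A) (hI : I.FG)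
    (q₁ q₂ : Ideal B)
    [q₁.IsPrime] [q₂.IsPrime] (hq : q₁.comap (algebraMap A B) = q₂.comap (algebraMap A B))
    (hIq : I.map (algebraMap A B) ≤ q₁) (r₁ r₂ : ℕ)
    (h₁ : LocLen Q (I.map (algebraMap A B)) q₁ r₁) (h₂ : LocLen Q (I.map (algebraMap A B)) q₂ r₂) :
    r₁ ≤ r₂ := by
  obtain ⟨f, hflen, hfI, hgen⟩ := LocLen.exists_generators I q₂ r₂ h₂
  obtain ⟨G, hG, hGI⟩ := exists_factor I hI q₂ f hgen
  have := LocLen.le_of_factor hQ I q₁ r₁ h₁ hIq f G hfI hGI (hq ▸ hG)
  rwa [hflen] at this

end L3

section Main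

variable {Q : ∀ (R : Type u) [CommRing R], List R → Prop}

variable {A B : Type u} [CommRing A] [CommRing B] [Algebra A B]

/-- faithfully flat descent of ideals locally of kind `Q` -/
theorem isQIdeal_of_faithfullyFlat (hQ : GoodQ Q) [Module.FaithfullyFlat A B] (I : Ideal A)
    (h : IsQIdeal Q (I.map (algebraMap A B))) : IsQIdeal Q I := by
  intro p hIp
  set J := I.map (algebraMap A B) with hJdef
  have hIfg : I.FG := Ideal.FG.of_FG_map_of_faithfullyFlat (fg_of_isQIdeal hQ _ h)
  obtain ⟨q, hq⟩ := PrimeSpectrum.comap_surjective_of_faithfullyFlat (B := B) p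
  have hqp : q.asIdeal.comap (algebraMap A B) = p.asIdeal := by rw [← hq]; rfl
  have hJq : J ≤ q.asIdeal := by
    rw [hJdef, Ideal.map_le_iff_le_comap, hqp]; exact hIp
  obtain ⟨g, hg, r, hN⟩ := h q hJq
  have hLL : LocLen Q J q.asIdeal r := IsQNear.locLen hQ hN q.asIdeal hg
  obtain ⟨f, hflen, hfI, hgen⟩ := LocLen.exists_generators I q.asIdeal r hLL
  obtain ⟨G, hG, hGI⟩ := exists_factor I hIfg q.asIdeal f hgen
  rw [hqp] at hG
  -- the open set
  let Ω : Set (PrimeSpectrum B) := {q | J ≤ q.asIdeal → LocLen Q J q.asIdeal r}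
  have hΩ : IsOpen Ω := isOpen_locLen hQ J h r
  let π : PrimeSpectrum B → PrimeSpectrum A := PrimeSpectrum.comap (algebraMap A B)
  have hsat : π ⁻¹' (π '' Ω) = Ω := by
    apply le_antisymm _ (Set.subset_preimage_image π Ω)
    rintro q₂ ⟨q₁, hq₁, hq12⟩ hJq₂
    have hcomap : q₁.asIdeal.comap (algebraMap A B) = q₂.asIdeal.comap (algebraMap A B) :=
      congrArg PrimeSpectrum.asIdeal hq12
    have hJq₁ : J ≤ q₁.asIdeal := by
      rw [hJdef, Ideal.map_le_iff_le_comap, hcomap, ← Ideal.map_le_iff_le_comap]; exact hJq₂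
    obtain ⟨g₂, hg₂, r₂, hN₂⟩ := h q₂ hJq₂
    have hLL₂ : LocLen Q J q₂.asIdeal r₂ := IsQNear.locLen hQ hN₂ q₂.asIdeal hg₂
    have h1 := LocLen.le_of_comap_eq hQ I hIfg q₁.asIdeal q₂.asIdeal hcomap hJq₁ r r₂
      (hq₁ hJq₁) hLL₂
    have h2 := LocLen.le_of_comap_eq hQ I hIfg q₂.asIdeal q₁.asIdeal hcomap.symm hJq₂ r₂ r hLL₂
      (hq₁ hJq₁)
    have : r₂ = r := le_antisymm h2 h1
    rwa [this] at hLL₂
  have hquot : Topology.IsQuotientMap π :=
    PrimeSpectrum.isQuotientMap_of_generalizingMap
      PrimeSpectrum.comap_surjective_of_faithfullyFlat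
      (RingHom.Flat.generalizingMap_comap (RingHom.flat_algebraMap_iff.mpr inferInstance))
  have hW : IsOpen (π '' Ω) := by
    rw [← hquot.isOpen_preimage, hsat]; exact hΩ
  have hpW : p ∈ π '' Ω := ⟨q, fun _ => hLL, hq⟩
  obtain ⟨_, ⟨G'', rfl⟩, hpG'', hG''W⟩ :=
    PrimeSpectrum.isTopologicalBasis_basic_opens.exists_subset_of_mem_open hpW hW
  refine ⟨G * G'', fun hmem => ?_, r, ?_⟩
  · rcases Ideal.IsPrime.mem_or_mem inferInstance hmem with h1 | h1
    · exact hG h1
    · exact hpG'' h1
  set G' := G * G'' with hG'def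
  let R' := Localization.Away G'
  have huG' : IsUnit (algebraMap A R' G') := IsLocalization.Away.algebraMap_isUnit G'
  have huG : IsUnit (algebraMap A R' G) := by
    have h2 : IsUnit (algebraMap A R' G * algebraMap A R' G'') := by
      rw [← map_mul]; exact huG'
    exact isUnit_of_mul_isUnit_left h2
  refine ⟨R', inferInstance, inferInstance, inferInstance, f.map (algebraMap A R'),
    by simpa using hflen, ?_, map_eq_ofList_of_isUnit I f G hfI hGI R' huG⟩
  apply hQ.of_forall_prime
  intro P
  let p' : PrimeSpectrum A := PrimeSpectrum.comap (algebraMap A R') P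
  have hG'p' : G' ∉ p'.asIdeal := by
    intro hmem
    have h1 : algebraMap A R' G' ∈ P.asIdeal := hmem
    exact P.isPrime.ne_top (Ideal.eq_top_of_isUnit_mem _ h1 huG')
  have hG''p' : G'' ∉ p'.asIdeal := fun hmem => hG'p' (Ideal.mul_mem_left _ _ hmem)
  have hGp' : G ∉ p'.asIdeal := fun hmem => hG'p' (Ideal.mul_mem_right _ _ hmem)
  obtain ⟨q₀, hq₀Ω, hq₀⟩ := hG''W (show p' ∈ (PrimeSpectrum.basicOpen G'' : Set _) from hG''p')
  have hq₀p' : q₀.asIdeal.comap (algebraMap A B) = p'.asIdeal := by rw [← hq₀]; rfl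
  let Y := Localization.AtPrime q₀.asIdeal
  have hunitG' : IsUnit (algebraMap A Y G') :=
    isUnit_algebraMap_of_notMem q₀.asIdeal G' (by rw [hq₀p']; exact hG'p')
  have hunitG : IsUnit (algebraMap A Y G) :=
    isUnit_algebraMap_of_notMem q₀.asIdeal G (by rw [hq₀p']; exact hGp')
  let φ : R' →+* Y := IsLocalization.Away.lift G' hunitG'
  have hφ : ∀ a, φ (algebraMap A R' a) = algebraMap A Y a :=
    fun a => IsLocalization.Away.lift_eq G' hunitG' a
  letI : Algebra R' Y := φ.toAlgebra
  haveI : IsScalarTower A R' Y := IsScalarTower.of_algebraMap_eq (fun a => (hφ a).symm)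
  haveI : Module.Flat B Y := IsLocalization.flat Y q₀.asIdeal.primeCompl
  haveI : Module.Flat A Y := Module.Flat.trans A B Y
  haveI : Module.Flat R' Y :=
    (Module.flat_iff_of_isLocalization R' (Submonoid.powers G') Y).mpr inferInstance
  refine ⟨Y, inferInstance, inferInstance, inferInstance,
    ⟨IsLocalRing.maximalIdeal Y, Ideal.IsPrime.ne_top inferInstance, ?_⟩, ?_⟩
  · have h1 : (p'.asIdeal).map (algebraMap A R') = P.asIdeal :=
      IsLocalization.map_under (Submonoid.powers G') R' P.asIdeal
    rw [← h1, Ideal.map_map, ← IsScalarTower.algebraMap_eq, ← hq₀p']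
    exact comap_map_le_maximalIdeal q₀.asIdeal
  · have hmm : (f.map (algebraMap A R')).map (algebraMap R' Y) = f.map (algebraMap A Y) := by
      rw [List.map_map]
      apply List.map_congr_left
      intro a _
      exact hφ a
    rw [hmm]
    have hgenY := map_eq_ofList_of_isUnit I f G hfI hGI Y hunitG
    by_cases hJq₀ : J ≤ q₀.asIdeal
    · refine LocLen.isQ hQ (hq₀Ω hJq₀) _ (by simpa using hflen) ?_
      rw [hJdef, Ideal.map_map, ← IsScalarTower.algebraMap_eq]
      exact hgenY
    · apply hQ.of_eq_top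
      rw [← hgenY]
      obtain ⟨b, hbJ, hbq⟩ := Set.not_subset.mp hJq₀
      have hb : IsUnit (algebraMap B Y b) :=
        IsLocalization.map_units (M := q₀.asIdeal.primeCompl) Y ⟨b, hbq⟩
      have h2 : (J.map (algebraMap B Y)) = ⊤ :=
        Ideal.eq_top_of_isUnit_mem _ (Ideal.mem_map_of_mem _ hbJ) hb
      rw [hJdef, Ideal.map_map, ← IsScalarTower.algebraMap_eq] at h2
      exact h2

end Main

section Pi

variable {Q : ∀ (R : Type u) [CommRing R], List R → Prop}

variable {ι : Type u} [Finite ι] (B : ι → Type u) [∀ k, CommRing (B k)]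

/-- being locally of kind `Q` for an ideal in a finite product is checked factorwise -/
theorem isQIdeal_pi (hQ : GoodQ Q) (J : Ideal (Π k, B k))
    (h : ∀ k, IsQIdeal Q (J.map (Pi.evalRingHom B k))) :
    IsQIdeal Q J := by
  classical
  haveI := Fintype.ofFinite ι
  intro P hJP
  have hex : ∃ k, (Pi.single k 1 : Π k, B k) ∉ P.asIdeal := by
    by_contra hcon
    push Not at hcon
    apply P.isPrime.ne_top
    rw [Ideal.eq_top_iff_one]
    have : (1 : Π k, B k) = ∑ k, Pi.single k 1 := by
      ext j
      simp [Finset.sum_apply, Pi.single_apply]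
    rw [this]
    exact Ideal.sum_mem _ (fun k _ => hcon k)
  obtain ⟨k, hk⟩ := hex
  letI : Algebra (Π k, B k) (B k) := (Pi.evalRingHom B k).toAlgebra
  haveI : IsLocalization.Away (Pi.single k 1 : Π k, B k) (B k) := by
    refine IsLocalization.away_of_isIdempotentElem_of_mul ?_ ?_ ?_
    · ext j
      by_cases hj : j = k
      · subst hj; simp
      · simp [Pi.single_apply, hj]
    · intro x y
      change x k = y k ↔ _
      constructor
      · intro hxy
        ext j
        by_cases hj : j = k
        · subst hj; simp [hxy]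
        · simp [Pi.single_apply, hj]
      · intro hxy
        have := congrFun hxy k
        simpa using this
    · intro b
      exact ⟨Pi.single k b, by change (Pi.single k b : Π k, B k) k = b; simp⟩
  exact exists_isQNear_of_localization hQ J (Pi.single k 1) (B k) (h k) P.asIdeal hJP hk

end Pi

section Family

variable {Q : ∀ (R : Type u) [CommRing R], List R → Prop}

variable {A : Type u} [CommRing A] {ι : Type u} [Finite ι] (B : ι → Type u)
  [∀ k, CommRing (B k)] [∀ k, Algebra A (B k)] [∀ k, Module.Flat A (B k)]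

/-- descent of ideals locally of kind `Q` along a finite jointly surjective family of flat
algebras -/
theorem isQIdeal_of_family (hQ : GoodQ Q)
    (hsurj : ∀ p : PrimeSpectrum A, ∃ k, ∃ q : PrimeSpectrum (B k),
      PrimeSpectrum.comap (algebraMap A (B k)) q = p) (I : Ideal A)
    (h : ∀ k, IsQIdeal Q (I.map (algebraMap A (B k)))) :
    IsQIdeal Q I := by
  haveI := faithfullyFlat_pi B hsurj
  apply isQIdeal_of_faithfullyFlat hQ (B := Π k, B k) I
  apply isQIdeal_pi B hQ
  intro k
  rw [Ideal.map_map]
  exact h k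

end Family

end Groth.Agent.Lib.Helper9.QDesc
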