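import Mathlib
import Groth.Agent.Lib.Helper9.QDescA
import Groth.Agent.Lib.Helper22.RegFlatBC
import Groth.Agent.Lib.Helper6.QuasiRegChange
import Groth.Agent.Lib.Helper6.QuasiRegBasis
import Groth.Agent.Lib.Helper1.H1Loc

/-!
# The axioms `GoodQ` for quasi-regular sequences (helper9)
-/

set_option autoImplicit false
set_option linter.style.haveILetI false
universe u
open TensorProduct

namespace Groth.Agent.Lib.Helper9.QDesc

open Groth.Agent.Lib.Helper1 Groth.Agent.Lib.Helper1.KDesc Groth.Agent.Lib.Helper22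
open Groth.Agent.Lib.Helper6 Matrix

section General

variable {R : Type u} [CommRing R]

theorem span_range_get (rs : List R) : Ideal.span (Set.range rs.get) = Ideal.ofList rs := by
  rw [Ideal.ofList]
  congr 1
  ext x
  simp [List.mem_iff_get]

theorem range_cast {α : Type*} {n m : ℕ} (h : n = m) (g : Fin m → α) :
    Set.range (fun i : Fin n => g (Fin.cast h i)) = Set.range g := by
  subst h; rfl

/-- membership can be tested up to factors outside each maximal ideal -/
theorem mem_of_forall_maximal {M : Type u} [AddCommGroup M] [Module R M] (N : Submodule R M)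
    (x : M) (h : ∀ m : Ideal R, m.IsMaximal → ∃ s : R, s ∉ m ∧ s • x ∈ N) : x ∈ N := by
  by_contra hx
  let 𝔞 : Ideal R :=
    { carrier := {s | s • x ∈ N}
      add_mem' := fun {a b} ha hb => by
        change (a + b) • x ∈ N
        rw [add_smul]; exact N.add_mem ha hb
      zero_mem' := by change (0 : R) • x ∈ N; rw [zero_smul]; exact N.zero_mem
      smul_mem' := fun c {a} ha => by
        change (c • a) • x ∈ N
        rw [smul_eq_mul, mul_smul]; exact N.smul_mem c ha }
  have hne : 𝔞 ≠ ⊤ := by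
    intro htop
    have h1 : (1 : R) ∈ 𝔞 := htop ▸ Submodule.mem_top
    have h2 : (1 : R) • x ∈ N := h1
    rw [one_smul] at h2
    exact hx h2
  obtain ⟨m, hm, hle⟩ := Ideal.exists_le_maximal 𝔞 hne
  obtain ⟨s, hs, hsx⟩ := h m hm
  exact hs (hle hsx)

/-- the coefficient property shared by `H_1`-regular and quasi-regular sequences -/
def CoeffProp {c : ℕ} (f : Fin c → R) : Prop :=
  ∀ b : Fin c → R, ∑ i, b i * f i ∈ Ideal.span (Set.range f) ^ 2 →
    ∀ k, b k ∈ Ideal.span (Set.range f)

theorem exists_matrices {r r' : ℕ} (f : Fin r → R) (f' : Fin r' → R) (hC : CoeffProp f)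
    (hspan : Ideal.span (Set.range f') = Ideal.span (Set.range f)) :
    ∃ (U : Matrix (Fin r) (Fin r') R) (V : Matrix (Fin r') (Fin r) R),
      f = U *ᵥ f' ∧ f' = V *ᵥ f ∧
        ∀ i k, (U * V - 1 : Matrix (Fin r) (Fin r) R) i k ∈ Ideal.span (Set.range f) := by
  have h1 : ∀ i, f i ∈ Ideal.span (Set.range f') := fun i => hspan ▸ Ideal.subset_span ⟨i, rfl⟩
  have h2 : ∀ j, f' j ∈ Ideal.span (Set.range f) :=
    fun j => hspan.symm ▸ Ideal.subset_span ⟨j, rfl⟩
  choose U hU using fun i => Ideal.mem_span_range_iff_exists_fun.mp (h1 i)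
  choose V hV using fun j => Ideal.mem_span_range_iff_exists_fun.mp (h2 j)
  have hU' : f = (Matrix.of U) *ᵥ f' := by
    funext i; exact (hU i).symm
  have hV' : f' = (Matrix.of V) *ᵥ f := by
    funext j; exact (hV j).symm
  refine ⟨Matrix.of U, Matrix.of V, hU', hV', ?_⟩
  intro i k
  have h0 : (Matrix.of U * Matrix.of V - 1) *ᵥ f = 0 := by
    rw [Matrix.sub_mulVec, ← Matrix.mulVec_mulVec, ← hV', ← hU', Matrix.one_mulVec, sub_self]
  refine hC (fun k => (Matrix.of U * Matrix.of V - 1 : Matrix (Fin r) (Fin r) R) i k) ?_ k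
  have h3 : ∑ k, (Matrix.of U * Matrix.of V - 1 : Matrix (Fin r) (Fin r) R) i k * f k =
      ((Matrix.of U * Matrix.of V - 1 : Matrix (Fin r) (Fin r) R) *ᵥ f) i := rfl
  rw [h3, h0]
  exact Ideal.zero_mem _

theorem map_mk_eq_one {r : ℕ} (I : Ideal R) (M : Matrix (Fin r) (Fin r) R)
    (hM : ∀ i k, (M - 1) i k ∈ I) : M.map (Ideal.Quotient.mk I) = 1 := by
  ext i k
  rw [Matrix.map_apply, Matrix.one_apply]
  have h1 := hM i k
  rw [Matrix.sub_apply, Matrix.one_apply] at h1
  have h2 := Ideal.Quotient.eq_zero_iff_mem.mpr h1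
  rw [map_sub, sub_eq_zero] at h2
  rw [h2]
  split_ifs <;> simp

theorem le_of_coeffProp {r r' : ℕ} (f : Fin r → R) (f' : Fin r' → R) (hC : CoeffProp f)
    (hspan : Ideal.span (Set.range f') = Ideal.span (Set.range f))
    (hne : Ideal.span (Set.range f) ≠ ⊤) : r ≤ r' := by
  obtain ⟨U, V, -, -, hUV⟩ := exists_matrices f f' hC hspan
  set I := Ideal.span (Set.range f) with hI
  haveI : Nontrivial (R ⧸ I) := Ideal.Quotient.nontrivial_iff.mpr hne
  let Ub : Matrix (Fin r) (Fin r') (R ⧸ I) := U.map (Ideal.Quotient.mk I)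
  let Vb : Matrix (Fin r') (Fin r) (R ⧸ I) := V.map (Ideal.Quotient.mk I)
  have hUVb : Ub * Vb = 1 := by
    have h1 : Ub * Vb = (U * V).map (Ideal.Quotient.mk I) := (Matrix.map_mul).symm
    rw [h1]
    exact map_mk_eq_one I _ hUV
  have hinj : Function.Injective (Matrix.mulVecLin Vb) := by
    intro x y hxy
    have h0 : Vb *ᵥ x = Vb *ᵥ y := hxy
    have h1 : Ub *ᵥ (Vb *ᵥ x) = Ub *ᵥ (Vb *ᵥ y) := by rw [h0]
    rwa [Matrix.mulVec_mulVec, Matrix.mulVec_mulVec, hUVb, Matrix.one_mulVec,
      Matrix.one_mulVec] at h1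
  exact le_of_fin_injective (R ⧸ I) _ hinj

end General

/-- quasi-regular sequences, as a property of lists -/
def QQ (R : Type u) [CommRing R] (l : List R) : Prop := CAlgX.IsQuasiRegular l.get

/-- `H_1`-regular sequences, as a property of lists -/
def QH (R : Type u) [CommRing R] (l : List R) : Prop := CAlgX.IsH1Regular l.get

section Quasi

variable {R : Type u} [CommRing R]

theorem isQuasiRegular_of_forall_prime {c : ℕ} (l : Fin c → R)
    (H : ∀ m : Ideal R, m.IsMaximal → ∃ (Y : Type u) (_ : CommRing Y) (_ : Algebra R Y)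
      (_ : Module.Flat R Y), (∃ 𝔔 : Ideal Y, 𝔔 ≠ ⊤ ∧ m.map (algebraMap R Y) ≤ 𝔔) ∧
        CAlgX.IsQuasiRegular (fun i => algebraMap R Y (l i))) :
    CAlgX.IsQuasiRegular l := by
  intro n P hP hev d
  set I := Ideal.span (Set.range l) with hI
  apply mem_of_forall_maximal (M := R) I (P.coeff d)
  intro m hm
  obtain ⟨Y, _, _, _, ⟨𝔔, h𝔔, hle⟩, hY⟩ := H m hm
  have hspanY : Ideal.span (Set.range fun i => algebraMap R Y (l i)) =
      I.map (algebraMap R Y) := by
    rw [hI, Ideal.map_span, ← Set.range_comp]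
    rfl
  have hev2 : MvPolynomial.eval (fun i => algebraMap R Y (l i))
      (MvPolynomial.map (algebraMap R Y) P) = algebraMap R Y (MvPolynomial.eval l P) := by
    rw [MvPolynomial.eval_map]
    exact (MvPolynomial.eval₂_comp (algebraMap R Y) l P).symm
  have hmem : algebraMap R Y (P.coeff d) ∈ I.map (algebraMap R Y) := by
    rw [← hspanY, ← MvPolynomial.coeff_map]
    apply hY n (MvPolynomial.map (algebraMap R Y) P) (hP.map _)
    rw [hev2, hspanY, ← Ideal.map_pow]
    exact Ideal.mem_map_of_mem _ hev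
  obtain ⟨s, hs, hsc⟩ := exists_notMem_mul_mem I (P.coeff d) Y m 𝔔 h𝔔 hle hmem
  exact ⟨s, hs, hsc⟩

theorem quasi_map_of_flat {A B : Type u} [CommRing A] [CommRing B] [Algebra A B] [Module.Flat A B]
    (l : List A) (hl : QQ A l) : QQ B (l.map (algebraMap A B)) := by
  change CAlgX.IsQuasiRegular (l.map (algebraMap A B)).get
  rw [RegFlatBC.get_map]
  exact RegFlatBC.isQuasiRegular_cast (List.length_map _) (fun j => algebraMap A B (l.get j))
    (RegFlatBC.isQuasiRegular_map_of_flat l.get hl)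

theorem quasi_length_le (l' l : List R) (hI : Ideal.ofList l' = Ideal.ofList l)
    (hne : Ideal.ofList l ≠ ⊤) (hl : QQ R l) : l.length ≤ l'.length := by
  have hC : CoeffProp l.get :=
    fun b hb k => QuasiRegBasis.coeff_mem_of_sum_mem_sq l.get hl b hb k
  exact le_of_coeffProp l.get l'.get hC (by rw [span_range_get, span_range_get, hI])
    (by rw [span_range_get]; exact hne)

theorem quasi_of_ofList_eq (f l : List R) (hlen : f.length = l.length)
    (hI : Ideal.ofList f = Ideal.ofList l) (hl : QQ R l) : QQ R f := by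
  have hl' : CAlgX.IsQuasiRegular (fun i : Fin f.length => l.get (Fin.cast hlen i)) :=
    RegFlatBC.isQuasiRegular_cast hlen l.get hl
  refine QuasiRegChange.isQuasiRegular_of_span_eq _ f.get hl' ?_
  rw [range_cast hlen l.get, span_range_get, span_range_get, hI]

theorem quasi_of_forall_prime (l : List R)
    (H : ∀ P : PrimeSpectrum R, ∃ (Y : Type u) (_ : CommRing Y) (_ : Algebra R Y)
      (_ : Module.Flat R Y), (∃ 𝔔 : Ideal Y, 𝔔 ≠ ⊤ ∧ P.asIdeal.map (algebraMap R Y) ≤ 𝔔) ∧
        QQ Y (l.map (algebraMap R Y))) : QQ R l := by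
  show CAlgX.IsQuasiRegular l.get
  refine isQuasiRegular_of_forall_prime l.get (fun m hm => ?_)
  obtain ⟨Y, i1, i2, i3, h𝔔, hY⟩ := H ⟨m, hm.isPrime⟩
  refine ⟨Y, i1, i2, i3, h𝔔, ?_⟩
  have hY' : CAlgX.IsQuasiRegular (l.map (algebraMap R Y)).get := hY
  rw [RegFlatBC.get_map] at hY'
  have h3 := RegFlatBC.isQuasiRegular_cast (List.length_map (algebraMap R Y)).symm _ hY'
  exact h3

theorem quasi_of_eq_top (l : List R) (htop : Ideal.ofList l = ⊤) : QQ R l := by
  intro n P hP hev d
  rw [span_range_get, htop]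
  trivial

theorem goodQ_quasi : GoodQ.{u} QQ where
  map_of_flat := fun l hl => quasi_map_of_flat l hl
  length_le := fun l' l hI hne hl => quasi_length_le l' l hI hne hl
  of_ofList_eq := fun f l hlen hI hl => quasi_of_ofList_eq f l hlen hI hl
  of_forall_prime := fun l H => quasi_of_forall_prime l H
  of_eq_top := fun l htop => quasi_of_eq_top l htop

end Quasi

end Groth.Agent.Lib.Helper9.QDesc
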