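import Mathlib
import Groth.Agent.Lib.Helper9.QDescB

/-!
# The axioms `GoodQ` for `H_1`-regular sequences (helper9)
-/

set_option autoImplicit false
set_option linter.style.haveILetI false
universe u
open TensorProduct

namespace Groth.Agent.Lib.Helper9.QDesc

open Groth.Agent.Lib.Helper1 Groth.Agent.Lib.Helper1.KDesc Groth.Agent.Lib.Helper22
open Groth.Agent.Lib.Helper6 Matrix

section H1

variable {R : Type u} [CommRing R]

/-- the module of trivial relations -/
def triv {c : ℕ} (f : Fin c → R) : Submodule R (Fin c → R) :=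
  Submodule.span R {v : Fin c → R | ∃ i j : Fin c, v = Pi.single i (f j) - Pi.single j (f i)}

theorem isH1Regular_iff {c : ℕ} (f : Fin c → R) :
    CAlgX.IsH1Regular f ↔ ∀ a : Fin c → R, ∑ i, a i * f i = 0 → a ∈ triv f := Iff.rfl

theorem key_identity {n : ℕ} (f l : Fin n → R) (W : Matrix (Fin n) (Fin n) R)
    (hl : l = W *ᵥ f) (i j : Fin n) :
    (Pi.single i (l j) - Pi.single j (l i) : Fin n → R) ᵥ* W =
      ∑ k, ∑ m, (W j k * W i m) • (Pi.single m (f k) - Pi.single k (f m) : Fin n → R) := by
  have hlj : ∀ j, l j = ∑ k, W j k * f k := fun j => by rw [hl]; rfl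
  ext p
  rw [Matrix.sub_vecMul, Pi.sub_apply, Matrix.single_vecMul, Matrix.single_vecMul]
  simp only [Pi.smul_apply, Matrix.row, smul_eq_mul, Finset.sum_apply, Pi.sub_apply,
    Pi.single_apply, mul_sub, Finset.sum_sub_distrib]
  have e1 : ∀ k, ∑ m, W j k * W i m * (if p = m then f k else 0) = W j k * W i p * f k := by
    intro k
    rw [Finset.sum_eq_single p]
    · simp
    · intro m _ hm
      simp [Ne.symm hm]
    · simp
  have e2 : ∑ k, ∑ m, W j k * W i m * (if p = k then f m else 0) =
      ∑ m, W j p * W i m * f m := by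
    rw [Finset.sum_eq_single p]
    · simp
    · intro k _ hk
      simp [Ne.symm hk]
    · simp
  rw [e2]
  simp only [e1]
  rw [hlj j, hlj i, Finset.sum_mul, Finset.sum_mul]
  congr 1
  · exact Finset.sum_congr rfl (fun k _ => by ring)
  · exact Finset.sum_congr rfl (fun k _ => by ring)

theorem vecMul_mem_triv {n : ℕ} (f l : Fin n → R) (W : Matrix (Fin n) (Fin n) R)
    (hl : l = W *ᵥ f) (v : Fin n → R) (hv : v ∈ triv l) : v ᵥ* W ∈ triv f := by
  unfold triv at hv
  induction hv using Submodule.span_induction with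
  | mem v hv =>
    obtain ⟨i, j, rfl⟩ := hv
    rw [key_identity f l W hl i j]
    exact Submodule.sum_mem _ (fun k _ => Submodule.sum_mem _ (fun m _ =>
      Submodule.smul_mem _ _ (Submodule.subset_span ⟨m, k, rfl⟩)))
  | zero =>
    rw [Matrix.zero_vecMul]
    exact Submodule.zero_mem _
  | add x y _ _ hx hy =>
    rw [Matrix.add_vecMul]
    exact Submodule.add_mem _ hx hy
  | smul r x _ hx =>
    rw [Matrix.smul_vecMul]
    exact Submodule.smul_mem _ _ hx

/-- in a local ring, `H_1`-regularity only depends on the ideal (for sequences of the same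
length) -/
theorem isH1Regular_of_span_eq [IsLocalRing R] {n : ℕ} (f l : Fin n → R)
    (hl : CAlgX.IsH1Regular l)
    (hspan : Ideal.span (Set.range f) = Ideal.span (Set.range l))
    (hne : Ideal.span (Set.range l) ≠ ⊤) : CAlgX.IsH1Regular f := by
  have hC : CoeffProp l := fun b hb k => H1Loc.coeff_mem_of_sum_mem_sq l hl b hb k
  obtain ⟨U, V, hU, hV, hUV⟩ := exists_matrices l f hC hspan
  set I := Ideal.span (Set.range l) with hI
  have hIm : I ≤ IsLocalRing.maximalIdeal R := IsLocalRing.le_maximalIdeal hne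
  have hdet : IsUnit (U * V).det := by
    have h1 : Ideal.Quotient.mk I (U * V).det = 1 := by
      rw [RingHom.map_det, RingHom.mapMatrix_apply, map_mk_eq_one I _ hUV, Matrix.det_one]
    have h2 : (U * V).det - 1 ∈ IsLocalRing.maximalIdeal R := by
      apply hIm
      rw [← Ideal.Quotient.eq_zero_iff_mem, map_sub, h1, map_one, sub_self]
    by_contra hnu
    have h3 : (U * V).det ∈ IsLocalRing.maximalIdeal R :=
      (IsLocalRing.mem_maximalIdeal _).mpr hnu
    have h4 : (1 : R) ∈ IsLocalRing.maximalIdeal R := by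
      have := Ideal.sub_mem _ h3 h2
      simpa using this
    exact (Ideal.ne_top_iff_one _).mp (IsLocalRing.maximalIdeal.isMaximal R).ne_top h4
  have hdetU : IsUnit U.det := by
    rw [Matrix.det_mul] at hdet
    exact isUnit_of_mul_isUnit_left hdet
  intro a ha
  have hb : ∑ j, (a ᵥ* U⁻¹) j * l j = 0 := by
    have h1 : (a ᵥ* U⁻¹) ⬝ᵥ l = a ⬝ᵥ f := by
      conv_lhs => rw [hU]
      rw [← Matrix.dotProduct_mulVec, Matrix.mulVec_mulVec, Matrix.nonsing_inv_mul U hdetU,
        Matrix.one_mulVec]
    exact h1.trans ha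
  have hmem := hl _ hb
  have h5 := vecMul_mem_triv f l U hU _ hmem
  rwa [Matrix.vecMul_vecMul, Matrix.nonsing_inv_mul U hdetU, Matrix.vecMul_one] at h5

theorem isH1Regular_of_span_eq_top {c : ℕ} (l : Fin c → R)
    (htop : Ideal.span (Set.range l) = ⊤) : CAlgX.IsH1Regular l := by
  intro a ha
  have h1 : (1 : R) ∈ Ideal.span (Set.range l) := by rw [htop]; trivial
  obtain ⟨w, hw⟩ := Ideal.mem_span_range_iff_exists_fun.mp h1
  have key : a = ∑ j, ∑ i, (w j * a i) • (Pi.single i (l j) - Pi.single j (l i) : Fin c → R) := by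
    ext p
    simp only [Finset.sum_apply, Pi.smul_apply, Pi.sub_apply, Pi.single_apply, smul_eq_mul,
      mul_sub, Finset.sum_sub_distrib]
    have e1 : ∀ j, ∑ i, w j * a i * (if p = i then l j else 0) = w j * a p * l j := by
      intro j
      rw [Finset.sum_eq_single p]
      · simp
      · intro m _ hm
        simp [Ne.symm hm]
      · simp
    have e2 : ∑ j, ∑ i, w j * a i * (if p = j then l i else 0) = ∑ i, w p * a i * l i := by
      rw [Finset.sum_eq_single p]
      · simp
      · intro k _ hk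
        simp [Ne.symm hk]
      · simp
    rw [e2]
    simp only [e1]
    have e3 : ∑ i, w p * a i * l i = 0 := by
      have : ∑ i, w p * a i * l i = w p * ∑ i, a i * l i := by
        rw [Finset.mul_sum]
        exact Finset.sum_congr rfl (fun i _ => by ring)
      rw [this, ha, mul_zero]
    have e4 : ∑ j, w j * a p * l j = a p := by
      have : ∑ j, w j * a p * l j = a p * ∑ j, w j * l j := by
        rw [Finset.mul_sum]
        exact Finset.sum_congr rfl (fun i _ => by ring)
      rw [this, hw, mul_one]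
    rw [e3, e4, sub_zero]
  rw [key]
  exact Submodule.sum_mem _ (fun j _ => Submodule.sum_mem _ (fun i _ =>
    Submodule.smul_mem _ _ (Submodule.subset_span ⟨i, j, rfl⟩)))

theorem isH1Regular_of_forall_prime {c : ℕ} (l : Fin c → R)
    (H : ∀ m : Ideal R, m.IsMaximal → ∃ (Y : Type u) (_ : CommRing Y) (_ : Algebra R Y)
      (_ : Module.Flat R Y), (∃ 𝔔 : Ideal Y, 𝔔 ≠ ⊤ ∧ m.map (algebraMap R Y) ≤ 𝔔) ∧
        CAlgX.IsH1Regular (fun i => algebraMap R Y (l i))) :
    CAlgX.IsH1Regular l := by
  classical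
  intro a ha
  refine mem_of_forall_maximal (triv l) a (fun m hm => ?_)
  obtain ⟨Y, _, _, _, ⟨𝔔, h𝔔, hle⟩, hY⟩ := H m hm
  have haY : ∑ i, (fun i => algebraMap R Y (a i)) i * algebraMap R Y (l i) = 0 := by
    simp only [← map_mul, ← map_sum, ha, map_zero]
  have hmemY := hY _ haY
  let g : Fin c × Fin c → (Fin c → Y) := fun ij =>
    Pi.single ij.1 (algebraMap R Y (l ij.2)) - Pi.single ij.2 (algebraMap R Y (l ij.1))
  have hset : {v : Fin c → Y | ∃ i j : Fin c,
      v = Pi.single i (algebraMap R Y (l j)) - Pi.single j (algebraMap R Y (l i))} =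
      Set.range g := by
    ext v
    constructor
    · rintro ⟨i, j, rfl⟩
      exact ⟨(i, j), rfl⟩
    · rintro ⟨⟨i, j⟩, rfl⟩
      exact ⟨i, j, rfl⟩
  rw [hset] at hmemY
  obtain ⟨y, hy⟩ := (Submodule.mem_span_range_iff_exists_fun Y).mp hmemY
  let t : Fin c × Fin c → (Fin c → R) := fun ij =>
    Pi.single ij.1 (l ij.2) - Pi.single ij.2 (l ij.1)
  have ht : ∀ ij, t ij ∈ triv l := fun ij => Submodule.subset_span ⟨ij.1, ij.2, rfl⟩
  have hgt : ∀ ij p, g ij p = algebraMap R Y (t ij p) := by
    intro ij p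
    simp only [g, t, Pi.sub_apply, Pi.single_apply, map_sub]
    split_ifs <;> simp
  have key : (1 : Y) ⊗ₜ[R] a = ∑ ij, y ij ⊗ₜ[R] t ij := by
    apply (TensorProduct.piScalarRight R Y Y (Fin c)).injective
    rw [map_sum]
    simp only [TensorProduct.piScalarRight_apply, TensorProduct.piScalarRightHom_tmul]
    ext p
    have hp := congrFun hy p
    simp only [Finset.sum_apply, Pi.smul_apply, smul_eq_mul] at hp
    rw [Finset.sum_apply, Algebra.smul_def, mul_one, ← hp]
    apply Finset.sum_congr rfl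
    intro ij _
    rw [hgt, Algebra.smul_def, mul_comm]
  have hx : (1 : Y) ⊗ₜ[R] (Submodule.Quotient.mk a : (Fin c → R) ⧸ triv l) = 0 := by
    have h1 := congrArg (LinearMap.lTensor Y (triv l).mkQ) key
    rw [LinearMap.lTensor_tmul, map_sum, Submodule.mkQ_apply] at h1
    rw [h1]
    apply Finset.sum_eq_zero
    intro ij _
    rw [LinearMap.lTensor_tmul, Submodule.mkQ_apply,
      (Submodule.Quotient.mk_eq_zero _).mpr (ht ij), TensorProduct.tmul_zero]
  obtain ⟨s, hs, hsx⟩ := exists_notMem_smul_eq_zero ((Fin c → R) ⧸ triv l)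
    (Submodule.Quotient.mk a) Y m 𝔔 h𝔔 hle hx
  refine ⟨s, hs, ?_⟩
  rwa [← Submodule.Quotient.mk_smul, Submodule.Quotient.mk_eq_zero] at hsx

theorem h1_map_of_flat {A B : Type u} [CommRing A] [CommRing B] [Algebra A B] [Module.Flat A B]
    (l : List A) (hl : QH A l) : QH B (l.map (algebraMap A B)) := by
  change CAlgX.IsH1Regular (l.map (algebraMap A B)).get
  rw [RegFlatBC.get_map]
  exact RegFlatBC.isH1Regular_cast (List.length_map _) (fun j => algebraMap A B (l.get j))
    (RegFlatBC.isH1Regular_map_of_flat l.get hl)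

theorem h1_length_le (l' l : List R) (hI : Ideal.ofList l' = Ideal.ofList l)
    (hne : Ideal.ofList l ≠ ⊤) (hl : QH R l) : l.length ≤ l'.length := by
  have hC : CoeffProp l.get :=
    fun b hb k => H1Loc.coeff_mem_of_sum_mem_sq l.get hl b hb k
  exact le_of_coeffProp l.get l'.get hC (by rw [span_range_get, span_range_get, hI])
    (by rw [span_range_get]; exact hne)

theorem h1_of_eq_top (l : List R) (htop : Ideal.ofList l = ⊤) : QH R l := by
  apply isH1Regular_of_span_eq_top
  rw [span_range_get, htop]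

theorem h1_of_ofList_eq [IsLocalRing R] (f l : List R) (hlen : f.length = l.length)
    (hI : Ideal.ofList f = Ideal.ofList l) (hl : QH R l) : QH R f := by
  by_cases htop : Ideal.ofList l = ⊤
  · exact h1_of_eq_top f (hI.trans htop)
  · have hl' : CAlgX.IsH1Regular (fun i : Fin f.length => l.get (Fin.cast hlen i)) :=
      RegFlatBC.isH1Regular_cast hlen l.get hl
    refine isH1Regular_of_span_eq f.get _ hl' ?_ ?_
    · rw [range_cast hlen l.get, span_range_get, span_range_get, hI]
    · rw [range_cast hlen l.get, span_range_get]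
      exact htop

theorem h1_of_forall_prime (l : List R)
    (H : ∀ P : PrimeSpectrum R, ∃ (Y : Type u) (_ : CommRing Y) (_ : Algebra R Y)
      (_ : Module.Flat R Y), (∃ 𝔔 : Ideal Y, 𝔔 ≠ ⊤ ∧ P.asIdeal.map (algebraMap R Y) ≤ 𝔔) ∧
        QH Y (l.map (algebraMap R Y))) : QH R l := by
  show CAlgX.IsH1Regular l.get
  refine isH1Regular_of_forall_prime l.get (fun m hm => ?_)
  obtain ⟨Y, i1, i2, i3, h𝔔, hY⟩ := H ⟨m, hm.isPrime⟩
  refine ⟨Y, i1, i2, i3, h𝔔, ?_⟩
  have hY' : CAlgX.IsH1Regular (l.map (algebraMap R Y)).get := hY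
  rw [RegFlatBC.get_map] at hY'
  have h3 := RegFlatBC.isH1Regular_cast (List.length_map (algebraMap R Y)).symm _ hY'
  exact h3

theorem goodQ_h1 : GoodQ.{u} QH where
  map_of_flat := fun l hl => h1_map_of_flat l hl
  length_le := fun l' l hI hne hl => h1_length_le l' l hI hne hl
  of_ofList_eq := fun f l hlen hI hl => h1_of_ofList_eq f l hlen hI hl
  of_forall_prime := fun l H => h1_of_forall_prime l H
  of_eq_top := fun l htop => h1_of_eq_top l htop

end H1

end Groth.Agent.Lib.Helper9.QDesc
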