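import Mathlib
import Groth.Agent.Lib.Helper9.QDescC
import Groth.Agent.Lib.Helper1.KDesc11

/-!
# fpqc descent of `H_1`-regular and quasi-regular immersions (helper9)

Scheme-level glue, following helper1's `KDesc11` with the generic ring-level descent of `QDescA`.
-/

set_option autoImplicit false
set_option linter.style.haveILetI false
universe u
open CategoryTheory CategoryTheory.Limits TensorProduct AlgebraicGeometry

namespace Groth.Agent.Lib.Helper9.QDesc

open Groth.Agent.Lib.Helper1 Groth.Agent.Lib.Helper1.KDesc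

/-- the sequence property attached to a kind -/
def Qk (k : RegImm.Kind) : ∀ (R : Type u) [CommRing R], List R → Prop :=
  fun R _ l => k.Seq R l

theorem goodQ_seq (k : RegImm.Kind) (hk : k = RegImm.Kind.h1 ∨ k = RegImm.Kind.quasi) :
    GoodQ.{u} (Qk k) := by
  rcases hk with rfl | rfl
  · exact goodQ_h1
  · exact goodQ_quasi

section ChartIdeal

variable {Z X : Scheme.{u}} (i : Z ⟶ X)

/-- from a kernel ideal locally of kind `k` on a good affine open to charts -/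
theorem isRegularImmersionAt_of_isQIdeal (k : RegImm.Kind) (hQ : GoodQ.{u} (Qk k))
    {V : X.Opens} (hV : IsAffineOpen V)
    (hιV : IsAffineOpen (i ⁻¹ᵁ V)) (hs : Function.Surjective (i.app V))
    (hK : IsQIdeal (Qk k) (RingHom.ker (i.app V).hom)) (z : Z) (hz : i z ∈ V) :
    RegImm.IsRegularImmersionAt k i z := by
  let 𝔭 := hV.primeIdealOf ⟨i z, hz⟩
  have hI𝔭 : RingHom.ker (i.app V).hom ≤ 𝔭.asIdeal := by
    intro g hg
    by_contra hcon
    have h1 := (notMem_primeIdealOf_iff hV (i z) hz g).mp hcon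
    have h2 : z ∈ i ⁻¹ᵁ X.basicOpen g := h1
    rw [Scheme.preimage_basicOpen, RingHom.mem_ker.mp hg, Scheme.basicOpen_zero] at h2
    exact h2
  obtain ⟨g, hg𝔭, N, hN⟩ := hK 𝔭 hI𝔭
  have hxg : i z ∈ X.basicOpen g := (notMem_primeIdealOf_iff hV (i z) hz g).mp hg𝔭
  letI algg : Algebra Γ(X, V) Γ(X, X.basicOpen g) :=
    (X.presheaf.map (homOfLE (X.basicOpen_le g)).op).hom.toAlgebra
  haveI : IsLocalization.Away g Γ(X, X.basicOpen g) := hV.isLocalization_basicOpen g
  obtain ⟨l₂, -, hl₂, hI₂⟩ := hN.forall_loc hQ Γ(X, X.basicOpen g)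
  obtain ⟨hg1, hg2, hg3⟩ := UTKoszul.good_basicOpen i hV hιV hs g
  have hVg : IsAffineOpen (X.basicOpen g) := hV.basicOpen g
  refine ⟨⟨X.basicOpen g, hVg⟩, hxg, ?_, l₂, hl₂, ?_⟩
  · exact SecSch.isClosedImmersion_restrict_of_surjective i hVg hg1 hg2
  · rw [hg3]
    exact hI₂

/-- data of a chart of kind `k` restricted to a basic open -/
theorem seq_basicOpen (k : RegImm.Kind) (hQ : GoodQ.{u} (Qk k)) [IsImmersion i] {U₁ : X.Opens}
    (hU₁ : IsAffineOpen U₁) [IsClosedImmersion (i ∣_ U₁)]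
    (rs₁ : List Γ(X, U₁)) (hrs₁ : k.Seq Γ(X, U₁) rs₁)
    (hker₁ : RingHom.ker (i.app U₁).hom = Ideal.ofList rs₁) (h : Γ(X, U₁)) :
    IsAffineOpen (i ⁻¹ᵁ (X.basicOpen h)) ∧ Function.Surjective (i.app (X.basicOpen h)) ∧
      ∃ l : List Γ(X, X.basicOpen h), l.length = rs₁.length ∧
        k.Seq Γ(X, X.basicOpen h) l ∧
        RingHom.ker (i.app (X.basicOpen h)).hom = Ideal.ofList l := by
  obtain ⟨hiU₁, hsU₁⟩ := ConormMap.good_of_le_coborderRange i hU₁
    (UTKoszul.le_coborderRange_of_isClosedImmersion_restrict i U₁)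
  obtain ⟨h1, h2, h3⟩ := UTKoszul.good_basicOpen i hU₁ hiU₁ hsU₁ h
  refine ⟨h1, h2, ?_⟩
  letI alg : Algebra Γ(X, U₁) Γ(X, X.basicOpen h) :=
    (X.presheaf.map (homOfLE (X.basicOpen_le h)).op).hom.toAlgebra
  haveI : IsLocalization.Away h Γ(X, X.basicOpen h) := hU₁.isLocalization_basicOpen h
  haveI : Module.Flat Γ(X, U₁) Γ(X, X.basicOpen h) :=
    IsLocalization.flat _ (Submonoid.powers h)
  refine ⟨rs₁.map (algebraMap Γ(X, U₁) Γ(X, X.basicOpen h)), List.length_map _, ?_, ?_⟩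
  · exact hQ.map_of_flat rs₁ hrs₁
  · rw [h3, hker₁, RegComp.ofList_map]
    rfl

/-- the kernel ideal of a regular immersion of kind `k` on a good affine open is locally of
kind `k` -/
theorem isQIdeal_ker_of_isRegularImmersion (k : RegImm.Kind) (hQ : GoodQ.{u} (Qk k))
    (hi : RegImm.IsRegularImmersion k i) {V : X.Opens} (hV : IsAffineOpen V)
    (hιV : IsAffineOpen (i ⁻¹ᵁ V)) (hs : Function.Surjective (i.app V)) :
    IsQIdeal (Qk k) (RingHom.ker (i.app V).hom) := by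
  haveI := hi.1
  intro P hP
  obtain ⟨z, hz⟩ := exists_eq_fromSpec_of_ker_le i hV hιV hs P hP
  have hxV : i z ∈ V := by
    have : i z ∈ Set.range hV.fromSpec := ⟨P, hz.symm⟩
    rw [hV.range_fromSpec] at this
    exact this
  obtain ⟨⟨U₁, hU₁m⟩, hzU₁, hcl₁, rs, hrs, hker⟩ := hi.2 z
  have hU₁ : IsAffineOpen U₁ := hU₁m
  haveI := hcl₁
  have hzU₁' : i z ∈ U₁ := hzU₁
  obtain ⟨f, g, hfg, hxf⟩ := exists_basicOpen_le_affine_inter hV hU₁ (i z) ⟨hxV, hzU₁'⟩
  obtain ⟨-, -, l, -, hl, hkerl⟩ := seq_basicOpen i k hQ hU₁ rs hrs hker g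
  obtain ⟨-, -, hg3⟩ := UTKoszul.good_basicOpen i hV hιV hs f
  have hfP : f ∉ P.asIdeal := by
    have h2 := hV.fromSpec_preimage_basicOpen f
    have h3 : P ∈ hV.fromSpec ⁻¹ᵁ X.basicOpen f := by
      change hV.fromSpec P ∈ X.basicOpen f
      rw [← hz]; exact hxf
    rw [h2] at h3
    exact h3
  refine ⟨f, hfP, l.length, ?_⟩
  generalize X.basicOpen g = W at hfg l hl hkerl
  subst hfg
  letI algf : Algebra Γ(X, V) Γ(X, X.basicOpen f) :=
    (X.presheaf.map (homOfLE (X.basicOpen_le f)).op).hom.toAlgebra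
  haveI : IsLocalization.Away f Γ(X, X.basicOpen f) := hV.isLocalization_basicOpen f
  refine ⟨Γ(X, X.basicOpen f), inferInstance, algf, inferInstance, l, rfl, hl, ?_⟩
  rw [← hkerl, hg3]
  rfl

end ChartIdeal

section RegDesc

variable {X Y X' Y' : Scheme.{u}} {i : Y ⟶ X} {g : X' ⟶ X} {i' : Y' ⟶ X'} {g' : Y' ⟶ Y}

/-- fpqc descent of `H_1`-regular and quasi-regular immersions -/
theorem isRegularImmersion_of_fpqc (k : RegImm.Kind)
    (hk : k = RegImm.Kind.h1 ∨ k = RegImm.Kind.quasi)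
    [IsImmersion i] [Flat g] [Surjective g] [QuasiCompact g]
    (hsq : IsPullback g' i' i g) (hi' : RegImm.IsRegularImmersion k i') :
    RegImm.IsRegularImmersion k i := by
  have hQ := goodQ_seq.{u} k hk
  refine ⟨inferInstance, fun y => ?_⟩
  obtain ⟨_, ⟨V : X.Opens, hV, rfl⟩, hyV, hVle⟩ :=
    X.isBasis_affineOpens.exists_subset_of_mem_open (ConormMap.mem_coborderRange i y)
      i.coborderRange.2
  obtain ⟨hιV, hs⟩ := ConormMap.good_of_le_coborderRange i hV hVle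
  refine isRegularImmersionAt_of_isQIdeal i k hQ hV hιV hs ?_ y hyV
  obtain ⟨s, hsfin, hle, hsurj⟩ := exists_finite_affine_cover g hV
  haveI : Finite ↥s := hsfin.to_subtype
  letI algT : ∀ j : ↥s, Algebra Γ(X, V) Γ(X', j.1.1) :=
    fun j => (g.appLE V j.1.1 (hle j.1 j.2)).hom.toAlgebra
  haveI : ∀ j : ↥s, Module.Flat Γ(X, V) Γ(X', j.1.1) :=
    fun j => g.flat_appLE hV j.1.2 (hle j.1 j.2)
  apply isQIdeal_of_family (fun j : ↥s => Γ(X', j.1.1)) hQ
  · intro p
    obtain ⟨j, hj, hle', q, hq⟩ := hsurj p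
    exact ⟨⟨j, hj⟩, q, hq⟩
  · intro j
    haveI : IsClosedImmersion (i ∣_ V) :=
      SecSch.isClosedImmersion_restrict_of_surjective i hV hιV hs
    haveI : IsClosedImmersion (i' ∣_ j.1.1) :=
      RegBC.isClosedImmersion_restrict_of_isPullback hsq (hle j.1 j.2)
    haveI : IsImmersion i' := hi'.1
    obtain ⟨hι', hs'⟩ := ConormMap.good_of_le_coborderRange i' j.1.2
      (UTKoszul.le_coborderRange_of_isClosedImmersion_restrict i' j.1.1)
    have hB := isQIdeal_ker_of_isRegularImmersion i' k hQ hi' j.1.2 hι' hs'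
    rw [RegBC.ker_app_of_isPullback hsq hV hιV hs j.1.2 (hle j.1 j.2)] at hB
    exact hB

end RegDesc

end Groth.Agent.Lib.Helper9.QDesc
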