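import Groth.Agent.Lib.Helper9.InjDim
import Mathlib.RingTheory.Ideal.AssociatedPrime.Finiteness
import Mathlib.Algebra.Category.ModuleCat.Projective
import Mathlib.Algebra.Homology.DerivedCategory.Ext.EnoughProjectives
import Mathlib.RingTheory.Finiteness.Cardinality
import Mathlib.RingTheory.Noetherian.Basic

/-!
# Projective dimension of a finite module over a Noetherian ring is detected by cyclic modules
-/

set_option autoImplicit false
universe u v w
open CategoryTheory

namespace Groth.Agent.Lib.Helper9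

section general

variable {C : Type u} [Category.{v} C] [Abelian C] [HasExt.{w} C]

lemma ext_subsingleton_of_iso_right {X Y Y' : C} (e : Y ≅ Y') (j : ℕ)
    (h : Subsingleton (Abelian.Ext X Y' j)) : Subsingleton (Abelian.Ext X Y j) := by
  suffices hx : ∀ x : Abelian.Ext X Y j, x = 0 from ⟨fun x y => by rw [hx x, hx y]⟩
  intro x
  have h1 : x.comp (Abelian.Ext.mk₀ e.hom) (add_zero j) = 0 := Subsingleton.elim _ _
  calc x = x.comp (Abelian.Ext.mk₀ (𝟙 Y)) (add_zero j) := (x.comp_mk₀_id).symm
    _ = x.comp ((Abelian.Ext.mk₀ e.hom).comp (Abelian.Ext.mk₀ e.inv) (zero_add 0))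
          (add_zero j) := by
        rw [Abelian.Ext.mk₀_comp_mk₀, e.hom_inv_id]
    _ = (x.comp (Abelian.Ext.mk₀ e.hom) (add_zero j)).comp (Abelian.Ext.mk₀ e.inv)
          (add_zero j) := by
        rw [Abelian.Ext.comp_assoc_of_third_deg_zero]
    _ = 0 := by rw [h1, Abelian.Ext.zero_comp]

lemma ext_subsingleton_of_iso_left {X X' Y : C} (e : X ≅ X') (j : ℕ)
    (h : Subsingleton (Abelian.Ext X' Y j)) : Subsingleton (Abelian.Ext X Y j) := by
  suffices hx : ∀ x : Abelian.Ext X Y j, x = 0 from ⟨fun x y => by rw [hx x, hx y]⟩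
  intro x
  have h1 : (Abelian.Ext.mk₀ e.inv).comp x (zero_add j) = 0 := Subsingleton.elim _ _
  calc x = (Abelian.Ext.mk₀ (𝟙 X)).comp x (zero_add j) := (x.mk₀_id_comp).symm
    _ = (Abelian.Ext.mk₀ e.hom).comp ((Abelian.Ext.mk₀ e.inv).comp x (zero_add j))
          (zero_add j) := by
        rw [Abelian.Ext.mk₀_comp_mk₀_assoc, e.hom_inv_id]
    _ = 0 := by rw [h1, Abelian.Ext.comp_zero]

lemma ext_subsingleton_of_isZero_right {X Y : C} (hY : Limits.IsZero Y) (j : ℕ) :
    Subsingleton (Abelian.Ext X Y j) := by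
  suffices hx : ∀ x : Abelian.Ext X Y j, x = 0 from ⟨fun x y => by rw [hx x, hx y]⟩
  intro x
  rw [← x.comp_mk₀_id, hY.eq_of_src (𝟙 _) 0, Abelian.Ext.mk₀_zero, Abelian.Ext.comp_zero]

end general

variable {A : Type u} [CommRing A]

/-- Over a Noetherian ring, if `Ext^j(X, A/I) = 0` for all ideals `I` then `Ext^j(X, N) = 0`
for every finite module `N`. -/
lemma ext_subsingleton_of_cyclic [IsNoetherianRing A] (X : ModuleCat.{u} A) (j : ℕ)
    (h : ∀ I : Ideal A, Subsingleton (Abelian.Ext X (ModuleCat.of A (A ⧸ I)) j))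
    (N : Type u) [AddCommGroup N] [Module A N] [hN : Module.Finite A N] :
    Subsingleton (Abelian.Ext X (ModuleCat.of A N) j) := by
  refine IsNoetherianRing.induction_on_isQuotientEquivQuotientPrime A hN
    (motive := fun N _ _ _ => Subsingleton (Abelian.Ext X (ModuleCat.of A N) j)) ?_ ?_ ?_
  · intro N _ _ _ _
    exact ext_subsingleton_of_isZero_right (ModuleCat.isZero_of_subsingleton _) j
  · intro N _ _ _ p e
    exact ext_subsingleton_of_iso_right (e.toModuleIso) j (h p.1)
  · intro N₁ _ _ _ N₂ _ _ _ N₃ _ _ _ f g hf hg hfg h1 h3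
    let S : ShortComplex (ModuleCat.{u} A) :=
      ModuleCat.shortComplexOfCompEqZero f g hfg.linearMap_comp_eq_zero
    have hS : S.ShortExact := ModuleCat.shortComplex_shortExact S hfg hf hg
    suffices hx : ∀ x : Abelian.Ext X (ModuleCat.of A N₂) j, x = 0 from
      ⟨fun x y => by rw [hx x, hx y]⟩
    intro x
    obtain ⟨x₁, rfl⟩ := Abelian.Ext.covariant_sequence_exact₂ X hS x (h3.elim _ _)
    rw [h1.elim x₁ 0, Abelian.Ext.zero_comp]

/-- Over a Noetherian ring, projective dimension `≤ n` of a finite module is detected by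
the vanishing of `Ext^{n+1}(M, A/I)`. -/
lemma hasProjectiveDimensionLT_of_cyclic [IsNoetherianRing A] (n : ℕ) :
    ∀ (M : Type u) [AddCommGroup M] [Module A M] [Module.Finite A M],
    (∀ I : Ideal A,
      Subsingleton (Abelian.Ext (ModuleCat.of A M) (ModuleCat.of A (A ⧸ I)) (n + 1))) →
    HasProjectiveDimensionLT (ModuleCat.of A M) (n + 1) := by
  induction n with
  | zero =>
    intro M _ _ _ h
    obtain ⟨r, p, hp⟩ := Module.Finite.exists_fin' A M
    have hKfin : Module.Finite A ↥(LinearMap.ker p) :=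
      Module.Finite.iff_fg.mpr (IsNoetherian.noetherian _)
    let S : ShortComplex (ModuleCat.{u} A) :=
      ModuleCat.shortComplexOfCompEqZero (LinearMap.ker p).subtype p
        (LinearMap.exact_subtype_ker_map p).linearMap_comp_eq_zero
    have hS : S.ShortExact := ModuleCat.shortComplex_shortExact S
      (LinearMap.exact_subtype_ker_map p) (LinearMap.ker p).injective_subtype hp
    have hE : Subsingleton (Abelian.Ext (ModuleCat.of A M) (ModuleCat.of A ↥(LinearMap.ker p)) 1) :=
      ext_subsingleton_of_cyclic (ModuleCat.of A M) 1 h ↥(LinearMap.ker p)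
    obtain ⟨x₂, hx₂⟩ := Abelian.Ext.covariant_sequence_exact₃ (ModuleCat.of A M) hS
      (Abelian.Ext.mk₀ (𝟙 (ModuleCat.of A M))) (zero_add 1) (hE.elim _ _)
    obtain ⟨s, rfl⟩ := Abelian.Ext.homEquiv₀.symm.surjective x₂
    have hs : s ≫ S.g = 𝟙 (ModuleCat.of A M) :=
      Abelian.Ext.homEquiv₀.symm.injective (by simpa using hx₂)
    have hproj : Projective (ModuleCat.of A (Fin r → A)) :=
      (IsProjective.iff_projective (R := A) (Fin r → A)).mp inferInstance
    have hR : Retract (ModuleCat.of A M) (ModuleCat.of A (Fin r → A)) :=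
      { i := s, r := S.g, retract := hs }
    exact hR.hasProjectiveDimensionLT 1
  | succ n ih =>
    intro M _ _ _ h
    obtain ⟨r, p, hp⟩ := Module.Finite.exists_fin' A M
    have hKfin : Module.Finite A ↥(LinearMap.ker p) :=
      Module.Finite.iff_fg.mpr (IsNoetherian.noetherian _)
    let S : ShortComplex (ModuleCat.{u} A) :=
      ModuleCat.shortComplexOfCompEqZero (LinearMap.ker p).subtype p
        (LinearMap.exact_subtype_ker_map p).linearMap_comp_eq_zero
    have hS : S.ShortExact := ModuleCat.shortComplex_shortExact S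
      (LinearMap.exact_subtype_ker_map p) (LinearMap.ker p).injective_subtype hp
    have hproj : Projective S.X₂ :=
      (IsProjective.iff_projective (R := A) (Fin r → A)).mp inferInstance
    have hK : HasProjectiveDimensionLT S.X₁ (n + 1) := by
      apply ih ↥(LinearMap.ker p)
      intro I
      suffices hx : ∀ x : Abelian.Ext S.X₁ (ModuleCat.of A (A ⧸ I)) (n + 1), x = 0 from
        ⟨fun x y => by rw [hx x, hx y]⟩
      intro x
      obtain ⟨x₂, rfl⟩ := Abelian.Ext.contravariant_sequence_exact₁ hS _ x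
        (add_comm 1 (n + 1)) ((h I).elim _ _)
      rw [x₂.eq_zero_of_projective, Abelian.Ext.comp_zero]
    exact (hS.hasProjectiveDimensionLT_X₃_iff n hproj).mpr hK

end Groth.Agent.Lib.Helper9
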