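import Mathlib

/-!
# Power-series lemmas for the Artin–Schreier substitution `t ↦ t·u`, `u^n (1+t^n) = 1`
(helper9; used by S13863, S13864)
-/

namespace Groth.Agent.Lib.Helper9.ASCover

open PowerSeries

variable {k : Type*} [Field k]

lemma hasSubst_Xu (u : k⟦X⟧) : HasSubst (X * u) :=
  HasSubst.of_constantCoeff_zero' (by simp)

/-- substitution `t ↦ t u` as an algebra endomorphism. -/
noncomputable def sig (u : k⟦X⟧) : k⟦X⟧ →ₐ[k] k⟦X⟧ := substAlgHom (hasSubst_Xu u)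

lemma sig_apply (u f : k⟦X⟧) : sig u f = subst (X * u) f := by
  unfold sig
  rw [coe_substAlgHom]

lemma sig_X (u : k⟦X⟧) : sig u X = X * u := by
  rw [sig_apply, subst_X (hasSubst_Xu u)]

lemma sig_C (u : k⟦X⟧) (c : k) : sig u (C c) = C c := by
  rw [sig_apply, subst_C]
  rfl

lemma constantCoeff_sig (u f : k⟦X⟧) : constantCoeff (sig u f) = constantCoeff f := by
  have h0 : constantCoeff (f - C (constantCoeff f)) = 0 := by simp
  have h1 : constantCoeff (sig u (f - C (constantCoeff f))) = 0 := by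
    rw [sig_apply]
    exact constantCoeff_subst_eq_zero (show constantCoeff (X * u) = 0 by simp) _ h0
  rw [map_sub, sig_C, map_sub, constantCoeff_C] at h1
  exact sub_eq_zero.1 h1

lemma geom_isUnit {n : ℕ} (hn : (n : k) ≠ 0) {x : k⟦X⟧} (hx : constantCoeff x = 1) :
    IsUnit (∑ i ∈ Finset.range n, x ^ i) := by
  rw [isUnit_iff_constantCoeff, map_sum]
  simp only [map_pow, hx, one_pow, Finset.sum_const, Finset.card_range, nsmul_eq_mul, mul_one]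
  exact isUnit_iff_ne_zero.2 hn

lemma exists_eq_one_add {n : ℕ} (hn : (n : k) ≠ 0) {x : k⟦X⟧} (hx : constantCoeff x = 1)
    {r : k⟦X⟧} (h : x ^ n - 1 = X ^ n * r) :
    ∃ z, x = 1 + X ^ n * z ∧ constantCoeff z * n = constantCoeff r := by
  obtain ⟨w, hw⟩ := geom_isUnit hn hx
  have hg := geom_sum_mul x n
  rw [← hw, h] at hg
  obtain ⟨wi, hwi⟩ : ∃ wi : k⟦X⟧, wi * (w : k⟦X⟧) = 1 := ⟨((w⁻¹ : (k⟦X⟧)ˣ) : k⟦X⟧), Units.inv_mul w⟩
  refine ⟨r * wi, ?_, ?_⟩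
  · linear_combination (-(x - 1)) * hwi + wi * hg
  · have hw0 : constantCoeff (w : k⟦X⟧) = n := by
      rw [hw, map_sum]
      simp only [map_pow, hx, one_pow, Finset.sum_const, Finset.card_range, nsmul_eq_mul, mul_one]
    have h2 : constantCoeff (r * wi * (w : k⟦X⟧)) = constantCoeff r := by
      rw [mul_assoc, hwi, mul_one]
    rw [map_mul, hw0] at h2
    exact h2

lemma eq_one_of_pow_eq_one {n : ℕ} (hn : (n : k) ≠ 0) {x : k⟦X⟧} (hx : constantCoeff x = 1)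
    (h : x ^ n = 1) : x = 1 := by
  have hg := geom_sum_mul x n
  rw [h, sub_self] at hg
  exact sub_eq_zero.1 ((IsUnit.mul_right_eq_zero (geom_isUnit hn hx)).1 hg)

lemma one_add_pow_exists {R : Type*} [CommRing R] (y : R) (N : ℕ) :
    ∃ r : R, (1 + y) ^ N = 1 + N * y + y ^ 2 * r := by
  induction N with
  | zero => exact ⟨0, by simp⟩
  | succ N ih =>
    obtain ⟨r, hr⟩ := ih
    exact ⟨N + r + y * r, by rw [pow_succ, hr]; push_cast; ring⟩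

lemma coeff_key {n : ℕ} (hn0 : 0 < n) (z A : k⟦X⟧) (N : ℕ) :
    coeff n ((1 + X ^ n * z) ^ N * A) = coeff n A + N * constantCoeff z * constantCoeff A := by
  obtain ⟨r, hr⟩ := one_add_pow_exists (X ^ n * z) N
  have e : (1 + X ^ n * z) ^ N * A =
      A + X ^ n * ((N : k⟦X⟧) * z * A) + X ^ (2 * n) * (z ^ 2 * r * A) := by
    rw [hr]; ring
  rw [e, map_add, map_add, coeff_X_pow_mul', coeff_X_pow_mul', if_pos le_rfl,
    if_neg (by omega), Nat.sub_self, add_zero, coeff_zero_eq_constantCoeff_apply, map_mul, map_mul,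
    map_natCast]

lemma sig_sub_dvd {n : ℕ} {u z : k⟦X⟧} (hu : u = 1 + X ^ n * z) :
    ∀ (j : ℕ) (G : k⟦X⟧), X ^ (min j (n + 1)) ∣ sig u G - G := by
  intro j
  induction j with
  | zero => intro G; simp
  | succ j ih =>
    intro G
    obtain ⟨G₁, hG₁⟩ : ∃ G₁ : k⟦X⟧, G₁ = mk fun p => coeff (p + 1) G := ⟨_, rfl⟩
    obtain ⟨q, hq⟩ := ih G₁
    have hG : G = X * G₁ + C (constantCoeff G) := by
      rw [hG₁]; exact eq_X_mul_shift_add_const G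
    have e : sig u G - G = X ^ (n + 1) * (z * sig u G₁) + X * (sig u G₁ - G₁) := by
      obtain ⟨g₀, hg₀⟩ : ∃ g₀ : k, g₀ = constantCoeff G := ⟨_, rfl⟩
      rw [← hg₀] at hG
      have e1 : sig u G = X * u * sig u G₁ + C g₀ := by
        conv_lhs => rw [hG]
        rw [map_add, map_mul, sig_X, sig_C]
      calc sig u G - G = (X * u * sig u G₁ + C g₀) - (X * G₁ + C g₀) := by rw [← e1, ← hG]
        _ = _ := by linear_combination (X * sig u G₁) * hu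
    rw [e, hq]
    refine dvd_add (Dvd.dvd.mul_right (pow_dvd_pow X (min_le_right _ _)) _) ?_
    rw [← mul_assoc, ← pow_succ']
    exact Dvd.dvd.mul_right (pow_dvd_pow X (by omega)) _

lemma coeff_sig_eq {n : ℕ} {u z : k⟦X⟧} (hu : u = 1 + X ^ n * z) (G : k⟦X⟧) {j : ℕ}
    (hj : j ≤ n) : coeff j (sig u G) = coeff j G := by
  have h := sig_sub_dvd hu (n + 1) G
  rw [min_self, X_pow_dvd_iff] at h
  have h1 := h j (by omega)
  rw [map_sub] at h1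
  exact sub_eq_zero.1 h1

lemma unit_zpow_dvd {R : Type*} [CommRing R] (x : R) (Y : Rˣ) (hY : x ∣ (Y : R) - 1) (j : ℤ) :
    x ∣ ((Y ^ j : Rˣ) : R) - 1 := by
  have hnat : ∀ N : ℕ, x ∣ ((Y ^ N : Rˣ) : R) - 1 := by
    intro N
    induction N with
    | zero => simp
    | succ N ih =>
      rw [pow_succ, Units.val_mul]
      have e : ((Y ^ N : Rˣ) : R) * (Y : R) - 1 =
          (((Y ^ N : Rˣ) : R) - 1) * (Y : R) + ((Y : R) - 1) := by ring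
      rw [e]
      exact dvd_add (Dvd.dvd.mul_right ih _) hY
  have hinv : ∀ Z : Rˣ, x ∣ (Z : R) - 1 → x ∣ ((Z⁻¹ : Rˣ) : R) - 1 := by
    intro Z hZ
    have e : ((Z⁻¹ : Rˣ) : R) - 1 = -((Z⁻¹ : Rˣ) : R) * ((Z : R) - 1) := by
      have h1 : ((Z⁻¹ : Rˣ) : R) * (Z : R) = 1 := Units.inv_mul Z
      linear_combination h1
    rw [e]
    exact Dvd.dvd.mul_left hZ _
  obtain ⟨N, rfl | rfl⟩ := Int.eq_nat_or_neg j
  · rw [zpow_natCast]; exact hnat N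
  · rw [zpow_neg, zpow_natCast]; exact hinv _ (hnat N)

/-- the iterates `σ^l(t)/t`. -/
noncomputable def us (u : k⟦X⟧) : ℕ → k⟦X⟧
  | 0 => 1
  | (l + 1) => u * sig u (us u l)

lemma us_zero (u : k⟦X⟧) : us u 0 = 1 := rfl
lemma us_succ (u : k⟦X⟧) (l : ℕ) : us u (l + 1) = u * sig u (us u l) := rfl

lemma us_const {u : k⟦X⟧} (hu1 : constantCoeff u = 1) (l : ℕ) : constantCoeff (us u l) = 1 := by
  induction l with
  | zero => simp [us_zero]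
  | succ l ih => rw [us_succ, map_mul, hu1, constantCoeff_sig, ih, one_mul]

lemma us_pow {u : k⟦X⟧} {n : ℕ} (hun : u ^ n * (1 + X ^ n) = 1) (l : ℕ) :
    (us u l) ^ n * (1 + (l : k⟦X⟧) * X ^ n) = 1 := by
  induction l with
  | zero => simp [us_zero]
  | succ l ih =>
    have hS := congrArg (sig u) ih
    rw [map_mul, map_pow, map_add, map_one, map_mul, map_natCast, map_pow, sig_X,
      mul_pow] at hS
    rw [us_succ, mul_pow]
    push_cast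
    linear_combination (sig u (us u l)) ^ n * hun + hS

theorem main64 (p : ℕ) [Fact p.Prime] [CharP k p] (n : ℕ) (hn : 0 < n) (hpn : ¬ p ∣ n)
    (u : k⟦X⟧) (hu1 : constantCoeff u = 1) (hun : u ^ n * (1 + X ^ n) = 1) (hu : IsUnit u) (a : ℤ)
    (c : ℕ → k⟦X⟧)
    (hc : ∀ m : ℕ, 1 ≤ m → m ≤ n →
      X ^ m * c m = ((hu.unit ^ (a - m) : (k⟦X⟧)ˣ) : k⟦X⟧) - 1)
    (coef : ℕ → k) (h : k⟦X⟧)
    (hh : ((hu.unit ^ a : (k⟦X⟧)ˣ) : k⟦X⟧) * subst (X * u) h - h =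
      ∑ m ∈ (Finset.Icc 1 n).filter (fun m : ℕ => ¬ (p : ℤ) ∣ a - (m : ℤ)), coef m • c m) :
    ∀ m ∈ (Finset.Icc 1 n).filter (fun m : ℕ => ¬ (p : ℤ) ∣ a - (m : ℤ)), coef m = 0 := by
  classical
  have hnk : (n : k) ≠ 0 := fun h0 => hpn ((CharP.cast_eq_zero_iff k p n).1 h0)
  obtain ⟨z, hz, hz0⟩ := exists_eq_one_add hnk hu1 (r := -u ^ n) (by linear_combination hun)
  rw [map_neg, map_pow, hu1, one_pow] at hz0
  have hz0' : constantCoeff z ≠ 0 := by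
    intro h0
    rw [h0, zero_mul] at hz0
    exact one_ne_zero (neg_eq_zero.1 hz0.symm)
  obtain ⟨T, hT⟩ : ∃ T : Finset ℕ,
      T = (Finset.Icc 1 n).filter (fun m : ℕ => ¬ (p : ℤ) ∣ a - (m : ℤ)) := ⟨_, rfl⟩
  rw [← hT] at hh ⊢
  by_contra hcon
  push Not at hcon
  obtain ⟨m₁, hm₁T, hm₁0⟩ := hcon
  have hT'ne : (T.filter (fun m => coef m ≠ 0)).Nonempty :=
    ⟨m₁, Finset.mem_filter.2 ⟨hm₁T, hm₁0⟩⟩
  obtain ⟨m₀, hm₀def⟩ : ∃ m₀, m₀ = (T.filter (fun m => coef m ≠ 0)).max' hT'ne := ⟨_, rfl⟩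
  have hm₀T' : m₀ ∈ T.filter (fun m => coef m ≠ 0) := by rw [hm₀def]; exact Finset.max'_mem _ _
  obtain ⟨hm₀T, hcoef0⟩ := Finset.mem_filter.1 hm₀T'
  have hmax : ∀ m ∈ T, m₀ < m → coef m = 0 := by
    intro m hm hlt
    by_contra h0
    have := Finset.le_max' (T.filter (fun m => coef m ≠ 0)) m (Finset.mem_filter.2 ⟨hm, h0⟩)
    rw [← hm₀def] at this
    omega
  have hTmem : ∀ m ∈ T, (1 ≤ m ∧ m ≤ n) ∧ ¬ (p : ℤ) ∣ a - (m : ℤ) := by
    intro m hm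
    rw [hT, Finset.mem_filter, Finset.mem_Icc] at hm
    exact hm
  obtain ⟨⟨hm₀1, hm₀n⟩, hm₀p⟩ := hTmem m₀ hm₀T
  have hU : ((hu.unit : (k⟦X⟧)ˣ) : k⟦X⟧) = u := hu.unit_spec
  obtain ⟨U, hUdef⟩ : ∃ U : (k⟦X⟧)ˣ, U = hu.unit := ⟨_, rfl⟩
  rw [← hUdef] at hc hh hU
  have Enat : ∀ N : ℕ, ((U ^ (N : ℤ) : (k⟦X⟧)ˣ) : k⟦X⟧) = u ^ N := by
    intro N; rw [zpow_natCast, Units.val_pow_eq_pow_val, hU]
  have Eadd : ∀ i j : ℤ, ((U ^ (i + j) : (k⟦X⟧)ˣ) : k⟦X⟧) = ↑(U ^ i) * ↑(U ^ j) := by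
    intro i j; rw [zpow_add, Units.val_mul]
  simp only [smul_eq_C_mul] at hh
  obtain ⟨T₀, hT₀⟩ : ∃ T₀ : Finset ℕ, T₀ = T.filter (fun m => m ≤ m₀) := ⟨_, rfl⟩
  have hT₀mem : ∀ m, m ∈ T₀ ↔ m ∈ T ∧ m ≤ m₀ := by intro m; rw [hT₀, Finset.mem_filter]
  have hsum : ∑ m ∈ T, C (coef m) * c m = ∑ m ∈ T₀, C (coef m) * c m := by
    rw [hT₀]
    symm
    apply Finset.sum_subset (Finset.filter_subset _ _)
    intro m hm hnot
    have hnle : ¬ m ≤ m₀ := fun hle => hnot (Finset.mem_filter.2 ⟨hm, hle⟩)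
    rw [hmax m hm (by omega), map_zero, zero_mul]
  obtain ⟨F, hF⟩ : ∃ F : k⟦X⟧, F = ∑ m ∈ T₀, C (coef m) * X ^ (m₀ - m) := ⟨_, rfl⟩
  obtain ⟨G, hG⟩ : ∃ G : k⟦X⟧, G = F - X ^ m₀ * h := ⟨_, rfl⟩
  have hhh : ((U ^ a : (k⟦X⟧)ˣ) : k⟦X⟧) * sig u h - h = ∑ m ∈ T₀, C (coef m) * c m := by
    rw [sig_apply, hh, hsum]
  have claimB : X ^ m₀ * ∑ m ∈ T₀, C (coef m) * c m =
      (∑ m ∈ T₀, C (coef m) * (X ^ (m₀ - m) * ((U ^ (a - (m : ℤ)) : (k⟦X⟧)ˣ) : k⟦X⟧))) - F := by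
    rw [hF, Finset.mul_sum, ← Finset.sum_sub_distrib]
    refine Finset.sum_congr rfl (fun m hm => ?_)
    obtain ⟨hmT, hle⟩ := (hT₀mem m).1 hm
    obtain ⟨⟨h1m, hmn⟩, -⟩ := hTmem m hmT
    have hpow : (X : k⟦X⟧) ^ m₀ = X ^ (m₀ - m) * X ^ m := by
      rw [← pow_add, Nat.sub_add_cancel hle]
    have h3 := hc m h1m hmn
    rw [hpow]
    linear_combination (C (coef m) * X ^ (m₀ - m)) * h3
  have claimA : ((U ^ (a - (m₀ : ℤ)) : (k⟦X⟧)ˣ) : k⟦X⟧) * sig u F =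
      ∑ m ∈ T₀, C (coef m) * (X ^ (m₀ - m) * ((U ^ (a - (m : ℤ)) : (k⟦X⟧)ˣ) : k⟦X⟧)) := by
    rw [hF, map_sum, Finset.mul_sum]
    refine Finset.sum_congr rfl (fun m hm => ?_)
    have hle := ((hT₀mem m).1 hm).2
    have hd : a - (m : ℤ) = (a - (m₀ : ℤ)) + ((m₀ - m : ℕ) : ℤ) := by omega
    rw [map_mul, sig_C, map_pow, sig_X, mul_pow, hd, Eadd, Enat]
    ring
  have claimC : ((U ^ (a - (m₀ : ℤ)) : (k⟦X⟧)ˣ) : k⟦X⟧) * sig u (X ^ m₀ * h) =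
      X ^ m₀ * (((U ^ a : (k⟦X⟧)ˣ) : k⟦X⟧) * sig u h) := by
    have hd : a = (a - (m₀ : ℤ)) + ((m₀ : ℕ) : ℤ) := by ring
    rw [map_mul, map_pow, sig_X, mul_pow]
    conv_rhs => rw [hd, Eadd, Enat]
    ring
  have hkey : ((U ^ (a - (m₀ : ℤ)) : (k⟦X⟧)ˣ) : k⟦X⟧) * sig u G = G := by
    have hB' : X ^ m₀ * (((U ^ a : (k⟦X⟧)ˣ) : k⟦X⟧) * sig u h - h) =
        (∑ m ∈ T₀, C (coef m) * (X ^ (m₀ - m) * ((U ^ (a - (m : ℤ)) : (k⟦X⟧)ˣ) : k⟦X⟧))) - F := by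
      rw [hhh, claimB]
    rw [hG, map_sub]
    linear_combination claimA - claimC - hB'
  have hG0 : constantCoeff G = coef m₀ := by
    rw [hG, map_sub, map_mul, map_pow, constantCoeff_X, zero_pow (by omega), zero_mul, sub_zero,
      hF, map_sum, Finset.sum_eq_single m₀]
    · rw [Nat.sub_self, pow_zero, mul_one, constantCoeff_C]
    · intro m hm hne
      have hle := ((hT₀mem m).1 hm).2
      have hd : m₀ - m ≠ 0 := by omega
      rw [map_mul, map_pow, constantCoeff_X, zero_pow hd, mul_zero]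
    · intro hnot
      exact absurd ((hT₀mem m₀).2 ⟨hm₀T, le_rfl⟩) hnot
  have hfin : ∀ N : ℕ, coeff n G + (N : k) * constantCoeff z * coef m₀ = coeff n G →
      (p : ℤ) ∣ (N : ℤ) := by
    intro N h1
    have h2 : (N : k) * constantCoeff z * coef m₀ = 0 := by linear_combination h1
    have hN0 : (N : k) = 0 := by
      rcases mul_eq_zero.1 h2 with h3 | h3
      · rcases mul_eq_zero.1 h3 with h4 | h4
        · exact h4
        · exact absurd h4 hz0'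
      · exact absurd h3 hcoef0
    exact Int.natCast_dvd_natCast.2 ((CharP.cast_eq_zero_iff k p N).1 hN0)
  rcases le_or_gt 0 (a - (m₀ : ℤ)) with hpos | hneg
  · obtain ⟨N, hN⟩ := Int.eq_ofNat_of_zero_le hpos
    rw [hN, Enat] at hkey
    have h1 : coeff n ((1 + X ^ n * z) ^ N * sig u G) = coeff n G := by rw [← hz, hkey]
    rw [coeff_key hn, coeff_sig_eq hz G le_rfl, constantCoeff_sig, hG0] at h1
    apply hm₀p
    rw [hN]
    exact hfin N h1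
  · obtain ⟨N, hN⟩ := Int.exists_eq_neg_ofNat hneg.le
    rw [hN] at hkey
    have hkey2 : u ^ N * G = sig u G := by
      have e1 : u ^ N * ((U ^ (-(N : ℤ)) : (k⟦X⟧)ˣ) : k⟦X⟧) = 1 := by
        rw [← Enat N, ← Units.val_mul, ← zpow_add, add_neg_cancel, zpow_zero, Units.val_one]
      linear_combination (-(u ^ N)) * hkey + sig u G * e1
    have h1 : coeff n ((1 + X ^ n * z) ^ N * G) = coeff n (sig u G) := by rw [← hz, hkey2]
    rw [coeff_key hn, coeff_sig_eq hz G le_rfl, hG0] at h1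
    apply hm₀p
    rw [hN]
    exact (dvd_neg).2 (hfin N h1)

theorem main63 (p : ℕ) [Fact p.Prime] [CharP k p] (n : ℕ) (hn : 0 < n) (hpn : ¬ p ∣ n)
    (u : k⟦X⟧) (hu1 : constantCoeff u = 1) (hun : u ^ n * (1 + X ^ n) = 1) (hu : IsUnit u)
    (a : ℤ) (m : ℕ) (hm1 : 1 ≤ m) (hmn : m ≤ n) (hdvd : (p : ℤ) ∣ a - m) (c : k⟦X⟧)
    (hc : X ^ m * c = ((hu.unit ^ (a - m) : (k⟦X⟧)ˣ) : k⟦X⟧) - 1) :
    ∃ h : k⟦X⟧, ((hu.unit ^ a : (k⟦X⟧)ˣ) : k⟦X⟧) * subst (X * u) h - h = c := by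
  classical
  have hnk : (n : k) ≠ 0 := fun h0 => hpn ((CharP.cast_eq_zero_iff k p n).1 h0)
  have hU : ((hu.unit : (k⟦X⟧)ˣ) : k⟦X⟧) = u := hu.unit_spec
  obtain ⟨U, hUdef⟩ : ∃ U : (k⟦X⟧)ˣ, U = hu.unit := ⟨_, rfl⟩
  rw [← hUdef] at hc hU ⊢
  have Enat : ∀ N : ℕ, ((U ^ (N : ℤ) : (k⟦X⟧)ˣ) : k⟦X⟧) = u ^ N := by
    intro N; rw [zpow_natCast, Units.val_pow_eq_pow_val, hU]
  -- `σ^p = id`
  have hp0 : ((p : ℕ) : k⟦X⟧) = 0 := by
    rw [← map_natCast (C (R := k)), CharP.cast_eq_zero k p, map_zero]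
  have husp : us u p = 1 := by
    have h1 := us_pow hun p
    rw [hp0, zero_mul, add_zero, mul_one] at h1
    exact eq_one_of_pow_eq_one hnk (us_const hu1 p) h1
  obtain ⟨V, hVdef⟩ : ∃ V : k⟦X⟧, V = ∏ l ∈ Finset.range p, us u l := ⟨_, rfl⟩
  have hprod : ∏ l ∈ Finset.range p, us u (l + 1) = ∏ l ∈ Finset.range p, us u l := by
    have h1 := Finset.prod_range_succ (us u) p
    have h2 := Finset.prod_range_succ' (us u) p
    rw [h1, husp, mul_one, us_zero, mul_one] at h2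
    exact h2.symm
  have hV : u ^ p * sig u V = V := by
    rw [hVdef, map_prod]
    calc u ^ p * ∏ l ∈ Finset.range p, sig u (us u l)
        = ∏ l ∈ Finset.range p, (u * sig u (us u l)) := by
          rw [Finset.prod_mul_distrib, Finset.prod_const, Finset.card_range]
      _ = ∏ l ∈ Finset.range p, us u (l + 1) :=
          Finset.prod_congr rfl (fun l _ => (us_succ u l).symm)
      _ = _ := hprod
  have hus_dvd : ∀ l, X ^ n ∣ us u l - 1 := by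
    intro l
    have h1 := us_pow hun l
    obtain ⟨z, hz, -⟩ := exists_eq_one_add hnk (us_const hu1 l)
      (r := -((l : k⟦X⟧) * (us u l) ^ n)) (by linear_combination h1)
    exact ⟨z, by rw [hz]; ring⟩
  have hV_dvd : X ^ n ∣ V - 1 := by
    have hgen : ∀ s : Finset ℕ, X ^ n ∣ ∏ l ∈ s, us u l - 1 := by
      intro s
      induction s using Finset.induction_on with
      | empty => simp
      | insert b s hb ih =>
        rw [Finset.prod_insert hb]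
        have e : us u b * ∏ l ∈ s, us u l - 1 =
            (us u b - 1) * ∏ l ∈ s, us u l + (∏ l ∈ s, us u l - 1) := by ring
        rw [e]
        exact dvd_add (Dvd.dvd.mul_right (hus_dvd b) _) ih
    rw [hVdef]
    exact hgen _
  have hV0 : constantCoeff V = 1 := by
    rw [hVdef, map_prod]
    exact Finset.prod_eq_one (fun l _ => us_const hu1 l)
  obtain ⟨Vu, hVu⟩ : IsUnit V := isUnit_iff_constantCoeff.2 (by rw [hV0]; exact isUnit_one)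
  obtain ⟨j, hj⟩ := hdvd
  obtain ⟨W, hW⟩ : ∃ W : k⟦X⟧, W = ((Vu ^ j : (k⟦X⟧)ˣ) : k⟦X⟧) := ⟨_, rfl⟩
  have hWdvd : X ^ m ∣ 1 - W := by
    have h1 : X ^ n ∣ W - 1 := by
      rw [hW]
      exact unit_zpow_dvd (X ^ n) Vu (by rw [hVu]; exact hV_dvd) j
    exact (dvd_sub_comm).1 ((pow_dvd_pow X hmn).trans h1)
  obtain ⟨h, hh⟩ := hWdvd
  refine ⟨h, ?_⟩
  apply mul_left_cancel₀ (pow_ne_zero m (X_ne_zero (R := k)))
  rw [hc, ← sig_apply]
  -- `σ W`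
  have h1 : sig u (Vu : k⟦X⟧) = ((U ^ (-(p : ℤ)) : (k⟦X⟧)ˣ) : k⟦X⟧) * (Vu : k⟦X⟧) := by
    rw [hVu]
    have e1 : ((U ^ (-(p : ℤ)) : (k⟦X⟧)ˣ) : k⟦X⟧) * u ^ p = 1 := by
      rw [← Enat p, ← Units.val_mul, ← zpow_add, neg_add_cancel, zpow_zero, Units.val_one]
    linear_combination ((U ^ (-(p : ℤ)) : (k⟦X⟧)ˣ) : k⟦X⟧) * hV - sig u V * e1
  obtain ⟨f, hf⟩ : ∃ f : k⟦X⟧ →* k⟦X⟧, ∀ x, f x = sig u x :=
    ⟨(sig u).toRingHom.toMonoidHom, fun x => rfl⟩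
  have h2 : Units.map f Vu = U ^ (-(p : ℤ)) * Vu := by
    apply Units.ext
    rw [Units.coe_map, hf, Units.val_mul]
    exact h1
  have h3 : Units.map f (Vu ^ j) = U ^ (-((p : ℤ) * j)) * Vu ^ j := by
    rw [map_zpow, h2, mul_zpow, ← zpow_mul, neg_mul]
  have h4 : sig u W = ((U ^ (-((p : ℤ) * j)) : (k⟦X⟧)ˣ) : k⟦X⟧) * W := by
    rw [hW, ← hf, ← Units.coe_map, h3, Units.val_mul]
  obtain ⟨ea, hea⟩ : ∃ e : k⟦X⟧, e = ((U ^ a : (k⟦X⟧)ˣ) : k⟦X⟧) := ⟨_, rfl⟩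
  obtain ⟨enm, henm⟩ : ∃ e : k⟦X⟧, e = ((U ^ (-(m : ℤ)) : (k⟦X⟧)ˣ) : k⟦X⟧) := ⟨_, rfl⟩
  obtain ⟨eam, heam⟩ : ∃ e : k⟦X⟧, e = ((U ^ (a - (m : ℤ)) : (k⟦X⟧)ˣ) : k⟦X⟧) := ⟨_, rfl⟩
  obtain ⟨enpj, henpj⟩ : ∃ e : k⟦X⟧, e = ((U ^ (-((p : ℤ) * j)) : (k⟦X⟧)ˣ) : k⟦X⟧) :=
    ⟨_, rfl⟩
  have r1 : enm * u ^ m = 1 := by
    rw [henm, ← Enat m, ← Units.val_mul, ← zpow_add, neg_add_cancel, zpow_zero, Units.val_one]
  have r2 : ea * enm = eam := by
    rw [hea, henm, heam, ← Units.val_mul, ← zpow_add, ← sub_eq_add_neg]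
  have r3 : eam * enpj = 1 := by
    rw [heam, henpj, ← Units.val_mul, ← zpow_add, hj, add_neg_cancel, zpow_zero, Units.val_one]
  have r4 := congrArg (sig u) hh
  rw [map_sub, map_one, map_mul, map_pow, sig_X, mul_pow, h4, ← henpj] at r4
  rw [← hea, ← heam]
  linear_combination (-(ea * enm)) * r4 - (ea * X ^ m * sig u h) * r1 + (1 - enpj * W) * r2
    - W * r3 + hh

end Groth.Agent.Lib.Helper9.ASCover
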