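import Groth.Prelude.Def_SGA4c
import Mathlib.CategoryTheory.MorphismProperty.Limits

/-!
# Helper library (helper9): finiteness conditions in a sheaf topos, basic facts

* `isQC_of_iso`: quasi-compactness of objects is invariant under isomorphism.
* `qcHom`: the morphism property of quasi-compact morphisms; it respects isomorphisms, is stable under
  base change and composition, and contains the isomorphisms.
-/

set_option autoImplicit false

universe u

open CategoryTheory CategoryTheory.Limits Opposite

namespace Groth.Agent.Lib.Helper9

variable {C : Type u} [SmallCategory C] {J : GrothendieckTopology C}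

theorem isQC_of_iso {X X' : ToposFin.Sh J} (e : X ≅ X') (h : ToposFin.IsQC X) :
    ToposFin.IsQC X' := by
  intro ι F π hπ
  have h1 : Sigma.desc (fun i => π i ≫ e.inv) = Sigma.desc π ≫ e.inv := by
    apply Sigma.hom_ext; intro i; simp
  have : Epi (Sigma.desc (fun i => π i ≫ e.inv)) := by rw [h1]; infer_instance
  obtain ⟨s, hs⟩ := h ι F (fun i => π i ≫ e.inv) this
  refine ⟨s, ?_⟩
  have h2 : Sigma.desc (fun i : s => π i) = Sigma.desc (fun i : s => π i ≫ e.inv) ≫ e.hom := by
    apply Sigma.hom_ext; intro i; simp
  rw [h2]; infer_instance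

/-- The morphism property of quasi-compact morphisms of the topos. -/
def qcHom : MorphismProperty (ToposFin.Sh J) := fun _ _ f => ToposFin.IsQCHom f

theorem qcHom_iff {X Y : ToposFin.Sh J} (f : X ⟶ Y) : qcHom f ↔ ToposFin.IsQCHom f := Iff.rfl

theorem isQSHom_iff {X Y : ToposFin.Sh J} (f : X ⟶ Y) :
    ToposFin.IsQSHom f ↔ (qcHom (J := J)).diagonal f := Iff.rfl

theorem isQCHom_of_isIso {X Y : ToposFin.Sh J} (f : X ⟶ Y) [IsIso f] : ToposFin.IsQCHom f := by
  intro Y' g hY'
  exact isQC_of_iso (asIso (pullback.snd f g)).symm hY'

instance qcHom_isStableUnderBaseChange : (qcHom (J := J)).IsStableUnderBaseChange where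
  of_isPullback {X Y Y' S f g f' g'} sq hg := by
    intro Z h hZ
    have big := (IsPullback.of_hasPullback g' h).paste_horiz sq
    exact isQC_of_iso big.isoPullback.symm (hg Z (h ≫ f) hZ)

instance qcHom_isStableUnderComposition : (qcHom (J := J)).IsStableUnderComposition where
  comp_mem {X Y Z} f g hf hg := by
    intro W h hW
    have h1 : ToposFin.IsQC (pullback g h) := hg W h hW
    have h2 : ToposFin.IsQC (pullback f (pullback.fst g h)) := hf _ _ h1
    have big := (IsPullback.of_hasPullback f (pullback.fst g h)).paste_vert
      (IsPullback.of_hasPullback g h)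
    exact isQC_of_iso big.isoPullback h2

instance qcHom_containsIdentities : (qcHom (J := J)).ContainsIdentities where
  id_mem X := isQCHom_of_isIso (𝟙 X)

instance qcHom_isMultiplicative : (qcHom (J := J)).IsMultiplicative where

end Groth.Agent.Lib.Helper9
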