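import Mathlib

/-!
# Every commutative ring embeds in an absolutely integrally closed ring

One step adjoins formal roots of all monic polynomials at once; the step is injective because
finitely many monic polynomials can be split in an injective extension (iterated `AdjoinRoot`).
Iterating the step along `ℕ` and passing to the colimit gives the result.
-/

open Polynomial CategoryTheory CategoryTheory.Limits

universe u

namespace Groth.Agent.Lib.Helper9.AbsIntClosed

/-! ### Splitting one monic polynomial in an injective extension -/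

theorem exists_splitting (n : ℕ) : ∀ (R : Type u) [CommRing R] (f : R[X]), f.Monic →
    f.natDegree = n →
    ∃ (R' : Type u) (_ : CommRing R') (φ : R →+* R'), Function.Injective φ ∧
      ∃ rts : Fin n → R', f.map φ = ∏ i, (X - C (rts i)) := by
  induction n with
  | zero =>
    intro R _ f hf hn
    refine ⟨R, inferInstance, RingHom.id R, Function.injective_id, Fin.elim0, ?_⟩
    have h1 : f = 1 := hf.natDegree_eq_zero.mp hn
    simp [h1]
  | succ n ih =>
    intro R _ f hf hn
    haveI : Nontrivial R := by
      by_contra h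
      rw [not_nontrivial_iff_subsingleton] at h
      have : f = 0 := Subsingleton.elim _ _
      rw [this] at hn
      simp at hn
    have hinj : Function.Injective (AdjoinRoot.of f) := by
      rw [injective_iff_map_eq_zero]
      intro c hc
      have h1 : AdjoinRoot.mk f (C c) = 0 := hc
      rw [AdjoinRoot.mk_eq_zero] at h1
      by_contra hc0
      exact hf.not_dvd_of_natDegree_lt (by simpa using hc0) (by rw [natDegree_C, hn]; omega) h1
    haveI : Nontrivial (AdjoinRoot f) := hinj.nontrivial
    have hroot : IsRoot (f.map (AdjoinRoot.of f)) (AdjoinRoot.root f) := by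
      rw [IsRoot, Polynomial.eval_map, AdjoinRoot.eval₂_root]
    have hmul := mul_divByMonic_eq_iff_isRoot.mpr hroot
    have hfm : (f.map (AdjoinRoot.of f)).Monic := hf.map _
    have hg : ((f.map (AdjoinRoot.of f)) /ₘ (X - C (AdjoinRoot.root f))).Monic := by
      apply Monic.of_mul_monic_left (monic_X_sub_C (AdjoinRoot.root f))
      rw [hmul]
      exact hfm
    have hdeg : ((f.map (AdjoinRoot.of f)) /ₘ (X - C (AdjoinRoot.root f))).natDegree = n := by
      rw [natDegree_divByMonic _ (monic_X_sub_C _), natDegree_X_sub_C,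
        natDegree_map_eq_of_injective hinj, hn]
      omega
    obtain ⟨R', _, φ', hφ', rts', hr'⟩ := ih (AdjoinRoot f) _ hg hdeg
    refine ⟨R', inferInstance, φ'.comp (AdjoinRoot.of f), hφ'.comp hinj,
      Fin.cons (φ' (AdjoinRoot.root f)) rts', ?_⟩
    rw [← Polynomial.map_map, ← hmul, Polynomial.map_mul, hr', Fin.prod_univ_succ]
    simp

theorem exists_splitting_finset (R : Type u) [CommRing R] (F : Finset {f : R[X] // f.Monic}) :
    ∃ (R' : Type u) (_ : CommRing R') (φ : R →+* R'), Function.Injective φ ∧
      ∀ f ∈ F, ∃ rts : Fin f.1.natDegree → R', f.1.map φ = ∏ i, (X - C (rts i)) := by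
  classical
  induction F using Finset.induction_on with
  | empty => exact ⟨R, inferInstance, RingHom.id R, Function.injective_id, by simp⟩
  | insert f₀ F hf₀ ih =>
    obtain ⟨R₁, _, φ₁, hφ₁, h₁⟩ := ih
    obtain ⟨R₂, _, φ₂, hφ₂, rts₀, h₂⟩ := exists_splitting f₀.1.natDegree R₁ (f₀.1.map φ₁)
      (f₀.2.map φ₁) (natDegree_map_eq_of_injective hφ₁ _)
    refine ⟨R₂, inferInstance, φ₂.comp φ₁, hφ₂.comp hφ₁, ?_⟩
    intro f hf
    rcases Finset.mem_insert.mp hf with rfl | hf
    · exact ⟨rts₀, by rw [← Polynomial.map_map, h₂]⟩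
    · obtain ⟨rts, hr⟩ := h₁ f hf
      refine ⟨fun i => φ₂ (rts i), ?_⟩
      rw [← Polynomial.map_map, hr, Polynomial.map_prod]
      simp

/-! ### The step ring -/
section Step
variable (R : Type u) [CommRing R]

/-- The formal roots. -/
abbrev Vars := Σ f : {f : R[X] // f.Monic}, Fin f.1.natDegree

/-- The polynomial whose coefficients are the relations for `f`. -/
noncomputable def relPoly (f : {f : R[X] // f.Monic}) : (MvPolynomial (Vars R) R)[X] :=
  f.1.map (algebraMap R (MvPolynomial (Vars R) R)) -
    ∏ i : Fin f.1.natDegree, (X - C (MvPolynomial.X (⟨f, i⟩ : Vars R)))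

/-- The ideal of relations. -/
noncomputable def relIdeal : Ideal (MvPolynomial (Vars R) R) :=
  Ideal.span {c | ∃ (f : {f : R[X] // f.Monic}) (n : ℕ), c = (relPoly R f).coeff n}

/-- The step ring: all monic polynomials over `R` split. -/
abbrev Step := MvPolynomial (Vars R) R ⧸ relIdeal R

/-- The structure map. -/
noncomputable def toStep : R →+* Step R :=
  (Ideal.Quotient.mk (relIdeal R)).comp (algebraMap R (MvPolynomial (Vars R) R))

theorem map_toStep (f : R[X]) (hf : f.Monic) :
    f.map (toStep R) = ∏ i : Fin f.natDegree,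
      (X - C (Ideal.Quotient.mk (relIdeal R) (MvPolynomial.X (⟨⟨f, hf⟩, i⟩ : Vars R)))) := by
  have h0 : (relPoly R ⟨f, hf⟩).map (Ideal.Quotient.mk (relIdeal R)) = 0 := by
    ext n
    rw [coeff_map, coeff_zero, Ideal.Quotient.eq_zero_iff_mem]
    exact Ideal.subset_span ⟨⟨f, hf⟩, n, rfl⟩
  rw [relPoly, Polynomial.map_sub, Polynomial.map_map, sub_eq_zero, Polynomial.map_prod] at h0
  rw [toStep, h0]
  simp

theorem toStep_injective : Function.Injective (toStep R) := by
  classical
  rw [injective_iff_map_eq_zero]
  intro a ha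
  have h1 : algebraMap R (MvPolynomial (Vars R) R) a ∈ relIdeal R :=
    Ideal.Quotient.eq_zero_iff_mem.mp ha
  obtain ⟨T, hT, haT⟩ := Submodule.mem_span_finite_of_mem_span h1
  -- choose polynomials for the generators in `T`
  have hch : ∀ c : MvPolynomial (Vars R) R, ∃ f : {f : R[X] // f.Monic},
      c ∈ T → ∃ n : ℕ, c = (relPoly R f).coeff n := by
    intro c
    by_cases hc : c ∈ T
    · obtain ⟨f, n, h⟩ := hT hc
      exact ⟨f, fun _ => ⟨n, h⟩⟩
    · exact ⟨⟨1, monic_one⟩, fun h => absurd h hc⟩
  choose fc hfc using hch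
  obtain ⟨R', _, φ, hφ, hsplit⟩ := exists_splitting_finset R (T.image fc)
  let rt : Vars R → R' := fun v =>
    if h : v.1 ∈ T.image fc then (hsplit v.1 h).choose v.2 else 0
  let ψ : MvPolynomial (Vars R) R →+* R' := MvPolynomial.eval₂Hom φ rt
  have hψ : ∀ c ∈ T, ψ c = 0 := by
    intro c hc
    obtain ⟨n, hn⟩ := hfc c hc
    have hmem : fc c ∈ T.image fc := Finset.mem_image_of_mem _ hc
    have h2 : (relPoly R (fc c)).map ψ = 0 := by
      rw [relPoly, Polynomial.map_sub, Polynomial.map_map, sub_eq_zero, Polynomial.map_prod]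
      have h3 : ψ.comp (algebraMap R (MvPolynomial (Vars R) R)) = φ := by
        ext r
        simp [ψ]
      rw [h3, (hsplit (fc c) hmem).choose_spec]
      refine Finset.prod_congr rfl fun i _ => ?_
      have hrt : rt ⟨fc c, i⟩ = (hsplit (fc c) hmem).choose i := dif_pos hmem
      rw [Polynomial.map_sub, Polynomial.map_X, Polynomial.map_C, ← hrt]
      simp only [ψ, MvPolynomial.coe_eval₂Hom, MvPolynomial.eval₂_X]
    rw [hn, ← coeff_map, h2, coeff_zero]
  have h4 : (Submodule.span (MvPolynomial (Vars R) R) (T : Set (MvPolynomial (Vars R) R))) ≤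
      (RingHom.ker ψ : Ideal _) := by
    rw [Submodule.span_le]
    intro c hc
    exact hψ c hc
  have h5 := h4 haT
  rw [RingHom.mem_ker] at h5
  apply hφ
  rw [map_zero, ← h5]
  simp [ψ]

end Step

/-! ### The tower and its colimit -/
section Tower
variable (A : Type u) [CommRing A]

/-- The stages of the tower. -/
noncomputable def stage : ℕ → CommRingCat.{u}
  | 0 => CommRingCat.of A
  | n + 1 => CommRingCat.of (Step (stage n))

/-- The transition maps. -/
noncomputable def stageMap (n : ℕ) : stage A n ⟶ stage A (n + 1) :=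
  CommRingCat.ofHom (toStep (stage A n))

/-- The tower as a functor. -/
noncomputable def tower : ℕ ⥤ CommRingCat.{u} := Functor.ofSequence (stageMap A)

instance : PreservesColimit (tower A) (forget CommRingCat.{u}) := by
  haveI : PreservesFilteredColimitsOfSize.{0, 0} (forget CommRingCat.{u}) :=
    preservesFilteredColimitsOfSize_shrink.{0, u, 0, u} _
  haveI := PreservesFilteredColimitsOfSize.preserves_filtered_colimits
    (F := forget CommRingCat.{u}) ℕ
  infer_instance

theorem stageMap_injective (n : ℕ) : Function.Injective (stageMap A n).hom :=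
  toStep_injective _

theorem tower_map_succ (n : ℕ) :
    (tower A).map (homOfLE (Nat.le_add_right n 1)) = stageMap A n :=
  Functor.ofSequence_map_homOfLE_succ _ n

theorem tower_map_succ_injective (n : ℕ) :
    Function.Injective ((tower A).map (homOfLE (Nat.le_add_right n 1))).hom := by
  rw [tower_map_succ]
  exact stageMap_injective A n

theorem tower_split (J : ℕ) (p : ((tower A).obj J)[X]) (hp : p.Monic) :
    ∃ r : Fin p.natDegree → (tower A).obj (J + 1),
      p.map ((tower A).map (homOfLE (Nat.le_add_right J 1))).hom = ∏ i, (X - C (r i)) := by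
  rw [tower_map_succ]
  exact ⟨_, map_toStep ((tower A).obj J) p hp⟩

theorem tower_map_injective : ∀ (k : ℕ) (f : (0 : ℕ) ⟶ k),
    Function.Injective ((tower A).map f).hom := by
  intro k
  induction k with
  | zero =>
    intro f
    have h : f = 𝟙 _ := Subsingleton.elim _ _
    rw [h, CategoryTheory.Functor.map_id]
    exact Function.injective_id
  | succ k ih =>
    intro f
    have h : f = homOfLE (Nat.zero_le k) ≫ homOfLE (Nat.le_add_right k 1) :=
      Subsingleton.elim _ _
    rw [h, Functor.map_comp, CommRingCat.hom_comp, RingHom.coe_comp]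
    exact Function.Injective.comp (tower_map_succ_injective A k) (ih _)

theorem ι_zero_injective : Function.Injective (colimit.ι (tower A) 0).hom := by
  intro x y h
  obtain ⟨k, f, g, hfg⟩ := (Concrete.colimit_rep_eq_iff_exists (tower A) x y).mp h
  have hgf : g = f := Subsingleton.elim _ _
  rw [hgf] at hfg
  exact tower_map_injective A k f hfg

theorem exists_stage_rep (c : (colimit (tower A) : CommRingCat.{u})) :
    ∃ (j : ℕ) (y : (tower A).obj j), (colimit.ι (tower A) j).hom y = c :=
  Concrete.colimit_exists_rep (tower A) c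

theorem ι_map (i j : ℕ) (h : i ≤ j) (y : (tower A).obj i) :
    (colimit.ι (tower A) j).hom (((tower A).map (homOfLE h)).hom y) =
      (colimit.ι (tower A) i).hom y := by
  have h1 := colimit.w (tower A) (homOfLE h)
  rw [← h1]
  rfl

theorem exists_common_stage {n : ℕ} (c : Fin n → (colimit (tower A) : CommRingCat.{u})) :
    ∃ (J : ℕ) (y : Fin n → (tower A).obj J),
      ∀ i, (colimit.ι (tower A) J).hom (y i) = c i := by
  choose j y hy using fun i => exists_stage_rep A (c i)
  refine ⟨Finset.univ.sup j, fun i =>
    ((tower A).map (homOfLE (Finset.le_sup (Finset.mem_univ i)))).hom (y i), fun i => ?_⟩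
  rw [ι_map, hy]

theorem exists_absIntClosed : ∃ (B : Type u) (_ : CommRing B) (_ : Algebra A B),
    Function.Injective (algebraMap A B) ∧
      ∀ f : B[X], f.Monic → ∃ s : Multiset B, f = (s.map fun b => X - C b).prod := by
  refine ⟨(colimit (tower A) : CommRingCat.{u}), inferInstance,
    (colimit.ι (tower A) 0).hom.toAlgebra, ι_zero_injective A, ?_⟩
  intro f hf
  obtain ⟨J, y, hy⟩ := exists_common_stage A (fun i : Fin f.natDegree => f.coeff i)
  obtain ⟨p, hpdef⟩ : ∃ p : ((tower A).obj J)[X],
      p = X ^ f.natDegree + ∑ i : Fin f.natDegree, C (y i) * X ^ (i : ℕ) := ⟨_, rfl⟩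
  have hp : p.Monic := by
    rw [hpdef]
    exact monic_X_pow_add (degree_sum_fin_lt _)
  have hpf : p.map (colimit.ι (tower A) J).hom = f := by
    conv_rhs => rw [hf.as_sum]
    rw [hpdef]
    simp only [Polynomial.map_add, Polynomial.map_pow, Polynomial.map_X, Polynomial.map_sum,
      Polynomial.map_mul, Polynomial.map_C, hy]
    rw [Fin.sum_univ_eq_sum_range (fun i => C (f.coeff i) * X ^ i)]
  obtain ⟨r, hr⟩ := tower_split A J p hp
  have hι : (colimit.ι (tower A) J).hom =
      (colimit.ι (tower A) (J + 1)).hom.comp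
        ((tower A).map (homOfLE (Nat.le_add_right J 1))).hom := by
    have h1 := colimit.w (tower A) (homOfLE (Nat.le_add_right J 1))
    rw [← h1, CommRingCat.hom_comp]
  refine ⟨Finset.univ.val.map (fun i : Fin p.natDegree =>
    (colimit.ι (tower A) (J + 1)).hom (r i)), ?_⟩
  rw [← hpf, hι, ← Polynomial.map_map, hr, Polynomial.map_prod, Multiset.map_map,
    Finset.prod_eq_multiset_prod]
  congr 1
  refine Multiset.map_congr rfl fun i _ => ?_
  simp

end Tower

end Groth.Agent.Lib.Helper9.AbsIntClosed
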