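import Mathlib

/-!
# Exactness of `a`-adic completion under bounded `a`-power torsion

If `0 → M → N → P → 0` is exact and `P` has bounded `a`-power torsion, then the `a`-adic
completions form a short exact sequence.  We deduce that completion preserves weakly regular
sequences all of whose successive quotients have bounded `a`-power torsion.
-/

namespace Groth.Agent.Lib.Helper9.AdicBdd

open LinearMap Submodule RingTheory.Sequence AdicCompletion
open scoped Pointwise

universe u

variable {R : Type u} [CommRing R]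

/-- bounded `a`-power torsion -/
def BddTors (a : R) (P : Type*) [AddCommGroup P] [Module R P] : Prop :=
  ∃ K : ℕ, ∀ x : P, (∃ m : ℕ, a ^ m • x = 0) → a ^ K • x = 0

lemma BddTors.of_equiv {a : R} {P Q : Type*} [AddCommGroup P] [Module R P]
    [AddCommGroup Q] [Module R Q] (e : P ≃ₗ[R] Q) (h : BddTors a P) : BddTors a Q := by
  obtain ⟨K, hK⟩ := h
  refine ⟨K, fun x ⟨m, hm⟩ => ?_⟩
  have := hK (e.symm x) ⟨m, by rw [← map_smul, hm, _root_.map_zero]⟩
  rw [← map_smul] at this
  exact e.symm.map_eq_zero_iff.mp this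

lemma mem_span_pow_smul_top_iff (a : R) (n : ℕ) {M : Type*} [AddCommGroup M] [Module R M]
    (x : M) :
    x ∈ ((Ideal.span {a}) ^ n • ⊤ : Submodule R M) ↔ ∃ y : M, a ^ n • y = x := by
  rw [Ideal.span_singleton_pow, Submodule.ideal_span_singleton_smul,
    Submodule.mem_smul_pointwise_iff_exists]
  simp

variable {M N P : Type u} [AddCommGroup M] [Module R M] [AddCommGroup N] [Module R N]
  [AddCommGroup P] [Module R P]

lemma mem_of_map_mem {f : M →ₗ[R] N} {g : N →ₗ[R] P} (a : R) (K : ℕ)
    (hf : Function.Injective f) (hfg : Function.Exact f g)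
    (hK : ∀ x : P, (∃ m : ℕ, a ^ m • x = 0) → a ^ K • x = 0) (n : ℕ) (y : M)
    (hy : f y ∈ ((Ideal.span {a}) ^ (n + K) • ⊤ : Submodule R N)) :
    y ∈ ((Ideal.span {a}) ^ n • ⊤ : Submodule R M) := by
  rw [mem_span_pow_smul_top_iff] at hy ⊢
  obtain ⟨z, hz⟩ := hy
  have h1 : a ^ (n + K) • g z = 0 := by
    rw [← map_smul, hz, hfg.apply_apply_eq_zero]
  have h2 : a ^ K • g z = 0 := hK _ ⟨_, h1⟩
  rw [← map_smul] at h2
  obtain ⟨w, hw⟩ := (hfg _).mp h2
  refine ⟨w, hf ?_⟩
  rw [map_smul, hw, ← hz, pow_add, mul_smul]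

theorem map_injective_of_bdd {f : M →ₗ[R] N} {g : N →ₗ[R] P} (a : R)
    (hf : Function.Injective f) (hfg : Function.Exact f g) (hP : BddTors a P) :
    Function.Injective (AdicCompletion.map (Ideal.span {a}) f) := by
  obtain ⟨K, hK⟩ := hP
  rw [← LinearMap.ker_eq_bot, LinearMap.ker_eq_bot']
  intro x
  apply AdicCompletion.induction_on (Ideal.span {a}) M x (fun b ↦ ?_)
  intro hx
  refine AdicCompletion.mk_zero_of _ _ _ ⟨0, fun n _ ↦ ⟨n + K, by omega, n, le_rfl, ?_⟩⟩
  apply mem_of_map_mem a K hf hfg hK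
  simpa using congrArg (fun x ↦ x.val (n + K)) hx

theorem map_exact_of_bdd {f : M →ₗ[R] N} {g : N →ₗ[R] P} (a : R)
    (hf : Function.Injective f) (hfg : Function.Exact f g) (hg : Function.Surjective g)
    (hP : BddTors a P) :
    Function.Exact (AdicCompletion.map (Ideal.span {a}) f)
      (AdicCompletion.map (Ideal.span {a}) g) := by
  obtain ⟨K, hK⟩ := hP
  refine LinearMap.exact_of_comp_eq_zero_of_ker_le_range ?_ (fun y ↦ ?_)
  · rw [AdicCompletion.map_comp, hfg.linearMap_comp_eq_zero, AdicCompletion.map_zero]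
  · apply AdicCompletion.induction_on (Ideal.span {a}) N y (fun b ↦ ?_)
    intro hz
    have hb (n : ℕ) : g (b n) ∈ ((Ideal.span {a}) ^ n • ⊤ : Submodule R P) := by
      simpa using congrArg (fun x ↦ x.val n) hz
    have hx : ∀ n, ∃ x : M, f x - b n ∈ ((Ideal.span {a}) ^ n • ⊤ : Submodule R N) := by
      intro n
      have h1 : g (b n) ∈ Submodule.map g ((Ideal.span {a}) ^ n • ⊤ : Submodule R N) := by
        rw [Submodule.map_smul'', Submodule.map_top, LinearMap.range_eq_top.mpr hg]
        exact hb n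
      obtain ⟨d, hdmem, hd⟩ := h1
      obtain ⟨x, hx⟩ := (hfg (b n - d)).mp (by simp [hd])
      refine ⟨x, ?_⟩
      rw [hx]
      have : b n - d - b n = -d := by abel
      rw [this]
      exact Submodule.neg_mem _ hdmem
    choose x hx using hx
    have hcau : ∀ n, x (n + K) ≡ x (n + 1 + K) [SMOD ((Ideal.span {a}) ^ n • ⊤ : Submodule R M)] := by
      intro n
      rw [SModEq.sub_mem]
      apply mem_of_map_mem a K hf hfg hK
      have e : f (x (n + K) - x (n + 1 + K)) = (f (x (n + K)) - b (n + K))
          - (f (x (n + 1 + K)) - b (n + 1 + K)) - (b (n + 1 + K) - b (n + K)) := by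
        rw [map_sub]; abel
      rw [e]
      refine Submodule.sub_mem _ (Submodule.sub_mem _ (hx _) ?_) ?_
      · exact Submodule.smul_mono_left (Ideal.pow_le_pow_right (by omega)) (hx _)
      · rw [← Submodule.Quotient.eq]
        exact AdicCauchySequence.mk_eq_mk (by omega) b
    refine ⟨AdicCompletion.mk (Ideal.span {a}) M
      (AdicCauchySequence.mk (Ideal.span {a}) M (fun n ↦ x (n + K)) hcau), ?_⟩
    ext n
    suffices h : Submodule.Quotient.mk (p := ((Ideal.span {a}) ^ n • ⊤ : Submodule R N))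
        (f (x (n + K))) =
        Submodule.Quotient.mk (p := ((Ideal.span {a}) ^ n • ⊤ : Submodule R N)) (b (n + K)) by
      simp [h, AdicCauchySequence.mk_eq_mk (show n ≤ n + K by omega)]
    rw [Submodule.Quotient.eq]
    exact Submodule.smul_mono_left (Ideal.pow_le_pow_right (by omega)) (hx (n + K))

lemma map_lsmul (I : Ideal R) (r : R) (x : AdicCompletion I M) :
    AdicCompletion.map I (LinearMap.lsmul R M r) x = r • x := by
  apply AdicCompletion.induction_on I M x (fun b ↦ ?_)
  ext n
  simp [AdicCompletion.val_smul_apply]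

lemma exact_lsmul_mkQ (r : R) :
    Function.Exact (LinearMap.lsmul R M r) (Submodule.mkQ (r • ⊤ : Submodule R M)) := by
  intro y
  rw [Submodule.mkQ_apply, Submodule.Quotient.mk_eq_zero,
    Submodule.mem_smul_pointwise_iff_exists]
  constructor
  · rintro ⟨z, -, rfl⟩
    exact ⟨z, rfl⟩
  · rintro ⟨z, rfl⟩
    exact ⟨z, trivial, rfl⟩

/-- The main induction. -/
theorem main (a : R) : ∀ (rs : List R) (M : Type u) [AddCommGroup M] [Module R M],
    IsWeaklyRegular M rs →
    (∀ i, 1 ≤ i → i ≤ rs.length →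
      BddTors a (M ⧸ (Ideal.ofList (rs.take i) • ⊤ : Submodule R M))) →
    IsWeaklyRegular (AdicCompletion (Ideal.span {a}) M) rs ∧
    ∀ (N : Type u) [AddCommGroup N] [Module R N] (q : M →ₗ[R] N), Function.Surjective q →
      LinearMap.ker q = (Ideal.ofList rs • ⊤ : Submodule R M) →
      Function.Surjective (AdicCompletion.map (Ideal.span {a}) q) ∧
      ∀ x, AdicCompletion.map (Ideal.span {a}) q x = 0 ↔
        x ∈ (Ideal.ofList rs • ⊤ : Submodule R (AdicCompletion (Ideal.span {a}) M)) := by
  intro rs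
  induction rs with
  | nil =>
    intro M _ _ _ _
    refine ⟨IsWeaklyRegular.nil R _, ?_⟩
    intro N _ _ q hq hker
    have hbot : LinearMap.ker q = ⊥ := by rw [hker, Ideal.ofList_nil, Submodule.bot_smul]
    let e : M ≃ₗ[R] N := LinearEquiv.ofBijective q ⟨LinearMap.ker_eq_bot.mp hbot, hq⟩
    have hcomp : e.symm.toLinearMap ∘ₗ q = LinearMap.id := by
      ext x; exact e.symm_apply_apply x
    have hinj : Function.Injective (AdicCompletion.map (Ideal.span {a}) q) := by
      apply Function.LeftInverse.injective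
        (g := AdicCompletion.map (Ideal.span {a}) e.symm.toLinearMap)
      intro x
      rw [AdicCompletion.map_comp_apply, hcomp, AdicCompletion.map_id]; rfl
    refine ⟨AdicCompletion.map_surjective _ hq, fun x => ?_⟩
    rw [Ideal.ofList_nil, Submodule.bot_smul, Submodule.mem_bot]
    exact ⟨fun h => hinj (by rw [h, _root_.map_zero]), fun h => by rw [h, _root_.map_zero]⟩
  | cons r rs ih =>
    intro M _ _ hreg hbd
    rw [isWeaklyRegular_cons_iff] at hreg
    obtain ⟨hr, hrs⟩ := hreg
    have hbd1 : BddTors a (QuotSMulTop r M) := by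
      have h := hbd 1 le_rfl (by simp)
      have e : (Ideal.ofList ((r :: rs).take 1) • ⊤ : Submodule R M) = r • ⊤ := by
        simp [Submodule.ideal_span_singleton_smul]
      exact h.of_equiv (Submodule.quotEquivOfEq _ _ e)
    have hbd' : ∀ i, 1 ≤ i → i ≤ rs.length → BddTors a (QuotSMulTop r M ⧸
        (Ideal.ofList (rs.take i) • ⊤ : Submodule R (QuotSMulTop r M))) := by
      intro i hi hil
      have h := hbd (i + 1) (by omega) (by simp; omega)
      have h' : BddTors a (M ⧸ (Ideal.ofList (r :: rs.take i) • ⊤ : Submodule R M)) := h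
      exact h'.of_equiv (Submodule.quotOfListConsSMulTopEquivQuotSMulTopInner M r (rs.take i))
    obtain ⟨ih1, ih2⟩ := ih (QuotSMulTop r M) hrs hbd'
    have hr' : Function.Injective (LinearMap.lsmul R M r) := fun x y h => hr (by simpa using h)
    have hex := exact_lsmul_mkQ (M := M) r
    have hinj := map_injective_of_bdd a hr' hex hbd1
    have hexc := map_exact_of_bdd a hr' hex (Submodule.mkQ_surjective _) hbd1
    have hsurj := AdicCompletion.map_surjective (Ideal.span {a})
      (Submodule.mkQ_surjective (r • ⊤ : Submodule R M))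
    have hregc : IsSMulRegular (AdicCompletion (Ideal.span {a}) M) r := by
      intro x y h
      apply hinj
      rw [map_lsmul, map_lsmul]; exact h
    let π : AdicCompletion (Ideal.span {a}) M →ₗ[R] AdicCompletion (Ideal.span {a}) (QuotSMulTop r M) :=
      (AdicCompletion.map (Ideal.span {a}) (Submodule.mkQ (r • ⊤ : Submodule R M))).restrictScalars R
    have hπ : ∀ x, π x = AdicCompletion.map (Ideal.span {a}) (Submodule.mkQ (r • ⊤ : Submodule R M)) x :=
      fun _ => rfl
    have hsurjπ : Function.Surjective π := hsurj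
    have hkerπ : LinearMap.ker π = (r • ⊤ : Submodule R (AdicCompletion (Ideal.span {a}) M)) := by
      ext x
      rw [LinearMap.mem_ker, hπ, hexc x, Submodule.mem_smul_pointwise_iff_exists]
      constructor
      · rintro ⟨z, rfl⟩
        exact ⟨z, trivial, (map_lsmul _ r z).symm⟩
      · rintro ⟨z, -, rfl⟩
        exact ⟨z, map_lsmul _ r z⟩
    let e₁ : QuotSMulTop r (AdicCompletion (Ideal.span {a}) M) ≃ₗ[R]
        AdicCompletion (Ideal.span {a}) (QuotSMulTop r M) :=
      (Submodule.quotEquivOfEq _ _ hkerπ.symm).trans (π.quotKerEquivOfSurjective hsurjπ)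
    refine ⟨(isWeaklyRegular_cons_iff _ r rs).mpr ⟨hregc, (e₁.isWeaklyRegular_congr rs).mpr ih1⟩, ?_⟩
    intro N _ _ q hq hker
    have hle : (r • ⊤ : Submodule R M) ≤ LinearMap.ker q := by
      rw [hker, Ideal.ofList_cons_smul]; exact le_sup_left
    let q₁ : QuotSMulTop r M →ₗ[R] N := Submodule.liftQ _ q hle
    have hq₁ : Function.Surjective q₁ := by
      intro y
      obtain ⟨x, rfl⟩ := hq y
      exact ⟨Submodule.Quotient.mk x, rfl⟩
    have hker₁ : LinearMap.ker q₁ = (Ideal.ofList rs • ⊤ : Submodule R (QuotSMulTop r M)) := by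
      rw [Submodule.ker_liftQ, hker, Ideal.ofList_cons_smul, Submodule.map_sup,
        Submodule.map_smul'', Submodule.map_top, Submodule.range_mkQ, Submodule.mkQ_map_self,
        bot_sup_eq]
    obtain ⟨hs₁, hk₁⟩ := ih2 N q₁ hq₁ hker₁
    have hcomp : q = q₁ ∘ₗ Submodule.mkQ (r • ⊤ : Submodule R M) :=
      (Submodule.liftQ_mkQ _ _ _).symm
    have hmap : ∀ x, AdicCompletion.map (Ideal.span {a}) q x =
        AdicCompletion.map (Ideal.span {a}) q₁ (π x) := by
      intro x
      rw [hπ, AdicCompletion.map_comp_apply, ← hcomp]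
    refine ⟨?_, ?_⟩
    · intro y
      obtain ⟨z, rfl⟩ := hs₁ y
      obtain ⟨x, rfl⟩ := hsurjπ z
      exact ⟨x, hmap x⟩
    · intro x
      rw [hmap, hk₁, Ideal.ofList_cons_smul]
      have himg : (Ideal.ofList rs • ⊤ :
          Submodule R (AdicCompletion (Ideal.span {a}) (QuotSMulTop r M))) =
          Submodule.map π (Ideal.ofList rs • ⊤ :
            Submodule R (AdicCompletion (Ideal.span {a}) M)) := by
        rw [Submodule.map_smul'', Submodule.map_top, LinearMap.range_eq_top.mpr hsurjπ]
      rw [himg, ← hkerπ, ← Submodule.mem_comap, Submodule.comap_map_eq, sup_comm]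

end Groth.Agent.Lib.Helper9.AdicBdd
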