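import Mathlib
import Groth.Prelude

/-!
# Reduction of helper28's L2 (for S18070) to the case of an affine `G`
-/

set_option autoImplicit false
set_option linter.style.haveILetI false
set_option backward.isDefEq.respectTransparency.types false
universe u
open CategoryTheory CategoryTheory.Limits AlgebraicGeometry MonoidalCategory CartesianMonoidalCategory MonObj

namespace Groth.Agent.Lib.Helper9.AntiAffRed

theorem comp_eq_fst_comp_of_affine_case (k : Type u) [Field k]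
    (G₁ : Over (Spec (CommRingCat.of k))) [GrpObj G₁] (N : Over (Spec (CommRingCat.of k)))
    (H : ∀ (G'' : Over (Spec (CommRingCat.of k))) [IsAffine G''.left] (F'' : G'' ⊗ G₁ ⟶ N),
      F'' = fst G'' G₁ ≫ lift (𝟙 G'') (toUnit G'' ≫ η[G₁]) ≫ F'')
    (G : Over (Spec (CommRingCat.of k))) (F : G ⊗ G₁ ⟶ N) :
    F = fst G G₁ ≫ lift (𝟙 G) (toUnit G ≫ η[G₁]) ≫ F := by
  apply Over.OverMorphism.ext
  let 𝒱 := G.left.affineCover
  let 𝒰 := 𝒱.pullback₁ (fst G G₁).left
  refine Scheme.Cover.hom_ext 𝒰 _ _ (fun i => ?_)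
  -- the affine piece
  let G' : Over (Spec (CommRingCat.of k)) := Over.mk (𝒱.f i ≫ G.hom)
  haveI : IsAffine G'.left := inferInstanceAs (IsAffine (𝒱.X i))
  let j : G' ⟶ G := Over.homMk (𝒱.f i) rfl
  let Q : Over (Spec (CommRingCat.of k)) := Over.mk (𝒰.f i ≫ (G ⊗ G₁).hom)
  let q : Q ⟶ G ⊗ G₁ := Over.homMk (𝒰.f i) rfl
  let toG' : Q ⟶ G' := Over.homMk (pullback.snd (fst G G₁).left (𝒱.f i)) (by
    show pullback.snd (fst G G₁).left (𝒱.f i) ≫ 𝒱.f i ≫ G.hom =
      pullback.fst (fst G G₁).left (𝒱.f i) ≫ (G ⊗ G₁).hom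
    rw [← pullback.condition_assoc, Over.w])
  let c : Q ⟶ G' ⊗ G₁ := lift toG' (q ≫ snd G G₁)
  have hc : c ≫ (j ▷ G₁) = q := by
    apply CartesianMonoidalCategory.hom_ext
    · rw [Category.assoc, whiskerRight_fst, lift_fst_assoc]
      apply Over.OverMorphism.ext
      show pullback.snd (fst G G₁).left (𝒱.f i) ≫ 𝒱.f i =
        pullback.fst (fst G G₁).left (𝒱.f i) ≫ (fst G G₁).left
      exact pullback.condition.symm
    · rw [Category.assoc, whiskerRight_snd, lift_snd]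
  have hs : lift (𝟙 G') (toUnit G' ≫ η[G₁]) ≫ (j ▷ G₁) = j ≫ lift (𝟙 G) (toUnit G ≫ η[G₁]) := by
    apply CartesianMonoidalCategory.hom_ext
    · rw [Category.assoc, whiskerRight_fst, lift_fst_assoc, Category.id_comp, Category.assoc,
        lift_fst, Category.comp_id]
    · rw [Category.assoc, whiskerRight_snd, lift_snd, Category.assoc, lift_snd, ← Category.assoc]
      congr 1
  have key : (j ▷ G₁) ≫ F = (j ▷ G₁) ≫ fst G G₁ ≫ lift (𝟙 G) (toUnit G ≫ η[G₁]) ≫ F := by
    have h1 := H G' ((j ▷ G₁) ≫ F)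
    rw [h1, ← Category.assoc (lift (𝟙 G') _), hs, Category.assoc, ← whiskerRight_fst_assoc]
  have h2 : q ≫ F = q ≫ fst G G₁ ≫ lift (𝟙 G) (toUnit G ≫ η[G₁]) ≫ F := by
    rw [← hc, Category.assoc, key, Category.assoc]
  exact congrArg (fun t => t.left) h2

end Groth.Agent.Lib.Helper9.AntiAffRed
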