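import Mathlib
import Groth.Prelude.Def_W4c1hilbpnTgt
import Groth.Agent.Lib.Helper29.TgtGraded
import Groth.Agent.Lib.Helper20.MonoIdeal

/-! Socle maps `I → S/I` for monomial ideals, and vanishing of tangent pieces (helper9). -/

set_option autoImplicit false
universe u
open MvPolynomial W4c1hilbpn
open Groth.Agent.Lib.Helper29.BddComp Groth.Agent.Lib.Helper29.TgtGraded
open Groth.Agent.Lib.Helper20.MonoIdeal (exps_of_le e3_zero e3_one e3_two)

namespace Groth.Agent.Lib.Helper9.MonoSoc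

variable {k : Type u} [Field k] {n : ℕ} (I : Ideal (MvPolynomial (Fin n) k))

/-- the functional `p ↦ coeff_g(p) • [x^s]` -/
noncomputable def socL (g s : Fin n →₀ ℕ) :
    MvPolynomial (Fin n) k →ₗ[k] (MvPolynomial (Fin n) k ⧸ I) :=
  (LinearMap.toSpanSingleton k _ (cls I s)).comp (MvPolynomial.lcoeff k g)

theorem socL_apply (g s : Fin n →₀ ℕ) (p : MvPolynomial (Fin n) k) :
    socL I g s p = coeff g p • cls I s := rfl

theorem mono_smul_cls (δ γ : Fin n →₀ ℕ) :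
    (monomial δ (1 : k) : MvPolynomial (Fin n) k) • cls I γ = cls I (δ + γ) := by
  show (monomial δ (1 : k) : MvPolynomial (Fin n) k) • Ideal.Quotient.mk I (monomial γ (1 : k)) =
    Ideal.Quotient.mk I (monomial (δ + γ) (1 : k))
  rw [smul_mk, MvPolynomial.monomial_mul, one_mul]

theorem socL_compat (g s : Fin n →₀ ℕ)
    (hmin : ∀ b ∈ exps I, b ≤ g → b = g) (hsoc : ∀ i, Finsupp.single i 1 + s ∈ exps I)
    (i : Fin n) (β : Fin n →₀ ℕ) (hβ : β ∈ exps I) :
    socL I g s (X i * monomial β 1) =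
      (X i : MvPolynomial (Fin n) k) • socL I g s (monomial β 1) := by
  rw [X_mul_mono, socL_apply, socL_apply, coeff_monomial, coeff_monomial]
  have h1 : ¬ (Finsupp.single i 1 + β = g) := by
    intro h
    have hle : β ≤ g := by
      rw [← h]; exact le_add_left le_rfl
    have hbg := hmin β hβ hle
    rw [hbg] at h
    have h2 := DFunLike.congr_fun h i
    simp at h2
  rw [if_neg h1, zero_smul, smul_comm, X_smul_cls, cls_eq_zero I (hsoc i), smul_zero]

/-- the socle map attached to a minimal generator `g` and a socle monomial `s` -/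
noncomputable def socHom (hI : IsMonomial I) (g s : Fin n →₀ ℕ)
    (hmin : ∀ b ∈ exps I, b ≤ g → b = g) (hsoc : ∀ i, Finsupp.single i 1 + s ∈ exps I) : Tgt I :=
  mkHom I hI (socL I g s) (fun i β hβ => socL_compat I g s hmin hsoc i β hβ)

theorem socHom_monomial (hI : IsMonomial I) (g s : Fin n →₀ ℕ)
    (hmin : ∀ b ∈ exps I, b ≤ g → b = g) (hsoc : ∀ i, Finsupp.single i 1 + s ∈ exps I)
    (β : Fin n →₀ ℕ) (hβ : monomial β (1 : k) ∈ I) :
    socHom I hI g s hmin hsoc ⟨monomial β 1, hβ⟩ = (if β = g then (1 : k) else 0) • cls I s := by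
  show socL I g s (monomial β 1) = _
  rw [socL_apply, coeff_monomial]

theorem socHom_mem (hI : IsMonomial I) (g s : Fin n →₀ ℕ)
    (hmin : ∀ b ∈ exps I, b ≤ g → b = g) (hsoc : ∀ i, Finsupp.single i 1 + s ∈ exps I) :
    socHom I hI g s hmin hsoc ∈ tPiece I (alphaOf g s) := by
  rw [mem_tPiece_iff]
  intro β hβ
  rw [socHom_monomial]
  refine ⟨fun _ => ?_, fun hneg => ?_⟩
  · by_cases h : β = g
    · subst h
      rw [if_pos rfl, one_smul, shift_alphaOf]
      exact Submodule.mem_span_singleton_self _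
    · rw [if_neg h, zero_smul]; exact Submodule.zero_mem _
  · have h : β ≠ g := by
      rintro rfl
      obtain ⟨i, hi⟩ := hneg
      simp only [alphaOf] at hi
      omega
    rw [if_neg h, zero_smul]

theorem socHom_ne_zero (hI : IsMonomial I) (g s : Fin n →₀ ℕ)
    (hmin : ∀ b ∈ exps I, b ≤ g → b = g) (hsoc : ∀ i, Finsupp.single i 1 + s ∈ exps I)
    (hg : g ∈ exps I) (hs : s ∉ exps I) :
    socHom I hI g s hmin hsoc ≠ 0 := by
  intro h
  have h1 := socHom_monomial I hI g s hmin hsoc g hg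
  rw [h, LinearMap.zero_apply, if_pos rfl, one_smul] at h1
  exact cls_ne_zero I hs h1.symm

theorem sigPiece_ne_bot_of_socle (hI : IsMonomial I) (g s : Fin n →₀ ℕ)
    (hg : g ∈ exps I) (hmin : ∀ b ∈ exps I, b ≤ g → b = g) (hs : s ∉ exps I)
    (hsoc : ∀ i, Finsupp.single i 1 + s ∈ exps I) (N : Set (Fin n))
    (hN : ∀ i, (s i : ℤ) - (g i : ℤ) < 0 ↔ i ∈ N) : sigPiece I N ≠ ⊥ := by
  intro h
  have hmem : socHom I hI g s hmin hsoc ∈ sigPiece I N := by
    have hle := le_iSup (fun α : {α : Fin n → ℤ // ∀ i, α i < 0 ↔ i ∈ N} => tPiece I α.1)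
      ⟨alphaOf g s, hN⟩
    exact hle (socHom_mem I hI g s hmin hsoc)
  rw [h, Submodule.mem_bot] at hmem
  exact socHom_ne_zero I hI g s hmin hsoc hg hs hmem

theorem exists_socle (hI : IsMonomial I) [Module.Finite k (MvPolynomial (Fin n) k ⧸ I)]
    (t : Fin n →₀ ℕ) (ht : t ∉ exps I) :
    ∃ s, t ≤ s ∧ s ∉ exps I ∧ ∀ i, Finsupp.single i 1 + s ∈ exps I := by
  have hfin : ((exps I)ᶜ : Set (Fin n →₀ ℕ)).Finite := compl_exps_finite I hI
  obtain ⟨s, hts, hmax⟩ := hfin.exists_le_maximal (a := t) ht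
  refine ⟨s, hts, hmax.prop, fun i => ?_⟩
  by_contra h
  have h1 : Finsupp.single i 1 + s ≤ s := hmax.le_of_ge h (le_add_left le_rfl)
  have h2 := h1 i
  simp at h2

theorem key (hI : IsMonomial I) [Module.Finite k (MvPolynomial (Fin n) k ⧸ I)]
    (g t : Fin n →₀ ℕ) (N : Set (Fin n))
    (hg : g ∈ exps I) (hmin : ∀ b ∈ exps I, b ≤ g → b = g) (ht : t ∉ exps I)
    (hN : ∀ s, t ≤ s → s ∉ exps I → ∀ i, (s i : ℤ) - (g i : ℤ) < 0 ↔ i ∈ N) :
    sigPiece I N ≠ ⊥ := by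
  obtain ⟨s, hts, hs, hsoc⟩ := exists_socle I hI t ht
  exact sigPiece_ne_bot_of_socle I hI g s hg hmin hs hsoc N (hN s hts hs)

/-- vanishing of `T_α` when `α ≤ 0` with at least two negative entries -/
theorem tPiece_eq_bot_of_two_neg (hI : IsMonomial I)
    [Module.Finite k (MvPolynomial (Fin n) k ⧸ I)]
    (α : Fin n → ℤ) (j l : Fin n) (hjl : j ≠ l) (hj : α j < 0) (hl : α l < 0)
    (hα : ∀ i, α i ≤ 0) : tPiece I α = ⊥ := by
  classical
  rw [eq_bot_iff]
  intro φ hφ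
  rw [Submodule.mem_bot]
  apply hom_ext_mono I hI
  intro β₀ hβ₀
  rw [LinearMap.zero_apply]
  by_contra hne₀
  have hex : ∃ v : ℕ, ∃ (β : Fin n →₀ ℕ) (hβ : monomial β (1 : k) ∈ I),
      β j = v ∧ φ ⟨monomial β 1, hβ⟩ ≠ 0 := ⟨β₀ j, β₀, hβ₀, rfl, hne₀⟩
  obtain ⟨β, hβ, hv, hne⟩ := Nat.find_spec hex
  have hminv : ∀ m, m < Nat.find hex → ¬ ∃ (β : Fin n →₀ ℕ) (hβ : monomial β (1 : k) ∈ I),
      β j = m ∧ φ ⟨monomial β 1, hβ⟩ ≠ 0 := fun m hm => Nat.find_min hex hm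
  have hnn : ∀ i, 0 ≤ toZ β α i := by
    by_contra hcon
    obtain ⟨i, hi⟩ := not_forall.mp hcon
    exact hne (phi_eq_zero I α hφ β hβ ⟨i, not_le.mp hi⟩)
  have hval := phi_eq_co I α hφ β hβ hnn
  have hc : co I α φ β ≠ 0 := by
    intro h; rw [h, zero_smul] at hval; exact hne hval
  have hγ : shift β α ∉ exps I := by
    intro h; rw [cls_eq_zero I h, smul_zero] at hval; exact hne hval
  have hex2 := exists_add_mem I hI (shift β α) l
  have hm1 : Nat.find hex2 ≠ 0 := by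
    intro h0
    have h1 := Nat.find_spec hex2
    rw [h0] at h1
    simp only [Finsupp.single_zero, zero_add] at h1
    exact hγ h1
  obtain ⟨m', hm'⟩ := Nat.exists_eq_succ_of_ne_zero hm1
  have hin : Finsupp.single l (m' + 1) + shift β α ∈ exps I := by
    have h1 := Nat.find_spec hex2
    rw [hm'] at h1
    exact h1
  have hout : Finsupp.single l m' + shift β α ∉ exps I :=
    Nat.find_min hex2 (by rw [hm']; exact Nat.lt_succ_self _)
  have hβ' : Finsupp.single l m' + β ∈ exps I := exps_add I hβ _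
  have hval' : φ ⟨monomial (Finsupp.single l m' + β) 1, hβ'⟩ =
      co I α φ β • cls I (Finsupp.single l m' + shift β α) := by
    rw [phi_mono I φ _ β hβ hβ', hval, smul_comm, mono_smul_cls]
  have hne' : φ ⟨monomial (Finsupp.single l m' + β) 1, hβ'⟩ ≠ 0 := by
    rw [hval']; exact smul_ne_zero hc (cls_ne_zero I hout)
  have hγi : ∀ i, ((shift β α) i : ℤ) = (β i : ℤ) + α i := by
    intro i
    show (((β i : ℤ) + α i).toNat : ℤ) = _
    exact Int.toNat_of_nonneg (hnn i)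
  have hvj : 1 ≤ β j := by
    have h1 := hnn j
    have h2 : toZ β α j = (β j : ℤ) + α j := rfl
    omega
  have hle : Finsupp.single l (m' + 1) + shift β α ≤
      Finsupp.single l m' + β - Finsupp.single j 1 := by
    intro i
    simp only [Finsupp.add_apply, Finsupp.tsub_apply, Finsupp.single_apply]
    have h3 := hγi i
    have h4 := hα i
    by_cases h1 : l = i
    · have h2 : ¬ j = i := fun h2 => hjl (h2.trans h1.symm)
      have h5 : α i < 0 := h1 ▸ hl
      rw [if_pos h1, if_pos h1, if_neg h2]; omega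
    · by_cases h2 : j = i
      · have h5 : α i < 0 := h2 ▸ hj
        rw [if_neg h1, if_neg h1, if_pos h2]; omega
      · rw [if_neg h1, if_neg h1, if_neg h2]; omega
  have hβ''mem : Finsupp.single l m' + β - Finsupp.single j 1 ∈ exps I := exps_of_le hin hle
  have heq : Finsupp.single j 1 + (Finsupp.single l m' + β - Finsupp.single j 1) =
      Finsupp.single l m' + β := by
    ext i
    simp only [Finsupp.add_apply, Finsupp.tsub_apply, Finsupp.single_apply]
    by_cases h2 : j = i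
    · subst h2
      rw [if_pos rfl, if_neg (fun h => hjl h.symm)]; omega
    · rw [if_neg h2]; omega
  have hmem2 : Finsupp.single j 1 + (Finsupp.single l m' + β - Finsupp.single j 1) ∈ exps I := by
    rw [heq]; exact hβ'
  have e : (⟨monomial (Finsupp.single j 1 + (Finsupp.single l m' + β - Finsupp.single j 1)) 1,
      hmem2⟩ : ↥I) = ⟨monomial (Finsupp.single l m' + β) 1, hβ'⟩ := Subtype.ext (by
    show monomial (Finsupp.single j 1 + (Finsupp.single l m' + β - Finsupp.single j 1)) (1 : k) =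
      monomial (Finsupp.single l m' + β) 1
    rw [heq])
  have h3 := phi_X I φ j _ hβ''mem hmem2
  rw [e] at h3
  have hne'' : φ ⟨monomial (Finsupp.single l m' + β - Finsupp.single j 1) 1, hβ''mem⟩ ≠ 0 := by
    intro h0; rw [h3, h0, smul_zero] at hne'; exact hne' rfl
  have hlt : (Finsupp.single l m' + β - Finsupp.single j 1 : Fin n →₀ ℕ) j < Nat.find hex := by
    rw [← hv]
    simp only [Finsupp.add_apply, Finsupp.tsub_apply, Finsupp.single_apply]
    rw [if_neg (fun h => hjl h.symm), if_pos trivial]; omega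
  exact hminv _ hlt ⟨_, hβ''mem, rfl, hne''⟩

/-! ### three variables -/

section three
variable (J : Ideal (MvPolynomial (Fin 3) k))

theorem e3_le_iff (a b c : ℕ) (s : Fin 3 →₀ ℕ) :
    e3 a b c ≤ s ↔ a ≤ s 0 ∧ b ≤ s 1 ∧ c ≤ s 2 := by
  constructor
  · intro h
    have h0 := h 0; have h1 := h 1; have h2 := h 2
    rw [e3_zero] at h0; rw [e3_one] at h1; rw [e3_two] at h2
    exact ⟨h0, h1, h2⟩
  · rintro ⟨h0, h1, h2⟩ i
    fin_cases i
    · show e3 a b c 0 ≤ s 0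
      rw [e3_zero]; exact h0
    · show e3 a b c 1 ≤ s 1
      rw [e3_one]; exact h1
    · show e3 a b c 2 ≤ s 2
      rw [e3_two]; exact h2

theorem le_e3_iff (a b c : ℕ) (s : Fin 3 →₀ ℕ) :
    s ≤ e3 a b c ↔ s 0 ≤ a ∧ s 1 ≤ b ∧ s 2 ≤ c := by
  constructor
  · intro h
    have h0 := h 0; have h1 := h 1; have h2 := h 2
    rw [e3_zero] at h0; rw [e3_one] at h1; rw [e3_two] at h2
    exact ⟨h0, h1, h2⟩
  · rintro ⟨h0, h1, h2⟩ i
    fin_cases i
    · show s 0 ≤ e3 a b c 0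
      rw [e3_zero]; exact h0
    · show s 1 ≤ e3 a b c 1
      rw [e3_one]; exact h1
    · show s 2 ≤ e3 a b c 2
      rw [e3_two]; exact h2

theorem eq_e3 (a b c : ℕ) (s : Fin 3 →₀ ℕ) (h0 : s 0 = a) (h1 : s 1 = b) (h2 : s 2 = c) :
    s = e3 a b c := by
  ext i
  fin_cases i
  · show s 0 = e3 a b c 0
    rw [e3_zero]; exact h0
  · show s 1 = e3 a b c 1
    rw [e3_one]; exact h1
  · show s 2 = e3 a b c 2
    rw [e3_two]; exact h2

theorem min_e3 (x y z : ℕ)
    (h0 : 0 < x → e3 (x - 1) y z ∉ exps J) (h1 : 0 < y → e3 x (y - 1) z ∉ exps J)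
    (h2 : 0 < z → e3 x y (z - 1) ∉ exps J) :
    ∀ b ∈ exps J, b ≤ e3 x y z → b = e3 x y z := by
  intro b hb hle
  obtain ⟨l0, l1, l2⟩ := (le_e3_iff x y z b).mp hle
  by_contra hne
  have hlt : b 0 < x ∨ b 1 < y ∨ b 2 < z := by
    by_contra hcon
    push Not at hcon
    exact hne (eq_e3 x y z b (le_antisymm l0 hcon.1) (le_antisymm l1 hcon.2.1)
      (le_antisymm l2 hcon.2.2))
  rcases hlt with h | h | h
  · exact h0 (by omega) (exps_of_le hb ((le_e3_iff _ _ _ b).mpr ⟨by omega, l1, l2⟩))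
  · exact h1 (by omega) (exps_of_le hb ((le_e3_iff _ _ _ b).mpr ⟨l0, by omega, l2⟩))
  · exact h2 (by omega) (exps_of_le hb ((le_e3_iff _ _ _ b).mpr ⟨l0, l1, by omega⟩))

theorem mem01 (i : Fin 3) : i ∈ ({0, 1} : Set (Fin 3)) ↔ i = 0 ∨ i = 1 := by
  simp [Set.mem_insert_iff]
theorem mem02 (i : Fin 3) : i ∈ ({0, 2} : Set (Fin 3)) ↔ i = 0 ∨ i = 2 := by
  simp [Set.mem_insert_iff]
theorem mem12 (i : Fin 3) : i ∈ ({1, 2} : Set (Fin 3)) ↔ i = 1 ∨ i = 2 := by
  simp [Set.mem_insert_iff]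

/-- S13438 -/
theorem main13438 (hJ : IsMonomial J) [Module.Finite k (MvPolynomial (Fin 3) k ⧸ J)]
    (a1 a2 b1 b3 c2 c3 : ℕ) (ha1 : 0 < a1) (ha2 : 0 < a2) (hb1 : 0 < b1) (hb3 : 0 < b3)
    (hc2 : 0 < c2) (hc3 : 0 < c3)
    (hA : e3 a1 a2 0 ∈ exps J ∧ e3 (a1 - 1) a2 0 ∉ exps J ∧ e3 a1 (a2 - 1) 0 ∉ exps J)
    (hB : e3 b1 0 b3 ∈ exps J ∧ e3 (b1 - 1) 0 b3 ∉ exps J ∧ e3 b1 0 (b3 - 1) ∉ exps J)
    (hC : e3 0 c2 c3 ∈ exps J ∧ e3 0 (c2 - 1) c3 ∉ exps J ∧ e3 0 c2 (c3 - 1) ∉ exps J)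
    (hcase : (b1 ≤ a1 ∧ c2 ≤ a2) ∨ (a1 ≤ b1 ∧ c3 ≤ b3) ∨ (a2 ≤ c2 ∧ b3 ≤ c3)) :
    sigPiece J ({0, 1} : Set (Fin 3)) ≠ ⊥ ∨ sigPiece J ({0, 2} : Set (Fin 3)) ≠ ⊥ ∨
      sigPiece J ({1, 2} : Set (Fin 3)) ≠ ⊥ := by
  -- pure powers not in J
  have hz_b : ∀ m, m ≤ b3 → e3 0 0 m ∉ exps J := fun m hm h =>
    hB.2.1 (exps_of_le h ((e3_le_iff _ _ _ _).mpr ⟨by rw [e3_zero]; omega, by rw [e3_one],
      by rw [e3_two]; exact hm⟩))
  have hz_c : ∀ m, m ≤ c3 → e3 0 0 m ∉ exps J := fun m hm h =>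
    hC.2.1 (exps_of_le h ((e3_le_iff _ _ _ _).mpr ⟨by rw [e3_zero], by rw [e3_one]; omega,
      by rw [e3_two]; exact hm⟩))
  have hy_a : ∀ m, m ≤ a2 → e3 0 m 0 ∉ exps J := fun m hm h =>
    hA.2.1 (exps_of_le h ((e3_le_iff _ _ _ _).mpr ⟨by rw [e3_zero]; omega, by rw [e3_one]; exact hm,
      by rw [e3_two]⟩))
  have hy_c : ∀ m, m ≤ c2 → e3 0 m 0 ∉ exps J := fun m hm h =>
    hC.2.2 (exps_of_le h ((e3_le_iff _ _ _ _).mpr ⟨by rw [e3_zero], by rw [e3_one]; exact hm,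
      by rw [e3_two]; omega⟩))
  have hx_a : ∀ m, m ≤ a1 → e3 m 0 0 ∉ exps J := fun m hm h =>
    hA.2.2 (exps_of_le h ((e3_le_iff _ _ _ _).mpr ⟨by rw [e3_zero]; exact hm, by rw [e3_one]; omega,
      by rw [e3_two]⟩))
  have hx_b : ∀ m, m ≤ b1 → e3 m 0 0 ∉ exps J := fun m hm h =>
    hB.2.2 (exps_of_le h ((e3_le_iff _ _ _ _).mpr ⟨by rw [e3_zero]; exact hm, by rw [e3_one],
      by rw [e3_two]; omega⟩))
  rcases hcase with ⟨h1, h2⟩ | ⟨h1, h2⟩ | ⟨h1, h2⟩
  · left
    refine key J hJ (e3 a1 a2 0) (e3 0 0 (max b3 c3)) _ hA.1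
      (min_e3 J a1 a2 0 (fun _ => hA.2.1) (fun _ => hA.2.2) (fun h => absurd h (lt_irrefl 0))) ?_ ?_
    · rcases le_total b3 c3 with h | h
      · rw [max_eq_right h]; exact hz_c _ le_rfl
      · rw [max_eq_left h]; exact hz_b _ le_rfl
    · intro s hts hs i
      obtain ⟨-, -, ht2⟩ := (e3_le_iff _ _ _ s).mp hts
      have hs0 : s 0 < b1 := by
        by_contra hcon
        push Not at hcon
        exact hs (exps_of_le hB.1 ((e3_le_iff _ _ _ s).mpr
          ⟨hcon, Nat.zero_le _, le_trans (le_max_left _ _) ht2⟩))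
      have hs1 : s 1 < c2 := by
        by_contra hcon
        push Not at hcon
        exact hs (exps_of_le hC.1 ((e3_le_iff _ _ _ s).mpr
          ⟨Nat.zero_le _, hcon, le_trans (le_max_right _ _) ht2⟩))
      rw [mem01]
      fin_cases i
      · show (s 0 : ℤ) - (e3 a1 a2 0 0 : ℕ) < 0 ↔ _
        rw [e3_zero]
        exact ⟨fun _ => Or.inl rfl, fun _ => by omega⟩
      · show (s 1 : ℤ) - (e3 a1 a2 0 1 : ℕ) < 0 ↔ _
        rw [e3_one]
        exact ⟨fun _ => Or.inr rfl, fun _ => by omega⟩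
      · show (s 2 : ℤ) - (e3 a1 a2 0 2 : ℕ) < 0 ↔ _
        rw [e3_two]
        constructor
        · intro h; omega
        · rintro (h | h) <;> exact absurd h (by decide)
  · right; left
    refine key J hJ (e3 b1 0 b3) (e3 0 (max a2 c2) 0) _ hB.1
      (min_e3 J b1 0 b3 (fun _ => hB.2.1) (fun h => absurd h (lt_irrefl 0)) (fun _ => hB.2.2)) ?_ ?_
    · rcases le_total a2 c2 with h | h
      · rw [max_eq_right h]; exact hy_c _ le_rfl
      · rw [max_eq_left h]; exact hy_a _ le_rfl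
    · intro s hts hs i
      obtain ⟨-, ht1, -⟩ := (e3_le_iff _ _ _ s).mp hts
      have hs0 : s 0 < a1 := by
        by_contra hcon
        push Not at hcon
        exact hs (exps_of_le hA.1 ((e3_le_iff _ _ _ s).mpr
          ⟨hcon, le_trans (le_max_left _ _) ht1, Nat.zero_le _⟩))
      have hs2 : s 2 < c3 := by
        by_contra hcon
        push Not at hcon
        exact hs (exps_of_le hC.1 ((e3_le_iff _ _ _ s).mpr
          ⟨Nat.zero_le _, le_trans (le_max_right _ _) ht1, hcon⟩))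
      rw [mem02]
      fin_cases i
      · show (s 0 : ℤ) - (e3 b1 0 b3 0 : ℕ) < 0 ↔ _
        rw [e3_zero]
        exact ⟨fun _ => Or.inl rfl, fun _ => by omega⟩
      · show (s 1 : ℤ) - (e3 b1 0 b3 1 : ℕ) < 0 ↔ _
        rw [e3_one]
        constructor
        · intro h; omega
        · rintro (h | h) <;> exact absurd h (by decide)
      · show (s 2 : ℤ) - (e3 b1 0 b3 2 : ℕ) < 0 ↔ _
        rw [e3_two]
        exact ⟨fun _ => Or.inr rfl, fun _ => by omega⟩
  · right; right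
    refine key J hJ (e3 0 c2 c3) (e3 (max a1 b1) 0 0) _ hC.1
      (min_e3 J 0 c2 c3 (fun h => absurd h (lt_irrefl 0)) (fun _ => hC.2.1) (fun _ => hC.2.2)) ?_ ?_
    · rcases le_total a1 b1 with h | h
      · rw [max_eq_right h]; exact hx_b _ le_rfl
      · rw [max_eq_left h]; exact hx_a _ le_rfl
    · intro s hts hs i
      obtain ⟨ht0, -, -⟩ := (e3_le_iff _ _ _ s).mp hts
      have hs1 : s 1 < a2 := by
        by_contra hcon
        push Not at hcon
        exact hs (exps_of_le hA.1 ((e3_le_iff _ _ _ s).mpr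
          ⟨le_trans (le_max_left _ _) ht0, hcon, Nat.zero_le _⟩))
      have hs2 : s 2 < b3 := by
        by_contra hcon
        push Not at hcon
        exact hs (exps_of_le hB.1 ((e3_le_iff _ _ _ s).mpr
          ⟨le_trans (le_max_right _ _) ht0, Nat.zero_le _, hcon⟩))
      rw [mem12]
      fin_cases i
      · show (s 0 : ℤ) - (e3 0 c2 c3 0 : ℕ) < 0 ↔ _
        rw [e3_zero]
        constructor
        · intro h; omega
        · rintro (h | h) <;> exact absurd h (by decide)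
      · show (s 1 : ℤ) - (e3 0 c2 c3 1 : ℕ) < 0 ↔ _
        rw [e3_one]
        exact ⟨fun _ => Or.inl rfl, fun _ => by omega⟩
      · show (s 2 : ℤ) - (e3 0 c2 c3 2 : ℕ) < 0 ↔ _
        rw [e3_two]
        exact ⟨fun _ => Or.inr rfl, fun _ => by omega⟩

end three

end Groth.Agent.Lib.Helper9.MonoSoc
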