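import Mathlib
import Groth.Prelude.Def_W4c1hilbpnTgt
import Groth.Agent.Lib.Helper29.TgtDim
import Groth.Agent.Lib.Helper9.MonoSoc

/-! Degree-0 homomorphisms `Hom(I, S/I)_0` for the ideal of two transverse coordinate planes
(helper9). -/

set_option autoImplicit false
universe u
open MvPolynomial W4c1hilbpn
open Groth.Agent.Lib.Helper29.BddComp Groth.Agent.Lib.Helper29.TgtGraded
open Groth.Agent.Lib.Helper29.TgtDim (finrank_biSup indep)

namespace Groth.Agent.Lib.Helper9.TwoPlanes

variable {M : ℕ}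

/-- exponent of `x_i x_j` -/
noncomputable def gen (i j : Fin M) : Fin M →₀ ℕ := Finsupp.single i 1 + Finsupp.single j 1

theorem gen_apply (i j m : Fin M) :
    gen i j m = (if i = m then 1 else 0) + (if j = m then 1 else 0) := by
  simp only [gen, Finsupp.add_apply, Finsupp.single_apply]

theorem gen_comm (i j : Fin M) : gen i j = gen j i := add_comm _ _

theorem gen_le {i j : Fin M} (hij : i ≠ j) (β : Fin M →₀ ℕ) :
    gen i j ≤ β ↔ 1 ≤ β i ∧ 1 ≤ β j := by
  constructor
  · intro h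
    have h1 := h i
    have h2 := h j
    rw [gen_apply] at h1 h2
    simp only [↓reduceIte] at h1 h2
    omega
  · rintro ⟨h1, h2⟩ m
    rw [gen_apply]
    by_cases h3 : i = m
    · have h4 : ¬ j = m := fun h4 => hij (h3.trans h4.symm)
      simp only [if_pos h3, if_neg h4]; subst h3; omega
    · by_cases h4 : j = m
      · simp only [if_neg h3, if_pos h4]; subst h4; omega
      · simp only [if_neg h3, if_neg h4]; omega

/-- `e_l - e_a` -/
def eal (a l : Fin M) : Fin M → ℤ :=
  fun m => (if l = m then (1 : ℤ) else 0) - (if a = m then 1 else 0)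

theorem sum_eal (a l : Fin M) : ∑ m, eal a l m = 0 := by
  unfold eal
  rw [Finset.sum_sub_distrib, Finset.sum_ite_eq, Finset.sum_ite_eq]
  simp

theorem eal_inj {a l a' l' : Fin M} (hal : a ≠ l) (hal' : a' ≠ l') (h : eal a l = eal a' l') :
    a = a' ∧ l = l' := by
  have h1 := congrFun h a
  have h2 := congrFun h l
  simp only [eal] at h1 h2
  simp only [↓reduceIte, if_neg hal, if_neg hal.symm] at h1 h2
  constructor
  · by_contra hne
    have hna : ¬ a' = a := fun h' => hne h'.symm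
    simp only [if_neg hna] at h1
    split_ifs at h1 <;> omega
  · by_contra hne
    have hna : ¬ l' = l := fun h' => hne h'.symm
    simp only [if_neg hna] at h2
    split_ifs at h2 <;> omega

theorem sum_one_single (f : Fin M → ℤ) (h0 : ∀ m, 0 ≤ f m) (h1 : ∑ m, f m = 1) :
    ∃ l, ∀ m, f m = if l = m then 1 else 0 := by
  classical
  have hex : ∃ l, 1 ≤ f l := by
    by_contra hcon
    push Not at hcon
    have hz : ∑ m, f m = 0 := Finset.sum_eq_zero (fun m _ =>
      le_antisymm (by have := hcon m; omega) (h0 m))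
    omega
  obtain ⟨l, hl⟩ := hex
  refine ⟨l, fun m => ?_⟩
  have hsplit : f l + ∑ m ∈ Finset.univ.erase l, f m = ∑ m, f m :=
    Finset.add_sum_erase _ _ (Finset.mem_univ l)
  have hrest : 0 ≤ ∑ m ∈ Finset.univ.erase l, f m := Finset.sum_nonneg (fun m _ => h0 m)
  have hfl : f l = 1 := by omega
  have hrest0 : ∑ m ∈ Finset.univ.erase l, f m = 0 := by omega
  by_cases h : l = m
  · subst h; rw [if_pos rfl, hfl]
  · rw [if_neg h]
    exact (Finset.sum_eq_zero_iff_of_nonneg (fun m _ => h0 m)).mp hrest0 m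
      (Finset.mem_erase.mpr ⟨fun h' => h h'.symm, Finset.mem_univ _⟩)

theorem shift_eal {a l : Fin M} (hal : a ≠ l) (β : Fin M →₀ ℕ) (hβa : 1 ≤ β a) :
    shift β (eal a l) = Finsupp.single l 1 + (β - Finsupp.single a 1) := by
  ext m
  show ((β m : ℤ) + eal a l m).toNat = _
  simp only [eal, Finsupp.add_apply, Finsupp.tsub_apply, Finsupp.single_apply]
  by_cases h1 : l = m
  · have h2 : ¬ a = m := fun h2 => hal (h2.trans h1.symm)
    simp only [if_pos h1, if_neg h2]; omega
  · by_cases h2 : a = m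
    · subst h2; simp only [if_neg h1, ↓reduceIte]; omega
    · simp only [if_neg h1, if_neg h2]; omega

theorem shift_gen_eal {a l j : Fin M} (hal : a ≠ l) :
    shift (gen a j) (eal a l) = gen l j := by
  rw [shift_eal hal _ (by rw [gen_apply]; simp only [↓reduceIte]; omega)]
  have h2 : gen a j - Finsupp.single a 1 = Finsupp.single j 1 := add_tsub_cancel_left _ _
  rw [h2]; rfl

theorem toZ_gen_eal_nonneg {a l : Fin M} (j : Fin M) :
    ∀ m, 0 ≤ toZ (gen a j) (eal a l) m := by
  intro m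
  show 0 ≤ ((gen a j m : ℕ) : ℤ) + eal a l m
  have h1 : (0 : ℤ) ≤ (gen a j m : ℤ) := Int.natCast_nonneg _
  by_cases h : a = m
  · have h2 : 1 ≤ gen a j m := by rw [gen_apply]; simp only [if_pos h]; omega
    have h3 : -1 ≤ eal a l m := by simp only [eal]; split_ifs <;> omega
    omega
  · have h3 : 0 ≤ eal a l m := by simp only [eal, if_neg h]; split_ifs <;> omega
    omega

variable (k : Type u) [Field k] (P Q : Finset (Fin M))

/-- exponents of the generators `x_i x_j`, `i ∈ P`, `j ∈ Q` -/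
def gset : Set (Fin M →₀ ℕ) := {s | ∃ i ∈ P, ∃ j ∈ Q, s = gen i j}

theorem gset_comm : gset P Q = gset Q P := by
  ext s
  constructor
  · rintro ⟨i, hi, j, hj, rfl⟩; exact ⟨j, hj, i, hi, gen_comm i j⟩
  · rintro ⟨i, hi, j, hj, rfl⟩; exact ⟨j, hj, i, hi, gen_comm i j⟩

/-- the ideal `(x_i : i ∈ P) · (x_j : j ∈ Q)` -/
noncomputable def Iq : Ideal (MvPolynomial (Fin M) k) :=
  Ideal.span ((fun s => monomial s (1 : k)) '' gset P Q)

theorem Iq_comm : Iq k P Q = Iq k Q P := by
  unfold Iq; rw [gset_comm]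

theorem isMono : IsMonomial (Iq k P Q) := by
  classical
  intro p hp β hβ
  unfold Iq at hp ⊢
  rw [mem_ideal_span_monomial_image] at hp ⊢
  intro xi hxi
  rw [support_monomial, if_neg one_ne_zero, Finset.mem_singleton] at hxi
  subst hxi
  exact hp _ hβ

variable {P Q}

theorem ne_of_mem (hPQ : Disjoint P Q) {i j : Fin M} (hi : i ∈ P) (hj : j ∈ Q) : i ≠ j :=
  fun h => Finset.disjoint_left.mp hPQ hi (h ▸ hj)

theorem mem_exps (hPQ : Disjoint P Q) (β : Fin M →₀ ℕ) :
    β ∈ exps (Iq k P Q) ↔ ∃ i ∈ P, ∃ j ∈ Q, 1 ≤ β i ∧ 1 ≤ β j := by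
  classical
  show monomial β (1 : k) ∈ Iq k P Q ↔ _
  unfold Iq
  rw [mem_ideal_span_monomial_image]
  constructor
  · intro h
    obtain ⟨s, ⟨i, hi, j, hj, rfl⟩, hle⟩ := h β (by
      rw [support_monomial, if_neg one_ne_zero]; exact Finset.mem_singleton_self _)
    exact ⟨i, hi, j, hj, (gen_le (ne_of_mem hPQ hi hj) β).mp hle⟩
  · rintro ⟨i, hi, j, hj, h⟩ xi hxi
    rw [support_monomial, if_neg one_ne_zero, Finset.mem_singleton] at hxi
    subst hxi
    exact ⟨gen i j, ⟨i, hi, j, hj, rfl⟩, (gen_le (ne_of_mem hPQ hi hj) _).mpr h⟩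

theorem gen_mem (hPQ : Disjoint P Q) {i j : Fin M} (hi : i ∈ P) (hj : j ∈ Q) :
    gen i j ∈ exps (Iq k P Q) :=
  (mem_exps k hPQ _).mpr ⟨i, hi, j, hj, by rw [gen_apply]; simp only [↓reduceIte]; omega,
    by rw [gen_apply]; simp only [↓reduceIte]; omega⟩

theorem gen_mem' (hPQ : Disjoint P Q) {i j : Fin M} (hi : i ∈ P) (hj : j ∈ Q) :
    monomial (gen i j) (1 : k) ∈ Iq k P Q := gen_mem k hPQ hi hj

theorem add_mem' {β : Fin M →₀ ℕ} (hβ : monomial β (1 : k) ∈ Iq k P Q) (δ : Fin M →₀ ℕ) :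
    monomial (δ + β) (1 : k) ∈ Iq k P Q := exps_add (Iq k P Q) hβ δ

/-- a monomial with no variable from `P` is not in the ideal -/
theorem not_mem_of_noP (hPQ : Disjoint P Q) (β : Fin M →₀ ℕ) (h : ∀ p ∈ P, β p = 0) :
    β ∉ exps (Iq k P Q) := by
  intro hmem
  obtain ⟨i, hi, j, hj, h1, h2⟩ := (mem_exps k hPQ β).mp hmem
  have := h i hi
  omega

theorem not_mem_of_noQ (hPQ : Disjoint P Q) (β : Fin M →₀ ℕ) (h : ∀ q ∈ Q, β q = 0) :
    β ∉ exps (Iq k P Q) := by
  intro hmem
  obtain ⟨i, hi, j, hj, h1, h2⟩ := (mem_exps k hPQ β).mp hmem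
  have := h j hj
  omega

theorem phi_of_le (ψ : Tgt (Iq k P Q)) {g β : Fin M →₀ ℕ} (hg : monomial g (1 : k) ∈ Iq k P Q)
    (hβ : monomial β (1 : k) ∈ Iq k P Q) (hle : g ≤ β) :
    ψ ⟨monomial β 1, hβ⟩ = (monomial (β - g) (1 : k) : MvPolynomial (Fin M) k) •
      ψ ⟨monomial g 1, hg⟩ := by
  have heq : (β - g) + g = β := tsub_add_cancel_of_le hle
  have hmem : monomial ((β - g) + g) (1 : k) ∈ Iq k P Q := by rw [heq]; exact hβ
  have e : (⟨monomial ((β - g) + g) 1, hmem⟩ : ↥(Iq k P Q)) = ⟨monomial β 1, hβ⟩ :=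
    Subtype.ext (by
      show monomial ((β - g) + g) (1 : k) = monomial β 1
      rw [heq])
  rw [← e]
  exact phi_mono (Iq k P Q) ψ (β - g) g hg hmem

theorem hom_ext_gen (hPQ : Disjoint P Q) (ψ1 ψ2 : Tgt (Iq k P Q))
    (h : ∀ i (hi : i ∈ P) j (hj : j ∈ Q),
      ψ1 ⟨monomial (gen i j) 1, gen_mem' k hPQ hi hj⟩ =
        ψ2 ⟨monomial (gen i j) 1, gen_mem' k hPQ hi hj⟩) : ψ1 = ψ2 := by
  apply hom_ext_mono _ (isMono k P Q)
  intro β hβ
  obtain ⟨i, hi, j, hj, hle⟩ := (mem_exps k hPQ β).mp hβ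
  have hle' : gen i j ≤ β := (gen_le (ne_of_mem hPQ hi hj) β).mpr hle
  rw [phi_of_le k ψ1 (gen_mem' k hPQ hi hj) hβ hle', phi_of_le k ψ2 (gen_mem' k hPQ hi hj) hβ hle',
    h i hi j hj]

variable (P Q)

/-- the map induced by the derivation `x_l ∂/∂x_a` -/
noncomputable def D (a l : Fin M) : Tgt (Iq k P Q) where
  toFun p := Ideal.Quotient.mk (Iq k P Q) (X l * pderiv a p.1)
  map_add' p q := by
    show Ideal.Quotient.mk (Iq k P Q) (X l * pderiv a (p.1 + q.1)) = _
    rw [map_add, mul_add, map_add]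
  map_smul' q p := by
    show Ideal.Quotient.mk (Iq k P Q) (X l * pderiv a (q * p.1)) =
      q • Ideal.Quotient.mk (Iq k P Q) (X l * pderiv a p.1)
    rw [Derivation.leibniz, smul_eq_mul, smul_eq_mul, mul_add, map_add, smul_mk]
    have h0 : Ideal.Quotient.mk (Iq k P Q) (X l * (p.1 * pderiv a q)) = 0 := by
      rw [Ideal.Quotient.eq_zero_iff_mem]
      have e : X l * (p.1 * pderiv a q) = (X l * pderiv a q) * p.1 := by ring
      rw [e]
      exact Ideal.mul_mem_left _ _ p.2
    rw [h0, add_zero]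
    congr 1; ring

theorem D_monomial (a l : Fin M) (β : Fin M →₀ ℕ) (hβ : monomial β (1 : k) ∈ Iq k P Q) :
    D k P Q a l ⟨monomial β 1, hβ⟩ =
      ((β a : ℕ) : k) • cls (Iq k P Q) (Finsupp.single l 1 + (β - Finsupp.single a 1)) := by
  show Ideal.Quotient.mk (Iq k P Q) (X l * pderiv a (monomial β (1 : k))) = _
  rw [pderiv_monomial, one_mul]
  have e : (monomial (β - Finsupp.single a 1) ((β a : ℕ) : k) : MvPolynomial (Fin M) k) =
      ((β a : ℕ) : k) • monomial (β - Finsupp.single a 1) 1 := by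
    rw [smul_monomial, smul_eq_mul, mul_one]
  rw [e, mul_smul_comm, mk_smul, X_mul_mono]
  rfl

theorem D_mem {a l : Fin M} (hal : a ≠ l) : D k P Q a l ∈ tPiece (Iq k P Q) (eal a l) := by
  rw [mem_tPiece_iff]
  intro β hβ
  rw [D_monomial]
  refine ⟨fun hnn => ?_, fun hneg => ?_⟩
  · have h1 : 1 ≤ β a := by
      have h2 := hnn a
      simp only [eal, if_neg hal.symm, ↓reduceIte] at h2
      omega
    rw [shift_eal hal β h1]
    exact Submodule.smul_mem _ _ (Submodule.mem_span_singleton_self _)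
  · obtain ⟨m, hm⟩ := hneg
    have h0 : β a = 0 := by
      simp only [eal] at hm
      by_cases h2 : a = m
      · subst h2; split_ifs at hm <;> omega
      · rw [if_neg h2] at hm; split_ifs at hm <;> omega
    rw [h0, Nat.cast_zero, zero_smul]

theorem D_gen {a l j : Fin M} (haj : a ≠ j) (hg : monomial (gen a j) (1 : k) ∈ Iq k P Q) :
    D k P Q a l ⟨monomial (gen a j) 1, hg⟩ = cls (Iq k P Q) (gen l j) := by
  rw [D_monomial]
  have hja : ¬ j = a := fun h => haj h.symm
  have h1 : gen a j a = 1 := by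
    rw [gen_apply]; simp only [↓reduceIte, if_neg hja]
  have h2 : gen a j - Finsupp.single a 1 = Finsupp.single j 1 := add_tsub_cancel_left _ _
  rw [h1, h2, Nat.cast_one, one_smul]; rfl

variable {P Q}

/-- every element of `T_{e_l - e_a}` (`a ∈ P`, `l ∉ P`) is a multiple of `x_l ∂/∂x_a` -/
theorem prop_of_mem (hPQ : Disjoint P Q) {a l : Fin M} (ha : a ∈ P) (hl : l ∉ P) {j₀ : Fin M}
    (hj₀ : j₀ ∈ Q) (φ : Tgt (Iq k P Q)) (hφ : φ ∈ tPiece (Iq k P Q) (eal a l)) :
    φ = co (Iq k P Q) (eal a l) φ (gen a j₀) • D k P Q a l := by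
  have hal : a ≠ l := fun h => hl (h ▸ ha)
  apply hom_ext_gen k hPQ
  intro i hi j hj
  rw [LinearMap.smul_apply]
  have hij : i ≠ j := ne_of_mem hPQ hi hj
  by_cases hia : i = a
  · subst hia
    rw [D_gen k P Q hij, phi_eq_co _ _ hφ _ _ (toZ_gen_eal_nonneg j), shift_gen_eal hal]
    congr 1
    -- the relation between `(i, j)` and `(i, j₀)`
    have hg := gen_mem' k hPQ hi hj
    have hg₀ := gen_mem' k hPQ hi hj₀
    have heq : Finsupp.single j₀ 1 + gen i j = Finsupp.single j 1 + gen i j₀ := by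
      unfold gen; abel
    have hm1 := add_mem' k hg (Finsupp.single j₀ 1)
    have hm2 := add_mem' k hg₀ (Finsupp.single j 1)
    have r1 := phi_X (Iq k P Q) φ j₀ (gen i j) hg hm1
    have r2 := phi_X (Iq k P Q) φ j (gen i j₀) hg₀ hm2
    have e : (⟨monomial (Finsupp.single j₀ 1 + gen i j) 1, hm1⟩ : ↥(Iq k P Q)) =
        ⟨monomial (Finsupp.single j 1 + gen i j₀) 1, hm2⟩ := Subtype.ext (by
      show monomial (Finsupp.single j₀ 1 + gen i j) (1 : k) = monomial (Finsupp.single j 1 + gen i j₀) 1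
      rw [heq])
    rw [e, r2, phi_eq_co _ _ hφ _ _ (toZ_gen_eal_nonneg j), shift_gen_eal hal,
      phi_eq_co _ _ hφ _ _ (toZ_gen_eal_nonneg j₀), shift_gen_eal hal,
      smul_comm, X_smul_cls, smul_comm (X j₀), X_smul_cls] at r1
    have heq2 : Finsupp.single j 1 + gen l j₀ = Finsupp.single j₀ 1 + gen l j := by
      unfold gen; abel
    rw [heq2] at r1
    refine smul_cancel (cls_ne_zero (Iq k P Q) (not_mem_of_noP k hPQ _ ?_)) r1.symm
    intro p hp
    simp only [Finsupp.add_apply, Finsupp.single_apply, gen_apply]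
    have n1 : ¬ j₀ = p := fun h => ne_of_mem hPQ hp hj₀ h.symm
    have n2 : ¬ j = p := fun h => ne_of_mem hPQ hp hj h.symm
    have n3 : ¬ l = p := fun h => hl (h ▸ hp)
    simp only [if_neg n1, if_neg n2, if_neg n3]
  · have hja : ¬ j = a := fun h => ne_of_mem hPQ ha hj h.symm
    have hneg : ∃ m, toZ (gen i j) (eal a l) m < 0 := by
      refine ⟨a, ?_⟩
      show ((gen i j a : ℕ) : ℤ) + eal a l a < 0
      rw [gen_apply]
      simp only [eal, if_neg hia, if_neg hja, if_neg hal.symm, ↓reduceIte]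
      norm_num
    rw [phi_eq_zero _ _ hφ _ _ hneg, D_monomial, gen_apply]
    simp only [if_neg hia, if_neg hja]
    simp

theorem finrank_one_P (hPQ : Disjoint P Q) (hQne : Q.Nonempty) {a l : Fin M} (ha : a ∈ P)
    (hl : l ∉ P) : Module.finrank k ↥(tPiece (Iq k P Q) (eal a l)) = 1 := by
  obtain ⟨j₀, hj₀⟩ := hQne
  have hal : a ≠ l := fun h => hl (h ▸ ha)
  have hD : D k P Q a l ∈ tPiece (Iq k P Q) (eal a l) := D_mem k P Q hal
  have hDne : D k P Q a l ≠ 0 := by
    intro h
    have h1 := D_gen k P Q (l := l) (ne_of_mem hPQ ha hj₀) (gen_mem' k hPQ ha hj₀)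
    rw [h, LinearMap.zero_apply] at h1
    refine cls_ne_zero (Iq k P Q) (not_mem_of_noP k hPQ _ ?_) h1.symm
    intro p hp
    rw [gen_apply]
    have n1 : ¬ j₀ = p := fun h => ne_of_mem hPQ hp hj₀ h.symm
    have n3 : ¬ l = p := fun h => hl (h ▸ hp)
    simp only [if_neg n1, if_neg n3]
  rw [finrank_eq_one_iff_of_nonzero' (⟨D k P Q a l, hD⟩ : ↥(tPiece (Iq k P Q) (eal a l)))
    (fun h => hDne (congrArg Subtype.val h))]
  rintro ⟨φ, hφ⟩
  exact ⟨co (Iq k P Q) (eal a l) φ (gen a j₀), Subtype.ext (prop_of_mem k hPQ ha hl hj₀ φ hφ).symm⟩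

theorem finrank_one_Q (hPQ : Disjoint P Q) (hPne : P.Nonempty) {b l : Fin M} (hb : b ∈ Q)
    (hl : l ∉ Q) : Module.finrank k ↥(tPiece (Iq k P Q) (eal b l)) = 1 := by
  rw [Iq_comm]
  exact finrank_one_P k hPQ.symm hPne hb hl

/-- classification of the nonzero pieces of degree 0 -/
theorem classify (hPQ : Disjoint P Q) (hP2 : ∀ i ∈ P, ∃ i' ∈ P, i' ≠ i)
    (hQ2 : ∀ j ∈ Q, ∃ j' ∈ Q, j' ≠ j)
    (α : Fin M → ℤ) (hsum : ∑ m, α m = 0) (φ : Tgt (Iq k P Q))
    (hφ : φ ∈ tPiece (Iq k P Q) α) (hne : φ ≠ 0) :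
    (∃ a ∈ P, ∃ l, l ∉ P ∧ α = eal a l) ∨ (∃ b ∈ Q, ∃ l, l ∉ Q ∧ α = eal b l) := by
  have hex : ∃ i, ∃ hi : i ∈ P, ∃ j, ∃ hj : j ∈ Q,
      φ ⟨monomial (gen i j) 1, gen_mem' k hPQ hi hj⟩ ≠ 0 := by
    by_contra hcon
    push Not at hcon
    exact hne (hom_ext_gen k hPQ φ 0 (fun i hi j hj => by
      rw [hcon i hi j hj, LinearMap.zero_apply]))
  obtain ⟨i, hi, j, hj, hval⟩ := hex
  have hij : i ≠ j := ne_of_mem hPQ hi hj
  have hg := gen_mem' k hPQ hi hj
  have hnn : ∀ m, 0 ≤ toZ (gen i j) α m := by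
    by_contra hcon
    obtain ⟨m, hm⟩ := not_forall.mp hcon
    exact hval (phi_eq_zero _ α hφ _ _ ⟨m, not_le.mp hm⟩)
  have hco := phi_eq_co _ α hφ (gen i j) hg hnn
  have hc : co (Iq k P Q) α φ (gen i j) ≠ 0 := by
    intro h; rw [h, zero_smul] at hco; exact hval hco
  have hμ : shift (gen i j) α ∉ exps (Iq k P Q) := by
    intro h; rw [cls_eq_zero _ h, smul_zero] at hco; exact hval hco
  have hμm : ∀ m, ((shift (gen i j) α m : ℕ) : ℤ) = ((gen i j m : ℕ) : ℤ) + α m := fun m => by
    show ((((gen i j m : ℕ) : ℤ) + α m).toNat : ℤ) = _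
    exact Int.toNat_of_nonneg (hnn m)
  have hji : ¬ j = i := fun h => hij h.symm
  have hgi : gen i j i = 1 := by
    rw [gen_apply]; simp only [↓reduceIte, if_neg hji]
  have hgj : gen i j j = 1 := by
    rw [gen_apply]; simp only [↓reduceIte, if_neg hij]
  have hgm : ∀ m, m ≠ i → m ≠ j → gen i j m = 0 := fun m h1 h2 => by
    have n1 : ¬ i = m := fun h => h1 h.symm
    have n2 : ¬ j = m := fun h => h2 h.symm
    rw [gen_apply]; simp only [if_neg n1, if_neg n2]
  have hαi : -1 ≤ α i := by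
    have h1 := hnn i
    have h2 : toZ (gen i j) α i = ((gen i j i : ℕ) : ℤ) + α i := rfl
    rw [h2, hgi] at h1; push_cast at h1; omega
  have hαj : -1 ≤ α j := by
    have h1 := hnn j
    have h2 : toZ (gen i j) α j = ((gen i j j : ℕ) : ℤ) + α j := rfl
    rw [h2, hgj] at h1; push_cast at h1; omega
  have hαm : ∀ m, m ≠ i → m ≠ j → 0 ≤ α m := fun m h1 h2 => by
    have h3 := hnn m
    have h4 : toZ (gen i j) α m = ((gen i j m : ℕ) : ℤ) + α m := rfl
    rw [h4, hgm m h1 h2] at h3; push_cast at h3; omega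
  have hsumite : ∀ b : Fin M, ∑ m, (α m + if b = m then (1 : ℤ) else 0) = 1 := fun b => by
    rw [Finset.sum_add_distrib, hsum, Finset.sum_ite_eq]; simp
  by_cases h1 : 0 ≤ α i
  · by_cases h2 : 0 ≤ α j
    · exfalso
      have hall : ∀ m, 0 ≤ α m := fun m => by
        by_cases hmi : m = i
        · rw [hmi]; exact h1
        · by_cases hmj : m = j
          · rw [hmj]; exact h2
          · exact hαm m hmi hmj
      have hbot := tPiece_nonneg (Iq k P Q) (isMono k P Q) α hall
      rw [hbot, Submodule.mem_bot] at hφ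
      exact hne hφ
    · right
      have hαj' : α j = -1 := by omega
      obtain ⟨l, hl⟩ := sum_one_single (fun m => α m + if j = m then (1 : ℤ) else 0)
        (fun m => by
          show 0 ≤ α m + if j = m then (1 : ℤ) else 0
          by_cases hmj : j = m
          · rw [if_pos hmj, ← hmj]; omega
          · rw [if_neg hmj, add_zero]
            by_cases hmi : m = i
            · rw [hmi]; exact h1
            · exact hαm m hmi (fun h => hmj h.symm)) (hsumite j)
      have hlj : l ≠ j := by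
        intro h
        have h3 := hl j
        simp only [↓reduceIte, if_pos h] at h3
        omega
      have hαl : α l = 1 := by
        have h3 := hl l
        have n1 : ¬ j = l := fun h => hlj h.symm
        simp only [↓reduceIte, if_neg n1] at h3
        omega
      refine ⟨j, hj, l, ?_, ?_⟩
      · intro hlQ
        apply hμ
        rw [mem_exps k hPQ]
        refine ⟨i, hi, l, hlQ, ?_, ?_⟩
        · have h3 := hμm i
          rw [hgi] at h3; push_cast at h3; omega
        · have h3 := hμm l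
          have h4 : (0 : ℤ) ≤ ((gen i j l : ℕ) : ℤ) := Int.natCast_nonneg _
          omega
      · funext m
        have h3 := hl m
        simp only [eal]
        omega
  · have hαi' : α i = -1 := by omega
    by_cases h2 : 0 ≤ α j
    · left
      obtain ⟨l, hl⟩ := sum_one_single (fun m => α m + if i = m then (1 : ℤ) else 0)
        (fun m => by
          show 0 ≤ α m + if i = m then (1 : ℤ) else 0
          by_cases hmi : i = m
          · rw [if_pos hmi, ← hmi]; omega
          · rw [if_neg hmi, add_zero]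
            by_cases hmj : m = j
            · rw [hmj]; exact h2
            · exact hαm m (fun h => hmi h.symm) hmj) (hsumite i)
      have hli : l ≠ i := by
        intro h
        have h3 := hl i
        simp only [↓reduceIte, if_pos h] at h3
        omega
      have hαl : α l = 1 := by
        have h3 := hl l
        have n1 : ¬ i = l := fun h => hli h.symm
        simp only [↓reduceIte, if_neg n1] at h3
        omega
      refine ⟨i, hi, l, ?_, ?_⟩
      · intro hlP
        apply hμ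
        rw [mem_exps k hPQ]
        refine ⟨l, hlP, j, hj, ?_, ?_⟩
        · have h3 := hμm l
          have h4 : (0 : ℤ) ≤ ((gen i j l : ℕ) : ℤ) := Int.natCast_nonneg _
          omega
        · have h3 := hμm j
          rw [hgj] at h3; push_cast at h3; omega
      · funext m
        have h3 := hl m
        simp only [eal]
        omega
    · exfalso
      have hαj' : α j = -1 := by omega
      obtain ⟨i', hi', hi'ne⟩ := hP2 i hi
      obtain ⟨j', hj', hj'ne⟩ := hQ2 j hj
      -- a `Q`-variable in `μ`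
      have hQvar : ∃ q ∈ Q, 1 ≤ shift (gen i j) α q := by
        have hg' := gen_mem' k hPQ hi' hj
        have hz : φ ⟨monomial (gen i' j) 1, hg'⟩ = 0 := by
          refine phi_eq_zero _ α hφ _ _ ⟨i, ?_⟩
          show ((gen i' j i : ℕ) : ℤ) + α i < 0
          rw [gen_apply]
          simp only [if_neg hi'ne, if_neg hji]
          omega
        have heq : Finsupp.single i' 1 + gen i j = Finsupp.single i 1 + gen i' j := by
          unfold gen; abel
        have hm1 := add_mem' k hg (Finsupp.single i' 1)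
        have hm2 := add_mem' k hg' (Finsupp.single i 1)
        have r1 := phi_X (Iq k P Q) φ i' (gen i j) hg hm1
        have r2 := phi_X (Iq k P Q) φ i (gen i' j) hg' hm2
        have e : (⟨monomial (Finsupp.single i' 1 + gen i j) 1, hm1⟩ : ↥(Iq k P Q)) =
            ⟨monomial (Finsupp.single i 1 + gen i' j) 1, hm2⟩ := Subtype.ext (by
          show monomial (Finsupp.single i' 1 + gen i j) (1 : k) =
            monomial (Finsupp.single i 1 + gen i' j) 1
          rw [heq])
        rw [e, r2, hz, smul_zero, hco, smul_comm, X_smul_cls] at r1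
        have hin : Finsupp.single i' 1 + shift (gen i j) α ∈ exps (Iq k P Q) := by
          by_contra hout
          exact smul_ne_zero hc (cls_ne_zero _ hout) r1.symm
        obtain ⟨p, hp, q, hq, hp1, hq1⟩ := (mem_exps k hPQ _).mp hin
        refine ⟨q, hq, ?_⟩
        rw [Finsupp.add_apply, Finsupp.single_apply, if_neg (ne_of_mem hPQ hi' hq)] at hq1
        omega
      have hPvar : ∃ p ∈ P, 1 ≤ shift (gen i j) α p := by
        have hg' := gen_mem' k hPQ hi hj'
        have hz : φ ⟨monomial (gen i j') 1, hg'⟩ = 0 := by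
          refine phi_eq_zero _ α hφ _ _ ⟨j, ?_⟩
          show ((gen i j' j : ℕ) : ℤ) + α j < 0
          rw [gen_apply]
          simp only [if_neg hij, if_neg hj'ne]
          omega
        have heq : Finsupp.single j' 1 + gen i j = Finsupp.single j 1 + gen i j' := by
          unfold gen; abel
        have hm1 := add_mem' k hg (Finsupp.single j' 1)
        have hm2 := add_mem' k hg' (Finsupp.single j 1)
        have r1 := phi_X (Iq k P Q) φ j' (gen i j) hg hm1
        have r2 := phi_X (Iq k P Q) φ j (gen i j') hg' hm2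
        have e : (⟨monomial (Finsupp.single j' 1 + gen i j) 1, hm1⟩ : ↥(Iq k P Q)) =
            ⟨monomial (Finsupp.single j 1 + gen i j') 1, hm2⟩ := Subtype.ext (by
          show monomial (Finsupp.single j' 1 + gen i j) (1 : k) =
            monomial (Finsupp.single j 1 + gen i j') 1
          rw [heq])
        rw [e, r2, hz, smul_zero, hco, smul_comm, X_smul_cls] at r1
        have hin : Finsupp.single j' 1 + shift (gen i j) α ∈ exps (Iq k P Q) := by
          by_contra hout
          exact smul_ne_zero hc (cls_ne_zero _ hout) r1.symm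
        obtain ⟨p, hp, q, hq, hp1, hq1⟩ := (mem_exps k hPQ _).mp hin
        refine ⟨p, hp, ?_⟩
        rw [Finsupp.add_apply, Finsupp.single_apply,
          if_neg (fun h => ne_of_mem hPQ hp hj' h.symm)] at hp1
        omega
      obtain ⟨q, hq, hq1⟩ := hQvar
      obtain ⟨p, hp, hp1⟩ := hPvar
      exact hμ ((mem_exps k hPQ _).mpr ⟨p, hp, q, hq, hp1, hq1⟩)

/-! ### counting -/

/-- index pairs `(a, l)` -/
def Bidx (P Q : Finset (Fin M)) : Finset (Fin M × Fin M) := (P ×ˢ Pᶜ) ∪ (Q ×ˢ Qᶜ)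

theorem card_Bidx (hPQ : Disjoint P Q) :
    (Bidx P Q).card = P.card * (M - P.card) + Q.card * (M - Q.card) := by
  unfold Bidx
  rw [Finset.card_union_of_disjoint, Finset.card_product, Finset.card_product, Finset.card_compl,
    Finset.card_compl, Fintype.card_fin]
  rw [Finset.disjoint_left]
  rintro ⟨a, l⟩ h1 h2
  rw [Finset.mem_product] at h1 h2
  exact Finset.disjoint_left.mp hPQ h1.1 h2.1

theorem ne_of_mem_Bidx {x : Fin M × Fin M} (hx : x ∈ Bidx P Q) : x.1 ≠ x.2 := by
  unfold Bidx at hx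
  rw [Finset.mem_union, Finset.mem_product, Finset.mem_product, Finset.mem_compl,
    Finset.mem_compl] at hx
  rcases hx with ⟨h1, h2⟩ | ⟨h1, h2⟩
  · exact fun h => h2 (h ▸ h1)
  · exact fun h => h2 (h ▸ h1)

open Classical in
theorem main (hPQ : Disjoint P Q) (hP2 : 2 ≤ P.card) (hQ2 : 2 ≤ Q.card) :
    Module.finrank k ↥(⨆ α : {α : Fin M → ℤ // ∑ i, α i = 0}, tPiece (Iq k P Q) α.1) =
      P.card * (M - P.card) + Q.card * (M - Q.card) := by
  have hPne : P.Nonempty := Finset.card_pos.mp (by omega)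
  have hQne : Q.Nonempty := Finset.card_pos.mp (by omega)
  have hP2' : ∀ i ∈ P, ∃ i' ∈ P, i' ≠ i := fun i hi => by
    obtain ⟨i', hi', hne⟩ := Finset.exists_mem_ne (by omega : 1 < P.card) i
    exact ⟨i', hi', hne⟩
  have hQ2' : ∀ j ∈ Q, ∃ j' ∈ Q, j' ≠ j := fun j hj => by
    obtain ⟨j', hj', hne⟩ := Finset.exists_mem_ne (by omega : 1 < Q.card) j
    exact ⟨j', hj', hne⟩
  set A : Finset (Fin M → ℤ) := (Bidx P Q).image (fun x => eal x.1 x.2) with hA
  have hcardA : A.card = P.card * (M - P.card) + Q.card * (M - Q.card) := by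
    rw [hA, Finset.card_image_of_injOn, card_Bidx hPQ]
    intro x hx y hy hxy
    have h := eal_inj (ne_of_mem_Bidx (Finset.mem_coe.mp hx)) (ne_of_mem_Bidx (Finset.mem_coe.mp hy)) hxy
    exact Prod.ext h.1 h.2
  have hfr : ∀ α ∈ A, Module.finrank k ↥(tPiece (Iq k P Q) α) = 1 := by
    intro α hα
    rw [hA, Finset.mem_image] at hα
    obtain ⟨⟨a, l⟩, hx, rfl⟩ := hα
    unfold Bidx at hx
    rw [Finset.mem_union, Finset.mem_product, Finset.mem_product, Finset.mem_compl,
      Finset.mem_compl] at hx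
    rcases hx with ⟨h1, h2⟩ | ⟨h1, h2⟩
    · exact finrank_one_P k hPQ hQne h1 h2
    · exact finrank_one_Q k hPQ hPne h1 h2
  have hsumA : ∀ α ∈ A, ∑ i, α i = 0 := by
    intro α hα
    rw [hA, Finset.mem_image] at hα
    obtain ⟨⟨a, l⟩, hx, rfl⟩ := hα
    exact sum_eal a l
  have hsup : (⨆ α : {α : Fin M → ℤ // ∑ i, α i = 0}, tPiece (Iq k P Q) α.1) =
      ⨆ α ∈ A, tPiece (Iq k P Q) α := by
    apply le_antisymm
    · apply iSup_le
      rintro ⟨α, hα⟩
      by_cases hbot : tPiece (Iq k P Q) α = ⊥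
      · show tPiece (Iq k P Q) α ≤ _
        rw [hbot]; exact bot_le
      · obtain ⟨φ, hφ, hne⟩ := (Submodule.ne_bot_iff _).mp hbot
        have hmemA : α ∈ A := by
          rw [hA, Finset.mem_image]
          rcases classify k hPQ hP2' hQ2' α hα φ hφ hne with ⟨a, ha, l, hl, rfl⟩ | ⟨b, hb, l, hl, rfl⟩
          · refine ⟨(a, l), ?_, rfl⟩
            unfold Bidx
            exact Finset.mem_union_left _ (Finset.mem_product.mpr ⟨ha, Finset.mem_compl.mpr hl⟩)
          · refine ⟨(b, l), ?_, rfl⟩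
            unfold Bidx
            exact Finset.mem_union_right _ (Finset.mem_product.mpr ⟨hb, Finset.mem_compl.mpr hl⟩)
        exact le_biSup (fun α => tPiece (Iq k P Q) α) hmemA
    · apply iSup₂_le
      intro α hα
      exact le_iSup (fun α : {α : Fin M → ℤ // ∑ i, α i = 0} => tPiece (Iq k P Q) α.1)
        ⟨α, hsumA α hα⟩
  rw [hsup]
  let p' : (Fin M → ℤ) → Submodule k (Tgt (Iq k P Q)) :=
    fun α => if α ∈ A then tPiece (Iq k P Q) α else ⊥
  have hind : iSupIndep p' := by
    refine (indep (Iq k P Q) (isMono k P Q)).mono ?_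
    intro α
    show (if α ∈ A then tPiece (Iq k P Q) α else ⊥) ≤ tPiece (Iq k P Q) α
    split_ifs
    · exact le_rfl
    · exact bot_le
  have hfd : ∀ α, FiniteDimensional k ↥(p' α) := by
    intro α
    by_cases hα : α ∈ A
    · have e : p' α = tPiece (Iq k P Q) α := if_pos hα
      rw [e]
      exact FiniteDimensional.of_finrank_eq_succ (hfr α hα)
    · have e : p' α = ⊥ := if_neg hα
      rw [e]
      infer_instance
  have hmain := (finrank_biSup p' hind hfd A).2
  have hcongr : (⨆ α ∈ A, p' α) = ⨆ α ∈ A, tPiece (Iq k P Q) α :=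
    iSup_congr fun α => iSup_congr fun hα => if_pos hα
  rw [hcongr] at hmain
  rw [hmain, ← hcardA, Finset.card_eq_sum_ones]
  refine Finset.sum_congr rfl fun α hα => ?_
  have e : p' α = tPiece (Iq k P Q) α := if_pos hα
  rw [e]
  exact hfr α hα

theorem main13451 (k : Type u) [Field k]
    (n c d : ℕ) (hc : 2 ≤ c) (hcd : c ≤ d) (hn : c + d ≤ n) :
    Module.finrank k ↥(⨆ α : {α : Fin (n + 1) → ℤ // ∑ i, α i = 0},
      tPiece (Ideal.span {f : MvPolynomial (Fin (n + 1)) k | ∃ i j : Fin (n + 1), i.val + 1 ≤ c ∧ n + 1 ≤ j.val + d ∧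
        f = MvPolynomial.X i * MvPolynomial.X j}) α.1) = c * (n - c + 1) + d * (n - d + 1) := by
  classical
  set P : Finset (Fin (n + 1)) := Finset.univ.filter (fun i => i.val + 1 ≤ c) with hP
  set Q : Finset (Fin (n + 1)) := Finset.univ.filter (fun j => n + 1 ≤ j.val + d) with hQ
  have hset : {f : MvPolynomial (Fin (n + 1)) k | ∃ i j : Fin (n + 1), i.val + 1 ≤ c ∧ n + 1 ≤ j.val + d ∧
        f = MvPolynomial.X i * MvPolynomial.X j} = (fun s => monomial s (1 : k)) '' gset P Q := by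
    ext f
    constructor
    · rintro ⟨i, j, hi, hj, rfl⟩
      refine ⟨gen i j, ⟨i, ?_, j, ?_, rfl⟩, ?_⟩
      · rw [hP, Finset.mem_filter]; exact ⟨Finset.mem_univ _, hi⟩
      · rw [hQ, Finset.mem_filter]; exact ⟨Finset.mem_univ _, hj⟩
      · show monomial (Finsupp.single i 1 + Finsupp.single j 1) (1 : k) = X i * X j
        rw [X, X, monomial_mul, one_mul]
    · rintro ⟨s, ⟨i, hi, j, hj, rfl⟩, rfl⟩
      rw [hP, Finset.mem_filter] at hi
      rw [hQ, Finset.mem_filter] at hj
      refine ⟨i, j, hi.2, hj.2, ?_⟩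
      show monomial (Finsupp.single i 1 + Finsupp.single j 1) (1 : k) = X i * X j
      rw [X, X, monomial_mul, one_mul]
  have hI : Ideal.span {f : MvPolynomial (Fin (n + 1)) k | ∃ i j : Fin (n + 1), i.val + 1 ≤ c ∧ n + 1 ≤ j.val + d ∧
        f = MvPolynomial.X i * MvPolynomial.X j} = Iq k P Q := by
    unfold Iq; rw [hset]
  rw [hI]
  have hPcard : P.card = c := by
    have e : P = Finset.univ.filter (fun i : Fin (n + 1) => (i : ℕ) < c) :=
      Finset.filter_congr (fun i _ => Nat.succ_le_iff)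
    rw [e, Fin.card_filter_val_lt]
    exact Nat.min_eq_right (by omega)
  have hQcard : Q.card = d := by
    have e : Q = Finset.Ici (⟨n + 1 - d, by omega⟩ : Fin (n + 1)) := by
      ext j
      rw [hQ, Finset.mem_filter, Finset.mem_Ici, Fin.le_def]
      simp only [Finset.mem_univ, true_and]
      omega
    rw [e, Fin.card_Ici]
    simp only
    omega
  have hPQ : Disjoint P Q := by
    rw [Finset.disjoint_left]
    intro i hi hi'
    rw [hP, Finset.mem_filter] at hi
    rw [hQ, Finset.mem_filter] at hi'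
    omega
  rw [main k hPQ (by omega) (by omega), hPcard, hQcard]
  have e1 : n + 1 - c = n - c + 1 := by omega
  have e2 : n + 1 - d = n - d + 1 := by omega
  rw [e1, e2]

end Groth.Agent.Lib.Helper9.TwoPlanes
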