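import Mathlib
import Groth.Prelude.Def_W4c1hilbpnTgt
import Groth.Agent.Lib.Helper29.TgtDim
import Groth.Agent.Lib.Helper9.TwoPlanes

/-! Tangent pieces for the ideal `(x_p : p ∈ P) · (x_a : a ∈ A)` with `P ⊆ A`, part 1:
single-generator maps (helper9). -/

set_option autoImplicit false
universe u
open MvPolynomial W4c1hilbpn
open Groth.Agent.Lib.Helper29.BddComp Groth.Agent.Lib.Helper29.TgtGraded
open Groth.Agent.Lib.Helper9.TwoPlanes

namespace Groth.Agent.Lib.Helper9.PA

section general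
variable {k : Type u} [Field k] {n : ℕ} (I : Ideal (MvPolynomial (Fin n) k))

/-- always-valid form of `phi_eq_co` -/
theorem phi_eq_co' (α : Fin n → ℤ) {φ : Tgt I} (hφ : φ ∈ tPiece I α) (β : Fin n →₀ ℕ)
    (hβ : monomial β (1 : k) ∈ I) :
    φ ⟨monomial β 1, hβ⟩ = co I α φ β • cls I (shift β α) := by
  by_cases hnn : ∀ l, 0 ≤ toZ β α l
  · exact phi_eq_co I α hφ β hβ hnn
  · obtain ⟨l, hl⟩ := not_forall.mp hnn
    have h0 := phi_eq_zero I α hφ β hβ ⟨l, not_le.mp hl⟩
    have hex : ∃ c : k, phiT I φ (monomial β 1) = c • cls I (shift β α) :=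
      ⟨0, by rw [phiT_of_mem I φ _ hβ, h0, zero_smul]⟩
    have h := co_spec I α φ β hex
    rw [phiT_of_mem I φ _ hβ] at h
    exact h

open Classical in
/-- value of the single-generator map `x^g ↦ x^μ` on `x^β` -/
noncomputable def sgVal (g μ β : Fin n →₀ ℕ) : MvPolynomial (Fin n) k ⧸ I :=
  if g ≤ β then cls I (β - g + μ) else 0

noncomputable def sgL (g μ : Fin n →₀ ℕ) :
    MvPolynomial (Fin n) k →ₗ[k] (MvPolynomial (Fin n) k ⧸ I) :=
  (MvPolynomial.basisMonomials (Fin n) k).constr k (sgVal I g μ)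

theorem sgL_monomial (g μ β : Fin n →₀ ℕ) : sgL I g μ (monomial β 1) = sgVal I g μ β := by
  have h := (MvPolynomial.basisMonomials (Fin n) k).constr_basis k (sgVal I g μ) β
  rw [MvPolynomial.coe_basisMonomials] at h
  exact h

/-- the condition making `x^g ↦ x^μ`, other generators `↦ 0`, a homomorphism -/
def SgCond (g μ : Fin n →₀ ℕ) : Prop :=
  ∀ β ∈ exps I, ¬ g ≤ β → ∀ i, g ≤ Finsupp.single i 1 + β →
    (Finsupp.single i 1 + β - g + μ) ∈ exps I

theorem sgL_compat (g μ : Fin n →₀ ℕ) (hc : SgCond I g μ) (i : Fin n) (β : Fin n →₀ ℕ)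
    (hβ : β ∈ exps I) :
    sgL I g μ (X i * monomial β 1) =
      (X i : MvPolynomial (Fin n) k) • sgL I g μ (monomial β 1) := by
  classical
  rw [X_mul_mono, sgL_monomial, sgL_monomial]
  unfold sgVal
  by_cases h : g ≤ β
  · have h' : g ≤ Finsupp.single i 1 + β := h.trans (le_add_left le_rfl)
    rw [if_pos h, if_pos h', X_smul_cls]
    congr 1
    rw [add_tsub_assoc_of_le h, add_assoc]
  · rw [if_neg h, smul_zero]
    by_cases h' : g ≤ Finsupp.single i 1 + β
    · rw [if_pos h', cls_eq_zero I (hc β hβ h i h')]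
    · rw [if_neg h']

open Classical in
/-- the single-generator map (zero when the condition fails) -/
noncomputable def psiT (hI : IsMonomial I) (g μ : Fin n →₀ ℕ) : Tgt I :=
  if hc : SgCond I g μ then
    mkHom I hI (sgL I g μ) (fun i β hβ => sgL_compat I g μ hc i β hβ) else 0

theorem psiT_monomial (hI : IsMonomial I) (g μ : Fin n →₀ ℕ) (hc : SgCond I g μ)
    (β : Fin n →₀ ℕ) (hβ : monomial β (1 : k) ∈ I) :
    psiT I hI g μ ⟨monomial β 1, hβ⟩ = sgVal I g μ β := by
  unfold psiT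
  rw [dif_pos hc]
  show sgL I g μ (monomial β 1) = _
  exact sgL_monomial I g μ β

theorem psiT_mem (hI : IsMonomial I) (g μ : Fin n →₀ ℕ) :
    psiT I hI g μ ∈ tPiece I (alphaOf g μ) := by
  classical
  by_cases hc : SgCond I g μ
  · rw [mem_tPiece_iff]
    intro β hβ
    rw [psiT_monomial I hI g μ hc]
    unfold sgVal
    by_cases h : g ≤ β
    · rw [if_pos h]
      have hs : shift β (alphaOf g μ) = β - g + μ := by
        ext m
        show ((β m : ℤ) + ((μ m : ℤ) - (g m : ℤ))).toNat = (β - g + μ) m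
        rw [Finsupp.add_apply, Finsupp.tsub_apply]
        have := h m
        omega
      refine ⟨fun _ => ?_, fun hneg => ?_⟩
      · rw [hs]; exact Submodule.mem_span_singleton_self _
      · exfalso
        obtain ⟨m, hm⟩ := hneg
        have := h m
        simp only [alphaOf] at hm
        omega
    · rw [if_neg h]
      exact ⟨fun _ => Submodule.zero_mem _, fun _ => rfl⟩
  · unfold psiT
    rw [dif_neg hc]
    exact Submodule.zero_mem _

/-- coefficient functional at a standard monomial -/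
noncomputable def cqL (hI : IsMonomial I) (μ : Fin n →₀ ℕ) (hμ : μ ∉ exps I) :
    (MvPolynomial (Fin n) k ⧸ I) →ₗ[k] k where
  toFun := cq I μ
  map_add' x y := by
    obtain ⟨p, rfl⟩ := Ideal.Quotient.mk_surjective x
    obtain ⟨q, rfl⟩ := Ideal.Quotient.mk_surjective y
    rw [← map_add, cq_mk I hI hμ, cq_mk I hI hμ, cq_mk I hI hμ, coeff_add]
  map_smul' c x := by
    obtain ⟨p, rfl⟩ := Ideal.Quotient.mk_surjective x
    rw [← mk_smul, cq_mk I hI hμ, cq_mk I hI hμ, coeff_smul]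
    rfl

theorem cqL_cls (hI : IsMonomial I) (μ : Fin n →₀ ℕ) (hμ : μ ∉ exps I) (γ : Fin n →₀ ℕ) :
    cqL I hI μ hμ (cls I γ) = if γ = μ then 1 else 0 := by
  show cq I μ (Ideal.Quotient.mk I (monomial γ (1 : k))) = _
  rw [cq_mk I hI hμ, coeff_monomial]

/-- evaluation of a homomorphism at an element, as a `k`-linear map -/
noncomputable def evL (x : ↥I) : Tgt I →ₗ[k] (MvPolynomial (Fin n) k ⧸ I) where
  toFun φ := φ x
  map_add' _ _ := rfl
  map_smul' _ _ := rfl

end general

section ideal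
variable {M : ℕ} (k : Type u) [Field k] {P A : Finset (Fin M)}

theorem gen_le_iff (p a : Fin M) (β : Fin M →₀ ℕ) :
    gen p a ≤ β ↔ (1 ≤ β p ∧ 1 ≤ β a ∧ (p = a → 2 ≤ β p)) := by
  constructor
  · intro h
    have h1 := h p
    have h2 := h a
    rw [gen_apply] at h1 h2
    simp only [↓reduceIte] at h1 h2
    refine ⟨by omega, by omega, fun hpa => ?_⟩
    rw [if_pos hpa.symm] at h1
    omega
  · rintro ⟨h1, h2, h3⟩ m
    rw [gen_apply]
    by_cases e1 : p = m
    · by_cases e2 : a = m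
      · have := h3 (e1.trans e2.symm)
        simp only [if_pos e1, if_pos e2]; subst e1; omega
      · simp only [if_pos e1, if_neg e2]; subst e1; omega
    · by_cases e2 : a = m
      · simp only [if_neg e1, if_pos e2]; subst e2; omega
      · simp only [if_neg e1, if_neg e2]; omega

theorem degree_gen (p a : Fin M) : (gen p a).degree = 2 := by
  unfold gen
  rw [map_add, Finsupp.degree_single, Finsupp.degree_single]

theorem gen_le_gen {p a p' a' : Fin M} (h : gen p a ≤ gen p' a') : gen p a = gen p' a' := by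
  have h1 : gen p a + (gen p' a' - gen p a) = gen p' a' := add_tsub_cancel_of_le h
  have h2 := congrArg Finsupp.degree h1
  rw [map_add, degree_gen, degree_gen] at h2
  have h3 : (gen p' a' - gen p a).degree = 0 := by omega
  rw [Finsupp.degree_eq_zero_iff] at h3
  rw [h3, add_zero] at h1
  exact h1

theorem mem_exps' (β : Fin M →₀ ℕ) :
    β ∈ exps (Iq k P A) ↔ ∃ p ∈ P, ∃ a ∈ A, gen p a ≤ β := by
  classical
  show monomial β (1 : k) ∈ Iq k P A ↔ _
  unfold Iq
  rw [mem_ideal_span_monomial_image]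
  constructor
  · intro h
    obtain ⟨s, ⟨i, hi, j, hj, rfl⟩, hle⟩ := h β (by
      rw [support_monomial, if_neg one_ne_zero]; exact Finset.mem_singleton_self _)
    exact ⟨i, hi, j, hj, hle⟩
  · rintro ⟨i, hi, j, hj, h⟩ xi hxi
    rw [support_monomial, if_neg one_ne_zero, Finset.mem_singleton] at hxi
    subst hxi
    exact ⟨gen i j, ⟨i, hi, j, hj, rfl⟩, h⟩

theorem gen_mem2 {p a : Fin M} (hp : p ∈ P) (ha : a ∈ A) :
    monomial (gen p a) (1 : k) ∈ Iq k P A :=
  (mem_exps' k _).mpr ⟨p, hp, a, ha, le_rfl⟩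

theorem hom_ext_gen' (ψ1 ψ2 : Tgt (Iq k P A))
    (h : ∀ p (hp : p ∈ P) a (ha : a ∈ A),
      ψ1 ⟨monomial (gen p a) 1, gen_mem2 k hp ha⟩ =
        ψ2 ⟨monomial (gen p a) 1, gen_mem2 k hp ha⟩) : ψ1 = ψ2 := by
  apply hom_ext_mono _ (isMono k P A)
  intro β hβ
  obtain ⟨i, hi, j, hj, hle⟩ := (mem_exps' k β).mp hβ
  rw [phi_of_le k ψ1 (gen_mem2 k hi hj) hβ hle, phi_of_le k ψ2 (gen_mem2 k hi hj) hβ hle,
    h i hi j hj]

/-! ### standard monomials -/

theorem not_mem_noP (β : Fin M →₀ ℕ) (h : ∀ p ∈ P, β p = 0) : β ∉ exps (Iq k P A) := by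
  intro hmem
  obtain ⟨p, hp, a, ha, hle⟩ := (mem_exps' k β).mp hmem
  have h1 := ((gen_le_iff p a β).mp hle).1
  have := h p hp
  omega

theorem not_mem_S1 (hPA : P ⊆ A) (β : Fin M →₀ ℕ) {q : Fin M} (hq1 : β q = 1)
    (h : ∀ a ∈ A, a ≠ q → β a = 0) : β ∉ exps (Iq k P A) := by
  intro hmem
  obtain ⟨p, hp, a, ha, hle⟩ := (mem_exps' k β).mp hmem
  obtain ⟨h1, h2, h3⟩ := (gen_le_iff p a β).mp hle
  have hpq : p = q := by
    by_contra hne
    have := h p (hPA hp) hne
    omega
  have haq : a = q := by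
    by_contra hne
    have := h a ha hne
    omega
  have := h3 (hpq.trans haq.symm)
  rw [hpq] at this
  omega

theorem mem_of {β : Fin M →₀ ℕ} {q a : Fin M} (hq : q ∈ P) (ha : a ∈ A) (h1 : 1 ≤ β q)
    (h2 : 1 ≤ β a) (h3 : q = a → 2 ≤ β q) : β ∈ exps (Iq k P A) :=
  (mem_exps' k β).mpr ⟨q, hq, a, ha, (gen_le_iff q a β).mpr ⟨h1, h2, h3⟩⟩

/-! ### `A`-degree -/

/-- sum of the exponents of the variables in `A` -/
def dA (A : Finset (Fin M)) (β : Fin M →₀ ℕ) : ℕ := ∑ b ∈ A, β b

theorem dA_add (A : Finset (Fin M)) (β γ : Fin M →₀ ℕ) : dA A (β + γ) = dA A β + dA A γ := by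
  unfold dA
  rw [← Finset.sum_add_distrib]
  exact Finset.sum_congr rfl (fun b _ => Finsupp.add_apply _ _ _)

theorem dA_single (A : Finset (Fin M)) (i : Fin M) (c : ℕ) :
    dA A (Finsupp.single i c) = if i ∈ A then c else 0 := by
  unfold dA
  simp only [Finsupp.single_apply]
  rw [Finset.sum_ite_eq]

theorem dA_gen (A : Finset (Fin M)) {p a : Fin M} (hp : p ∈ A) (ha : a ∈ A) :
    dA A (gen p a) = 2 := by
  unfold gen
  rw [dA_add, dA_single, dA_single, if_pos hp, if_pos ha]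

theorem dA_mono (A : Finset (Fin M)) {β γ : Fin M →₀ ℕ} (h : β ≤ γ) : dA A β ≤ dA A γ :=
  Finset.sum_le_sum (fun b _ => h b)

theorem exists_of_dA_pos (A : Finset (Fin M)) {γ : Fin M →₀ ℕ} (h : 1 ≤ dA A γ) :
    ∃ b ∈ A, 1 ≤ γ b := by
  by_contra hcon
  push Not at hcon
  have h0 : dA A γ = 0 := Finset.sum_eq_zero (fun b hb => by
    have := hcon b hb
    omega)
  omega

theorem sgCond_gen (hPA : P ⊆ A) {p a q : Fin M} (hp : p ∈ P) (ha : a ∈ A) (hq : q ∈ P)
    (μ : Fin M →₀ ℕ) (hμ : 1 ≤ μ q) : SgCond (Iq k P A) (gen p a) μ := by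
  intro β hβ hnle i hle
  obtain ⟨p', hp', a', ha', hle'⟩ := (mem_exps' k β).mp hβ
  have hsum : (Finsupp.single i 1 + β - gen p a) + gen p a = Finsupp.single i 1 + β :=
    tsub_add_cancel_of_le hle
  have hiA : i ∈ A := by
    by_contra hi
    apply hnle
    intro m
    have h1 := hle m
    rw [Finsupp.add_apply, Finsupp.single_apply] at h1
    by_cases him : i = m
    · subst him
      have n1 : ¬ p = i := fun h => hi (h ▸ hPA hp)
      have n2 : ¬ a = i := fun h => hi (h ▸ ha)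
      have h0 : gen p a i = 0 := by
        rw [gen_apply]; simp only [if_neg n1, if_neg n2]
      omega
    · rw [if_neg him] at h1; omega
  have h1 : dA A (Finsupp.single i 1 + β - gen p a) + 2 = 1 + dA A β := by
    have h2 := congrArg (dA A) hsum
    rw [dA_add, dA_add, dA_gen A (hPA hp) ha, dA_single, if_pos hiA] at h2
    exact h2
  have h2 : 2 ≤ dA A β := by
    have h3 := dA_mono A hle'
    rw [dA_gen A (hPA hp') ha'] at h3; exact h3
  obtain ⟨b, hb, hb1⟩ := exists_of_dA_pos A (by omega :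
    1 ≤ dA A (Finsupp.single i 1 + β - gen p a))
  refine mem_of k hq hb ?_ ?_ ?_
  · rw [Finsupp.add_apply]; omega
  · rw [Finsupp.add_apply]; omega
  · intro hqb; rw [Finsupp.add_apply]; subst hqb; omega

/-- value of the single-generator map on a generator -/
theorem psiT_gen (hPA : P ⊆ A) {p a q p' a' : Fin M} (hp : p ∈ P) (ha : a ∈ A) (hq : q ∈ P)
    (l : Fin M) (hp' : p' ∈ P) (ha' : a' ∈ A) :
    psiT (Iq k P A) (isMono k P A) (gen p a) (gen q l)
        ⟨monomial (gen p' a') 1, gen_mem2 k hp' ha'⟩ =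
      if gen p a = gen p' a' then cls (Iq k P A) (gen q l) else 0 := by
  classical
  have hμ : 1 ≤ gen q l q := by rw [gen_apply]; simp only [↓reduceIte]; omega
  rw [psiT_monomial _ _ _ _ (sgCond_gen k hPA hp ha hq _ hμ)]
  unfold sgVal
  by_cases h : gen p a = gen p' a'
  · rw [if_pos h, if_pos (le_of_eq h), h, tsub_self, zero_add]
  · rw [if_neg h, if_neg (fun hle => h (gen_le_gen hle))]

end ideal

end Groth.Agent.Lib.Helper9.PA
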