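import Mathlib
import Groth.Agent.Lib.Helper9.PA1

/-! Tangent pieces for the ideal `(x_p : p ∈ P) · (x_a : a ∈ A)` with `P ⊆ A`, part 2:
classification and spanning (helper9). -/

set_option autoImplicit false
universe u
open MvPolynomial W4c1hilbpn
open Groth.Agent.Lib.Helper29.BddComp Groth.Agent.Lib.Helper29.TgtGraded
open Groth.Agent.Lib.Helper9.TwoPlanes

namespace Groth.Agent.Lib.Helper9.PA

variable {M : ℕ} (k : Type u) [Field k] {P A : Finset (Fin M)}

theorem rel0 (φ : Tgt (Iq k P A)) {g h' : Fin M →₀ ℕ} (hg : monomial g (1 : k) ∈ Iq k P A)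
    (hh : monomial h' (1 : k) ∈ Iq k P A) (i j : Fin M)
    (heq : Finsupp.single i 1 + g = Finsupp.single j 1 + h')
    (hz : φ ⟨monomial h' 1, hh⟩ = 0) {c : k} {μ : Fin M →₀ ℕ}
    (hco : φ ⟨monomial g 1, hg⟩ = c • cls (Iq k P A) μ) (hc : c ≠ 0) :
    Finsupp.single i 1 + μ ∈ exps (Iq k P A) := by
  have hm1 := add_mem' k hg (Finsupp.single i 1)
  have hm2 := add_mem' k hh (Finsupp.single j 1)
  have r1 := phi_X (Iq k P A) φ i g hg hm1
  have r2 := phi_X (Iq k P A) φ j h' hh hm2
  have e : (⟨monomial (Finsupp.single i 1 + g) 1, hm1⟩ : ↥(Iq k P A)) =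
      ⟨monomial (Finsupp.single j 1 + h') 1, hm2⟩ := Subtype.ext (by
    show monomial (Finsupp.single i 1 + g) (1 : k) = monomial (Finsupp.single j 1 + h') 1
    rw [heq])
  rw [e, r2, hz, smul_zero, hco, smul_comm, X_smul_cls] at r1
  by_contra hout
  exact smul_ne_zero hc (cls_ne_zero _ hout) r1.symm

theorem rel1 (φ : Tgt (Iq k P A)) {g h' : Fin M →₀ ℕ} (hg : monomial g (1 : k) ∈ Iq k P A)
    (hh : monomial h' (1 : k) ∈ Iq k P A) (i j : Fin M)
    (heq : Finsupp.single i 1 + g = Finsupp.single j 1 + h') {c c' : k} {μ μ' : Fin M →₀ ℕ}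
    (hco : φ ⟨monomial g 1, hg⟩ = c • cls (Iq k P A) μ)
    (hco' : φ ⟨monomial h' 1, hh⟩ = c' • cls (Iq k P A) μ')
    (hμ : Finsupp.single i 1 + μ = Finsupp.single j 1 + μ')
    (hst : Finsupp.single i 1 + μ ∉ exps (Iq k P A)) : c = c' := by
  have hm1 := add_mem' k hg (Finsupp.single i 1)
  have hm2 := add_mem' k hh (Finsupp.single j 1)
  have r1 := phi_X (Iq k P A) φ i g hg hm1
  have r2 := phi_X (Iq k P A) φ j h' hh hm2
  have e : (⟨monomial (Finsupp.single i 1 + g) 1, hm1⟩ : ↥(Iq k P A)) =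
      ⟨monomial (Finsupp.single j 1 + h') 1, hm2⟩ := Subtype.ext (by
    show monomial (Finsupp.single i 1 + g) (1 : k) = monomial (Finsupp.single j 1 + h') 1
    rw [heq])
  rw [e, r2, hco, hco', smul_comm, X_smul_cls, smul_comm (X i), X_smul_cls, ← hμ] at r1
  exact (smul_cancel (cls_ne_zero _ hst) r1).symm

theorem exists_gen_of_degree_two (μ : Fin M →₀ ℕ) (h : μ.degree = 2) : ∃ u v, μ = gen u v := by
  rw [Finsupp.degree_eq_sum] at h
  have hex : ∃ u, 1 ≤ μ u := by
    by_contra hcon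
    push Not at hcon
    have h0 : ∑ m, μ m = 0 := Finset.sum_eq_zero (fun m _ => by have := hcon m; omega)
    omega
  obtain ⟨u, hu⟩ := hex
  have hsum : ∑ m, ((μ m : ℤ) - (if u = m then (1 : ℤ) else 0)) = 1 := by
    rw [Finset.sum_sub_distrib, Finset.sum_ite_eq, ← Nat.cast_sum, h]
    simp
  obtain ⟨v, hv⟩ := sum_one_single (fun m => (μ m : ℤ) - (if u = m then (1 : ℤ) else 0))
    (fun m => by
      show 0 ≤ (μ m : ℤ) - (if u = m then (1 : ℤ) else 0)
      by_cases hum : u = m
      · rw [if_pos hum, ← hum]; omega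
      · rw [if_neg hum]; omega) hsum
  refine ⟨u, v, Finsupp.ext fun m => ?_⟩
  have h1 := hv m
  rw [gen_apply]
  by_cases hum : u = m <;> by_cases hvm : v = m
  · simp only [if_pos hum, if_pos hvm] at h1 ⊢; omega
  · simp only [if_pos hum, if_neg hvm] at h1 ⊢; omega
  · simp only [if_neg hum, if_pos hvm] at h1 ⊢; omega
  · simp only [if_neg hum, if_neg hvm] at h1 ⊢; omega

theorem toZ_neg {α : Fin M → ℤ} (p a x u v : Fin M) (hxa : x ≠ a ∨ (x = p ∧ p ≠ a)) (hua : u ≠ a)
    (hva : v ≠ a)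
    (hα : α a = ((gen u v a : ℕ) : ℤ) - ((gen p a a : ℕ) : ℤ)) :
    ((gen p x a : ℕ) : ℤ) + α a < 0 := by
  rw [hα]
  simp only [gen_apply]
  simp only [if_neg hua, if_neg hva, ↓reduceIte]
  rcases hxa with hxa | ⟨rfl, hpa⟩
  · simp only [if_neg hxa]
    push_cast
    split_ifs <;> omega
  · simp only [if_neg hpa]
    norm_num

/-- Step B of the classification -/
theorem stepB (hPA : P ⊆ A) (hMid : ∃ m₀ ∈ A, m₀ ∉ P) (α : Fin M → ℤ) (hsum : ∑ m, α m = 0)
    (φ : Tgt (Iq k P A)) (hφ : φ ∈ tPiece (Iq k P A) α) {p a : Fin M} (hp : p ∈ P) (ha : a ∈ A)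
    (hval : φ ⟨monomial (gen p a) 1, gen_mem2 k hp ha⟩ ≠ 0) :
    (∃ q ∈ P, ∃ l, l ∉ A ∧ shift (gen p a) α = gen q l) ∨
      (a ∉ P ∧ ∃ b, b ∉ P ∧ α = eal p b) := by
  have hg := gen_mem2 k hp ha
  have hnn : ∀ m, 0 ≤ toZ (gen p a) α m := by
    by_contra hcon
    obtain ⟨m, hm⟩ := not_forall.mp hcon
    exact hval (phi_eq_zero _ α hφ _ _ ⟨m, not_le.mp hm⟩)
  have hco := phi_eq_co _ α hφ (gen p a) hg hnn
  have hc : co (Iq k P A) α φ (gen p a) ≠ 0 := by
    intro h; rw [h, zero_smul] at hco; exact hval hco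
  have hμ : shift (gen p a) α ∉ exps (Iq k P A) := by
    intro h; rw [cls_eq_zero _ h, smul_zero] at hco; exact hval hco
  have hdeg : (shift (gen p a) α).degree = 2 := by
    have h1 := Groth.Agent.Lib.Helper29.TgtPow.degree_shift α (gen p a) hnn
    rw [hsum, degree_gen] at h1
    have h2 : ((shift (gen p a) α).degree : ℤ) = 2 := by rw [h1]; norm_num
    exact_mod_cast h2
  obtain ⟨u, v, huv⟩ := exists_gen_of_degree_two _ hdeg
  have hμm : ∀ m, ((gen u v m : ℕ) : ℤ) = ((gen p a m : ℕ) : ℤ) + α m := fun m => by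
    rw [← huv]
    show ((((gen p a m : ℕ) : ℤ) + α m).toNat : ℤ) = _
    exact Int.toNat_of_nonneg (hnn m)
  have hα : ∀ m, α m = ((gen u v m : ℕ) : ℤ) - ((gen p a m : ℕ) : ℤ) := fun m => by
    have := hμm m; omega
  by_cases huP : u ∈ P
  · by_cases hvA : v ∈ A
    · exfalso
      exact hμ ((mem_exps' k _).mpr ⟨u, huP, v, hvA, le_of_eq huv.symm⟩)
    · exact Or.inl ⟨u, huP, v, hvA, huv⟩
  · by_cases hvP : v ∈ P
    · by_cases huA : u ∈ A
      · exfalso
        exact hμ ((mem_exps' k _).mpr ⟨v, hvP, u, huA, le_of_eq (huv.trans (gen_comm u v)).symm⟩)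
      · exact Or.inl ⟨v, hvP, u, huA, huv.trans (gen_comm u v)⟩
    · -- `S2`-type
      have hnoP : ∀ i, i ∉ P → Finsupp.single i 1 + shift (gen p a) α ∉ exps (Iq k P A) := by
        intro i hi
        apply not_mem_noP
        intro x hx
        rw [huv, Finsupp.add_apply, Finsupp.single_apply, gen_apply]
        have n1 : ¬ i = x := fun h => hi (h ▸ hx)
        have n2 : ¬ u = x := fun h => huP (h ▸ hx)
        have n3 : ¬ v = x := fun h => hvP (h ▸ hx)
        simp only [if_neg n1, if_neg n2, if_neg n3]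
      by_cases haP : a ∈ P
      · exfalso
        obtain ⟨m₀, hm₀A, hm₀P⟩ := hMid
        have hh := gen_mem2 k hp hm₀A
        have heq : Finsupp.single m₀ 1 + gen p a = Finsupp.single a 1 + gen p m₀ := by
          unfold gen; abel
        have hz : φ ⟨monomial (gen p m₀) 1, hh⟩ = 0 := by
          refine phi_eq_zero _ α hφ _ _ ⟨a, ?_⟩
          exact toZ_neg p a m₀ u v (Or.inl (fun h => hm₀P (h ▸ haP)))
            (fun h => huP (h ▸ haP)) (fun h => hvP (h ▸ haP)) (hα a)
        exact hnoP m₀ hm₀P (rel0 k φ hg hh m₀ a heq hz hco hc)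
      · have hpa : p ≠ a := fun h => haP (h ▸ hp)
        by_cases hau : a = u
        · refine Or.inr ⟨haP, v, hvP, ?_⟩
          funext m
          rw [hα m, gen_apply, gen_apply, hau]
          simp only [eal]
          push_cast
          omega
        · by_cases hav : a = v
          · refine Or.inr ⟨haP, u, huP, ?_⟩
            funext m
            rw [hα m, gen_apply, gen_apply, hav]
            simp only [eal]
            push_cast
            omega
          · exfalso
            have hua : u ≠ a := fun h => hau h.symm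
            have hva : v ≠ a := fun h => hav h.symm
            by_cases huA : u ∈ A
            · have hh := gen_mem2 k hp huA
              have heq : Finsupp.single u 1 + gen p a = Finsupp.single a 1 + gen p u := by
                unfold gen; abel
              have hz : φ ⟨monomial (gen p u) 1, hh⟩ = 0 := by
                refine phi_eq_zero _ α hφ _ _ ⟨a, ?_⟩
                exact toZ_neg p a u u v (Or.inl hua) hua hva (hα a)
              exact hnoP u huP (rel0 k φ hg hh u a heq hz hco hc)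
            · by_cases hvA : v ∈ A
              · have hh := gen_mem2 k hp hvA
                have heq : Finsupp.single v 1 + gen p a = Finsupp.single a 1 + gen p v := by
                  unfold gen; abel
                have hz : φ ⟨monomial (gen p v) 1, hh⟩ = 0 := by
                  refine phi_eq_zero _ α hφ _ _ ⟨a, ?_⟩
                  exact toZ_neg p a v u v (Or.inl hva) hua hva (hα a)
                exact hnoP v hvP (rel0 k φ hg hh v a heq hz hco hc)
              · have hh := gen_mem2 k hp (hPA hp)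
                have heq : Finsupp.single p 1 + gen p a = Finsupp.single a 1 + gen p p := by
                  unfold gen; abel
                have hz : φ ⟨monomial (gen p p) 1, hh⟩ = 0 := by
                  refine phi_eq_zero _ α hφ _ _ ⟨a, ?_⟩
                  exact toZ_neg p a p u v (Or.inr ⟨rfl, hpa⟩) hua hva (hα a)
                have hin := rel0 k φ hg hh p a heq hz hco hc
                refine not_mem_S1 k hPA _ (q := p) ?_ ?_ hin
                · rw [huv, Finsupp.add_apply, Finsupp.single_apply, gen_apply]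
                  have n2 : ¬ u = p := fun h => huP (h ▸ hp)
                  have n3 : ¬ v = p := fun h => hvP (h ▸ hp)
                  simp only [↓reduceIte, if_neg n2, if_neg n3]
                · intro b hb hbp
                  rw [huv, Finsupp.add_apply, Finsupp.single_apply, gen_apply]
                  have n1 : ¬ p = b := fun h => hbp h.symm
                  have n2 : ¬ u = b := fun h => huA (h ▸ hb)
                  have n3 : ¬ v = b := fun h => hvA (h ▸ hb)
                  simp only [if_neg n1, if_neg n2, if_neg n3]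

/-! ### the spanning family -/

variable (P A)

open Classical in
/-- the generators, as a finset of exponent vectors -/
noncomputable def Gfin : Finset (Fin M →₀ ℕ) := (P ×ˢ A).image (fun x => gen x.1 x.2)

/-- index type of the basis -/
abbrev Idx : Type := (↥(Gfin P A) × ↥P × ↥(Aᶜ)) ⊕ (↥P × ↥(Pᶜ))

/-- the basis family -/
noncomputable def vfam : Idx P A → Tgt (Iq k P A) :=
  Sum.elim (fun x => psiT (Iq k P A) (isMono k P A) x.1.1 (gen x.2.1.1 x.2.2.1))
    (fun y => D k P A y.1.1 y.2.1)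

/-- the span of the basis family -/
noncomputable def W : Submodule k (Tgt (Iq k P A)) := Submodule.span k (Set.range (vfam k P A))

variable {P A}

theorem mem_Gfin {p a : Fin M} (hp : p ∈ P) (ha : a ∈ A) : gen p a ∈ Gfin P A := by
  classical
  unfold Gfin
  exact Finset.mem_image.mpr ⟨(p, a), Finset.mem_product.mpr ⟨hp, ha⟩, rfl⟩

theorem of_mem_Gfin {g : Fin M →₀ ℕ} (hg : g ∈ Gfin P A) : ∃ p ∈ P, ∃ a ∈ A, g = gen p a := by
  classical
  unfold Gfin at hg
  obtain ⟨⟨p, a⟩, hpa, rfl⟩ := Finset.mem_image.mp hg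
  rw [Finset.mem_product] at hpa
  exact ⟨p, hpa.1, a, hpa.2, rfl⟩

theorem psi_mem_W {p a q l : Fin M} (hp : p ∈ P) (ha : a ∈ A) (hq : q ∈ P) (hl : l ∉ A) :
    psiT (Iq k P A) (isMono k P A) (gen p a) (gen q l) ∈ W k P A :=
  Submodule.subset_span ⟨Sum.inl (⟨gen p a, mem_Gfin hp ha⟩, ⟨q, hq⟩,
    ⟨l, Finset.mem_compl.mpr hl⟩), rfl⟩

theorem D_mem_W {p b : Fin M} (hp : p ∈ P) (hb : b ∉ P) : D k P A p b ∈ W k P A :=
  Submodule.subset_span ⟨Sum.inr (⟨p, hp⟩, ⟨b, Finset.mem_compl.mpr hb⟩), rfl⟩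

theorem star (hPA : P ⊆ A) (α : Fin M → ℤ) (φ : Tgt (Iq k P A)) (hφ : φ ∈ tPiece (Iq k P A) α)
    (hS1 : ∀ p (hp : p ∈ P) a (ha : a ∈ A),
      φ ⟨monomial (gen p a) 1, gen_mem2 k hp ha⟩ ≠ 0 →
        ∃ q ∈ P, ∃ l, l ∉ A ∧ shift (gen p a) α = gen q l) : φ ∈ W k P A := by
  classical
  let θ : (Fin M →₀ ℕ) → Tgt (Iq k P A) := fun g =>
    if (∃ q ∈ P, ∃ l, l ∉ A ∧ shift g α = gen q l) then
      co (Iq k P A) α φ g • psiT (Iq k P A) (isMono k P A) g (shift g α) else 0
  have hθW : ∀ g ∈ Gfin P A, θ g ∈ W k P A := by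
    intro g hg
    obtain ⟨p, hp, a, ha, rfl⟩ := of_mem_Gfin hg
    show (if (∃ q ∈ P, ∃ l, l ∉ A ∧ shift (gen p a) α = gen q l) then
      co (Iq k P A) α φ (gen p a) • psiT (Iq k P A) (isMono k P A) (gen p a) (shift (gen p a) α)
        else 0) ∈ W k P A
    split_ifs with h
    · obtain ⟨q, hq, l, hl, hs⟩ := h
      rw [hs]
      exact (W k P A).smul_mem _ (psi_mem_W k hp ha hq hl)
    · exact (W k P A).zero_mem
  have hsum : φ = ∑ g ∈ Gfin P A, θ g := by
    apply hom_ext_gen' k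
    intro p hp a ha
    rw [LinearMap.sum_apply, Finset.sum_eq_single (gen p a)]
    · show _ = (if (∃ q ∈ P, ∃ l, l ∉ A ∧ shift (gen p a) α = gen q l) then
        co (Iq k P A) α φ (gen p a) • psiT (Iq k P A) (isMono k P A) (gen p a) (shift (gen p a) α)
          else 0) _
      split_ifs with h
      · obtain ⟨q, hq, l, hl, hs⟩ := h
        rw [LinearMap.smul_apply, hs, psiT_gen k hPA hp ha hq l hp ha, if_pos rfl, ← hs]
        exact phi_eq_co' _ α hφ _ _
      · rw [LinearMap.zero_apply]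
        by_contra hne
        exact h (hS1 p hp a ha hne)
    · intro g' hg' hne
      obtain ⟨p', hp', a', ha', rfl⟩ := of_mem_Gfin hg'
      show (if (∃ q ∈ P, ∃ l, l ∉ A ∧ shift (gen p' a') α = gen q l) then
        co (Iq k P A) α φ (gen p' a') •
          psiT (Iq k P A) (isMono k P A) (gen p' a') (shift (gen p' a') α) else 0) _ = 0
      split_ifs with h
      · obtain ⟨q, hq, l, hl, hs⟩ := h
        rw [LinearMap.smul_apply, hs, psiT_gen k hPA hp' ha' hq l hp ha, if_neg hne, smul_zero]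
      · rw [LinearMap.zero_apply]
    · intro h
      exact absurd (mem_Gfin hp ha) h
  rw [hsum]
  exact (W k P A).sum_mem hθW

theorem case1 (hPA : P ⊆ A) (hMid : ∃ m₀ ∈ A, m₀ ∉ P) {p b : Fin M} (hp : p ∈ P) (hb : b ∉ P)
    (φ : Tgt (Iq k P A)) (hφ : φ ∈ tPiece (Iq k P A) (eal p b)) : φ ∈ W k P A := by
  obtain ⟨m₀, hm₀A, hm₀P⟩ := hMid
  have hpb : p ≠ b := fun h => hb (h ▸ hp)
  set d := co (Iq k P A) (eal p b) φ (gen p m₀) with hd
  have hφ₁ : φ - d • D k P A p b ∈ tPiece (Iq k P A) (eal p b) :=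
    Submodule.sub_mem _ hφ (Submodule.smul_mem _ _ (D_mem k P A hpb))
  have hsuff : φ - d • D k P A p b ∈ W k P A := by
    apply star k hPA (eal p b) _ hφ₁
    intro p' hp' a' ha' hne
    rcases stepB k hPA ⟨m₀, hm₀A, hm₀P⟩ (eal p b) (sum_eal p b) _ hφ₁ hp' ha' hne with
      h | ⟨ha'P, b', hb', hαeq⟩
    · exact h
    · exfalso
      have hpb' : p' ≠ b' := fun h => hb' (h ▸ hp')
      obtain ⟨rfl, rfl⟩ := eal_inj hpb hpb' hαeq
      apply hne
      have hpa' : p ≠ a' := fun h => ha'P (h ▸ hp)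
      rw [LinearMap.sub_apply, LinearMap.smul_apply, D_gen k P A hpa',
        phi_eq_co' _ _ hφ _ _, shift_gen_eal hpb, ← sub_smul]
      have hcc : co (Iq k P A) (eal p b) φ (gen p a') = d := by
        have hg := gen_mem2 k (A := A) hp ha'
        have hh := gen_mem2 k (A := A) hp hm₀A
        have heq : Finsupp.single m₀ 1 + gen p a' = Finsupp.single a' 1 + gen p m₀ := by
          unfold gen; abel
        have hco := phi_eq_co' _ _ hφ (gen p a') hg
        have hco' := phi_eq_co' _ _ hφ (gen p m₀) hh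
        rw [shift_gen_eal hpb] at hco hco'
        have hμ : Finsupp.single m₀ 1 + gen b a' = Finsupp.single a' 1 + gen b m₀ := by
          unfold gen; abel
        refine rel1 k φ hg hh m₀ a' heq hco hco' hμ ?_
        apply not_mem_noP
        intro x hx
        rw [Finsupp.add_apply, Finsupp.single_apply, gen_apply]
        have n1 : ¬ m₀ = x := fun h => hm₀P (h ▸ hx)
        have n2 : ¬ b = x := fun h => hb (h ▸ hx)
        have n3 : ¬ a' = x := fun h => ha'P (h ▸ hx)
        simp only [if_neg n1, if_neg n2, if_neg n3]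
      rw [hcc, sub_self, zero_smul]
  have e : φ = (φ - d • D k P A p b) + d • D k P A p b := (sub_add_cancel _ _).symm
  rw [e]
  exact (W k P A).add_mem hsuff ((W k P A).smul_mem _ (D_mem_W k hp hb))

theorem tPiece_le_W (hPA : P ⊆ A) (hMid : ∃ m₀ ∈ A, m₀ ∉ P) (α : Fin M → ℤ)
    (hsum : ∑ m, α m = 0) : tPiece (Iq k P A) α ≤ W k P A := by
  intro φ hφ
  by_cases hα : ∃ p ∈ P, ∃ b, b ∉ P ∧ α = eal p b
  · obtain ⟨p, hp, b, hb, rfl⟩ := hα
    exact case1 k hPA hMid hp hb φ hφ
  · apply star k hPA α φ hφ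
    intro p hp a ha hne
    rcases stepB k hPA hMid α hsum φ hφ hp ha hne with h | ⟨_, b, hb, hαeq⟩
    · exact h
    · exact absurd ⟨p, hp, b, hb, hαeq⟩ hα

/-- the degree-0 part -/
noncomputable def H0 (k : Type u) [Field k] (P A : Finset (Fin M)) :
    Submodule k (Tgt (Iq k P A)) :=
  ⨆ α : {α : Fin M → ℤ // ∑ i, α i = 0}, tPiece (Iq k P A) α.1

theorem H0_eq_W (hPA : P ⊆ A) (hMid : ∃ m₀ ∈ A, m₀ ∉ P) : H0 k P A = W k P A := by
  apply le_antisymm
  · apply iSup_le
    rintro ⟨α, hα⟩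
    exact tPiece_le_W k hPA hMid α hα
  · unfold W
    rw [Submodule.span_le]
    rintro _ ⟨x, rfl⟩
    rcases x with ⟨⟨g, hg⟩, ⟨q, hq⟩, ⟨l, hl⟩⟩ | ⟨⟨p, hp⟩, ⟨b, hb⟩⟩
    · obtain ⟨p, hp, a, ha, rfl⟩ := of_mem_Gfin hg
      have hs : ∑ i, alphaOf (gen p a) (gen q l) i = 0 := by
        rw [Groth.Agent.Lib.Helper29.TgtDim.sum_alphaOf, degree_gen, degree_gen]; norm_num
      exact le_iSup (fun α : {α : Fin M → ℤ // ∑ i, α i = 0} => tPiece (Iq k P A) α.1)
        ⟨_, hs⟩ (psiT_mem _ _ _ _)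
    · have hpb : p ≠ b := fun h => (Finset.mem_compl.mp hb) (h ▸ hp)
      exact le_iSup (fun α : {α : Fin M → ℤ // ∑ i, α i = 0} => tPiece (Iq k P A) α.1)
        ⟨_, sum_eal p b⟩ (D_mem k P A hpb)

end Groth.Agent.Lib.Helper9.PA
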