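import Mathlib
import Groth.Agent.Lib.Helper9.PA2

/-! Tangent pieces for the ideal `(x_p : p ∈ P) · (x_a : a ∈ A)` with `P ⊆ A`, part 3:
linear independence and the count (helper9). -/

set_option autoImplicit false
universe u
open MvPolynomial W4c1hilbpn
open Groth.Agent.Lib.Helper29.BddComp Groth.Agent.Lib.Helper29.TgtGraded
open Groth.Agent.Lib.Helper9.TwoPlanes

namespace Groth.Agent.Lib.Helper9.PA

variable {M : ℕ} (k : Type u) [Field k] {P A : Finset (Fin M)}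

theorem gen_right_inj {b b' m : Fin M} (h : gen b' m = gen b m) : b' = b := by
  unfold gen at h
  exact (Finsupp.single_left_inj one_ne_zero).mp (add_right_cancel h)

theorem gen_left_inj {q l l' : Fin M} (h : gen q l = gen q l') : l = l' := by
  unfold gen at h
  exact (Finsupp.single_left_inj one_ne_zero).mp (add_left_cancel h)

theorem gen_ql_inj (hPA : P ⊆ A) {q q' l l' : Fin M} (hq : q ∈ P) (hl : l ∉ A)
    (hl' : l' ∉ A) (h : gen q l = gen q' l') : q = q' ∧ l = l' := by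
  have h1 := DFunLike.congr_fun h q
  rw [gen_apply, gen_apply] at h1
  have n1 : ¬ l = q := fun e => hl (e ▸ hPA hq)
  have n2 : ¬ l' = q := fun e => hl' (e ▸ hPA hq)
  simp only [↓reduceIte, if_neg n1, if_neg n2] at h1
  have hqq : q' = q := by
    by_contra hne
    rw [if_neg hne] at h1
    omega
  subst hqq
  exact ⟨rfl, gen_left_inj h⟩

theorem gen_ql_std (hPA : P ⊆ A) {q l : Fin M} (hl : l ∉ A) :
    gen q l ∉ exps (Iq k P A) := by
  by_cases hq : q ∈ P
  · apply not_mem_S1 k hPA _ (q := q)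
    · rw [gen_apply]
      have n1 : ¬ l = q := fun e => hl (e ▸ hPA hq)
      simp only [↓reduceIte, if_neg n1]
    · intro a ha haq
      rw [gen_apply]
      have n1 : ¬ q = a := fun e => haq e.symm
      have n2 : ¬ l = a := fun e => hl (e ▸ ha)
      simp only [if_neg n1, if_neg n2]
  · apply not_mem_noP
    intro x hx
    rw [gen_apply]
    have n1 : ¬ q = x := fun e => hq (e ▸ hx)
    have n2 : ¬ l = x := fun e => hl (e ▸ hPA hx)
    simp only [if_neg n1, if_neg n2]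

theorem gen_bm_std {b m : Fin M} (hb : b ∉ P) (hm : m ∉ P) : gen b m ∉ exps (Iq k P A) := by
  apply not_mem_noP
  intro x hx
  rw [gen_apply]
  have n1 : ¬ b = x := fun e => hb (e ▸ hx)
  have n2 : ¬ m = x := fun e => hm (e ▸ hx)
  simp only [if_neg n1, if_neg n2]

theorem vfam_indep (hPA : P ⊆ A) (hMid : ∃ m₀ ∈ A, m₀ ∉ P) :
    LinearIndependent k (vfam k P A) := by
  classical
  obtain ⟨m₀, hm₀A, hm₀P⟩ := hMid
  rw [Fintype.linearIndependent_iff]
  intro c hc
  rw [Fintype.sum_sum_type] at hc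
  have key1 : ∀ y : ↥P × ↥(Pᶜ), c (Sum.inr y) = 0 := by
    rintro ⟨⟨p, hp⟩, ⟨b, hb'⟩⟩
    have hb : b ∉ P := Finset.mem_compl.mp hb'
    have hst : gen b m₀ ∉ exps (Iq k P A) := gen_bm_std k hb hm₀P
    have hpm : p ≠ m₀ := fun e => hm₀P (e ▸ hp)
    have h1 : ∀ x : ↥(Gfin P A) × ↥P × ↥(Aᶜ),
        cqL (Iq k P A) (isMono k P A) (gen b m₀) hst
          (vfam k P A (Sum.inl x) ⟨monomial (gen p m₀) 1, gen_mem2 k hp hm₀A⟩) = 0 := by
      rintro ⟨⟨g, hg⟩, ⟨q, hq⟩, ⟨l, hl'⟩⟩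
      have hl : l ∉ A := Finset.mem_compl.mp hl'
      obtain ⟨p', hp', a', ha', rfl⟩ := of_mem_Gfin hg
      show cqL (Iq k P A) (isMono k P A) (gen b m₀) hst
        (psiT (Iq k P A) (isMono k P A) (gen p' a') (gen q l)
          ⟨monomial (gen p m₀) 1, gen_mem2 k hp hm₀A⟩) = 0
      rw [psiT_gen k hPA hp' ha' hq l hp hm₀A]
      split_ifs
      · rw [cqL_cls, if_neg]
        intro e
        have h2 := DFunLike.congr_fun e q
        rw [gen_apply, gen_apply] at h2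
        have n1 : ¬ b = q := fun e' => hb (e' ▸ hq)
        have n2 : ¬ m₀ = q := fun e' => hm₀P (e' ▸ hq)
        simp only [↓reduceIte, if_neg n1, if_neg n2] at h2
        omega
      · exact map_zero _
    have h2 : ∀ y' : ↥P × ↥(Pᶜ),
        cqL (Iq k P A) (isMono k P A) (gen b m₀) hst
          (vfam k P A (Sum.inr y') ⟨monomial (gen p m₀) 1, gen_mem2 k hp hm₀A⟩) =
          if y' = (⟨⟨p, hp⟩, ⟨b, hb'⟩⟩ : ↥P × ↥(Pᶜ)) then 1 else 0 := by
      rintro ⟨⟨p', hp'⟩, ⟨b', hb''⟩⟩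
      show cqL (Iq k P A) (isMono k P A) (gen b m₀) hst
        (D k P A p' b' ⟨monomial (gen p m₀) 1, gen_mem2 k hp hm₀A⟩) = _
      by_cases hpp : p' = p
      · subst hpp
        rw [D_gen k P A hpm, cqL_cls]
        by_cases hbb : b' = b
        · subst hbb
          rw [if_pos rfl, if_pos rfl]
        · rw [if_neg (fun e => hbb (gen_right_inj e)), if_neg]
          intro e
          exact hbb (congrArg (fun z : ↥P × ↥(Pᶜ) => z.2.1) e)
      · rw [D_monomial, gen_apply]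
        have n1 : ¬ p = p' := fun e => hpp e.symm
        have n2 : ¬ m₀ = p' := fun e => hm₀P (e ▸ hp')
        simp only [if_neg n1, if_neg n2]
        rw [Nat.cast_zero, zero_smul, map_zero, if_neg]
        intro e
        exact hpp (congrArg (fun z : ↥P × ↥(Pᶜ) => z.1.1) e)
    have hE := congrArg (fun φ : Tgt (Iq k P A) =>
      cqL (Iq k P A) (isMono k P A) (gen b m₀) hst
        (φ ⟨monomial (gen p m₀) 1, gen_mem2 k hp hm₀A⟩)) hc
    simp only [LinearMap.add_apply, LinearMap.sum_apply, LinearMap.smul_apply, map_add, map_sum,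
      map_smul, LinearMap.zero_apply, map_zero, h1, h2, smul_zero, Finset.sum_const_zero, zero_add,
      smul_eq_mul, mul_ite, mul_one, mul_zero, Finset.sum_ite_eq', Finset.mem_univ, if_true] at hE
    exact hE
  have hc' : ∑ x : ↥(Gfin P A) × ↥P × ↥(Aᶜ), c (Sum.inl x) • vfam k P A (Sum.inl x) = 0 := by
    have h0 : ∑ y : ↥P × ↥(Pᶜ), c (Sum.inr y) • vfam k P A (Sum.inr y) = 0 :=
      Finset.sum_eq_zero (fun y _ => by rw [key1 y, zero_smul])
    rw [h0, add_zero] at hc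
    exact hc
  have key2 : ∀ x : ↥(Gfin P A) × ↥P × ↥(Aᶜ), c (Sum.inl x) = 0 := by
    rintro ⟨⟨g₀, hg₀⟩, ⟨q₀, hq₀⟩, ⟨l₀, hl₀'⟩⟩
    have hl₀ : l₀ ∉ A := Finset.mem_compl.mp hl₀'
    obtain ⟨p₀, hp₀, a₀, ha₀, rfl⟩ := of_mem_Gfin hg₀
    have hst : gen q₀ l₀ ∉ exps (Iq k P A) := gen_ql_std k hPA hl₀
    have h1 : ∀ x : ↥(Gfin P A) × ↥P × ↥(Aᶜ),
        cqL (Iq k P A) (isMono k P A) (gen q₀ l₀) hst
          (vfam k P A (Sum.inl x) ⟨monomial (gen p₀ a₀) 1, gen_mem2 k hp₀ ha₀⟩) =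
          if x = (⟨⟨gen p₀ a₀, hg₀⟩, ⟨q₀, hq₀⟩, ⟨l₀, hl₀'⟩⟩ : ↥(Gfin P A) × ↥P × ↥(Aᶜ)) then 1
            else 0 := by
      rintro ⟨⟨g, hg⟩, ⟨q, hq⟩, ⟨l, hl'⟩⟩
      have hl : l ∉ A := Finset.mem_compl.mp hl'
      obtain ⟨p', hp', a', ha', rfl⟩ := of_mem_Gfin hg
      show cqL (Iq k P A) (isMono k P A) (gen q₀ l₀) hst
        (psiT (Iq k P A) (isMono k P A) (gen p' a') (gen q l)
          ⟨monomial (gen p₀ a₀) 1, gen_mem2 k hp₀ ha₀⟩) = _
      rw [psiT_gen k hPA hp' ha' hq l hp₀ ha₀]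
      by_cases hgg : gen p' a' = gen p₀ a₀
      · rw [if_pos hgg, cqL_cls]
        by_cases hql : gen q l = gen q₀ l₀
        · obtain ⟨rfl, rfl⟩ := gen_ql_inj hPA hq hl hl₀ hql
          rw [if_pos hql, if_pos]
          exact Prod.ext (Subtype.ext hgg) rfl
        · rw [if_neg hql, if_neg]
          intro e
          apply hql
          have e1 : q = q₀ := congrArg (fun z : ↥(Gfin P A) × ↥P × ↥(Aᶜ) => z.2.1.1) e
          have e2 : l = l₀ := congrArg (fun z : ↥(Gfin P A) × ↥P × ↥(Aᶜ) => z.2.2.1) e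
          rw [e1, e2]
      · rw [if_neg hgg, map_zero, if_neg]
        intro e
        exact hgg (congrArg (fun z : ↥(Gfin P A) × ↥P × ↥(Aᶜ) => z.1.1) e)
    have hE := congrArg (fun φ : Tgt (Iq k P A) =>
      cqL (Iq k P A) (isMono k P A) (gen q₀ l₀) hst
        (φ ⟨monomial (gen p₀ a₀) 1, gen_mem2 k hp₀ ha₀⟩)) hc'
    simp only [LinearMap.sum_apply, LinearMap.smul_apply, map_sum,
      map_smul, LinearMap.zero_apply, map_zero, h1, smul_eq_mul, mul_ite, mul_one, mul_zero,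
      Finset.sum_ite_eq', Finset.mem_univ, if_true] at hE
    exact hE
  rintro (x | y)
  · exact key2 x
  · exact key1 y

theorem finrank_H0 (hPA : P ⊆ A) (hMid : ∃ m₀ ∈ A, m₀ ∉ P) :
    Module.finrank k ↥(H0 k P A) =
      (Gfin P A).card * (P.card * Aᶜ.card) + P.card * Pᶜ.card := by
  rw [H0_eq_W k hPA hMid]
  unfold W
  rw [finrank_span_eq_card (vfam_indep k hPA hMid)]
  simp only [Fintype.card_sum, Fintype.card_prod, Fintype.card_coe]

end Groth.Agent.Lib.Helper9.PA
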