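import Mathlib
import Groth.Agent.Lib.Helper9.PA1

/-! Generic tools for tangent pieces of monomial ideals generated by quadrics (helper9). -/

set_option autoImplicit false
universe u
open MvPolynomial W4c1hilbpn
open Groth.Agent.Lib.Helper29.BddComp Groth.Agent.Lib.Helper29.TgtGraded
open Groth.Agent.Lib.Helper20.MonoIdeal (exps_of_le)
open Groth.Agent.Lib.Helper9.TwoPlanes (gen gen_apply gen_comm eal shift_eal)
open Groth.Agent.Lib.Helper9.PA

namespace Groth.Agent.Lib.Helper9.QFrame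

section generic
variable {k : Type u} [Field k] {M : ℕ} (I : Ideal (MvPolynomial (Fin M) k))

/-- the map induced by the derivation `x_l ∂/∂x_a`, for an arbitrary ideal -/
noncomputable def Dg (a l : Fin M) : Tgt I where
  toFun p := Ideal.Quotient.mk I (X l * pderiv a p.1)
  map_add' p q := by
    show Ideal.Quotient.mk I (X l * pderiv a (p.1 + q.1)) = _
    rw [map_add, mul_add, map_add]
  map_smul' q p := by
    show Ideal.Quotient.mk I (X l * pderiv a (q * p.1)) =
      q • Ideal.Quotient.mk I (X l * pderiv a p.1)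
    rw [Derivation.leibniz, smul_eq_mul, smul_eq_mul, mul_add, map_add, smul_mk]
    have h0 : Ideal.Quotient.mk I (X l * (p.1 * pderiv a q)) = 0 := by
      rw [Ideal.Quotient.eq_zero_iff_mem]
      have e : X l * (p.1 * pderiv a q) = (X l * pderiv a q) * p.1 := by ring
      rw [e]
      exact Ideal.mul_mem_left _ _ p.2
    rw [h0, add_zero]
    congr 1; ring

theorem Dg_monomial (a l : Fin M) (β : Fin M →₀ ℕ) (hβ : monomial β (1 : k) ∈ I) :
    Dg I a l ⟨monomial β 1, hβ⟩ =
      ((β a : ℕ) : k) • cls I (Finsupp.single l 1 + (β - Finsupp.single a 1)) := by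
  show Ideal.Quotient.mk I (X l * pderiv a (monomial β (1 : k))) = _
  rw [pderiv_monomial, one_mul]
  have e : (monomial (β - Finsupp.single a 1) ((β a : ℕ) : k) : MvPolynomial (Fin M) k) =
      ((β a : ℕ) : k) • monomial (β - Finsupp.single a 1) 1 := by
    rw [smul_monomial, smul_eq_mul, mul_one]
  rw [e, mul_smul_comm, mk_smul, X_mul_mono]
  rfl

theorem Dg_mem {a l : Fin M} (hal : a ≠ l) : Dg I a l ∈ tPiece I (eal a l) := by
  rw [mem_tPiece_iff]
  intro β hβ
  rw [Dg_monomial]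
  refine ⟨fun hnn => ?_, fun hneg => ?_⟩
  · have h1 : 1 ≤ β a := by
      have h2 := hnn a
      simp only [eal, if_neg hal.symm, ↓reduceIte] at h2
      omega
    rw [shift_eal hal β h1]
    exact Submodule.smul_mem _ _ (Submodule.mem_span_singleton_self _)
  · obtain ⟨m, hm⟩ := hneg
    have h0 : β a = 0 := by
      simp only [eal] at hm
      by_cases h2 : a = m
      · subst h2; split_ifs at hm <;> omega
      · rw [if_neg h2] at hm; split_ifs at hm <;> omega
    rw [h0, Nat.cast_zero, zero_smul]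

theorem Dg_gen {a l j : Fin M} (haj : a ≠ j) (hg : monomial (gen a j) (1 : k) ∈ I) :
    Dg I a l ⟨monomial (gen a j) 1, hg⟩ = cls I (gen l j) := by
  rw [Dg_monomial]
  have hja : ¬ j = a := fun h => haj h.symm
  have h1 : gen a j a = 1 := by
    rw [gen_apply]; simp only [↓reduceIte, if_neg hja]
  have h2 : gen a j - Finsupp.single a 1 = Finsupp.single j 1 := add_tsub_cancel_left _ _
  rw [h1, h2, Nat.cast_one, one_smul]; rfl

theorem add_mem_g {β : Fin M →₀ ℕ} (hβ : monomial β (1 : k) ∈ I) (δ : Fin M →₀ ℕ) :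
    monomial (δ + β) (1 : k) ∈ I := exps_add I hβ δ

theorem phi_of_le_g (ψ : Tgt I) {g β : Fin M →₀ ℕ} (hg : monomial g (1 : k) ∈ I)
    (hβ : monomial β (1 : k) ∈ I) (hle : g ≤ β) :
    ψ ⟨monomial β 1, hβ⟩ = (monomial (β - g) (1 : k) : MvPolynomial (Fin M) k) •
      ψ ⟨monomial g 1, hg⟩ := by
  have heq : (β - g) + g = β := tsub_add_cancel_of_le hle
  have hmem : monomial ((β - g) + g) (1 : k) ∈ I := by rw [heq]; exact hβ
  have e : (⟨monomial ((β - g) + g) 1, hmem⟩ : ↥I) = ⟨monomial β 1, hβ⟩ :=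
    Subtype.ext (by
      show monomial ((β - g) + g) (1 : k) = monomial β 1
      rw [heq])
  rw [← e]
  exact phi_mono I ψ (β - g) g hg hmem

theorem rel0_g (φ : Tgt I) {g h' : Fin M →₀ ℕ} (hg : monomial g (1 : k) ∈ I)
    (hh : monomial h' (1 : k) ∈ I) (i j : Fin M)
    (heq : Finsupp.single i 1 + g = Finsupp.single j 1 + h')
    (hz : φ ⟨monomial h' 1, hh⟩ = 0) {c : k} {μ : Fin M →₀ ℕ}
    (hco : φ ⟨monomial g 1, hg⟩ = c • cls I μ) (hc : c ≠ 0) :
    Finsupp.single i 1 + μ ∈ exps I := by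
  have hm1 := add_mem_g I hg (Finsupp.single i 1)
  have hm2 := add_mem_g I hh (Finsupp.single j 1)
  have r1 := phi_X I φ i g hg hm1
  have r2 := phi_X I φ j h' hh hm2
  have e : (⟨monomial (Finsupp.single i 1 + g) 1, hm1⟩ : ↥I) =
      ⟨monomial (Finsupp.single j 1 + h') 1, hm2⟩ := Subtype.ext (by
    show monomial (Finsupp.single i 1 + g) (1 : k) = monomial (Finsupp.single j 1 + h') 1
    rw [heq])
  rw [e, r2, hz, smul_zero, hco, smul_comm, X_smul_cls] at r1
  by_contra hout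
  exact smul_ne_zero hc (cls_ne_zero _ hout) r1.symm

theorem rel1_g (φ : Tgt I) {g h' : Fin M →₀ ℕ} (hg : monomial g (1 : k) ∈ I)
    (hh : monomial h' (1 : k) ∈ I) (i j : Fin M)
    (heq : Finsupp.single i 1 + g = Finsupp.single j 1 + h') {c c' : k} {μ μ' : Fin M →₀ ℕ}
    (hco : φ ⟨monomial g 1, hg⟩ = c • cls I μ)
    (hco' : φ ⟨monomial h' 1, hh⟩ = c' • cls I μ')
    (hμ : Finsupp.single i 1 + μ = Finsupp.single j 1 + μ')
    (hst : Finsupp.single i 1 + μ ∉ exps I) : c = c' := by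
  have hm1 := add_mem_g I hg (Finsupp.single i 1)
  have hm2 := add_mem_g I hh (Finsupp.single j 1)
  have r1 := phi_X I φ i g hg hm1
  have r2 := phi_X I φ j h' hh hm2
  have e : (⟨monomial (Finsupp.single i 1 + g) 1, hm1⟩ : ↥I) =
      ⟨monomial (Finsupp.single j 1 + h') 1, hm2⟩ := Subtype.ext (by
    show monomial (Finsupp.single i 1 + g) (1 : k) = monomial (Finsupp.single j 1 + h') 1
    rw [heq])
  rw [e, r2, hco, hco', smul_comm, X_smul_cls, smul_comm (X i), X_smul_cls, ← hμ] at r1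
  exact (smul_cancel (cls_ne_zero _ hst) r1).symm

end generic

section gens
variable {M : ℕ} (k : Type u) [Field k] (S : Set (Fin M →₀ ℕ))

/-- the monomial ideal generated by the monomials with exponents in `S` -/
noncomputable def Ig : Ideal (MvPolynomial (Fin M) k) :=
  Ideal.span ((fun s => monomial s (1 : k)) '' S)

theorem isMono_g : IsMonomial (Ig k S) := by
  classical
  intro p hp β hβ
  unfold Ig at hp ⊢
  rw [mem_ideal_span_monomial_image] at hp ⊢
  intro xi hxi
  rw [support_monomial, if_neg one_ne_zero, Finset.mem_singleton] at hxi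
  subst hxi
  exact hp _ hβ

theorem mem_exps_g (β : Fin M →₀ ℕ) : β ∈ exps (Ig k S) ↔ ∃ s ∈ S, s ≤ β := by
  classical
  show monomial β (1 : k) ∈ Ig k S ↔ _
  unfold Ig
  rw [mem_ideal_span_monomial_image]
  constructor
  · intro h
    exact h β (by rw [support_monomial, if_neg one_ne_zero]; exact Finset.mem_singleton_self _)
  · rintro h xi hxi
    rw [support_monomial, if_neg one_ne_zero, Finset.mem_singleton] at hxi
    subst hxi
    exact h

variable {S}

theorem gen_mem_g {s : Fin M →₀ ℕ} (hs : s ∈ S) : monomial s (1 : k) ∈ Ig k S :=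
  (mem_exps_g k S s).mpr ⟨s, hs, le_rfl⟩

theorem hom_ext_gen_g (ψ1 ψ2 : Tgt (Ig k S))
    (h : ∀ s (hs : s ∈ S), ψ1 ⟨monomial s 1, gen_mem_g k hs⟩ = ψ2 ⟨monomial s 1, gen_mem_g k hs⟩) :
    ψ1 = ψ2 := by
  apply hom_ext_mono _ (isMono_g k S)
  intro β hβ
  obtain ⟨s, hs, hle⟩ := (mem_exps_g k S β).mp hβ
  rw [phi_of_le_g _ ψ1 (gen_mem_g k hs) hβ hle, phi_of_le_g _ ψ2 (gen_mem_g k hs) hβ hle, h s hs]

theorem psiT_gen_g (hanti : ∀ s ∈ S, ∀ s' ∈ S, s ≤ s' → s = s') {g g' : Fin M →₀ ℕ} (hg : g ∈ S)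
    (hg' : g' ∈ S) (μ : Fin M →₀ ℕ) (hc : SgCond (Ig k S) g μ) :
    psiT (Ig k S) (isMono_g k S) g μ ⟨monomial g' 1, gen_mem_g k hg'⟩ =
      if g = g' then cls (Ig k S) μ else 0 := by
  classical
  rw [psiT_monomial _ _ _ _ hc]
  unfold sgVal
  by_cases h : g = g'
  · rw [if_pos h, if_pos (le_of_eq h), h, tsub_self, zero_add]
  · rw [if_neg h, if_neg (fun hle => h (hanti g hg g' hg' hle))]

theorem sgCond_quad (hquad : ∀ s ∈ S, ∃ x y, s = gen x y) {g : Fin M →₀ ℕ} (hg : g ∈ S)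
    (μ : Fin M →₀ ℕ)
    (hnb : ∀ i j b, g = gen i j → gen j b ∈ S → gen j b ≠ g →
      Finsupp.single b 1 + μ ∈ exps (Ig k S)) : SgCond (Ig k S) g μ := by
  intro β hβ hnle i hle
  obtain ⟨h, hhS, hhle⟩ := (mem_exps_g k S β).mp hβ
  obtain ⟨x, y, hgxy⟩ := hquad g hg
  -- the coordinate `i` is where `g` exceeds `β`
  have hi : β i + 1 ≤ g i := by
    by_contra hcon
    apply hnle
    intro m
    by_cases him : i = m
    · subst him; omega
    · have h1 := hle m
      rw [Finsupp.add_apply, Finsupp.single_apply, if_neg him] at h1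
      omega
  have hxy : x = i ∨ y = i := by
    by_contra hcon
    push Not at hcon
    rw [hgxy, gen_apply] at hi
    simp only [if_neg hcon.1, if_neg hcon.2] at hi
    omega
  obtain ⟨j, hgij⟩ : ∃ j, g = gen i j := by
    rcases hxy with rfl | rfl
    · exact ⟨y, hgxy⟩
    · exact ⟨x, hgxy.trans (gen_comm x y)⟩
  subst hgij
  have hsum0 : (Finsupp.single i 1 + β - gen i j) + gen i j = Finsupp.single i 1 + β :=
    tsub_add_cancel_of_le hle
  obtain ⟨γ, hγdef⟩ : ∃ γ : Fin M →₀ ℕ, γ = Finsupp.single i 1 + β - gen i j := ⟨_, rfl⟩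
  rw [← hγdef] at hsum0 ⊢
  have hβeq : β = γ + Finsupp.single j 1 := by
    have h1 : Finsupp.single i 1 + (γ + Finsupp.single j 1) = Finsupp.single i 1 + β := by
      rw [← hsum0]
      unfold gen
      abel
    exact (add_left_cancel h1).symm
  by_cases hγ : h ≤ γ
  · have hγmem : γ ∈ exps (Ig k S) := (mem_exps_g k S _).mpr ⟨h, hhS, hγ⟩
    exact Groth.Agent.Lib.Helper20.MonoIdeal.exps_add hγmem μ
  · obtain ⟨a, b', hab⟩ := hquad h hhS
    have hex : ∃ c, ¬ h c ≤ γ c := by
      by_contra hcon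
      push Not at hcon
      exact hγ hcon
    obtain ⟨c, hc⟩ := hex
    have hhle' : h ≤ γ + Finsupp.single j 1 := by
      rw [← hβeq]; exact hhle
    have hjc : j = c := by
      by_contra hne
      have h1 := hhle' c
      rw [Finsupp.add_apply, Finsupp.single_apply, if_neg hne] at h1
      omega
    subst hjc
    have hhj : 1 ≤ h j := by omega
    have habj : a = j ∨ b' = j := by
      by_contra hcon
      push Not at hcon
      rw [hab, gen_apply] at hhj
      simp only [if_neg hcon.1, if_neg hcon.2] at hhj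
      omega
    obtain ⟨b, hhjb⟩ : ∃ b, h = gen j b := by
      rcases habj with rfl | rfl
      · exact ⟨b', hab⟩
      · exact ⟨a, hab.trans (gen_comm a b')⟩
    have hb1 : Finsupp.single b 1 ≤ γ := by
      intro m
      have h1 := hhle' m
      rw [hhjb, gen_apply, Finsupp.add_apply, Finsupp.single_apply] at h1
      rw [Finsupp.single_apply]
      omega
    have hne : gen j b ≠ gen i j := by
      intro e
      apply hnle
      rw [← e, ← hhjb]
      exact hhle
    have hin := hnb i j b rfl (hhjb ▸ hhS) hne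
    exact exps_of_le hin (add_le_add hb1 le_rfl)

/-- generic spanning lemma: a homomorphism all of whose nonzero values on generators are at valid
pairs is a combination of single-generator maps -/
theorem star_g (Gf : Finset (Fin M →₀ ℕ))
    (hanti : ∀ s ∈ (↑Gf : Set (Fin M →₀ ℕ)), ∀ s' ∈ (↑Gf : Set (Fin M →₀ ℕ)), s ≤ s' → s = s')
    (V : Set ((Fin M →₀ ℕ) × (Fin M →₀ ℕ)))
    (hV : ∀ x ∈ V, SgCond (Ig k (↑Gf : Set (Fin M →₀ ℕ))) x.1 x.2)
    (Wψ : Submodule k (Tgt (Ig k (↑Gf : Set (Fin M →₀ ℕ)))))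
    (hW : ∀ x ∈ V, x.1 ∈ Gf →
      psiT (Ig k (↑Gf : Set (Fin M →₀ ℕ))) (isMono_g k _) x.1 x.2 ∈ Wψ)
    (α : Fin M → ℤ) (φ : Tgt (Ig k (↑Gf : Set (Fin M →₀ ℕ))))
    (hφ : φ ∈ tPiece (Ig k (↑Gf : Set (Fin M →₀ ℕ))) α)
    (hS1 : ∀ g (hg : g ∈ Gf),
      φ ⟨monomial g 1, gen_mem_g k (Finset.mem_coe.mpr hg)⟩ ≠ 0 → (g, shift g α) ∈ V) :
    φ ∈ Wψ := by
  classical
  let θ : (Fin M →₀ ℕ) → Tgt (Ig k (↑Gf : Set (Fin M →₀ ℕ))) := fun g =>
    if (g, shift g α) ∈ V then
      co (Ig k (↑Gf : Set (Fin M →₀ ℕ))) α φ g •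
        psiT (Ig k (↑Gf : Set (Fin M →₀ ℕ))) (isMono_g k _) g (shift g α) else 0
  have hθW : ∀ g ∈ Gf, θ g ∈ Wψ := by
    intro g hg
    show (if (g, shift g α) ∈ V then
      co (Ig k (↑Gf : Set (Fin M →₀ ℕ))) α φ g •
        psiT (Ig k (↑Gf : Set (Fin M →₀ ℕ))) (isMono_g k _) g (shift g α) else 0) ∈ Wψ
    split_ifs with h
    · exact Wψ.smul_mem _ (hW _ h hg)
    · exact Wψ.zero_mem
  have hsum : φ = ∑ g ∈ Gf, θ g := by
    apply hom_ext_gen_g k
    intro s hs
    have hs' : s ∈ Gf := Finset.mem_coe.mp hs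
    rw [LinearMap.sum_apply, Finset.sum_eq_single s]
    · show _ = (if (s, shift s α) ∈ V then
        co (Ig k (↑Gf : Set (Fin M →₀ ℕ))) α φ s •
          psiT (Ig k (↑Gf : Set (Fin M →₀ ℕ))) (isMono_g k _) s (shift s α) else 0) _
      split_ifs with h
      · rw [LinearMap.smul_apply, psiT_gen_g k hanti hs hs _ (hV _ h), if_pos rfl]
        exact phi_eq_co' _ α hφ _ _
      · rw [LinearMap.zero_apply]
        by_contra hne
        exact h (hS1 s hs' hne)
    · intro g' hg' hne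
      show (if (g', shift g' α) ∈ V then
        co (Ig k (↑Gf : Set (Fin M →₀ ℕ))) α φ g' •
          psiT (Ig k (↑Gf : Set (Fin M →₀ ℕ))) (isMono_g k _) g' (shift g' α) else 0) _ = 0
      split_ifs with h
      · rw [LinearMap.smul_apply, psiT_gen_g k hanti (Finset.mem_coe.mpr hg') hs _ (hV _ h),
          if_neg hne, smul_zero]
      · rw [LinearMap.zero_apply]
    · intro h
      exact absurd hs' h
  rw [hsum]
  exact Wψ.sum_mem hθW

end gens

end Groth.Agent.Lib.Helper9.QFrame
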