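import Mathlib
import Groth.Agent.Lib.Helper9.QFrame
import Groth.Agent.Lib.Helper9.PA3

/-! The ideal `x_z (x_a : a ≠ l) + x_o (x_o, x_m : m ∈ Mid)`: setup (helper9). -/

set_option autoImplicit false
universe u
open MvPolynomial W4c1hilbpn
open Groth.Agent.Lib.Helper29.BddComp Groth.Agent.Lib.Helper29.TgtGraded
open Groth.Agent.Lib.Helper20.MonoIdeal (exps_of_le)
open Groth.Agent.Lib.Helper9.TwoPlanes (gen gen_apply gen_comm eal shift_eal)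
open Groth.Agent.Lib.Helper9.PA
open Groth.Agent.Lib.Helper9.QFrame

namespace Groth.Agent.Lib.Helper9.B48

/-- configuration of variables: `z`, `o`, the middle block, `r`, `l` -/
structure Cfg (M : ℕ) where
  z : Fin M
  o : Fin M
  r : Fin M
  l : Fin M
  Mid : Finset (Fin M)
  hzo : z ≠ o
  hzr : z ≠ r
  hzl : z ≠ l
  hor : o ≠ r
  hol : o ≠ l
  hrl : r ≠ l
  hzM : z ∉ Mid
  hoM : o ∉ Mid
  hrM : r ∉ Mid
  hlM : l ∉ Mid
  hcover : ∀ x, x = z ∨ x = o ∨ x ∈ Mid ∨ x = r ∨ x = l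
  hMid : Mid.Nonempty

variable {M : ℕ}

theorem gen_eq_iff (x y x' y' : Fin M) :
    gen x y = gen x' y' ↔ (x = x' ∧ y = y') ∨ (x = y' ∧ y = x') := by
  constructor
  · intro h
    by_cases hxx : x = x'
    · subst hxx
      exact Or.inl ⟨rfl, gen_left_inj h⟩
    · right
      have h1 := DFunLike.congr_fun h x
      rw [gen_apply, gen_apply] at h1
      have n1 : ¬ x' = x := fun e => hxx e.symm
      simp only [↓reduceIte, if_neg n1] at h1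
      have hy'x : y' = x := by
        by_contra hne
        rw [if_neg hne] at h1
        omega
      subst hy'x
      refine ⟨rfl, ?_⟩
      rw [gen_comm x' y'] at h
      exact gen_left_inj h
  · rintro (⟨rfl, rfl⟩ | ⟨rfl, rfl⟩)
    · rfl
    · exact gen_comm _ _

variable (C : Cfg M)

/-- `a ∈ {o} ∪ Mid` -/
def inA1 (a : Fin M) : Prop := a = C.o ∨ a ∈ C.Mid

theorem inA1_ne_z {a : Fin M} (h : inA1 C a) : a ≠ C.z := by
  rcases h with rfl | h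
  · exact fun e => C.hzo e.symm
  · exact fun e => C.hzM (e ▸ h)

theorem inA1_ne_r {a : Fin M} (h : inA1 C a) : a ≠ C.r := by
  rcases h with rfl | h
  · exact C.hor
  · exact fun e => C.hrM (e ▸ h)

theorem inA1_ne_l {a : Fin M} (h : inA1 C a) : a ≠ C.l := by
  rcases h with rfl | h
  · exact C.hol
  · exact fun e => C.hlM (e ▸ h)

theorem inA1_of {a : Fin M} (h1 : a ≠ C.z) (h2 : a ≠ C.r) (h3 : a ≠ C.l) : inA1 C a := by
  rcases C.hcover a with h | h | h | h | h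
  · exact absurd h h1
  · exact Or.inl h
  · exact Or.inr h
  · exact absurd h h2
  · exact absurd h h3

open Classical in
/-- the generators -/
noncomputable def Gf : Finset (Fin M →₀ ℕ) :=
  ((Finset.univ.filter (fun a => a ≠ C.l)).image (fun a => gen C.z a)) ∪
    ((insert C.o C.Mid).image (fun a => gen C.o a))

theorem mem_Gf (s : Fin M →₀ ℕ) :
    s ∈ Gf C ↔ (∃ a, a ≠ C.l ∧ s = gen C.z a) ∨ (∃ a, inA1 C a ∧ s = gen C.o a) := by
  classical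
  unfold Gf
  rw [Finset.mem_union, Finset.mem_image, Finset.mem_image]
  constructor
  · rintro (⟨a, ha, rfl⟩ | ⟨a, ha, rfl⟩)
    · rw [Finset.mem_filter] at ha
      exact Or.inl ⟨a, ha.2, rfl⟩
    · rw [Finset.mem_insert] at ha
      exact Or.inr ⟨a, ha, rfl⟩
  · rintro (⟨a, ha, rfl⟩ | ⟨a, ha, rfl⟩)
    · exact Or.inl ⟨a, Finset.mem_filter.mpr ⟨Finset.mem_univ _, ha⟩, rfl⟩
    · exact Or.inr ⟨a, Finset.mem_insert.mpr ha, rfl⟩

theorem genz_mem {a : Fin M} (ha : a ≠ C.l) : gen C.z a ∈ Gf C :=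
  (mem_Gf C _).mpr (Or.inl ⟨a, ha, rfl⟩)

theorem geno_mem {a : Fin M} (ha : inA1 C a) : gen C.o a ∈ Gf C :=
  (mem_Gf C _).mpr (Or.inr ⟨a, ha, rfl⟩)

/-- membership test for `gen j b` -/
theorem gen_mem_Gf_iff (j b : Fin M) :
    gen j b ∈ Gf C ↔ (j = C.z ∧ b ≠ C.l) ∨ (b = C.z ∧ j ≠ C.l) ∨ (j = C.o ∧ inA1 C b) ∨
      (b = C.o ∧ inA1 C j) := by
  rw [mem_Gf]
  constructor
  · rintro (⟨a, ha, h⟩ | ⟨a, ha, h⟩)
    · rcases (gen_eq_iff _ _ _ _).mp h with ⟨rfl, rfl⟩ | ⟨rfl, rfl⟩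
      · exact Or.inl ⟨rfl, ha⟩
      · exact Or.inr (Or.inl ⟨rfl, ha⟩)
    · rcases (gen_eq_iff _ _ _ _).mp h with ⟨rfl, rfl⟩ | ⟨rfl, rfl⟩
      · exact Or.inr (Or.inr (Or.inl ⟨rfl, ha⟩))
      · exact Or.inr (Or.inr (Or.inr ⟨rfl, ha⟩))
  · rintro (⟨rfl, hb⟩ | ⟨rfl, hj⟩ | ⟨rfl, hb⟩ | ⟨rfl, hj⟩)
    · exact Or.inl ⟨b, hb, rfl⟩
    · exact Or.inl ⟨j, hj, gen_comm _ _⟩
    · exact Or.inr ⟨b, hb, rfl⟩
    · exact Or.inr ⟨j, hj, gen_comm _ _⟩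

theorem var_ne_l {j b : Fin M} (h : gen j b ∈ Gf C) : j ≠ C.l ∧ b ≠ C.l := by
  rcases (gen_mem_Gf_iff C j b).mp h with ⟨rfl, hb⟩ | ⟨rfl, hj⟩ | ⟨rfl, hb⟩ | ⟨rfl, hj⟩
  · exact ⟨C.hzl, hb⟩
  · exact ⟨hj, C.hzl⟩
  · exact ⟨C.hol, inA1_ne_l C hb⟩
  · exact ⟨inA1_ne_l C hj, C.hol⟩

theorem quad_Gf : ∀ s ∈ (↑(Gf C) : Set (Fin M →₀ ℕ)), ∃ x y, s = gen x y := by
  intro s hs
  rcases (mem_Gf C s).mp (Finset.mem_coe.mp hs) with ⟨a, _, rfl⟩ | ⟨a, _, rfl⟩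
  · exact ⟨_, _, rfl⟩
  · exact ⟨_, _, rfl⟩

theorem anti_Gf : ∀ s ∈ (↑(Gf C) : Set (Fin M →₀ ℕ)), ∀ s' ∈ (↑(Gf C) : Set (Fin M →₀ ℕ)),
    s ≤ s' → s = s' := by
  intro s hs s' hs' hle
  obtain ⟨x, y, rfl⟩ := quad_Gf C s hs
  obtain ⟨x', y', rfl⟩ := quad_Gf C s' hs'
  exact gen_le_gen hle

variable (k : Type u) [Field k]

/-- the ideal -/
noncomputable abbrev I48 : Ideal (MvPolynomial (Fin M) k) := Ig k (↑(Gf C) : Set (Fin M →₀ ℕ))

theorem mem_exps48 (β : Fin M →₀ ℕ) :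
    β ∈ exps (I48 C k) ↔ (∃ a, a ≠ C.l ∧ gen C.z a ≤ β) ∨ (∃ a, inA1 C a ∧ gen C.o a ≤ β) := by
  rw [mem_exps_g]
  constructor
  · rintro ⟨s, hs, hle⟩
    rcases (mem_Gf C s).mp (Finset.mem_coe.mp hs) with ⟨a, ha, rfl⟩ | ⟨a, ha, rfl⟩
    · exact Or.inl ⟨a, ha, hle⟩
    · exact Or.inr ⟨a, ha, hle⟩
  · rintro (⟨a, ha, hle⟩ | ⟨a, ha, hle⟩)
    · exact ⟨_, Finset.mem_coe.mpr (genz_mem C ha), hle⟩
    · exact ⟨_, Finset.mem_coe.mpr (geno_mem C ha), hle⟩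

theorem gmem {g : Fin M →₀ ℕ} (hg : g ∈ Gf C) : monomial g (1 : k) ∈ I48 C k :=
  gen_mem_g k (Finset.mem_coe.mpr hg)

/-! ### standard monomials -/

theorem std_B (β : Fin M →₀ ℕ) (h1 : β C.z = 0) (h2 : β C.o = 0) : β ∉ exps (I48 C k) := by
  intro hmem
  rcases (mem_exps48 C k β).mp hmem with ⟨a, _, hle⟩ | ⟨a, _, hle⟩
  · have := ((gen_le_iff _ _ _).mp hle).1; omega
  · have := ((gen_le_iff _ _ _).mp hle).1; omega

theorem std_zl (β : Fin M →₀ ℕ) (h1 : β C.z = 1) (h2 : ∀ a, a ≠ C.l → a ≠ C.z → β a = 0) :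
    β ∉ exps (I48 C k) := by
  intro hmem
  rcases (mem_exps48 C k β).mp hmem with ⟨a, ha, hle⟩ | ⟨a, ha, hle⟩
  · obtain ⟨e1, e2, e3⟩ := (gen_le_iff _ _ _).mp hle
    by_cases haz : a = C.z
    · have := e3 haz.symm; omega
    · have := h2 a ha haz; omega
  · have e1 := ((gen_le_iff _ _ _).mp hle).1
    have := h2 C.o C.hol (fun e => C.hzo e.symm)
    omega

theorem std_o (β : Fin M →₀ ℕ) (h1 : β C.z = 0) (h2 : β C.o = 1) (h3 : ∀ m ∈ C.Mid, β m = 0) :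
    β ∉ exps (I48 C k) := by
  intro hmem
  rcases (mem_exps48 C k β).mp hmem with ⟨a, ha, hle⟩ | ⟨a, ha, hle⟩
  · have := ((gen_le_iff _ _ _).mp hle).1; omega
  · obtain ⟨e1, e2, e3⟩ := (gen_le_iff _ _ _).mp hle
    rcases ha with rfl | ha
    · have := e3 rfl; omega
    · have := h3 a ha; omega

theorem in_z {β : Fin M →₀ ℕ} {a : Fin M} (ha : a ≠ C.l) (h1 : 1 ≤ β C.z) (h2 : 1 ≤ β a)
    (h3 : C.z = a → 2 ≤ β C.z) : β ∈ exps (I48 C k) :=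
  (mem_exps48 C k β).mpr (Or.inl ⟨a, ha, (gen_le_iff _ _ _).mpr ⟨h1, h2, h3⟩⟩)

theorem in_o {β : Fin M →₀ ℕ} {a : Fin M} (ha : inA1 C a) (h1 : 1 ≤ β C.o) (h2 : 1 ≤ β a)
    (h3 : C.o = a → 2 ≤ β C.o) : β ∈ exps (I48 C k) :=
  (mem_exps48 C k β).mpr (Or.inr ⟨a, ha, (gen_le_iff _ _ _).mpr ⟨h1, h2, h3⟩⟩)

/-! ### valid pairs -/

/-- the "special" generators: `x_z x_r` and `x_o x_a` -/
def Gsp (g : Fin M →₀ ℕ) : Prop := g = gen C.z C.r ∨ ∃ a, inA1 C a ∧ g = gen C.o a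

/-- valid pairs `(g, μ)` -/
def V : Set ((Fin M →₀ ℕ) × (Fin M →₀ ℕ)) :=
  {x | x.1 ∈ Gf C ∧ (x.2 = gen C.z C.l ∨ (Gsp C x.1 ∧ (x.2 = gen C.o C.l ∨ x.2 = gen C.o C.r)))}

theorem sg_V0 {g : Fin M →₀ ℕ} (hg : g ∈ Gf C) : SgCond (I48 C k) g (gen C.z C.l) := by
  apply sgCond_quad k (quad_Gf C) (Finset.mem_coe.mpr hg)
  intro i j b _ hmem _
  have hb : b ≠ C.l := (var_ne_l C (Finset.mem_coe.mp hmem)).2
  have n1 : ¬ C.l = C.z := fun e => C.hzl e.symm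
  have n2 : ¬ C.l = b := fun e => hb e.symm
  apply in_z C k hb
  · rw [Finsupp.add_apply, gen_apply]; simp only [↓reduceIte, if_neg n1]; omega
  · rw [Finsupp.add_apply, Finsupp.single_apply, gen_apply]; simp only [↓reduceIte, if_neg n2]; omega
  · intro e
    subst e
    rw [Finsupp.add_apply, Finsupp.single_apply, gen_apply]; simp only [↓reduceIte, if_neg n1]
    omega

/-- multiplying `x_o x_w` by a variable in `{z, o} ∪ Mid` lands in the ideal -/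
theorem in_of_small {b w : Fin M} (hbr : b ≠ C.r) (hbl : b ≠ C.l) :
    Finsupp.single b 1 + gen C.o w ∈ exps (I48 C k) := by
  by_cases hbz : b = C.z
  · subst hbz
    apply in_z C k C.hol
    · rw [Finsupp.add_apply, Finsupp.single_apply]; simp only [↓reduceIte]; omega
    · rw [Finsupp.add_apply, gen_apply]; simp only [↓reduceIte]; omega
    · intro e; exact absurd e C.hzo
  · have hb : inA1 C b := inA1_of C hbz hbr hbl
    apply in_o C k hb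
    · rw [Finsupp.add_apply, gen_apply]; simp only [↓reduceIte]; omega
    · rw [Finsupp.add_apply, Finsupp.single_apply]; simp only [↓reduceIte]; omega
    · intro e
      subst e
      rw [Finsupp.add_apply, Finsupp.single_apply, gen_apply]; simp only [↓reduceIte]; omega

theorem sg_V12 {g : Fin M →₀ ℕ} (hg : g ∈ Gf C) (hsp : Gsp C g) (w : Fin M) :
    SgCond (I48 C k) g (gen C.o w) := by
  apply sgCond_quad k (quad_Gf C) (Finset.mem_coe.mpr hg)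
  intro i j b hgij hmem hne
  have hmem' : gen j b ∈ Gf C := Finset.mem_coe.mp hmem
  obtain ⟨hjl, hbl⟩ := var_ne_l C hmem'
  suffices hbr : b ≠ C.r from in_of_small C k hbr hbl
  intro hbr
  subst hbr
  -- `gen j r ∈ Gf` forces `j = z`
  have hjz : j = C.z := by
    rcases (gen_mem_Gf_iff C j C.r).mp hmem' with ⟨h, _⟩ | ⟨h, _⟩ | ⟨_, h⟩ | ⟨h, _⟩
    · exact h
    · exact absurd h (fun e => C.hzr e.symm)
    · exact absurd rfl (inA1_ne_r C h)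
    · exact absurd h (fun e => C.hor e.symm)
  subst hjz
  rcases hsp with h | ⟨a, ha, h⟩
  · -- g = gen z r = gen i z
    exact hne h.symm
  · rw [h] at hgij
    rcases (gen_eq_iff _ _ _ _).mp hgij with ⟨_, e⟩ | ⟨e, _⟩
    · exact inA1_ne_z C ha e
    · exact C.hzo e.symm

theorem sg_V {x : (Fin M →₀ ℕ) × (Fin M →₀ ℕ)} (hx : x ∈ V C) : SgCond (I48 C k) x.1 x.2 := by
  obtain ⟨hg, h | ⟨hsp, h | h⟩⟩ := hx
  · rw [h]; exact sg_V0 C k hg
  · rw [h]; exact sg_V12 C k hg hsp _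
  · rw [h]; exact sg_V12 C k hg hsp _

end Groth.Agent.Lib.Helper9.B48
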