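import Mathlib
import Groth.Agent.Lib.Helper9.B48a

/-! The ideal `x_z (x_a : a ≠ l) + x_o (x_o, x_m : m ∈ Mid)`: classification and spanning
(helper9). -/

set_option autoImplicit false
universe u
open MvPolynomial W4c1hilbpn
open Groth.Agent.Lib.Helper29.BddComp Groth.Agent.Lib.Helper29.TgtGraded
open Groth.Agent.Lib.Helper20.MonoIdeal (exps_of_le)
open Groth.Agent.Lib.Helper9.TwoPlanes (gen gen_apply gen_comm eal shift_eal sum_eal eal_inj
  shift_gen_eal)
open Groth.Agent.Lib.Helper9.PA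
open Groth.Agent.Lib.Helper9.QFrame

namespace Groth.Agent.Lib.Helper9.B48

variable {M : ℕ} (C : Cfg M) (k : Type u) [Field k]

theorem ne_facts : C.z ≠ C.o ∧ C.o ≠ C.z ∧ C.z ≠ C.r ∧ C.r ≠ C.z ∧ C.z ≠ C.l ∧ C.l ≠ C.z ∧
    C.o ≠ C.r ∧ C.r ≠ C.o ∧ C.o ≠ C.l ∧ C.l ≠ C.o ∧ C.r ≠ C.l ∧ C.l ≠ C.r :=
  ⟨C.hzo, C.hzo.symm, C.hzr, C.hzr.symm, C.hzl, C.hzl.symm, C.hor, C.hor.symm, C.hol, C.hol.symm,
    C.hrl, C.hrl.symm⟩

theorem mid_ne {m : Fin M} (hm : m ∈ C.Mid) : m ≠ C.z ∧ m ≠ C.o ∧ m ≠ C.r ∧ m ≠ C.l :=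
  ⟨fun e => C.hzM (e ▸ hm), fun e => C.hoM (e ▸ hm), fun e => C.hrM (e ▸ hm),
    fun e => C.hlM (e ▸ hm)⟩

/-- the monomial `x_r x_o x_w`, `w ∈ {r, l}`, is standard -/
theorem std_r_ow {w : Fin M} (hw : w = C.r ∨ w = C.l) :
    Finsupp.single C.r 1 + gen C.o w ∉ exps (I48 C k) := by
  obtain ⟨zo, oz, zr, rz, zl, lz, or_, ro, ol, lo, rl, lr⟩ := ne_facts C
  apply std_o
  · rcases hw with rfl | rfl <;> simp [gen_apply, Finsupp.single_apply, rz, oz, lz]
  · rcases hw with rfl | rfl <;> simp [gen_apply, Finsupp.single_apply, ro, lo]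
  · intro m hm
    obtain ⟨mz, mo, mr, ml⟩ := mid_ne C hm
    rcases hw with rfl | rfl <;>
      simp [gen_apply, Finsupp.single_apply, mr.symm, mo.symm, ml.symm]

/-- a monomial in the variables outside `{z, o}` is standard -/
theorem std_three {b u v : Fin M} (hbz : b ≠ C.z) (hbo : b ≠ C.o) (huz : u ≠ C.z) (huo : u ≠ C.o)
    (hvz : v ≠ C.z) (hvo : v ≠ C.o) : Finsupp.single b 1 + gen u v ∉ exps (I48 C k) := by
  apply std_B
  · simp [gen_apply, Finsupp.single_apply, hbz, huz, hvz]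
  · simp [gen_apply, Finsupp.single_apply, hbo, huo, hvo]

theorem eal_of_alpha {α : Fin M → ℤ} {p a u v : Fin M}
    (hα : ∀ m, α m = ((gen u v m : ℕ) : ℤ) - ((gen p a m : ℕ) : ℤ)) (hau : a = u) :
    α = eal p v := by
  funext m
  rw [hα m, gen_apply, gen_apply, hau]
  simp only [eal]
  push_cast
  omega

theorem eal_of_alpha' {α : Fin M → ℤ} {p a u v : Fin M}
    (hα : ∀ m, α m = ((gen u v m : ℕ) : ℤ) - ((gen p a m : ℕ) : ℤ)) (hav : a = v) :
    α = eal p u := by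
  funext m
  rw [hα m, gen_apply, gen_apply, hav]
  simp only [eal]
  push_cast
  omega

/-- the output of the classification step -/
def StepOut (α : Fin M → ℤ) (g : Fin M →₀ ℕ) : Prop :=
  (g, shift g α) ∈ V C ∨ ∃ p b, (p = C.z ∨ p = C.o) ∧ b ≠ C.z ∧ b ≠ C.o ∧ α = eal p b ∧
    ((∃ a, a ≠ C.z ∧ a ≠ C.o ∧ g = gen p a) ∨
      (p = C.z ∧ g = gen C.z C.o ∧ (b = C.r ∨ b = C.l)))

/-- case `μ = x_o x_w` -/
theorem s1o (α : Fin M → ℤ) (φ : Tgt (I48 C k)) (hφ : φ ∈ tPiece (I48 C k) α) {p a w : Fin M}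
    (hpa : (p = C.z ∧ a ≠ C.l) ∨ (p = C.o ∧ inA1 C a)) (hg : gen p a ∈ Gf C)
    (hw : w = C.r ∨ w = C.l)
    (hμeq : shift (gen p a) α = gen C.o w)
    (hα : ∀ m, α m = ((gen C.o w m : ℕ) : ℤ) - ((gen p a m : ℕ) : ℤ))
    {c : k} (hco : φ ⟨monomial (gen p a) 1, gmem C k hg⟩ = c • cls (I48 C k) (gen C.o w))
    (hc : c ≠ 0) : StepOut C α (gen p a) := by
  obtain ⟨zo, oz, zr, rz, zl, lz, or_, ro, ol, lo, rl, lr⟩ := ne_facts C
  have hwz : w ≠ C.z := by rcases hw with rfl | rfl <;> assumption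
  have hwo : w ≠ C.o := by rcases hw with rfl | rfl <;> assumption
  by_cases hsp : Gsp C (gen p a)
  · left
    refine ⟨hg, Or.inr ⟨hsp, ?_⟩⟩
    show shift (gen p a) α = gen C.o C.l ∨ shift (gen p a) α = gen C.o C.r
    rw [hμeq]
    rcases hw with rfl | rfl
    · exact Or.inr rfl
    · exact Or.inl rfl
  · rcases hpa with ⟨rfl, hal⟩ | ⟨rfl, ha1⟩
    · have har : a ≠ C.r := fun e => hsp (Or.inl (by rw [e]))
      by_cases hao : a = C.o
      · subst hao
        right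
        refine ⟨C.z, w, Or.inl rfl, hwz, hwo, ?_, Or.inr ⟨rfl, rfl, hw⟩⟩
        funext m
        rw [hα m, gen_apply, gen_apply]
        simp only [eal]
        push_cast
        omega
      · exfalso
        have hra : C.r ≠ a := fun e => har e.symm
        have hoa : C.o ≠ a := fun e => hao e.symm
        have hwa : w ≠ a := by
          rcases hw with rfl | rfl
          · exact hra
          · exact fun e => hal e.symm
        have hh := gmem C k (genz_mem C C.hrl)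
        have heq : Finsupp.single C.r 1 + gen C.z a = Finsupp.single a 1 + gen C.z C.r := by
          unfold gen; abel
        have hz : φ ⟨monomial (gen C.z C.r) 1, hh⟩ = 0 := by
          refine phi_eq_zero _ α hφ _ _ ⟨a, ?_⟩
          exact toZ_neg C.z a C.r C.o w (Or.inl hra) hoa hwa (hα a)
        exact std_r_ow C k hw (rel0_g _ φ (gmem C k hg) hh C.r a heq hz hco hc)
    · exact absurd (Or.inr ⟨a, ha1, rfl⟩) hsp

/-- the classification step -/
theorem stepB48 (α : Fin M → ℤ) (hsum : ∑ m, α m = 0) (φ : Tgt (I48 C k))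
    (hφ : φ ∈ tPiece (I48 C k) α) {g : Fin M →₀ ℕ} (hg : g ∈ Gf C)
    (hval : φ ⟨monomial g 1, gmem C k hg⟩ ≠ 0) : StepOut C α g := by
  obtain ⟨zo, oz, zr, rz, zl, lz, or_, ro, ol, lo, rl, lr⟩ := ne_facts C
  obtain ⟨m₀, hm₀⟩ := C.hMid
  obtain ⟨m₀z, m₀o, m₀r, m₀l⟩ := mid_ne C hm₀
  have hgm := gmem C k hg
  have hnn : ∀ m, 0 ≤ toZ g α m := by
    by_contra hcon
    obtain ⟨m, hm⟩ := not_forall.mp hcon
    exact hval (phi_eq_zero _ α hφ _ _ ⟨m, not_le.mp hm⟩)
  have hco := phi_eq_co _ α hφ g hgm hnn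
  have hc : co (I48 C k) α φ g ≠ 0 := by
    intro h; rw [h, zero_smul] at hco; exact hval hco
  have hμ : shift g α ∉ exps (I48 C k) := by
    intro h; rw [cls_eq_zero _ h, smul_zero] at hco; exact hval hco
  obtain ⟨p, a, hpa, rfl⟩ : ∃ p a, ((p = C.z ∧ a ≠ C.l) ∨ (p = C.o ∧ inA1 C a)) ∧ g = gen p a := by
    rcases (mem_Gf C g).mp hg with ⟨a, ha, rfl⟩ | ⟨a, ha, rfl⟩
    · exact ⟨C.z, a, Or.inl ⟨rfl, ha⟩, rfl⟩
    · exact ⟨C.o, a, Or.inr ⟨rfl, ha⟩, rfl⟩
  have hdeg : (shift (gen p a) α).degree = 2 := by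
    have h1 := Groth.Agent.Lib.Helper29.TgtPow.degree_shift α (gen p a) hnn
    rw [hsum, degree_gen] at h1
    have h2 : ((shift (gen p a) α).degree : ℤ) = 2 := by rw [h1]; norm_num
    exact_mod_cast h2
  obtain ⟨u, v, huv⟩ := exists_gen_of_degree_two _ hdeg
  have hμm : ∀ m, ((gen u v m : ℕ) : ℤ) = ((gen p a m : ℕ) : ℤ) + α m := fun m => by
    rw [← huv]
    show ((((gen p a m : ℕ) : ℤ) + α m).toNat : ℤ) = _
    exact Int.toNat_of_nonneg (hnn m)
  have hα : ∀ m, α m = ((gen u v m : ℕ) : ℤ) - ((gen p a m : ℕ) : ℤ) := fun m => by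
    have := hμm m; omega
  rw [huv] at hμ hco
  by_cases huz : u = C.z
  · subst huz
    have hvl : v = C.l := by
      by_contra hne
      exact hμ ((mem_exps48 C k _).mpr (Or.inl ⟨v, hne, le_rfl⟩))
    subst hvl
    exact Or.inl ⟨hg, Or.inl huv⟩
  by_cases hvz : v = C.z
  · subst hvz
    have hul : u = C.l := by
      by_contra hne
      exact hμ ((mem_exps48 C k _).mpr (Or.inl ⟨u, hne, le_of_eq (gen_comm _ _)⟩))
    subst hul
    exact Or.inl ⟨hg, Or.inl (huv.trans (gen_comm _ _))⟩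
  by_cases huo : u = C.o
  · subst huo
    have hv : v = C.r ∨ v = C.l := by
      by_contra hcon
      push Not at hcon
      exact hμ ((mem_exps48 C k _).mpr (Or.inr ⟨v, inA1_of C hvz hcon.1 hcon.2, le_rfl⟩))
    exact s1o C k α φ hφ hpa hg hv huv hα hco hc
  by_cases hvo : v = C.o
  · subst hvo
    have hu : u = C.r ∨ u = C.l := by
      by_contra hcon
      push Not at hcon
      exact hμ ((mem_exps48 C k _).mpr
        (Or.inr ⟨u, inA1_of C huz hcon.1 hcon.2, le_of_eq (gen_comm _ _)⟩))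
    have huv' : shift (gen p a) α = gen C.o u := huv.trans (gen_comm _ _)
    have hα' : ∀ m, α m = ((gen C.o u m : ℕ) : ℤ) - ((gen p a m : ℕ) : ℤ) := fun m => by
      rw [hα m, gen_comm u C.o]
    rw [gen_comm u C.o] at hco
    exact s1o C k α φ hφ hpa hg hu huv' hα' hco hc
  -- `S2`-type
  by_cases hau : a = u
  · right
    have hp : p = C.z ∨ p = C.o := by rcases hpa with ⟨h, _⟩ | ⟨h, _⟩ <;> simp [h]
    exact ⟨p, v, hp, hvz, hvo, eal_of_alpha hα hau,
      Or.inl ⟨a, hau ▸ huz, hau ▸ huo, rfl⟩⟩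
  by_cases hav : a = v
  · right
    have hp : p = C.z ∨ p = C.o := by rcases hpa with ⟨h, _⟩ | ⟨h, _⟩ <;> simp [h]
    exact ⟨p, u, hp, huz, huo, eal_of_alpha' hα hav,
      Or.inl ⟨a, hav ▸ hvz, hav ▸ hvo, rfl⟩⟩
  exfalso
  have hua : u ≠ a := fun e => hau e.symm
  have hva : v ≠ a := fun e => hav e.symm
  -- a generic contradiction from a neighbour `gen p b₀`
  have key : ∀ b₀, gen p b₀ ∈ Gf C → (b₀ ≠ a ∨ (b₀ = p ∧ p ≠ a)) →
      Finsupp.single b₀ 1 + gen u v ∉ exps (I48 C k) → False := by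
    intro b₀ hb₀ hb₀a hst
    have hh := gmem C k hb₀
    have heq : Finsupp.single b₀ 1 + gen p a = Finsupp.single a 1 + gen p b₀ := by
      unfold gen; abel
    have hz : φ ⟨monomial (gen p b₀) 1, hh⟩ = 0 := by
      refine phi_eq_zero _ α hφ _ _ ⟨a, ?_⟩
      exact toZ_neg p a b₀ u v hb₀a hua hva (hα a)
    exact hst (rel0_g _ φ hgm hh b₀ a heq hz hco hc)
  rcases hpa with ⟨rfl, hal⟩ | ⟨rfl, ha1⟩
  · by_cases har : a = C.r
    · subst har
      exact key m₀ (genz_mem C m₀l) (Or.inl m₀r) (std_three C k m₀z m₀o huz huo hvz hvo)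
    · exact key C.r (genz_mem C rl) (Or.inl (fun e => har e.symm))
        (std_three C k rz ro huz huo hvz hvo)
  · rcases ha1 with rfl | haM
    · exact key m₀ (geno_mem C (Or.inr hm₀)) (Or.inl m₀o) (std_three C k m₀z m₀o huz huo hvz hvo)
    · obtain ⟨az, ao, ar, al⟩ := mid_ne C haM
      by_cases huM : u ∈ C.Mid
      · exact key u (geno_mem C (Or.inr huM)) (Or.inl hua) (std_three C k huz huo huz huo hvz hvo)
      · by_cases hvM : v ∈ C.Mid
        · exact key v (geno_mem C (Or.inr hvM)) (Or.inl hva)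
            (std_three C k hvz hvo huz huo hvz hvo)
        · refine key C.o (geno_mem C (Or.inl rfl)) (Or.inr ⟨rfl, fun e => ao e.symm⟩) ?_
          apply std_o
          · simp [gen_apply, Finsupp.single_apply, oz, huz, hvz]
          · simp [gen_apply, Finsupp.single_apply, huo, hvo]
          · intro m hm
            have hum : ¬ u = m := fun e => huM (e ▸ hm)
            have hvm : ¬ v = m := fun e => hvM (e ▸ hm)
            have hom : ¬ C.o = m := fun e => C.hoM (e ▸ hm)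
            simp [gen_apply, Finsupp.single_apply, hum, hvm, hom]

end Groth.Agent.Lib.Helper9.B48
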