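import Mathlib
import Groth.Agent.Lib.Helper9.B48b

/-! The ideal `x_z (x_a : a ≠ l) + x_o (x_o, x_m : m ∈ Mid)`: spanning family, independence
(helper9). -/

set_option autoImplicit false
universe u
open MvPolynomial W4c1hilbpn
open Groth.Agent.Lib.Helper29.BddComp Groth.Agent.Lib.Helper29.TgtGraded
open Groth.Agent.Lib.Helper20.MonoIdeal (exps_of_le)
open Groth.Agent.Lib.Helper9.TwoPlanes (gen gen_apply gen_comm eal shift_eal sum_eal eal_inj
  shift_gen_eal)
open Groth.Agent.Lib.Helper9.PA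
open Groth.Agent.Lib.Helper9.QFrame

namespace Groth.Agent.Lib.Helper9.B48

variable {M : ℕ} (C : Cfg M) (k : Type u) [Field k]

open Classical in
/-- the special generators, as a finset -/
noncomputable def Gp : Finset (Fin M →₀ ℕ) :=
  insert (gen C.z C.r) ((insert C.o C.Mid).image (fun a => gen C.o a))

theorem mem_Gp (g : Fin M →₀ ℕ) : g ∈ Gp C ↔ Gsp C g := by
  classical
  unfold Gp Gsp
  rw [Finset.mem_insert, Finset.mem_image]
  constructor
  · rintro (h | ⟨a, ha, rfl⟩)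
    · exact Or.inl h
    · exact Or.inr ⟨a, Finset.mem_insert.mp ha, rfl⟩
  · rintro (h | ⟨a, ha, rfl⟩)
    · exact Or.inl h
    · exact Or.inr ⟨a, Finset.mem_insert.mpr ha, rfl⟩

theorem Gsp_mem_Gf {g : Fin M →₀ ℕ} (h : Gsp C g) : g ∈ Gf C := by
  rcases h with rfl | ⟨a, ha, rfl⟩
  · exact genz_mem C C.hrl
  · exact geno_mem C ha

open Classical in
/-- the valid pairs, as a finset -/
noncomputable def Vf : Finset ((Fin M →₀ ℕ) × (Fin M →₀ ℕ)) :=
  ((Gf C) ×ˢ {gen C.z C.l}) ∪ ((Gp C) ×ˢ {gen C.o C.l, gen C.o C.r})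

theorem mem_Vf (x : (Fin M →₀ ℕ) × (Fin M →₀ ℕ)) : x ∈ Vf C ↔ x ∈ V C := by
  classical
  unfold Vf V
  rw [Finset.mem_union, Finset.mem_product, Finset.mem_product, Finset.mem_singleton,
    Finset.mem_insert, Finset.mem_singleton, mem_Gp, Set.mem_setOf_eq]
  constructor
  · rintro (⟨h1, h2⟩ | ⟨h1, h2⟩)
    · exact ⟨h1, Or.inl h2⟩
    · exact ⟨Gsp_mem_Gf C h1, Or.inr ⟨h1, h2⟩⟩
  · rintro ⟨h1, h2 | ⟨h2, h3⟩⟩
    · exact Or.inl ⟨h1, h2⟩
    · exact Or.inr ⟨h2, h3⟩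

open Classical in
/-- index pairs for the derivations -/
noncomputable def Df : Finset (Fin M × Fin M) :=
  ({C.z, C.o} : Finset (Fin M)) ×ˢ ({C.z, C.o} : Finset (Fin M))ᶜ

theorem mem_Df (y : Fin M × Fin M) :
    y ∈ Df C ↔ (y.1 = C.z ∨ y.1 = C.o) ∧ y.2 ≠ C.z ∧ y.2 ≠ C.o := by
  classical
  unfold Df
  rw [Finset.mem_product, Finset.mem_compl, Finset.mem_insert, Finset.mem_singleton,
    Finset.mem_insert, Finset.mem_singleton]
  constructor
  · rintro ⟨h1, h2⟩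
    push Not at h2
    exact ⟨h1, h2.1, h2.2⟩
  · rintro ⟨h1, h2, h3⟩
    exact ⟨h1, fun h => h.elim h2 h3⟩

/-- index type of the basis -/
abbrev Idx : Type := ↥(Vf C) ⊕ ↥(Df C)

/-- the basis family -/
noncomputable def vfam : Idx C → Tgt (I48 C k) :=
  Sum.elim (fun x => psiT (I48 C k) (isMono_g k _) x.1.1 x.1.2)
    (fun y => Dg (I48 C k) y.1.1 y.1.2)

/-- the span of the basis family -/
noncomputable def W : Submodule k (Tgt (I48 C k)) := Submodule.span k (Set.range (vfam C k))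

theorem psi_mem_W {x : (Fin M →₀ ℕ) × (Fin M →₀ ℕ)} (hx : x ∈ V C) :
    psiT (I48 C k) (isMono_g k _) x.1 x.2 ∈ W C k :=
  Submodule.subset_span ⟨Sum.inl ⟨x, (mem_Vf C x).mpr hx⟩, rfl⟩

theorem D_mem_W {p b : Fin M} (hp : p = C.z ∨ p = C.o) (hbz : b ≠ C.z) (hbo : b ≠ C.o) :
    Dg (I48 C k) p b ∈ W C k :=
  Submodule.subset_span ⟨Sum.inr ⟨(p, b), (mem_Df C _).mpr ⟨hp, hbz, hbo⟩⟩, rfl⟩

theorem star48 (α : Fin M → ℤ) (φ : Tgt (I48 C k)) (hφ : φ ∈ tPiece (I48 C k) α)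
    (hS1 : ∀ g (hg : g ∈ Gf C), φ ⟨monomial g 1, gmem C k hg⟩ ≠ 0 → (g, shift g α) ∈ V C) :
    φ ∈ W C k :=
  star_g k (Gf C) (anti_Gf C) (V C) (fun x hx => sg_V C k hx) (W C k)
    (fun x hx _ => psi_mem_W C k hx) α φ hφ hS1

/-- the reference variable for `p` -/
noncomputable def refv (m₀ p : Fin M) : Fin M := if p = C.z then C.r else m₀

theorem case1 {p b : Fin M} (hp : p = C.z ∨ p = C.o) (hbz : b ≠ C.z) (hbo : b ≠ C.o)
    (φ : Tgt (I48 C k)) (hφ : φ ∈ tPiece (I48 C k) (eal p b)) : φ ∈ W C k := by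
  obtain ⟨zo, oz, zr, rz, zl, lz, or_, ro, ol, lo, rl, lr⟩ := ne_facts C
  obtain ⟨m₀, hm₀⟩ := C.hMid
  obtain ⟨m₀z, m₀o, m₀r, m₀l⟩ := mid_ne C hm₀
  have hpb : p ≠ b := by
    rcases hp with rfl | rfl
    · exact fun e => hbz e.symm
    · exact fun e => hbo e.symm
  -- the reference generator
  obtain ⟨a₀, ha₀z, ha₀o, hg₀, ha₀r⟩ : ∃ a₀, a₀ ≠ C.z ∧ a₀ ≠ C.o ∧ gen p a₀ ∈ Gf C ∧
      (p = C.z → a₀ = C.r) := by
    rcases hp with rfl | rfl
    · exact ⟨C.r, rz, ro, genz_mem C rl, fun _ => rfl⟩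
    · exact ⟨m₀, m₀z, m₀o, geno_mem C (Or.inr hm₀), fun e => absurd e oz⟩
  have hpa₀ : p ≠ a₀ := by
    rcases hp with rfl | rfl
    · exact fun e => ha₀z e.symm
    · exact fun e => ha₀o e.symm
  set d := co (I48 C k) (eal p b) φ (gen p a₀) with hd
  have hφ₁ : φ - d • Dg (I48 C k) p b ∈ tPiece (I48 C k) (eal p b) :=
    Submodule.sub_mem _ hφ (Submodule.smul_mem _ _ (Dg_mem _ hpb))
  have hco₀ := phi_eq_co' _ _ hφ (gen p a₀) (gmem C k hg₀)
  rw [shift_gen_eal hpb] at hco₀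
  have hsuff : φ - d • Dg (I48 C k) p b ∈ W C k := by
    apply star48 C k (eal p b) _ hφ₁
    intro g hg hne
    rcases stepB48 C k (eal p b) (sum_eal p b) _ hφ₁ hg hne with
      h | ⟨p', b', hp', hb'z, hb'o, hαeq, hcase⟩
    · exact h
    · exfalso
      have hpb' : p' ≠ b' := by
        rcases hp' with rfl | rfl
        · exact fun e => hb'z e.symm
        · exact fun e => hb'o e.symm
      obtain ⟨rfl, rfl⟩ := eal_inj hpb hpb' hαeq
      apply hne
      -- in both sub-cases `g = gen p a` with `p ≠ a`, value `cls (gen b a)`, coefficient `d`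
      obtain ⟨a, hpa, hga, hst⟩ : ∃ a, p ≠ a ∧ g = gen p a ∧
          Finsupp.single a₀ 1 + gen b a ∉ exps (I48 C k) := by
        rcases hcase with ⟨a, haz, hao, rfl⟩ | ⟨rfl, rfl, hbrl⟩
        · refine ⟨a, ?_, rfl, std_three C k ha₀z ha₀o hbz hbo haz hao⟩
          rcases hp with rfl | rfl
          · exact fun e => haz e.symm
          · exact fun e => hao e.symm
        · refine ⟨C.o, zo, rfl, ?_⟩
          have e : a₀ = C.r := ha₀r rfl
          rw [e, gen_comm b C.o]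
          exact std_r_ow C k hbrl
      subst hga
      rw [LinearMap.sub_apply, LinearMap.smul_apply, Dg_gen _ hpa,
        phi_eq_co' _ _ hφ _ _, shift_gen_eal hpb, ← sub_smul]
      have hcc : co (I48 C k) (eal p b) φ (gen p a) = d := by
        have hgg := gmem C k hg
        have hh := gmem C k hg₀
        have heq : Finsupp.single a₀ 1 + gen p a = Finsupp.single a 1 + gen p a₀ := by
          unfold gen; abel
        have hco := phi_eq_co' _ _ hφ (gen p a) hgg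
        rw [shift_gen_eal hpb] at hco
        have hμ : Finsupp.single a₀ 1 + gen b a = Finsupp.single a 1 + gen b a₀ := by
          unfold gen; abel
        exact rel1_g _ φ hgg hh a₀ a heq hco hco₀ hμ hst
      rw [hcc, sub_self, zero_smul]
  have e : φ = (φ - d • Dg (I48 C k) p b) + d • Dg (I48 C k) p b := (sub_add_cancel _ _).symm
  rw [e]
  exact (W C k).add_mem hsuff ((W C k).smul_mem _ (D_mem_W C k hp hbz hbo))

end Groth.Agent.Lib.Helper9.B48
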