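import Mathlib
import Groth.Agent.Lib.Helper9.B48c

/-! The ideal `x_z (x_a : a ≠ l) + x_o (x_o, x_m : m ∈ Mid)`: independence, count and the final
statement (helper9). -/

set_option autoImplicit false
universe u
open MvPolynomial W4c1hilbpn
open Groth.Agent.Lib.Helper29.BddComp Groth.Agent.Lib.Helper29.TgtGraded
open Groth.Agent.Lib.Helper20.MonoIdeal (exps_of_le)
open Groth.Agent.Lib.Helper9.TwoPlanes (gen gen_apply gen_comm eal shift_eal sum_eal eal_inj
  shift_gen_eal)
open Groth.Agent.Lib.Helper9.PA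
open Groth.Agent.Lib.Helper9.QFrame

namespace Groth.Agent.Lib.Helper9.B48

variable {M : ℕ} (C : Cfg M) (k : Type u) [Field k]

theorem tPiece_le_W (α : Fin M → ℤ) (hsum : ∑ m, α m = 0) : tPiece (I48 C k) α ≤ W C k := by
  intro φ hφ
  by_cases hα : ∃ p b, (p = C.z ∨ p = C.o) ∧ b ≠ C.z ∧ b ≠ C.o ∧ α = eal p b
  · obtain ⟨p, b, hp, hbz, hbo, rfl⟩ := hα
    exact case1 C k hp hbz hbo φ hφ
  · apply star48 C k α φ hφ
    intro g hg hne
    rcases stepB48 C k α hsum φ hφ hg hne with h | ⟨p, b, hp, hbz, hbo, hαeq, _⟩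
    · exact h
    · exact absurd ⟨p, b, hp, hbz, hbo, hαeq⟩ hα

theorem std_V {x : (Fin M →₀ ℕ) × (Fin M →₀ ℕ)} (hx : x ∈ V C) : x.2 ∉ exps (I48 C k) := by
  obtain ⟨zo, oz, zr, rz, zl, lz, or_, ro, ol, lo, rl, lr⟩ := ne_facts C
  obtain ⟨_, h | ⟨_, h | h⟩⟩ := hx
  · rw [h]
    apply std_zl
    · simp [gen_apply, lz]
    · intro a hal haz
      have n1 : ¬ C.z = a := fun e => haz e.symm
      have n2 : ¬ C.l = a := fun e => hal e.symm
      simp [gen_apply, n1, n2]
  · rw [h]
    apply std_o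
    · simp [gen_apply, oz, lz]
    · simp [gen_apply, lo]
    · intro m hm
      obtain ⟨mz, mo, mr, ml⟩ := mid_ne C hm
      simp [gen_apply, mo.symm, ml.symm]
  · rw [h]
    apply std_o
    · simp [gen_apply, oz, rz]
    · simp [gen_apply, ro]
    · intro m hm
      obtain ⟨mz, mo, mr, ml⟩ := mid_ne C hm
      simp [gen_apply, mo.symm, mr.symm]

theorem degree_V {x : (Fin M →₀ ℕ) × (Fin M →₀ ℕ)} (hx : x ∈ V C) :
    x.1.degree = 2 ∧ x.2.degree = 2 := by
  obtain ⟨hg, h⟩ := hx
  obtain ⟨a, b, hab⟩ := quad_Gf C x.1 (Finset.mem_coe.mpr hg)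
  refine ⟨by rw [hab]; exact degree_gen _ _, ?_⟩
  rcases h with h | ⟨_, h | h⟩ <;> rw [h] <;> exact degree_gen _ _

/-- the degree-0 part -/
noncomputable def H0 : Submodule k (Tgt (I48 C k)) :=
  ⨆ α : {α : Fin M → ℤ // ∑ i, α i = 0}, tPiece (I48 C k) α.1

theorem H0_eq_W : H0 C k = W C k := by
  apply le_antisymm
  · apply iSup_le
    rintro ⟨α, hα⟩
    exact tPiece_le_W C k α hα
  · unfold W
    rw [Submodule.span_le]
    rintro _ ⟨x, rfl⟩
    rcases x with ⟨x, hx⟩ | ⟨⟨p, b⟩, hy⟩
    · have hxV := (mem_Vf C x).mp hx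
      obtain ⟨d1, d2⟩ := degree_V C hxV
      have hs : ∑ i, alphaOf x.1 x.2 i = 0 := by
        rw [Groth.Agent.Lib.Helper29.TgtDim.sum_alphaOf, d1, d2]; norm_num
      exact le_iSup (fun α : {α : Fin M → ℤ // ∑ i, α i = 0} => tPiece (I48 C k) α.1)
        ⟨_, hs⟩ (psiT_mem _ _ _ _)
    · obtain ⟨hp, hbz, hbo⟩ := (mem_Df C _).mp hy
      have hpb : p ≠ b := by
        rcases hp with h | h
        · exact fun e => hbz (e ▸ h)
        · exact fun e => hbo (e ▸ h)
      exact le_iSup (fun α : {α : Fin M → ℤ // ∑ i, α i = 0} => tPiece (I48 C k) α.1)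
        ⟨_, sum_eal p b⟩ (Dg_mem _ hpb)

theorem vfam_indep : LinearIndependent k (vfam C k) := by
  classical
  obtain ⟨zo, oz, zr, rz, zl, lz, or_, ro, ol, lo, rl, lr⟩ := ne_facts C
  obtain ⟨m₀, hm₀⟩ := C.hMid
  obtain ⟨m₀z, m₀o, m₀r, m₀l⟩ := mid_ne C hm₀
  rw [Fintype.linearIndependent_iff]
  intro c hc
  rw [Fintype.sum_sum_type] at hc
  have key1 : ∀ y : ↥(Df C), c (Sum.inr y) = 0 := by
    rintro ⟨⟨p, b⟩, hy⟩
    obtain ⟨hp, hbz, hbo⟩ := (mem_Df C _).mp hy
    obtain ⟨a₀, ha₀z, ha₀o, hg₀⟩ : ∃ a₀, a₀ ≠ C.z ∧ a₀ ≠ C.o ∧ gen p a₀ ∈ Gf C := by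
      rcases hp with h | h
      · have h' : p = C.z := h
        subst h'
        exact ⟨C.r, rz, ro, genz_mem C rl⟩
      · have h' : p = C.o := h
        subst h'
        exact ⟨m₀, m₀z, m₀o, geno_mem C (Or.inr hm₀)⟩
    have hpa₀ : p ≠ a₀ := by
      rcases hp with h | h
      · exact fun e => ha₀z (e ▸ h)
      · exact fun e => ha₀o (e ▸ h)
    have hst : gen b a₀ ∉ exps (I48 C k) := by
      apply std_B
      · simp [gen_apply, hbz, ha₀z]
      · simp [gen_apply, hbo, ha₀o]
    have h1 : ∀ x : ↥(Vf C),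
        cqL (I48 C k) (isMono_g k _) (gen b a₀) hst
          (vfam C k (Sum.inl x) ⟨monomial (gen p a₀) 1, gmem C k hg₀⟩) = 0 := by
      rintro ⟨x, hx⟩
      have hxV := (mem_Vf C x).mp hx
      show cqL (I48 C k) (isMono_g k _) (gen b a₀) hst
        (psiT (I48 C k) (isMono_g k _) x.1 x.2 ⟨monomial (gen p a₀) 1, gmem C k hg₀⟩) = 0
      have hpsi := psiT_gen_g k (anti_Gf C) (Finset.mem_coe.mpr hxV.1) (Finset.mem_coe.mpr hg₀) x.2
        (sg_V C k hxV)
      rw [hpsi]
      split_ifs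
      · rw [cqL_cls, if_neg]
        intro e
        rcases hxV.2 with h | ⟨_, h | h⟩
        · have h2 := DFunLike.congr_fun (h.symm.trans e) C.z
          simp [gen_apply, lz, hbz, ha₀z] at h2
        · have h2 := DFunLike.congr_fun (h.symm.trans e) C.o
          simp [gen_apply, lo, hbo, ha₀o] at h2
        · have h2 := DFunLike.congr_fun (h.symm.trans e) C.o
          simp [gen_apply, ro, hbo, ha₀o] at h2
      · exact map_zero _
    have h2 : ∀ y' : ↥(Df C),
        cqL (I48 C k) (isMono_g k _) (gen b a₀) hst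
          (vfam C k (Sum.inr y') ⟨monomial (gen p a₀) 1, gmem C k hg₀⟩) =
          if y' = (⟨(p, b), hy⟩ : ↥(Df C)) then 1 else 0 := by
      rintro ⟨⟨p', b'⟩, hy'⟩
      obtain ⟨hp', hb'z, hb'o⟩ := (mem_Df C _).mp hy'
      show cqL (I48 C k) (isMono_g k _) (gen b a₀) hst
        (Dg (I48 C k) p' b' ⟨monomial (gen p a₀) 1, gmem C k hg₀⟩) = _
      by_cases hpp : p' = p
      · subst hpp
        rw [Dg_gen _ hpa₀, cqL_cls]
        by_cases hbb : b' = b
        · subst hbb
          rw [if_pos rfl, if_pos rfl]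
        · rw [if_neg (fun e => hbb (gen_right_inj e)), if_neg]
          intro e
          exact hbb (congrArg (fun z : ↥(Df C) => z.1.2) e)
      · rw [Dg_monomial, gen_apply]
        have n1 : ¬ p = p' := fun e => hpp e.symm
        have n2 : ¬ a₀ = p' := by
          rcases hp' with h | h
          · exact fun e => ha₀z (e.trans h)
          · exact fun e => ha₀o (e.trans h)
        simp only [if_neg n1, if_neg n2]
        rw [Nat.cast_zero, zero_smul, map_zero, if_neg]
        intro e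
        exact hpp (congrArg (fun z : ↥(Df C) => z.1.1) e)
    have hE := congrArg (fun φ : Tgt (I48 C k) =>
      cqL (I48 C k) (isMono_g k _) (gen b a₀) hst
        (φ ⟨monomial (gen p a₀) 1, gmem C k hg₀⟩)) hc
    simp only [LinearMap.add_apply, LinearMap.sum_apply, LinearMap.smul_apply, map_add, map_sum,
      map_smul, LinearMap.zero_apply, map_zero, h1, h2, smul_zero, Finset.sum_const_zero, zero_add,
      smul_eq_mul, mul_ite, mul_one, mul_zero, Finset.sum_ite_eq', Finset.mem_univ, if_true] at hE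
    exact hE
  have hc' : ∑ x : ↥(Vf C), c (Sum.inl x) • vfam C k (Sum.inl x) = 0 := by
    have h0 : ∑ y : ↥(Df C), c (Sum.inr y) • vfam C k (Sum.inr y) = 0 :=
      Finset.sum_eq_zero (fun y _ => by rw [key1 y, zero_smul])
    rw [h0, add_zero] at hc
    exact hc
  have key2 : ∀ x : ↥(Vf C), c (Sum.inl x) = 0 := by
    rintro ⟨x₀, hx₀⟩
    have hx₀V := (mem_Vf C x₀).mp hx₀
    have hst : x₀.2 ∉ exps (I48 C k) := std_V C k hx₀V
    have h1 : ∀ x : ↥(Vf C),
        cqL (I48 C k) (isMono_g k _) x₀.2 hst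
          (vfam C k (Sum.inl x) ⟨monomial x₀.1 1, gmem C k hx₀V.1⟩) =
          if x = (⟨x₀, hx₀⟩ : ↥(Vf C)) then 1 else 0 := by
      rintro ⟨x, hx⟩
      have hxV := (mem_Vf C x).mp hx
      show cqL (I48 C k) (isMono_g k _) x₀.2 hst
        (psiT (I48 C k) (isMono_g k _) x.1 x.2 ⟨monomial x₀.1 1, gmem C k hx₀V.1⟩) = _
      have hpsi := psiT_gen_g k (anti_Gf C) (Finset.mem_coe.mpr hxV.1)
        (Finset.mem_coe.mpr hx₀V.1) x.2 (sg_V C k hxV)
      rw [hpsi]
      by_cases hgg : x.1 = x₀.1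
      · rw [if_pos hgg, cqL_cls]
        by_cases hmm : x.2 = x₀.2
        · rw [if_pos hmm, if_pos]
          exact Subtype.ext (Prod.ext hgg hmm)
        · rw [if_neg hmm, if_neg]
          intro e
          exact hmm (congrArg (fun z : ↥(Vf C) => z.1.2) e)
      · rw [if_neg hgg, map_zero, if_neg]
        intro e
        exact hgg (congrArg (fun z : ↥(Vf C) => z.1.1) e)
    have hE := congrArg (fun φ : Tgt (I48 C k) =>
      cqL (I48 C k) (isMono_g k _) x₀.2 hst
        (φ ⟨monomial x₀.1 1, gmem C k hx₀V.1⟩)) hc'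
    simp only [LinearMap.sum_apply, LinearMap.smul_apply, map_sum,
      map_smul, LinearMap.zero_apply, map_zero, h1, smul_eq_mul, mul_ite, mul_one, mul_zero,
      Finset.sum_ite_eq', Finset.mem_univ, if_true] at hE
    exact hE
  rintro (x | y)
  · exact key2 x
  · exact key1 y

/-! ### the count -/

theorem card_M : M = C.Mid.card + 4 := by
  classical
  obtain ⟨zo, oz, zr, rz, zl, lz, or_, ro, ol, lo, rl, lr⟩ := ne_facts C
  have huniv : (Finset.univ : Finset (Fin M)) =
      insert C.z (insert C.o (insert C.r (insert C.l C.Mid))) := by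
    ext x
    simp only [Finset.mem_univ, Finset.mem_insert, true_iff]
    rcases C.hcover x with h | h | h | h | h
    · exact Or.inl h
    · exact Or.inr (Or.inl h)
    · exact Or.inr (Or.inr (Or.inr (Or.inr h)))
    · exact Or.inr (Or.inr (Or.inl h))
    · exact Or.inr (Or.inr (Or.inr (Or.inl h)))
  have h := congrArg Finset.card huniv
  rw [Finset.card_univ, Fintype.card_fin, Finset.card_insert_of_notMem,
    Finset.card_insert_of_notMem, Finset.card_insert_of_notMem, Finset.card_insert_of_notMem C.hlM]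
    at h
  · exact h
  · simp [rl, C.hrM]
  · simp [or_, ol, C.hoM]
  · simp [zo, zr, zl, C.hzM]

theorem card_Gf : (Gf C).card = 2 * C.Mid.card + 4 := by
  classical
  obtain ⟨zo, oz, zr, rz, zl, lz, or_, ro, ol, lo, rl, lr⟩ := ne_facts C
  unfold Gf
  rw [Finset.card_union_of_disjoint, Finset.card_image_of_injective,
    Finset.card_image_of_injective, Finset.filter_ne', Finset.card_erase_of_mem (Finset.mem_univ _),
    Finset.card_univ, Fintype.card_fin, Finset.card_insert_of_notMem C.hoM]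
  · have := card_M C
    omega
  · intro a a' h
    exact gen_left_inj h
  · intro a a' h
    exact gen_left_inj h
  · rw [Finset.disjoint_left]
    intro g h1 h2
    rw [Finset.mem_image] at h1 h2
    obtain ⟨a, _, rfl⟩ := h1
    obtain ⟨a', ha', he⟩ := h2
    rw [Finset.mem_insert] at ha'
    rcases (gen_eq_iff _ _ _ _).mp he with ⟨e, _⟩ | ⟨_, e⟩
    · exact zo e.symm
    · rcases ha' with h | h
      · exact zo (e.symm.trans h)
      · exact C.hzM (e ▸ h)

theorem card_Gp : (Gp C).card = C.Mid.card + 2 := by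
  classical
  obtain ⟨zo, oz, zr, rz, zl, lz, or_, ro, ol, lo, rl, lr⟩ := ne_facts C
  unfold Gp
  rw [Finset.card_insert_of_notMem, Finset.card_image_of_injective,
    Finset.card_insert_of_notMem C.hoM]
  · intro a a' h
    exact gen_left_inj h
  · rw [Finset.mem_image]
    rintro ⟨a, _, he⟩
    rcases (gen_eq_iff _ _ _ _).mp he with ⟨e, _⟩ | ⟨e, _⟩
    · exact zo e.symm
    · exact or_ e

theorem card_Vf : (Vf C).card = 4 * C.Mid.card + 8 := by
  classical
  obtain ⟨zo, oz, zr, rz, zl, lz, or_, ro, ol, lo, rl, lr⟩ := ne_facts C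
  unfold Vf
  rw [Finset.card_union_of_disjoint, Finset.card_product, Finset.card_product,
    Finset.card_singleton, Finset.card_pair, card_Gf, card_Gp]
  · omega
  · intro e
    exact lr (gen_left_inj e)
  · rw [Finset.disjoint_left]
    rintro ⟨g, μ⟩ h1 h2
    rw [Finset.mem_product, Finset.mem_singleton] at h1
    rw [Finset.mem_product, Finset.mem_insert, Finset.mem_singleton] at h2
    have hμ : μ = gen C.z C.l := h1.2
    rcases h2.2 with h | h
    · have h3 := DFunLike.congr_fun (hμ.symm.trans h) C.z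
      simp [gen_apply, lz, oz] at h3
    · have h3 := DFunLike.congr_fun (hμ.symm.trans h) C.z
      simp [gen_apply, lz, oz, rz] at h3

theorem card_Df : (Df C).card = 2 * C.Mid.card + 4 := by
  classical
  unfold Df
  rw [Finset.card_product, Finset.card_compl, Finset.card_pair C.hzo, Fintype.card_fin]
  have := card_M C
  omega

theorem finrank_H0 : Module.finrank k ↥(H0 C k) = 6 * C.Mid.card + 12 := by
  rw [H0_eq_W C k]
  unfold W
  rw [finrank_span_eq_card (vfam_indep C k)]
  simp only [Fintype.card_sum, Fintype.card_coe]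
  rw [card_Vf, card_Df]
  omega

end Groth.Agent.Lib.Helper9.B48
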