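import Mathlib
import Groth.Agent.Lib.Helper9.PA3

/-! `Hom(I, S/I)_0` for `I = (x_0, x_1) · (x_0, …, x_{n-1})` has dimension `6n - 4` (helper9). -/

set_option autoImplicit false
universe u
open MvPolynomial W4c1hilbpn
open Groth.Agent.Lib.Helper9.TwoPlanes

namespace Groth.Agent.Lib.Helper9.PA

theorem X_mul_X_eq {M : ℕ} (k : Type u) [Field k] (i j : Fin M) :
    (X i * X j : MvPolynomial (Fin M) k) = monomial (gen i j) 1 := by
  show _ = monomial (Finsupp.single i 1 + Finsupp.single j 1) (1 : k)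
  rw [X, X, monomial_mul, one_mul]

theorem card_Gfin_pair {M : ℕ} (A : Finset (Fin M)) (z o : Fin M) (hzo : z ≠ o) (hz : z ∈ A)
    (ho : o ∈ A) : (Gfin ({z, o} : Finset (Fin M)) A).card = 2 * A.card - 1 := by
  classical
  have hG : Gfin ({z, o} : Finset (Fin M)) A =
      (A.image (fun a => gen z a)) ∪ ((A.erase z).image (fun a => gen o a)) := by
    ext g
    constructor
    · intro hg
      obtain ⟨p, hp, a, ha, rfl⟩ := of_mem_Gfin hg
      rw [Finset.mem_insert, Finset.mem_singleton] at hp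
      rcases hp with rfl | rfl
      · exact Finset.mem_union_left _ (Finset.mem_image.mpr ⟨a, ha, rfl⟩)
      · by_cases haz : a = z
        · subst haz
          exact Finset.mem_union_left _ (Finset.mem_image.mpr ⟨p, ho, gen_comm a p⟩)
        · exact Finset.mem_union_right _
            (Finset.mem_image.mpr ⟨a, Finset.mem_erase.mpr ⟨haz, ha⟩, rfl⟩)
    · intro hg
      rw [Finset.mem_union, Finset.mem_image, Finset.mem_image] at hg
      rcases hg with ⟨a, ha, rfl⟩ | ⟨a, ha, rfl⟩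
      · exact mem_Gfin (by simp) ha
      · exact mem_Gfin (by simp) (Finset.mem_of_mem_erase ha)
  rw [hG, Finset.card_union_of_disjoint, Finset.card_image_of_injective,
    Finset.card_image_of_injective, Finset.card_erase_of_mem hz]
  · have : 1 ≤ A.card := Finset.card_pos.mpr ⟨z, hz⟩
    omega
  · intro a a' h
    exact gen_left_inj h
  · intro a a' h
    exact gen_left_inj h
  · rw [Finset.disjoint_left]
    intro g h1 h2
    rw [Finset.mem_image] at h1 h2
    obtain ⟨a, ha, rfl⟩ := h1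
    obtain ⟨a', ha', he⟩ := h2
    have ha'z : a' ≠ z := (Finset.mem_erase.mp ha').1
    have h3 := DFunLike.congr_fun he z
    rw [gen_apply, gen_apply] at h3
    have n1 : ¬ o = z := fun e => hzo e.symm
    simp only [↓reduceIte, if_neg n1, if_neg ha'z] at h3
    omega

theorem main13449 (k : Type u) [Field k] (n : ℕ) (hn : 3 ≤ n) :
    Module.finrank k ↥(⨆ α : {α : Fin (n + 1) → ℤ // ∑ i, α i = 0}, tPiece (Ideal.span ({f : MvPolynomial (Fin (n + 1)) k | ∃ i : Fin (n + 1), i.val + 1 ≤ n ∧ f = MvPolynomial.X 0 * MvPolynomial.X i} ∪ {f : MvPolynomial (Fin (n + 1)) k | ∃ i : Fin (n + 1), 1 ≤ i.val ∧ i.val ≤ n - 1 ∧ f = MvPolynomial.X 1 * MvPolynomial.X i})) α.1) = 6 * n - 4 := by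
  classical
  have h0v : ((0 : Fin (n + 1)) : ℕ) = 0 := rfl
  have h1v : ((1 : Fin (n + 1)) : ℕ) = 1 := by
    rw [Fin.val_one']
    exact Nat.mod_eq_of_lt (by omega)
  have h01 : (0 : Fin (n + 1)) ≠ 1 := by
    intro e
    have := congrArg Fin.val e
    rw [h0v, h1v] at this
    omega
  set P : Finset (Fin (n + 1)) := {0, 1} with hP
  set A : Finset (Fin (n + 1)) := Finset.univ.filter (fun i => i.val + 1 ≤ n) with hA
  have memA : ∀ i : Fin (n + 1), i ∈ A ↔ i.val + 1 ≤ n := fun i => by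
    rw [hA, Finset.mem_filter]; simp
  have h0A : (0 : Fin (n + 1)) ∈ A := (memA 0).mpr (by rw [h0v]; omega)
  have h1A : (1 : Fin (n + 1)) ∈ A := (memA 1).mpr (by rw [h1v]; omega)
  have h0P : (0 : Fin (n + 1)) ∈ P := by rw [hP]; simp
  have h1P : (1 : Fin (n + 1)) ∈ P := by rw [hP]; simp
  have hPA : P ⊆ A := by
    intro x hx
    rw [hP, Finset.mem_insert, Finset.mem_singleton] at hx
    rcases hx with rfl | rfl
    · exact h0A
    · exact h1A
  have hset : ({f : MvPolynomial (Fin (n + 1)) k | ∃ i : Fin (n + 1), i.val + 1 ≤ n ∧ f = MvPolynomial.X 0 * MvPolynomial.X i} ∪ {f : MvPolynomial (Fin (n + 1)) k | ∃ i : Fin (n + 1), 1 ≤ i.val ∧ i.val ≤ n - 1 ∧ f = MvPolynomial.X 1 * MvPolynomial.X i}) = (fun s => monomial s (1 : k)) '' gset P A := by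
    ext f
    constructor
    · rintro (⟨i, hi, rfl⟩ | ⟨i, hi1, hi2, rfl⟩)
      · exact ⟨gen 0 i, ⟨0, h0P, i, (memA i).mpr hi, rfl⟩, (X_mul_X_eq k 0 i).symm⟩
      · exact ⟨gen 1 i, ⟨1, h1P, i, (memA i).mpr (by omega), rfl⟩, (X_mul_X_eq k 1 i).symm⟩
    · rintro ⟨s, ⟨p, hp, a, ha, rfl⟩, rfl⟩
      rw [hP, Finset.mem_insert, Finset.mem_singleton] at hp
      have ha' := (memA a).mp ha
      rcases hp with rfl | rfl
      · exact Or.inl ⟨a, ha', (X_mul_X_eq k 0 a).symm⟩
      · by_cases ha0 : a.val = 0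
        · have : a = 0 := Fin.ext (by rw [ha0, h0v])
          subst this
          refine Or.inl ⟨1, by rw [h1v]; omega, ?_⟩
          show monomial (gen 1 0) (1 : k) = X 0 * X 1
          rw [gen_comm, X_mul_X_eq]
        · exact Or.inr ⟨a, by omega, by omega, (X_mul_X_eq k 1 a).symm⟩
  have hI : Ideal.span ({f : MvPolynomial (Fin (n + 1)) k | ∃ i : Fin (n + 1), i.val + 1 ≤ n ∧ f = MvPolynomial.X 0 * MvPolynomial.X i} ∪ {f : MvPolynomial (Fin (n + 1)) k | ∃ i : Fin (n + 1), 1 ≤ i.val ∧ i.val ≤ n - 1 ∧ f = MvPolynomial.X 1 * MvPolynomial.X i}) = Iq k P A := by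
    unfold Iq; rw [hset]
  rw [hI]
  have hPcard : P.card = 2 := by rw [hP]; exact Finset.card_pair h01
  have hAcard : A.card = n := by
    have e : A = Finset.univ.filter (fun i : Fin (n + 1) => (i : ℕ) < n) :=
      Finset.filter_congr (fun i _ => Nat.succ_le_iff)
    rw [e, Fin.card_filter_val_lt]
    exact Nat.min_eq_right (by omega)
  have hMid : ∃ m₀ ∈ A, m₀ ∉ P := by
    refine ⟨⟨2, by omega⟩, (memA _).mpr (by simp; omega), ?_⟩
    rw [hP, Finset.mem_insert, Finset.mem_singleton]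
    rintro (e | e)
    · have := congrArg Fin.val e
      rw [h0v] at this
      simp at this
    · have := congrArg Fin.val e
      rw [h1v] at this
      simp at this
  have hmain := finrank_H0 k hPA hMid
  unfold H0 at hmain
  rw [hmain, card_Gfin_pair A 0 1 h01 h0A h1A, Finset.card_compl, Finset.card_compl, hPcard, hAcard,
    Fintype.card_fin]
  have e1 : n + 1 - n = 1 := by omega
  rw [e1]
  omega

end Groth.Agent.Lib.Helper9.PA
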