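import Mathlib
import Groth.Agent.Lib.Helper9.B48d
import Groth.Agent.Lib.Helper9.PA4

/-! `Hom(I, S/I)_0` for `I = x_0 (x_0, …, x_{n-1}) + x_1 (x_1, …, x_{n-2})` has dimension `6n - 6`
(helper9). -/

set_option autoImplicit false
universe u
open MvPolynomial W4c1hilbpn
open Groth.Agent.Lib.Helper9.TwoPlanes (gen gen_apply gen_comm)
open Groth.Agent.Lib.Helper9.PA
open Groth.Agent.Lib.Helper9.QFrame

namespace Groth.Agent.Lib.Helper9.B48

theorem main13448 (k : Type u) [Field k] (n : ℕ) (hn : 4 ≤ n) :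
    Module.finrank k ↥(⨆ α : {α : Fin (n + 1) → ℤ // ∑ i, α i = 0}, tPiece (Ideal.span ({f : MvPolynomial (Fin (n + 1)) k | ∃ i : Fin (n + 1), i.val + 1 ≤ n ∧ f = MvPolynomial.X 0 * MvPolynomial.X i} ∪ {f : MvPolynomial (Fin (n + 1)) k | ∃ i : Fin (n + 1), 1 ≤ i.val ∧ i.val ≤ n - 2 ∧ f = MvPolynomial.X 1 * MvPolynomial.X i})) α.1) = 6 * n - 6 := by
  classical
  have h0v : ((0 : Fin (n + 1)) : ℕ) = 0 := rfl
  have h1v : ((1 : Fin (n + 1)) : ℕ) = 1 := by
    rw [Fin.val_one']
    exact Nat.mod_eq_of_lt (by omega)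
  set Mid : Finset (Fin (n + 1)) :=
    Finset.univ.filter (fun i => 2 ≤ i.val ∧ i.val ≤ n - 2) with hMidDef
  have memMid : ∀ i : Fin (n + 1), i ∈ Mid ↔ 2 ≤ i.val ∧ i.val ≤ n - 2 := fun i => by
    rw [hMidDef, Finset.mem_filter]; simp
  have hr : n - 1 < n + 1 := by omega
  have hl : n < n + 1 := by omega
  let C : Cfg (n + 1) :=
    { z := 0
      o := 1
      r := ⟨n - 1, hr⟩
      l := ⟨n, hl⟩
      Mid := Mid
      hzo := by
        intro e
        have := congrArg Fin.val e
        rw [h0v, h1v] at this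
        omega
      hzr := by
        intro e
        have := congrArg Fin.val e
        rw [h0v] at this
        simp only at this
        omega
      hzl := by
        intro e
        have := congrArg Fin.val e
        rw [h0v] at this
        simp only at this
        omega
      hor := by
        intro e
        have := congrArg Fin.val e
        rw [h1v] at this
        simp only at this
        omega
      hol := by
        intro e
        have := congrArg Fin.val e
        rw [h1v] at this
        simp only at this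
        omega
      hrl := by
        intro e
        have := congrArg Fin.val e
        simp only at this
        omega
      hzM := by
        rw [memMid, h0v]
        omega
      hoM := by
        rw [memMid, h1v]
        omega
      hrM := by
        rw [memMid]
        simp only
        omega
      hlM := by
        rw [memMid]
        simp only
        omega
      hcover := by
        intro x
        have hx := x.isLt
        by_cases c0 : x.val = 0
        · exact Or.inl (Fin.ext (by rw [c0, h0v]))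
        by_cases c1 : x.val = 1
        · exact Or.inr (Or.inl (Fin.ext (by rw [c1, h1v])))
        by_cases c2 : x.val = n - 1
        · exact Or.inr (Or.inr (Or.inr (Or.inl (Fin.ext c2))))
        by_cases c3 : x.val = n
        · exact Or.inr (Or.inr (Or.inr (Or.inr (Fin.ext c3))))
        · exact Or.inr (Or.inr (Or.inl ((memMid x).mpr (by omega))))
      hMid := ⟨⟨2, by omega⟩, (memMid _).mpr (by simp only; omega)⟩ }
  have hCz : C.z = 0 := rfl
  have hCo : C.o = 1 := rfl
  have hCl : C.l = ⟨n, hl⟩ := rfl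
  have hCM : C.Mid = Mid := rfl
  have ne_l : ∀ i : Fin (n + 1), i ≠ C.l ↔ i.val + 1 ≤ n := by
    intro i
    have hi := i.isLt
    rw [hCl]
    constructor
    · intro h
      by_contra hc
      exact h (Fin.ext (by simp only; omega))
    · intro h e
      have := congrArg Fin.val e
      simp only at this
      omega
  have inA : ∀ i : Fin (n + 1), inA1 C i ↔ 1 ≤ i.val ∧ i.val ≤ n - 2 := by
    intro i
    unfold inA1
    rw [hCo, hCM, memMid]
    constructor
    · rintro (rfl | h)
      · rw [h1v]; omega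
      · omega
    · rintro ⟨h1, h2⟩
      by_cases c : i.val = 1
      · exact Or.inl (Fin.ext (by rw [c, h1v]))
      · exact Or.inr ⟨by omega, h2⟩
  have hset : ({f : MvPolynomial (Fin (n + 1)) k | ∃ i : Fin (n + 1), i.val + 1 ≤ n ∧ f = MvPolynomial.X 0 * MvPolynomial.X i} ∪ {f : MvPolynomial (Fin (n + 1)) k | ∃ i : Fin (n + 1), 1 ≤ i.val ∧ i.val ≤ n - 2 ∧ f = MvPolynomial.X 1 * MvPolynomial.X i}) = (fun s => monomial s (1 : k)) '' (↑(Gf C) : Set (Fin (n + 1) →₀ ℕ)) := by
    ext f
    constructor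
    · rintro (⟨i, hi, rfl⟩ | ⟨i, hi1, hi2, rfl⟩)
      · exact ⟨gen 0 i, Finset.mem_coe.mpr ((mem_Gf C _).mpr (Or.inl ⟨i, (ne_l i).mpr hi, rfl⟩)),
          (X_mul_X_eq k 0 i).symm⟩
      · exact ⟨gen 1 i, Finset.mem_coe.mpr
          ((mem_Gf C _).mpr (Or.inr ⟨i, (inA i).mpr ⟨hi1, hi2⟩, rfl⟩)),
          (X_mul_X_eq k 1 i).symm⟩
    · rintro ⟨s, hs, rfl⟩
      rcases (mem_Gf C s).mp (Finset.mem_coe.mp hs) with ⟨a, ha, rfl⟩ | ⟨a, ha, rfl⟩
      · exact Or.inl ⟨a, (ne_l a).mp ha, (X_mul_X_eq k 0 a).symm⟩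
      · obtain ⟨h1, h2⟩ := (inA a).mp ha
        exact Or.inr ⟨a, h1, h2, (X_mul_X_eq k 1 a).symm⟩
  have hI : Ideal.span ({f : MvPolynomial (Fin (n + 1)) k | ∃ i : Fin (n + 1), i.val + 1 ≤ n ∧ f = MvPolynomial.X 0 * MvPolynomial.X i} ∪ {f : MvPolynomial (Fin (n + 1)) k | ∃ i : Fin (n + 1), 1 ≤ i.val ∧ i.val ≤ n - 2 ∧ f = MvPolynomial.X 1 * MvPolynomial.X i}) = I48 C k := by
    show _ = Ig k _
    unfold Ig; rw [hset]
  rw [hI]
  have hmain := finrank_H0 C k
  unfold H0 at hmain
  rw [hmain]
  have hc := card_M C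
  omega

end Groth.Agent.Lib.Helper9.B48
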