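import Groth.Agent.Lib.Helper9.BEMinor
import Groth.Agent.S18128
import Groth.Agent.Lib.Helper4.Depth
import Groth.Agent.Lib.Helper28.Reflexive

/-!
# Buchsbaum–Eisenbud: complexes of matrices, localization, acyclicity lemma (helper9)
Complexes are indexed from the left end: `ψ k : R^(ι k) → R^(ι (k+1))`.
-/

set_option autoImplicit false
universe u
open CAlgX Matrix

namespace Groth.Agent.Lib.Helper9.BE
open IsLocalRing RingTheory.Sequence

section defs
variable {R : Type u} [CommRing R] (ι : ℕ → Type) [∀ k, Fintype (ι k)]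

/-- `ψ (k+1) ∘ ψ k = 0` for the first `e` maps -/
def IsCx (e : ℕ) (ψ : ∀ k, Matrix (ι (k + 1)) (ι k) R) : Prop :=
  ∀ k, k + 2 ≤ e → ψ (k + 1) * ψ k = 0

/-- exactness of `0 → R^(ι 0) → ⋯ → R^(ι e)` except at the right end -/
def IsEx (e : ℕ) (ψ : ∀ k, Matrix (ι (k + 1)) (ι k) R) : Prop :=
  (1 ≤ e → LinearMap.ker (ψ 0).mulVecLin = ⊥) ∧
    ∀ k, k + 2 ≤ e → LinearMap.ker (ψ (k + 1)).mulVecLin = LinearMap.range (ψ k).mulVecLin

/-- expected ranks -/
def rho : ℕ → ℤ
  | 0 => Fintype.card (ι 0)
  | (k + 1) => Fintype.card (ι (k + 1)) - rho k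

def RankCond (e : ℕ) (ψ : ∀ k, Matrix (ι (k + 1)) (ι k) R) : Prop :=
  ∀ k, k < e → (matrixRank (ψ k) : ℤ) = rho ι k

def GradeCond (e : ℕ) (ψ : ∀ k, Matrix (ι (k + 1)) (ι k) R) : Prop :=
  ∀ k, k < e → detIdeal (ψ k) = ⊤ ∨ ∃ rs : List R, rs.length = e - k ∧
    (∀ r ∈ rs, r ∈ detIdeal (ψ k)) ∧ IsRegular R rs

/-- base change of a complex of matrices -/
def mapCx {S : Type u} [CommRing S] (φ : R →+* S) (ψ : ∀ k, Matrix (ι (k + 1)) (ι k) R) :
    ∀ k, Matrix (ι (k + 1)) (ι k) S := fun k => (ψ k).map φ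

theorem isCx_map {S : Type u} [CommRing S] (φ : R →+* S) (e : ℕ)
    (ψ : ∀ k, Matrix (ι (k + 1)) (ι k) R) (h : IsCx ι e ψ) : IsCx ι e (mapCx ι φ ψ) := by
  intro k hk
  show (ψ (k + 1)).map φ * (ψ k).map φ = 0
  rw [← Matrix.map_mul, h k hk]
  ext i j
  simp

end defs

section loc
variable {R : Type u} [CommRing R]

/-- componentwise equality in a localization gives a common multiplier -/
theorem exists_smul_eq (p : Ideal R) [p.IsPrime] {b : Type} [Finite b] (v v' : b → R)
    (h : ∀ k, algebraMap R (Localization.AtPrime p) (v k) =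
      algebraMap R (Localization.AtPrime p) (v' k)) :
    ∃ s : R, s ∉ p ∧ s • v = s • v' := by
  classical
  cases nonempty_fintype b
  choose u hu using fun k =>
    (IsLocalization.eq_iff_exists p.primeCompl (Localization.AtPrime p)).mp (h k)
  refine ⟨∏ k, (u k : R), ?_, ?_⟩
  · have h1 : (∏ k, (u k : R)) ∈ p.primeCompl := prod_mem (fun k _ => (u k).2)
    exact h1
  · funext k
    rw [Pi.smul_apply, Pi.smul_apply, smul_eq_mul, smul_eq_mul,
      ← Finset.mul_prod_erase Finset.univ (fun k => (u k : R)) (Finset.mem_univ k)]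
    rw [mul_comm ((u k : R)) _, mul_assoc, mul_assoc, hu k]

theorem loc_inj (p : Ideal R) [p.IsPrime] {a b : Type} [Fintype a] [Fintype b]
    (M : Matrix a b R)
    (hker : LinearMap.ker (M.map (algebraMap R (Localization.AtPrime p))).mulVecLin = ⊥)
    (z : b → R) (hz : M.mulVecLin z = 0) : ∃ s : R, s ∉ p ∧ s • z = 0 := by
  have hz' : M *ᵥ z = 0 := by rwa [Matrix.mulVecLin_apply] at hz
  have h1 : algebraMap R (Localization.AtPrime p) ∘ z ∈
      LinearMap.ker (M.map (algebraMap R (Localization.AtPrime p))).mulVecLin := by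
    rw [LinearMap.mem_ker]
    funext i
    rw [Matrix.mulVecLin_apply, ← RingHom.map_mulVec, hz']
    simp
  rw [hker, Submodule.mem_bot] at h1
  obtain ⟨s, hs, hsz⟩ := exists_smul_eq p z 0 (fun k => by
    have h2 := congrFun h1 k
    simpa using h2)
  exact ⟨s, hs, by rw [hsz, smul_zero]⟩

theorem loc_mem (p : Ideal R) [p.IsPrime] {a b c : Type} [Fintype a] [Fintype b] [Fintype c]
    (M : Matrix a b R) (N : Matrix b c R)
    (hex : LinearMap.ker (M.map (algebraMap R (Localization.AtPrime p))).mulVecLin =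
      LinearMap.range (N.map (algebraMap R (Localization.AtPrime p))).mulVecLin)
    (z : b → R) (hz : M.mulVecLin z = 0) :
    ∃ s : R, s ∉ p ∧ s • z ∈ LinearMap.range N.mulVecLin := by
  have hz' : M *ᵥ z = 0 := by rwa [Matrix.mulVecLin_apply] at hz
  have h1 : algebraMap R (Localization.AtPrime p) ∘ z ∈
      LinearMap.ker (M.map (algebraMap R (Localization.AtPrime p))).mulVecLin := by
    rw [LinearMap.mem_ker]
    funext i
    rw [Matrix.mulVecLin_apply, ← RingHom.map_mulVec, hz']
    simp
  rw [hex] at h1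
  obtain ⟨w', hw'⟩ := h1
  obtain ⟨t, ht⟩ := IsLocalization.exist_integer_multiples_of_finite p.primeCompl w'
  choose w hw using ht
  obtain ⟨s, hs, hsv⟩ := exists_smul_eq p (N *ᵥ w) ((t : R) • z) (fun k => by
    rw [RingHom.map_mulVec]
    have h3 : (algebraMap R (Localization.AtPrime p)) ∘ w = (t : R) • w' := by
      funext i
      exact hw i
    rw [h3, Matrix.mulVec_smul, Pi.smul_apply, ← Matrix.mulVecLin_apply, hw']
    simp [Algebra.smul_def])
  refine ⟨s * (t : R), ?_, ?_⟩
  · exact p.primeCompl.mul_mem (show s ∈ p.primeCompl from hs) t.2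
  · refine ⟨s • w, ?_⟩
    rw [Matrix.mulVecLin_apply, Matrix.mulVec_smul, hsv, mul_smul]

/-- an element lies in a submodule if it does so locally at all maximal ideals -/
theorem mem_of_forall_maximal {F : Type*} [AddCommGroup F] [Module R F] (B : Submodule R F)
    (z : F) (h : ∀ p : Ideal R, p.IsMaximal → ∃ s : R, s ∉ p ∧ s • z ∈ B) : z ∈ B := by
  by_contra hz
  have hne : B.colon {z} ≠ ⊤ := by
    intro htop
    have h1 : (1 : R) ∈ B.colon {z} := htop ▸ Submodule.mem_top
    rw [Submodule.mem_colon_singleton, one_smul] at h1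
    exact hz h1
  obtain ⟨p, hp, hle⟩ := Ideal.exists_le_maximal _ hne
  obtain ⟨s, hs, hsz⟩ := h p hp
  exact hs (hle (Submodule.mem_colon_singleton.mpr hsz))

end loc

section lg
variable {R : Type u} [CommRing R] (ι : ℕ → Type) [∀ k, Fintype (ι k)]

theorem isEx_of_localization (e : ℕ) (ψ : ∀ k, Matrix (ι (k + 1)) (ι k) R) (hcx : IsCx ι e ψ)
    (h : ∀ (p : Ideal R) [p.IsMaximal],
      IsEx ι e (mapCx ι (algebraMap R (Localization.AtPrime p)) ψ)) : IsEx ι e ψ := by
  refine ⟨fun he => ?_, fun k hk => ?_⟩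
  · rw [eq_bot_iff]
    intro z hz
    apply mem_of_forall_maximal
    intro p hp
    have := hp
    obtain ⟨s, hs, hsz⟩ := loc_inj p (ψ 0) ((h p).1 he) z (LinearMap.mem_ker.mp hz)
    exact ⟨s, hs, (Submodule.mem_bot R).mpr hsz⟩
  · apply le_antisymm
    · intro z hz
      apply mem_of_forall_maximal
      intro p hp
      have := hp
      exact loc_mem p (ψ (k + 1)) (ψ k) ((h p).2 k hk) z (LinearMap.mem_ker.mp hz)
    · rw [LinearMap.range_le_ker_iff, ← Matrix.mulVecLin_mul, hcx k hk]
      simp

end lg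

section transfer
variable {R : Type u} [CommRing R]

lemma matrixRank_map_eq {S : Type u} [CommRing S] (φ : R →+* S) {m n : Type} [Fintype m]
    [Fintype n] (A : Matrix m n R) (h : (detIdeal A).map φ ≠ ⊥) :
    matrixRank (A.map φ) = matrixRank A := by
  apply matrixRank_eq_of
  · rw [minorIdeal_map]
    exact h
  · intro s hs
    rw [minorIdeal_map, minorIdeal_eq_bot_of_matrixRank_lt A s hs, Ideal.map_bot]

lemma detIdeal_map_eq {S : Type u} [CommRing S] (φ : R →+* S) {m n : Type} [Fintype m]
    [Fintype n] (A : Matrix m n R) (h : (detIdeal A).map φ ≠ ⊥) :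
    detIdeal (A.map φ) = (detIdeal A).map φ := by
  unfold detIdeal
  rw [matrixRank_map_eq φ A h, minorIdeal_map]

lemma map_ne_bot_of_regular (p : Ideal R) [p.IsPrime] (I : Ideal R) (x : R) (hx : x ∈ I)
    (hreg : IsSMulRegular R x) : I.map (algebraMap R (Localization.AtPrime p)) ≠ ⊥ := by
  intro h
  have h1 : algebraMap R (Localization.AtPrime p) x ∈
      I.map (algebraMap R (Localization.AtPrime p)) := Ideal.mem_map_of_mem _ hx
  rw [h, Ideal.mem_bot, IsLocalization.map_eq_zero_iff p.primeCompl] at h1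
  obtain ⟨s, hs⟩ := h1
  have h2 : (s : R) = 0 := by
    apply hreg
    show x • (s : R) = x • 0
    rw [smul_zero, smul_eq_mul, mul_comm]
    exact hs
  exact s.2 (h2 ▸ p.zero_mem)

theorem grade_localization (p : Ideal R) [p.IsPrime] {m n : Type} [Fintype m] [Fintype n]
    (A : Matrix m n R) (j : ℕ) (hj : 1 ≤ j)
    (hg : detIdeal A = ⊤ ∨ ∃ rs : List R, rs.length = j ∧
      (∀ r ∈ rs, r ∈ detIdeal A) ∧ IsRegular R rs) :
    matrixRank (A.map (algebraMap R (Localization.AtPrime p))) = matrixRank A ∧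
      (detIdeal (A.map (algebraMap R (Localization.AtPrime p))) = ⊤ ∨
        ∃ rs : List (Localization.AtPrime p), rs.length = j ∧
          (∀ r ∈ rs, r ∈ detIdeal (A.map (algebraMap R (Localization.AtPrime p)))) ∧
          IsRegular (Localization.AtPrime p) rs) := by
  have key : (detIdeal A).map (algebraMap R (Localization.AtPrime p)) ≠ ⊥ := by
    rcases hg with htop | ⟨rs, hlen, hmem, hreg⟩
    · rw [htop, Ideal.map_top]
      exact top_ne_bot
    · cases rs with
      | nil => simp at hlen; omega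
      | cons x rs' =>
        have h1 := hreg.toIsWeaklyRegular
        rw [isWeaklyRegular_cons_iff] at h1
        exact map_ne_bot_of_regular p _ x (hmem x (by simp)) h1.1
  refine ⟨matrixRank_map_eq _ _ key, ?_⟩
  rw [detIdeal_map_eq _ _ key]
  rcases hg with htop | ⟨rs, hlen, hmem, hreg⟩
  · left
    rw [htop, Ideal.map_top]
  · by_cases hle : detIdeal A ≤ p
    · right
      refine ⟨rs.map (algebraMap R (Localization.AtPrime p)), by rw [List.length_map, hlen],
        ?_, ?_⟩
      · intro r hr'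
        obtain ⟨r0, hr0, rfl⟩ := List.mem_map.mp hr'
        exact Ideal.mem_map_of_mem _ (hmem r0 hr0)
      · have hne : maximalIdeal (Localization.AtPrime p) •
            (⊤ : Submodule (Localization.AtPrime p) (Localization.AtPrime p)) ≠ ⊤ :=
          Groth.Agent.Lib.Helper4.maximalIdeal_smul_top_ne_top
        have hw : IsWeaklyRegular (Localization.AtPrime p)
            (rs.map (algebraMap R (Localization.AtPrime p))) :=
          IsWeaklyRegular.of_isLocalization (Localization.AtPrime p) p.primeCompl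
            hreg.toIsWeaklyRegular
        refine Groth.Agent.Lib.Helper4.isRegular_of_isWeaklyRegular_of_mem
          (maximalIdeal (Localization.AtPrime p)) hne hw ?_
        intro r hr'
        obtain ⟨r0, hr0, rfl⟩ := List.mem_map.mp hr'
        rw [IsLocalization.AtPrime.to_map_mem_maximal_iff (Localization.AtPrime p) p]
        exact hle (hmem r0 hr0)
    · left
      obtain ⟨s, hs, hsp⟩ := SetLike.not_le_iff_exists.mp hle
      apply Ideal.eq_top_of_isUnit_mem _ (Ideal.mem_map_of_mem _ hs)
      exact IsLocalization.map_units (Localization.AtPrime p) (⟨s, hsp⟩ : p.primeCompl)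

variable (ι : ℕ → Type) [∀ k, Fintype (ι k)]

theorem rank_grade_localization (p : Ideal R) [p.IsPrime] (e : ℕ)
    (ψ : ∀ k, Matrix (ι (k + 1)) (ι k) R) (hr : RankCond ι e ψ) (hg : GradeCond ι e ψ) :
    RankCond ι e (mapCx ι (algebraMap R (Localization.AtPrime p)) ψ) ∧
      GradeCond ι e (mapCx ι (algebraMap R (Localization.AtPrime p)) ψ) := by
  refine ⟨fun k hk => ?_, fun k hk => ?_⟩
  · have h1 := (grade_localization p (ψ k) (e - k) (by omega) (hg k hk)).1
    show (matrixRank ((ψ k).map _) : ℤ) = _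
    rw [h1]
    exact hr k hk
  · exact (grade_localization p (ψ k) (e - k) (by omega) (hg k hk)).2

end transfer

section acyc
variable {R : Type u} [CommRing R] (ι : ℕ → Type) [∀ k, Fintype (ι k)]

theorem acyc_main [IsLocalRing R] [IsNoetherianRing R] (e : ℕ)
    (ψ : ∀ k, Matrix (ι (k + 1)) (ι k) R) (hcx : IsCx ι e ψ)
    (rs : List R) (hlen : rs.length = e) (hmem : ∀ x ∈ rs, x ∈ maximalIdeal R)
    (hreg : IsRegular R rs)
    (hloc : ∀ (p : Ideal R) [p.IsPrime], p ≠ maximalIdeal R →
      IsEx ι e (mapCx ι (algebraMap R (Localization.AtPrime p)) ψ)) :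
    IsEx ι e ψ := by
  classical
  rcases Nat.eq_zero_or_pos e with he0 | hepos
  · subst he0
    exact ⟨fun h => absurd h (by omega), fun k hk => absurd hk (by omega)⟩
  have hdR : (e : ℕ∞) ≤ LocCoh.idealDepth (maximalIdeal R) R := by
    rw [← hlen]
    exact Groth.Agent.Lib.Helper4.length_le_idealDepth _ rs hreg.toIsWeaklyRegular hmem
  have hdF : ∀ k : ℕ, (e : ℕ∞) ≤ LocCoh.idealDepth (maximalIdeal R) (ι k → R) := fun k =>
    le_trans hdR (Groth.Agent.Lib.Helper28.le_idealDepth_of_free _ _)
  obtain ⟨x, hxm, hxreg⟩ : ∃ x ∈ maximalIdeal R, IsSMulRegular R x := by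
    cases rs with
    | nil =>
      simp at hlen
      omega
    | cons x rs' =>
      have h1 := hreg.toIsWeaklyRegular
      rw [isWeaklyRegular_cons_iff] at h1
      exact ⟨x, hmem x (by simp), h1.1⟩
  have hxF : ∀ k : ℕ, IsSMulRegular (ι k → R) x := by
    intro k v v' hvv'
    funext j
    exact hxreg (congrFun hvv' j)
  have hker0 : LinearMap.ker (ψ 0).mulVecLin = ⊥ := by
    rw [eq_bot_iff]
    apply Groth.Agent.S18128.H18128.acyc_step ⊥ _ x hxm (hxF _)
    · have htop : maximalIdeal R •
          (⊤ : Submodule R (⊥ : Submodule R (ι 0 → R))) = ⊤ := by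
        rw [eq_top_iff]
        intro y _
        have hy : y = 0 := Subsingleton.elim _ _
        rw [hy]
        exact Submodule.zero_mem _
      rw [Groth.Agent.Lib.Helper4.idealDepth_of_smul_top_eq _ htop]
      exact le_top
    · intro p hp hpm z hz
      have := hp
      have h1 := (hloc p hpm).1 hepos
      obtain ⟨s, hs, hsz⟩ := loc_inj p (ψ 0) h1 z (LinearMap.mem_ker.mp hz)
      exact ⟨s, hs, (Submodule.mem_bot R).mpr hsz⟩
  have key : ∀ k, k < e →
      ((e - k : ℕ) : ℕ∞) ≤ LocCoh.idealDepth (maximalIdeal R)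
        (LinearMap.range (ψ k).mulVecLin) ∧
      (∀ k', k = k' + 1 →
        LinearMap.ker (ψ (k' + 1)).mulVecLin = LinearMap.range (ψ k').mulVecLin) := by
    intro k
    induction k with
    | zero =>
      intro _
      refine ⟨?_, fun k' hk' => absurd hk' (by omega)⟩
      have hinj : Function.Injective (ψ 0).mulVecLin := LinearMap.ker_eq_bot.mp hker0
      rw [← Groth.Agent.Lib.Helper4.idealDepth_congr (maximalIdeal R)
        (LinearEquiv.ofInjective (ψ 0).mulVecLin hinj)]
      exact hdF 0
    | succ k ih =>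
      intro hk
      obtain ⟨hd1, -⟩ := ih (by omega)
      have hBZ : LinearMap.range (ψ k).mulVecLin ≤ LinearMap.ker (ψ (k + 1)).mulVecLin := by
        rw [LinearMap.range_le_ker_iff, ← Matrix.mulVecLin_mul, hcx k (by omega)]
        simp
      have hZB : LinearMap.ker (ψ (k + 1)).mulVecLin ≤ LinearMap.range (ψ k).mulVecLin := by
        apply Groth.Agent.S18128.H18128.acyc_step _ _ x hxm (hxF _)
        · refine le_trans ?_ hd1
          exact_mod_cast (by omega : 2 ≤ e - k)
        · intro p hp hpm z hz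
          have := hp
          have h1 := (hloc p hpm).2 k (by omega)
          exact loc_mem p (ψ (k + 1)) (ψ k) h1 z (LinearMap.mem_ker.mp hz)
      have hex : LinearMap.ker (ψ (k + 1)).mulVecLin = LinearMap.range (ψ k).mulVecLin :=
        le_antisymm hZB hBZ
      refine ⟨?_, fun k' hk' => ?_⟩
      · have hexact : Function.Exact (LinearMap.range (ψ k).mulVecLin).subtype
            (ψ (k + 1)).mulVecLin.rangeRestrict := by
          rw [LinearMap.exact_iff, LinearMap.ker_rangeRestrict, Submodule.range_subtype]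
          exact hex
        have hses := Groth.Agent.Lib.Helper4.idealDepth_shortExact (maximalIdeal R)
          (LinearMap.range (ψ k).mulVecLin).subtype (ψ (k + 1)).mulVecLin.rangeRestrict
          (Submodule.subtype_injective _) (LinearMap.surjective_rangeRestrict _) hexact
        refine le_trans (le_min ?_ ?_) hses.2.1
        · exact le_trans (by exact_mod_cast (by omega : e - (k + 1) ≤ e)) (hdF (k + 1))
        · apply Groth.Agent.S18128.H18128.sub_one_le
          refine le_trans ?_ hd1
          exact_mod_cast (by omega : e - (k + 1) + 1 ≤ e - k)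
      · obtain rfl : k' = k := by omega
        exact hex
  refine ⟨fun _ => hker0, fun k hk => ?_⟩
  exact (key (k + 1) (by omega)).2 k rfl

end acyc

end Groth.Agent.Lib.Helper9.BE
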