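import Groth.Prelude.Def_CAlgX
import Mathlib
import Groth.Agent.Lib.Helper27.CauchyBinet

/-!
# Minor ideals of matrices with arbitrary finite index types (helper9)
Basic lemmas on `CAlgX.minorIdeal`, `CAlgX.matrixRank`, `CAlgX.detIdeal`, used for the
Buchsbaum–Eisenbud exactness criterion.
-/

set_option autoImplicit false
universe u
open CAlgX Matrix

namespace Groth.Agent.Lib.Helper9.BE

section minors
variable {R : Type u} [CommRing R] {m n m' n' : Type} [Fintype m] [Fintype n] [Fintype m']
  [Fintype n']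

lemma det_submatrix_mem (A : Matrix m n R) {r : ℕ} (f : Fin r → m) (g : Fin r → n) :
    (A.submatrix f g).det ∈ minorIdeal A r := Ideal.subset_span ⟨(f, g), rfl⟩

lemma minorIdeal_le_iff (A : Matrix m n R) (r : ℕ) (I : Ideal R) :
    minorIdeal A r ≤ I ↔ ∀ (f : Fin r → m) (g : Fin r → n), (A.submatrix f g).det ∈ I := by
  unfold minorIdeal
  rw [Ideal.span_le]
  constructor
  · intro h f g; exact h ⟨(f, g), rfl⟩
  · rintro h _ ⟨⟨f, g⟩, rfl⟩; exact h f g

lemma minorIdeal_submatrix_le (A : Matrix m n R) (f : m' → m) (g : n' → n) (r : ℕ) :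
    minorIdeal (A.submatrix f g) r ≤ minorIdeal A r := by
  rw [minorIdeal_le_iff]
  intro f' g'
  rw [Matrix.submatrix_submatrix]
  exact det_submatrix_mem A _ _

lemma minorIdeal_zero (A : Matrix m n R) : minorIdeal A 0 = ⊤ := by
  rw [Ideal.eq_top_iff_one]
  apply Ideal.subset_span
  refine ⟨(Fin.elim0, Fin.elim0), ?_⟩
  simp

lemma minorIdeal_eq_bot_of_card_lt (A : Matrix m n R) {r : ℕ} (h : Fintype.card m < r) :
    minorIdeal A r = ⊥ := by
  rw [eq_bot_iff, minorIdeal_le_iff]
  intro f g
  have hf : ¬ Function.Injective f := by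
    intro hf
    have := Fintype.card_le_of_injective f hf
    simp at this
    omega
  rw [Function.Injective] at hf
  push Not at hf
  obtain ⟨i, j, hij, hne⟩ := hf
  rw [Ideal.mem_bot]
  exact Matrix.det_zero_of_row_eq hne (by ext k; simp [hij])

lemma minorIdeal_eq_bot_of_card_lt' (A : Matrix m n R) {r : ℕ} (h : Fintype.card n < r) :
    minorIdeal A r = ⊥ := by
  rw [eq_bot_iff, minorIdeal_le_iff]
  intro f g
  have hg : ¬ Function.Injective g := by
    intro hg
    have := Fintype.card_le_of_injective g hg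
    simp at this
    omega
  rw [Function.Injective] at hg
  push Not at hg
  obtain ⟨i, j, hij, hne⟩ := hg
  rw [Ideal.mem_bot]
  exact Matrix.det_zero_of_column_eq hne (fun k => by simp [hij])

lemma minorIdeal_map {S : Type u} [CommRing S] (φ : R →+* S) (A : Matrix m n R) (r : ℕ) :
    minorIdeal (A.map φ) r = (minorIdeal A r).map φ := by
  apply le_antisymm
  · rw [minorIdeal_le_iff]
    intro f g
    have h1 : ((A.map φ).submatrix f g).det = φ ((A.submatrix f g).det) := by
      rw [RingHom.map_det]; rfl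
    rw [h1]
    exact Ideal.mem_map_of_mem φ (det_submatrix_mem A f g)
  · rw [Ideal.map_le_iff_le_comap, minorIdeal_le_iff]
    intro f g
    rw [Ideal.mem_comap]
    have h1 : φ ((A.submatrix f g).det) = ((A.map φ).submatrix f g).det := by
      rw [RingHom.map_det]; rfl
    rw [h1]
    exact det_submatrix_mem _ f g

lemma bddAbove_minor (A : Matrix m n R) : BddAbove {r : ℕ | minorIdeal A r ≠ ⊥} := by
  refine ⟨Fintype.card m, fun r hr => ?_⟩
  by_contra hcon
  exact hr (minorIdeal_eq_bot_of_card_lt A (by omega))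

lemma matrixRank_eq_of (A : Matrix m n R) (r : ℕ) (h1 : minorIdeal A r ≠ ⊥)
    (h2 : ∀ s, r < s → minorIdeal A s = ⊥) : matrixRank A = r := by
  unfold matrixRank
  apply le_antisymm
  · apply csSup_le ⟨r, h1⟩
    intro s hs
    by_contra hcon
    exact hs (h2 s (by omega))
  · exact le_csSup (bddAbove_minor A) h1

lemma minorIdeal_eq_bot_of_matrixRank_lt (A : Matrix m n R) (s : ℕ) (h : matrixRank A < s) :
    minorIdeal A s = ⊥ := by
  by_contra hne
  have h1 : s ≤ matrixRank A := le_csSup (bddAbove_minor A) hne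
  omega

lemma detIdeal_ne_bot [Nontrivial R] (A : Matrix m n R) : detIdeal A ≠ ⊥ := by
  have hne : {r : ℕ | minorIdeal A r ≠ ⊥}.Nonempty := by
    refine ⟨0, ?_⟩
    show minorIdeal A 0 ≠ ⊥
    rw [minorIdeal_zero]
    exact top_ne_bot
  exact Nat.sSup_mem hne (bddAbove_minor A)

lemma matrixRank_le_card (A : Matrix m n R) : matrixRank A ≤ Fintype.card m := by
  unfold matrixRank
  by_cases hne : {r : ℕ | minorIdeal A r ≠ ⊥}.Nonempty
  · apply csSup_le hne
    intro r hr
    by_contra hcon
    exact hr (minorIdeal_eq_bot_of_card_lt A (by omega))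
  · rw [Set.not_nonempty_iff_eq_empty] at hne
    rw [hne]
    simp

lemma matrixRank_congr {m₂ n₂ : Type} [Fintype m₂] [Fintype n₂] (A : Matrix m n R)
    (B : Matrix m₂ n₂ R) (h : ∀ r, minorIdeal A r = minorIdeal B r) :
    matrixRank A = matrixRank B := by
  unfold matrixRank
  congr 1
  ext r
  simp only [Set.mem_ofPred_eq, h r]

lemma detIdeal_congr {m₂ n₂ : Type} [Fintype m₂] [Fintype n₂] (A : Matrix m n R)
    (B : Matrix m₂ n₂ R) (h : ∀ r, minorIdeal A r = minorIdeal B r) :
    detIdeal A = detIdeal B := by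
  unfold detIdeal
  rw [matrixRank_congr A B h, h]

variable [DecidableEq m] [DecidableEq n]

lemma det_mul_submatrix_mem (A : Matrix m n R) {r : ℕ} (X : Matrix (Fin r) m R)
    (g : Fin r → n) : (X * A.submatrix id g).det ∈ minorIdeal A r := by
  have h1 : (X * A.submatrix id g).det = ((A.submatrix id g)ᵀ * Xᵀ).det := by
    rw [← Matrix.det_transpose, Matrix.transpose_mul]
  rw [h1, Groth.Agent.Lib.Helper27.CB.det_mul_transpose_eq_sum_fun]
  refine Ideal.sum_mem _ (fun f _ => Ideal.mul_mem_right _ _ ?_)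
  have h2 : ((A.submatrix id g)ᵀ.submatrix id f) = (A.submatrix f g)ᵀ := by
    ext i j; rfl
  rw [h2, Matrix.det_transpose]
  exact det_submatrix_mem A f g

lemma det_mul_mul_mem (A : Matrix m n R) {r : ℕ} (X : Matrix (Fin r) m R)
    (Y : Matrix n (Fin r) R) : (X * A * Y).det ∈ minorIdeal A r := by
  have h1 : X * A * Y = (X * A) * (Yᵀ)ᵀ := by rw [Matrix.transpose_transpose]
  rw [h1, Groth.Agent.Lib.Helper27.CB.det_mul_transpose_eq_sum_fun]
  refine Ideal.sum_mem _ (fun g _ => Ideal.mul_mem_right _ _ ?_)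
  have h2 : (X * A).submatrix id g = X * A.submatrix id g := by
    ext i j; simp [Matrix.mul_apply]
  rw [h2]
  exact det_mul_submatrix_mem A X g

lemma minorIdeal_mul_right_le (A : Matrix m n R) (Q : Matrix n n' R) (r : ℕ) :
    minorIdeal (A * Q) r ≤ minorIdeal A r := by
  rw [minorIdeal_le_iff]
  intro f g
  have h1 : (A * Q).submatrix f g =
      ((1 : Matrix m m R).submatrix f id) * A * (Q.submatrix id g) := by
    ext i j
    simp [Matrix.mul_apply, Matrix.one_apply]
  rw [h1]
  exact det_mul_mul_mem A _ _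

lemma minorIdeal_mul_left_le (P : Matrix m' m R) (A : Matrix m n R) (r : ℕ) :
    minorIdeal (P * A) r ≤ minorIdeal A r := by
  rw [minorIdeal_le_iff]
  intro f g
  have h1 : (P * A).submatrix f g =
      (P.submatrix f id) * A * ((1 : Matrix n n R).submatrix id g) := by
    ext i j
    simp [Matrix.mul_apply, Matrix.one_apply]
  rw [h1]
  exact det_mul_mul_mem A _ _

end minors

end Groth.Agent.Lib.Helper9.BE
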