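import Groth.Agent.Lib.Helper9.BEOrig
import Groth.Agent.Lib.Helper14.McCoy

/-!
# Buchsbaum–Eisenbud: necessity (helper9)
-/

set_option autoImplicit false
universe u
open CAlgX Matrix

namespace Groth.Agent.Lib.Helper9.BE
open IsLocalRing RingTheory.Sequence

section mccoy
variable {R : Type u} [CommRing R] {a b : Type} [Fintype a] [Fintype b]

lemma minorIdeal_submatrix_equiv {a' b' : Type} [Fintype a'] [Fintype b'] (A : Matrix b a R)
    (e1 : b' ≃ b) (e2 : a' ≃ a) (r : ℕ) :
    minorIdeal (A.submatrix e1 e2) r = minorIdeal A r := by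
  apply le_antisymm (minorIdeal_submatrix_le A e1 e2 r)
  have h : A = (A.submatrix e1 e2).submatrix e1.symm e2.symm := by
    ext i j; simp
  conv_lhs => rw [h]
  exact minorIdeal_submatrix_le _ _ _ r

theorem annihilator_minorIdeal_of_ker_eq_bot (A : Matrix b a R)
    (h : LinearMap.ker A.mulVecLin = ⊥) :
    (minorIdeal A (Fintype.card a)).annihilator = ⊥ := by
  let ea := Fintype.equivFin a
  let eb := Fintype.equivFin b
  let M : Matrix (Fin (Fintype.card b)) (Fin (Fintype.card a)) R := A.submatrix eb.symm ea.symm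
  have hinj : Function.Injective M.mulVecLin := by
    rw [← LinearMap.ker_eq_bot, LinearMap.ker_eq_bot']
    intro v hv
    have hv' : M *ᵥ v = 0 := hv
    have h1 : A *ᵥ (v ∘ ea) = 0 := by
      have h2 : M *ᵥ v = (A *ᵥ (v ∘ ea)) ∘ eb.symm := by
        simp only [M]
        rw [Matrix.submatrix_mulVec_equiv]
        rfl
      rw [h2] at hv'
      funext i
      have := congrFun hv' (eb i)
      simpa using this
    have h3 : v ∘ ea ∈ LinearMap.ker A.mulVecLin := h1
    rw [h, Submodule.mem_bot] at h3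
    funext j
    have := congrFun h3 (ea.symm j)
    simpa using this
  have := Groth.Agent.Lib.Helper14.annihilator_minorIdeal_of_injective M hinj
    (Fintype.card a) le_rfl
  rwa [minorIdeal_submatrix_equiv] at this

end mccoy

section locexact
variable {R : Type u} [CommRing R] (p : Ideal R) [p.IsPrime]

/-- clearing denominators of a vector in the kernel -/
lemma exists_clear {a b : Type} [Fintype a] [Fintype b] (M : Matrix a b R)
    (v' : b → Localization.AtPrime p)
    (hv' : (M.map (algebraMap R (Localization.AtPrime p))) *ᵥ v' = 0) :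
    ∃ (v : b → R) (s t : R), s ∉ p ∧ t ∉ p ∧
      (∀ i, algebraMap R (Localization.AtPrime p) (v i) =
        algebraMap R (Localization.AtPrime p) t * v' i) ∧ M *ᵥ (s • v) = 0 := by
  obtain ⟨t, ht⟩ := IsLocalization.exist_integer_multiples_of_finite p.primeCompl v'
  choose v hv using ht
  have hv2 : ∀ i, algebraMap R (Localization.AtPrime p) (v i) =
      algebraMap R (Localization.AtPrime p) (t : R) * v' i := by
    intro i
    rw [hv i, Algebra.smul_def]
  have h1 : ∀ k, algebraMap R (Localization.AtPrime p) ((M *ᵥ v) k) =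
      algebraMap R (Localization.AtPrime p) ((0 : a → R) k) := by
    intro k
    rw [RingHom.map_mulVec]
    have h3 : (algebraMap R (Localization.AtPrime p)) ∘ v =
        algebraMap R (Localization.AtPrime p) (t : R) • v' := by
      funext i
      exact hv2 i
    rw [h3, Matrix.mulVec_smul, hv']
    simp
  obtain ⟨s, hs, hsv⟩ := exists_smul_eq p (M *ᵥ v) 0 h1
  refine ⟨v, s, t, hs, t.2, hv2, ?_⟩
  rw [Matrix.mulVec_smul, hsv, smul_zero]

lemma loc_ker_bot {a b : Type} [Fintype a] [Fintype b] (M : Matrix a b R)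
    (h : LinearMap.ker M.mulVecLin = ⊥) :
    LinearMap.ker (M.map (algebraMap R (Localization.AtPrime p))).mulVecLin = ⊥ := by
  rw [LinearMap.ker_eq_bot']
  intro v' hv'
  obtain ⟨v, s, t, hs, ht, hv, hker⟩ := exists_clear p M v' hv'
  have h1 : s • v ∈ LinearMap.ker M.mulVecLin := hker
  rw [h, Submodule.mem_bot] at h1
  funext i
  have h2 : s * v i = 0 := congrFun h1 i
  have h3 : algebraMap R (Localization.AtPrime p) s *
      (algebraMap R (Localization.AtPrime p) t * v' i) = 0 := by
    rw [← hv i, ← map_mul, h2, map_zero]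
  have hsu : IsUnit (algebraMap R (Localization.AtPrime p) s) :=
    IsLocalization.map_units (Localization.AtPrime p) (⟨s, hs⟩ : p.primeCompl)
  have htu : IsUnit (algebraMap R (Localization.AtPrime p) t) :=
    IsLocalization.map_units (Localization.AtPrime p) (⟨t, ht⟩ : p.primeCompl)
  exact htu.mul_right_eq_zero.mp (hsu.mul_right_eq_zero.mp h3)

lemma loc_exact {a b c : Type} [Fintype a] [Fintype b] [Fintype c] (M : Matrix a b R)
    (N : Matrix b c R) (hMN : M * N = 0)
    (h : LinearMap.ker M.mulVecLin = LinearMap.range N.mulVecLin) :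
    LinearMap.ker (M.map (algebraMap R (Localization.AtPrime p))).mulVecLin =
      LinearMap.range (N.map (algebraMap R (Localization.AtPrime p))).mulVecLin := by
  apply le_antisymm
  · intro v' hv'
    obtain ⟨v, s, t, hs, ht, hv, hker⟩ := exists_clear p M v' hv'
    have h1 : s • v ∈ LinearMap.ker M.mulVecLin := hker
    rw [h] at h1
    obtain ⟨w, hw⟩ := h1
    have hw' : N *ᵥ w = s • v := hw
    have hsu : IsUnit (algebraMap R (Localization.AtPrime p) s) :=
      IsLocalization.map_units (Localization.AtPrime p) (⟨s, hs⟩ : p.primeCompl)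
    have htu : IsUnit (algebraMap R (Localization.AtPrime p) t) :=
      IsLocalization.map_units (Localization.AtPrime p) (⟨t, ht⟩ : p.primeCompl)
    obtain ⟨u, hu⟩ := (hsu.mul htu).exists_left_inv
    refine ⟨u • (algebraMap R (Localization.AtPrime p) ∘ w), ?_⟩
    rw [Matrix.mulVecLin_apply, Matrix.mulVec_smul]
    funext i
    rw [Pi.smul_apply, ← RingHom.map_mulVec, hw']
    simp only [Pi.smul_apply, smul_eq_mul, map_mul]
    rw [hv i]
    calc u * (algebraMap R (Localization.AtPrime p) s *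
          (algebraMap R (Localization.AtPrime p) t * v' i))
        = (u * (algebraMap R (Localization.AtPrime p) s *
          algebraMap R (Localization.AtPrime p) t)) * v' i := by ring
      _ = v' i := by rw [hu, one_mul]
  · rw [LinearMap.range_le_ker_iff, ← Matrix.mulVecLin_mul, ← Matrix.map_mul, hMN]
    ext x i
    simp

theorem isEx_localization (ι : ℕ → Type) [∀ k, Fintype (ι k)] (e : ℕ)
    (ψ : ∀ k, Matrix (ι (k + 1)) (ι k) R) (hcx : IsCx ι e ψ) (hex : IsEx ι e ψ) :
    IsEx ι e (mapCx ι (algebraMap R (Localization.AtPrime p)) ψ) :=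
  ⟨fun he => loc_ker_bot p (ψ 0) (hex.1 he),
    fun k hk => loc_exact p (ψ (k + 1)) (ψ k) (hcx k hk) (hex.2 k hk)⟩

end locexact

section quot
variable {R : Type u} [CommRing R] (x : R)

lemma quot_lift {b : Type} (v' : b → R ⧸ Ideal.span {x}) :
    ∃ v : b → R, (Ideal.Quotient.mk (Ideal.span {x})) ∘ v = v' := by
  choose v hv using fun i => Ideal.Quotient.mk_surjective (v' i)
  exact ⟨v, funext hv⟩

lemma quot_zero {b : Type} (u : b → R) (h : (Ideal.Quotient.mk (Ideal.span {x})) ∘ u = 0) :
    ∃ w : b → R, u = x • w := by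
  have h1 : ∀ i, ∃ a, a * x = u i := by
    intro i
    have h2 : Ideal.Quotient.mk (Ideal.span {x}) (u i) = 0 := congrFun h i
    rw [Ideal.Quotient.eq_zero_iff_mem] at h2
    exact Ideal.mem_span_singleton'.mp h2
  choose w hw using h1
  refine ⟨w, ?_⟩
  funext i
  rw [Pi.smul_apply, smul_eq_mul, mul_comm, hw i]

lemma quot_key {a b c : Type} [Fintype a] [Fintype b] [Fintype c] (hx : IsSMulRegular R x)
    (M : Matrix c b R) (N : Matrix b a R) (hMN : M * N = 0)
    (hex : LinearMap.ker M.mulVecLin = LinearMap.range N.mulVecLin)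
    (v : a → R) (hv : (Ideal.Quotient.mk (Ideal.span {x})) ∘ (N *ᵥ v) = 0) :
    ∃ v' : a → R, N *ᵥ (v - x • v') = 0 := by
  obtain ⟨w, hw⟩ := quot_zero x _ hv
  have h1 : x • (M *ᵥ w) = 0 := by
    rw [← Matrix.mulVec_smul, ← hw, Matrix.mulVec_mulVec, hMN, Matrix.zero_mulVec]
  have h2 : M *ᵥ w = 0 := by
    funext i
    apply hx
    show x • (M *ᵥ w) i = x • 0
    rw [smul_zero]
    exact congrFun h1 i
  have h3 : w ∈ LinearMap.ker M.mulVecLin := h2
  rw [hex] at h3
  obtain ⟨v', hv'⟩ := h3
  have hv'' : N *ᵥ v' = w := hv'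
  refine ⟨v', ?_⟩
  rw [Matrix.mulVec_sub, Matrix.mulVec_smul, hv'', hw, sub_self]

lemma quot_ker_bot {a b c : Type} [Fintype a] [Fintype b] [Fintype c]
    (hx : IsSMulRegular R x)
    (M : Matrix c b R) (N : Matrix b a R) (hMN : M * N = 0)
    (hex : LinearMap.ker M.mulVecLin = LinearMap.range N.mulVecLin)
    (hN : LinearMap.ker N.mulVecLin = ⊥) :
    LinearMap.ker (N.map (Ideal.Quotient.mk (Ideal.span {x}))).mulVecLin = ⊥ := by
  rw [LinearMap.ker_eq_bot']
  intro v' hv'
  obtain ⟨v, rfl⟩ := quot_lift x v'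
  have h1 : (Ideal.Quotient.mk (Ideal.span {x})) ∘ (N *ᵥ v) = 0 := by
    funext i
    rw [Function.comp_apply, RingHom.map_mulVec]
    exact congrFun hv' i
  obtain ⟨v₁, hv₁⟩ := quot_key x hx M N hMN hex v h1
  have h2 : v - x • v₁ ∈ LinearMap.ker N.mulVecLin := hv₁
  rw [hN, Submodule.mem_bot] at h2
  funext i
  have h3 : v i = x * v₁ i := by
    have := congrFun h2 i
    simp only [Pi.sub_apply, Pi.smul_apply, smul_eq_mul, Pi.zero_apply] at this
    exact sub_eq_zero.mp this
  rw [Function.comp_apply, h3, Pi.zero_apply, Ideal.Quotient.eq_zero_iff_mem]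
  exact Ideal.mul_mem_right _ _ (Ideal.subset_span rfl)

lemma quot_exact {a b c d : Type} [Fintype a] [Fintype b] [Fintype c] [Fintype d]
    (hx : IsSMulRegular R x)
    (M : Matrix c b R) (N : Matrix b a R) (L : Matrix a d R) (hMN : M * N = 0) (hNL : N * L = 0)
    (hex : LinearMap.ker M.mulVecLin = LinearMap.range N.mulVecLin)
    (hN : LinearMap.ker N.mulVecLin = LinearMap.range L.mulVecLin) :
    LinearMap.ker (N.map (Ideal.Quotient.mk (Ideal.span {x}))).mulVecLin =
      LinearMap.range (L.map (Ideal.Quotient.mk (Ideal.span {x}))).mulVecLin := by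
  apply le_antisymm
  · intro v' hv'
    obtain ⟨v, rfl⟩ := quot_lift x v'
    have h1 : (Ideal.Quotient.mk (Ideal.span {x})) ∘ (N *ᵥ v) = 0 := by
      funext i
      rw [Function.comp_apply, RingHom.map_mulVec]
      exact congrFun hv' i
    obtain ⟨v₁, hv₁⟩ := quot_key x hx M N hMN hex v h1
    have h2 : v - x • v₁ ∈ LinearMap.ker N.mulVecLin := hv₁
    rw [hN] at h2
    obtain ⟨u, hu⟩ := h2
    have hu' : L *ᵥ u = v - x • v₁ := hu
    refine ⟨(Ideal.Quotient.mk (Ideal.span {x})) ∘ u, ?_⟩
    rw [Matrix.mulVecLin_apply]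
    funext i
    rw [← RingHom.map_mulVec, hu', Function.comp_apply]
    simp only [Pi.sub_apply, Pi.smul_apply, smul_eq_mul, map_sub]
    have h3 : Ideal.Quotient.mk (Ideal.span {x}) (x * v₁ i) = 0 := by
      rw [Ideal.Quotient.eq_zero_iff_mem]
      exact Ideal.mul_mem_right _ _ (Ideal.subset_span rfl)
    rw [h3, sub_zero]
  · rw [LinearMap.range_le_ker_iff, ← Matrix.mulVecLin_mul, ← Matrix.map_mul, hNL]
    ext y i
    simp

theorem isEx_quot (ι : ℕ → Type) [∀ k, Fintype (ι k)] (e : ℕ)
    (ψ : ∀ k, Matrix (ι (k + 1)) (ι k) R) (hx : IsSMulRegular R x)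
    (hcx : IsCx ι (e + 1) ψ) (hex : IsEx ι (e + 1) ψ) :
    IsEx ι e (mapCx ι (Ideal.Quotient.mk (Ideal.span {x})) ψ) := by
  refine ⟨fun he => ?_, fun k hk => ?_⟩
  · exact quot_ker_bot x hx (ψ 1) (ψ 0) (hcx 0 (by omega)) (hex.2 0 (by omega))
      (hex.1 (by omega))
  · exact quot_exact x hx (ψ (k + 2)) (ψ (k + 1)) (ψ k) (hcx (k + 1) (by omega))
      (hcx k (by omega)) (hex.2 (k + 1) (by omega)) (hex.2 k (by omega))

end quot

end Groth.Agent.Lib.Helper9.BE
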