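import Groth.Agent.Lib.Helper9.BENec

/-!
# Buchsbaum–Eisenbud: necessity, part 2 (helper9)
-/

set_option autoImplicit false
universe u
open CAlgX Matrix

namespace Groth.Agent.Lib.Helper9.BE
open IsLocalRing RingTheory.Sequence
open scoped Pointwise

section depthzero
variable {R : Type u} [CommRing R] [IsNoetherianRing R]

/-- the localization at an associated prime has the property that proper ideals have
nonzero annihilator -/
theorem hP_of_ass (p : Ideal R) [p.IsPrime] (hp : p ∈ associatedPrimes R R) :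
    ∀ I : Ideal (Localization.AtPrime p), I ≠ ⊤ → I.annihilator ≠ ⊥ := by
  obtain ⟨-, x, hx⟩ := isAssociatedPrime_iff.mp hp
  have hmem : ∀ a : R, a ∈ p ↔ a * x = 0 := by
    intro a
    rw [hx, Submodule.mem_colon_singleton, Submodule.mem_bot, smul_eq_mul]
  have hy : algebraMap R (Localization.AtPrime p) x ≠ 0 := by
    intro h0
    rw [IsLocalization.map_eq_zero_iff p.primeCompl] at h0
    obtain ⟨s, hs⟩ := h0
    exact s.2 ((hmem s).mpr hs)
  intro I hI hann
  apply hy
  have h1 : algebraMap R (Localization.AtPrime p) x ∈ I.annihilator := by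
    rw [Submodule.mem_annihilator]
    intro z hz
    have hzm : z ∈ maximalIdeal (Localization.AtPrime p) := IsLocalRing.le_maximalIdeal hI hz
    obtain ⟨a, s, rfl⟩ := IsLocalization.exists_mk'_eq p.primeCompl z
    rw [IsLocalization.AtPrime.mk'_mem_maximal_iff (Localization.AtPrime p) p] at hzm
    rw [smul_eq_mul, IsLocalization.mul_mk'_eq_mk'_of_mul, mul_comm, (hmem a).mp hzm,
      IsLocalization.mk'_zero]
  rw [hann] at h1
  exact (Submodule.mem_bot _).mp h1

end depthzero

section splitall
variable {R : Type u} [CommRing R]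

lemma isCx_S (ι : ℕ → Type) [∀ k, Fintype (ι k)] (T : Type) [Fintype T] (c₀ : T → ι 1) (e : ℕ)
    (ψ : ∀ k, Matrix (ι (k + 1)) (ι k) R) (hcx : IsCx ι (e + 1) ψ) :
    IsCx (ιS ι T) e (ψS ι T ψ ((ψ 1).submatrix id c₀)) := by
  intro k hk
  cases k with
  | zero =>
    show ψ 2 * (ψ 1).submatrix id c₀ = 0
    have h1 : ψ 2 * (ψ 1).submatrix id c₀ = (ψ 2 * ψ 1).submatrix id c₀ := by
      ext i j
      simp [Matrix.mul_apply]
    rw [h1, hcx 1 (by omega)]
    rfl
  | succ k =>
    show ψ (k + 3) * ψ (k + 2) = 0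
    exact hcx (k + 2) (by omega)

theorem split_all [IsLocalRing R] (hP : ∀ I : Ideal R, I ≠ ⊤ → I.annihilator ≠ ⊥) :
    ∀ (e : ℕ) (ι : ℕ → Type) [∀ k, Fintype (ι k)] (ψ : ∀ k, Matrix (ι (k + 1)) (ι k) R),
      IsCx ι e ψ → IsEx ι e ψ → ∀ k, k < e → ∃ r : ℕ, (r : ℤ) = rho ι k ∧
        minorIdeal (ψ k) r = ⊤ ∧ ∀ s, r < s → minorIdeal (ψ k) s = ⊥ := by
  intro e
  induction e with
  | zero => intro ι _ ψ _ _ k hk; omega
  | succ e ih =>
    intro ι _ ψ hcx hex k hk
    have hker := hex.1 (by omega)
    have htop : minorIdeal (ψ 0) (Fintype.card (ι 0)) = ⊤ := by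
      by_contra hne
      exact hP _ hne (annihilator_minorIdeal_of_ker_eq_bot (ψ 0) hker)
    cases k with
    | zero =>
      exact ⟨Fintype.card (ι 0), rfl, htop, fun s hs => minorIdeal_eq_bot_of_card_lt' _ hs⟩
    | succ k =>
      obtain ⟨T, instT, c₀, hcard, -, hrest⟩ := split_off (ψ 0) (ψ 1) htop
      obtain ⟨hmin, hrange, hiff⟩ := hrest (hcx 0 (by omega))
      have hcx' := isCx_S ι T c₀ e ψ hcx
      have hex' : IsEx (ιS ι T) e (ψS ι T ψ ((ψ 1).submatrix id c₀)) := by
        refine ⟨fun _ => hiff.mpr (hex.2 0 (by omega)), fun k' hk' => ?_⟩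
        cases k' with
        | zero =>
          show LinearMap.ker (ψ 2).mulVecLin = LinearMap.range ((ψ 1).submatrix id c₀).mulVecLin
          rw [hrange]
          exact hex.2 1 (by omega)
        | succ k' =>
          exact hex.2 (k' + 2) (by omega)
      obtain ⟨r, hr, h1, h2⟩ := ih (ιS ι T) (ψS ι T ψ ((ψ 1).submatrix id c₀)) hcx' hex' k
        (by omega)
      rw [rho_S ι T hcard k] at hr
      refine ⟨r, hr, ?_, ?_⟩
      · cases k with
        | zero =>
          have h3 : minorIdeal ((ψ 1).submatrix id c₀) r = ⊤ := h1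
          rwa [hmin] at h3
        | succ k => exact h1
      · cases k with
        | zero =>
          intro s hs
          have h3 : minorIdeal ((ψ 1).submatrix id c₀) s = ⊥ := h2 s hs
          rwa [hmin] at h3
        | succ k => exact h2

end splitall

section rank
variable {R : Type u} [CommRing R] [IsLocalRing R] [IsNoetherianRing R]

theorem rank_of_exact (ι : ℕ → Type) [∀ k, Fintype (ι k)] (e : ℕ)
    (ψ : ∀ k, Matrix (ι (k + 1)) (ι k) R) (hcx : IsCx ι e ψ) (hex : IsEx ι e ψ)
    (k : ℕ) (hk : k < e) :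
    ∃ r : ℕ, (r : ℤ) = rho ι k ∧ matrixRank (ψ k) = r ∧
      ∃ x ∈ minorIdeal (ψ k) r, IsSMulRegular R x := by
  have hass : ∀ p ∈ associatedPrimes R R, ∃ r : ℕ, (r : ℤ) = rho ι k ∧
      ¬ minorIdeal (ψ k) r ≤ p ∧ ∀ s, r < s → ∀ y ∈ minorIdeal (ψ k) s, ∃ t, t ∉ p ∧ t * y = 0 := by
    intro p hp
    have hpp : p.IsPrime := hp.1
    have hP := hP_of_ass p hp
    obtain ⟨r, hr, h1, h2⟩ := split_all hP e ι _ (isCx_map ι _ e ψ hcx)
      (isEx_localization p ι e ψ hcx hex) k hk
    have h1' : (minorIdeal (ψ k) r).map (algebraMap R (Localization.AtPrime p)) = ⊤ := by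
      rw [← minorIdeal_map]; exact h1
    refine ⟨r, hr, ?_, ?_⟩
    · intro hle
      have h3 := Ideal.map_mono (f := algebraMap R (Localization.AtPrime p)) hle
      rw [h1', Localization.AtPrime.map_eq_maximalIdeal] at h3
      exact (IsLocalRing.maximalIdeal.isMaximal _).ne_top (top_le_iff.mp h3)
    · intro s hs y hy
      have h3 : algebraMap R (Localization.AtPrime p) y ∈
          (minorIdeal (ψ k) s).map (algebraMap R (Localization.AtPrime p)) :=
        Ideal.mem_map_of_mem _ hy
      have h4 : minorIdeal ((ψ k).map (algebraMap R (Localization.AtPrime p))) s = ⊥ := h2 s hs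
      rw [← minorIdeal_map, h4, Ideal.mem_bot, IsLocalization.map_eq_zero_iff p.primeCompl] at h3
      obtain ⟨t, ht⟩ := h3
      exact ⟨t, t.2, ht⟩
  obtain ⟨p0, hp0⟩ := associatedPrimes.nonempty R R
  obtain ⟨r, hr, hnle0, -⟩ := hass p0 hp0
  have hbot : ∀ s, r < s → minorIdeal (ψ k) s = ⊥ := by
    intro s hs
    rw [eq_bot_iff]
    intro y hy
    rw [Ideal.mem_bot]
    by_contra hy0
    obtain ⟨P, hP, hle⟩ := exists_le_isAssociatedPrime_of_isNoetherianRing R y hy0
    obtain ⟨r', hr', -, h3⟩ := hass P hP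
    have hrr : r' = r := by
      have : (r' : ℤ) = (r : ℤ) := by rw [hr', hr]
      exact_mod_cast this
    subst hrr
    obtain ⟨t, ht, hty⟩ := h3 s hs y hy
    apply ht
    apply hle
    rw [Submodule.mem_colon_singleton, Submodule.mem_bot, smul_eq_mul]
    exact hty
  have hnle : ∀ p ∈ associatedPrimes R R, ¬ minorIdeal (ψ k) r ≤ p := by
    intro p hp
    obtain ⟨r', hr', h2, -⟩ := hass p hp
    have hrr : r' = r := by
      have : (r' : ℤ) = (r : ℤ) := by rw [hr', hr]
      exact_mod_cast this
    subst hrr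
    exact h2
  have hne : minorIdeal (ψ k) r ≠ ⊥ := by
    intro h0
    apply hnle0
    rw [h0]
    exact bot_le
  refine ⟨r, hr, matrixRank_eq_of _ r hne hbot, ?_⟩
  by_contra hcon
  push Not at hcon
  obtain ⟨p, hp, hle⟩ :=
    (Groth.Agent.Lib.Helper4.forall_not_isSMulRegular_iff_exists_le_associatedPrime
      (M := R) (minorIdeal (ψ k) r)).mp hcon
  exact hnle p hp hle

end rank

section grade
variable {R : Type u} [CommRing R]

lemma exists_list_lift {S : Type u} [CommRing S] (f : R →+* S) (I : Ideal R)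
    (hf : Function.Surjective f) (l : List S) (h : ∀ s ∈ l, s ∈ I.map f) :
    ∃ l' : List R, l'.map f = l ∧ ∀ r ∈ l', r ∈ I := by
  induction l with
  | nil => exact ⟨[], rfl, by simp⟩
  | cons s l ih =>
    obtain ⟨l', hl', hmem⟩ := ih (fun s' hs' => h s' (List.mem_cons_of_mem _ hs'))
    obtain ⟨r, hr, hrs⟩ := (Ideal.mem_map_iff_of_surjective f hf).mp (h s List.mem_cons_self)
    refine ⟨r :: l', by simp [hl', hrs], ?_⟩
    intro r' hr'
    rcases List.mem_cons.mp hr' with rfl | h'
    · exact hr
    · exact hmem _ h'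

theorem grade_of_exact : ∀ (e : ℕ) (R : Type u) [CommRing R] [IsLocalRing R] [IsNoetherianRing R]
    (ι : ℕ → Type) [∀ k, Fintype (ι k)] (ψ : ∀ k, Matrix (ι (k + 1)) (ι k) R),
    IsCx ι e ψ → IsEx ι e ψ → GradeCond ι e ψ := by
  intro e
  induction e with
  | zero => intro R _ _ _ ι _ ψ _ _ k hk; omega
  | succ e ih =>
    intro R _ _ _ ι _ ψ hcx hex k hk
    obtain ⟨r, hr, hrank, x, hxI, hxreg⟩ := rank_of_exact ι (e + 1) ψ hcx hex k hk
    have hdet : detIdeal (ψ k) = minorIdeal (ψ k) r := by
      unfold detIdeal; rw [hrank]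
    by_cases htop : detIdeal (ψ k) = ⊤
    · exact Or.inl htop
    right
    have hIm : detIdeal (ψ k) ≤ maximalIdeal R := IsLocalRing.le_maximalIdeal htop
    have hxm : x ∈ maximalIdeal R := hIm (hdet ▸ hxI)
    have hne : maximalIdeal R • (⊤ : Submodule R R) ≠ ⊤ :=
      Groth.Agent.Lib.Helper4.maximalIdeal_smul_top_ne_top
    rcases Nat.lt_or_ge k e with hke | hke
    · -- pass to the quotient
      have hspan : Ideal.span {x} ≠ ⊤ := by
        intro h
        have : Ideal.span {x} ≤ maximalIdeal R := by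
          rw [Ideal.span_le]
          intro y hy
          rw [Set.mem_singleton_iff.mp hy]
          exact hxm
        rw [h] at this
        exact (IsLocalRing.maximalIdeal.isMaximal R).ne_top (top_le_iff.mp this)
      have : Nontrivial (R ⧸ Ideal.span {x}) := Ideal.Quotient.nontrivial_iff.mpr hspan
      have : IsLocalRing (R ⧸ Ideal.span {x}) :=
        IsLocalRing.of_surjective' (Ideal.Quotient.mk (Ideal.span {x}))
          Ideal.Quotient.mk_surjective
      have hcx' : IsCx ι e (mapCx ι (Ideal.Quotient.mk (Ideal.span {x})) ψ) :=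
        isCx_map ι _ e ψ (fun k hk => hcx k (by omega))
      have hex' : IsEx ι e (mapCx ι (Ideal.Quotient.mk (Ideal.span {x})) ψ) :=
        isEx_quot x ι e ψ hxreg hcx hex
      obtain ⟨r', hr', hrank', -⟩ := rank_of_exact ι e _ hcx' hex' k hke
      have hrr : r' = r := by
        have : (r' : ℤ) = (r : ℤ) := by rw [hr', hr]
        exact_mod_cast this
      subst hrr
      have hdet' : detIdeal ((ψ k).map (Ideal.Quotient.mk (Ideal.span {x}))) =
          (detIdeal (ψ k)).map (Ideal.Quotient.mk (Ideal.span {x})) := by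
        have h1 : matrixRank ((ψ k).map (Ideal.Quotient.mk (Ideal.span {x}))) = r' := hrank'
        unfold detIdeal
        rw [h1, hrank, minorIdeal_map]
      have hg := ih (R ⧸ Ideal.span {x}) ι _ hcx' hex' k hke
      have hg' : detIdeal ((ψ k).map (Ideal.Quotient.mk (Ideal.span {x}))) = ⊤ ∨
          ∃ rs : List (R ⧸ Ideal.span {x}), rs.length = e - k ∧
            (∀ r ∈ rs, r ∈ detIdeal ((ψ k).map (Ideal.Quotient.mk (Ideal.span {x})))) ∧
            IsRegular (R ⧸ Ideal.span {x}) rs := hg
      rw [hdet'] at hg'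
      rcases hg' with htop' | ⟨rs', hlen', hmem', hreg'⟩
      · exfalso
        have h1 : (1 : R ⧸ Ideal.span {x}) ∈
            (detIdeal (ψ k)).map (Ideal.Quotient.mk (Ideal.span {x})) := by
          rw [htop']; exact Submodule.mem_top
        obtain ⟨i, hi, hi1⟩ := (Ideal.mem_map_iff_of_surjective _
          Ideal.Quotient.mk_surjective).mp h1
        have h2 : i - 1 ∈ Ideal.span {x} := by
          rw [← Ideal.Quotient.eq_zero_iff_mem, map_sub, hi1, map_one, sub_self]
        have h3 : Ideal.span {x} ≤ detIdeal (ψ k) := by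
          rw [Ideal.span_le]
          intro y hy
          rw [Set.mem_singleton_iff.mp hy, hdet]
          exact hxI
        have h4 : (1 : R) ∈ detIdeal (ψ k) := by
          have := (detIdeal (ψ k)).sub_mem hi (h3 h2)
          simpa using this
        exact htop ((Ideal.eq_top_iff_one _).mpr h4)
      · obtain ⟨rs, hrs, hrsI⟩ := exists_list_lift (Ideal.Quotient.mk (Ideal.span {x}))
          (detIdeal (ψ k)) Ideal.Quotient.mk_surjective rs' hmem'
        refine ⟨x :: rs, ?_, ?_, ?_⟩
        · have : rs.length = rs'.length := by rw [← hrs, List.length_map]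
          rw [List.length_cons, this, hlen']
          omega
        · intro y hy
          rcases List.mem_cons.mp hy with rfl | h'
          · rw [hdet]; exact hxI
          · exact hrsI y h'
        · apply Groth.Agent.Lib.Helper4.isRegular_of_isWeaklyRegular_of_mem (maximalIdeal R) hne
          · rw [isWeaklyRegular_cons_iff]
            refine ⟨hxreg, ?_⟩
            have h1 : IsWeaklyRegular (R ⧸ Ideal.span {x})
                (rs.map (algebraMap R (R ⧸ Ideal.span {x}))) := by
              have := hreg'.toIsWeaklyRegular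
              rw [← hrs] at this
              exact this
            have h2 : IsWeaklyRegular (R ⧸ Ideal.span {x}) rs :=
              (isWeaklyRegular_map_algebraMap_iff (R ⧸ Ideal.span {x})
                (R ⧸ Ideal.span {x}) rs).mp h1
            have heq : (Ideal.span {x} : Submodule R R) = x • (⊤ : Submodule R R) := by
              rw [← Submodule.ideal_span_singleton_smul x ⊤]
              simp
            exact ((Submodule.quotEquivOfEq _ _ heq).isWeaklyRegular_congr rs).mp h2
          · intro y hy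
            rcases List.mem_cons.mp hy with rfl | h'
            · exact hxm
            · exact hIm (hrsI y h')
    · -- k = e : one regular element suffices
      have hke' : k = e := by omega
      refine ⟨[x], ?_, ?_, ?_⟩
      · simp; omega
      · intro y hy
        rw [List.mem_singleton.mp hy, hdet]
        exact hxI
      · apply Groth.Agent.Lib.Helper4.isRegular_of_isWeaklyRegular_of_mem (maximalIdeal R) hne
        · exact (isWeaklyRegular_singleton_iff R x).mpr hxreg
        · intro y hy
          rw [List.mem_singleton.mp hy]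
          exact hxm

/-- Buchsbaum–Eisenbud, necessity, over a Noetherian local ring -/
theorem nec [IsLocalRing R] [IsNoetherianRing R] (e : ℕ) (ι : ℕ → Type) [∀ k, Fintype (ι k)]
    (ψ : ∀ k, Matrix (ι (k + 1)) (ι k) R) (hcx : IsCx ι e ψ) (hex : IsEx ι e ψ) :
    RankCond ι e ψ ∧ GradeCond ι e ψ := by
  refine ⟨fun k hk => ?_, grade_of_exact e R ι ψ hcx hex⟩
  obtain ⟨r, hr, hrank, -⟩ := rank_of_exact ι e ψ hcx hex k hk
  rw [hrank, hr]

end grade

section origiff
variable {R : Type u} [CommRing R] [IsLocalRing R] [IsNoetherianRing R] (e : ℕ) (n : ℕ → ℕ)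
  (A : (i : ℕ) → Matrix (Fin (n i)) (Fin (n (i + 1))) R)

theorem iff_orig (he : 1 ≤ e) (hA : ∀ i, i + 2 ≤ e → A i * A (i + 1) = 0) :
    (LinearMap.ker (A (e - 1)).mulVecLin = ⊥ ∧
        ∀ i, i + 2 ≤ e → LinearMap.ker (A i).mulVecLin = LinearMap.range (A (i + 1)).mulVecLin) ↔
      ∀ j, 1 ≤ j → j ≤ e →
        (matrixRank (A (j - 1)) : ℤ) = ∑ t ∈ Finset.Icc j e, (-1 : ℤ) ^ (t - j) * (n t : ℤ) ∧
          (detIdeal (A (j - 1)) = ⊤ ∨
            ∃ rs : List R, rs.length = j ∧ (∀ r ∈ rs, r ∈ detIdeal (A (j - 1))) ∧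
              IsRegular R rs) := by
  constructor
  · intro h
    have hex := (isEx_psiO_iff e n A he).mpr h
    obtain ⟨h1, h2⟩ := nec e (fun k => Fin (n (e - k))) (psiO e n A) (isCx_psiO e n A hA) hex
    intro j hj1 hje
    exact ⟨(rankCond_psiO_iff e n A).mp h1 j hj1 hje, (gradeCond_psiO_iff e n A).mp h2 j hj1 hje⟩
  · intro h
    exact suff_orig e n A he hA (fun j h1 h2 => (h j h1 h2).1) (fun j h1 h2 => (h j h1 h2).2)

end origiff

end Groth.Agent.Lib.Helper9.BE
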