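import Groth.Agent.Lib.Helper9.BESuff

/-!
# Buchsbaum–Eisenbud in the original indexing `0 → R^(n e) → ⋯ → R^(n 0)` (helper9)
-/

set_option autoImplicit false
universe u
open CAlgX Matrix

namespace Groth.Agent.Lib.Helper9.BE
open IsLocalRing RingTheory.Sequence

section orig
variable {R : Type u} [CommRing R] (e : ℕ) (n : ℕ → ℕ)
  (A : (i : ℕ) → Matrix (Fin (n i)) (Fin (n (i + 1))) R)

/-- `A i` with its column index recast -/
def Mcast (i j : ℕ) (h : j = i + 1) : Matrix (Fin (n i)) (Fin (n j)) R :=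
  (A i).submatrix id (Fin.cast (congrArg n h))

lemma Mcast_rfl (i : ℕ) : Mcast n A i (i + 1) rfl = A i := by
  ext a b
  simp [Mcast]

/-- the complex indexed from the left end -/
def psiO : ∀ k, Matrix (Fin (n (e - (k + 1)))) (Fin (n (e - k))) R := fun k =>
  if h : k < e then Mcast n A (e - (k + 1)) (e - k) (by omega) else 0

lemma psiO_eq (k : ℕ) (hk : k < e) :
    psiO e n A k = Mcast n A (e - (k + 1)) (e - k) (by omega) := dif_pos hk

/-- the alternating sums of the statement -/
def altSum (j : ℕ) : ℤ := ∑ t ∈ Finset.Icc j e, (-1 : ℤ) ^ (t - j) * (n t : ℤ)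

lemma altSum_rec (j : ℕ) (hj : j < e) : altSum e n j = (n j : ℤ) - altSum e n (j + 1) := by
  unfold altSum
  rw [← Finset.insert_Icc_add_one_left_eq_Icc (le_of_lt hj), Finset.sum_insert (by simp)]
  simp only [Nat.sub_self, pow_zero, one_mul]
  rw [sub_eq_add_neg, ← Finset.sum_neg_distrib]
  congr 1
  apply Finset.sum_congr rfl
  intro t ht
  rw [Finset.mem_Icc] at ht
  have h1 : t - j = (t - (j + 1)) + 1 := by omega
  rw [h1, pow_succ]
  ring

lemma rho_eq_altSum (k : ℕ) (hk : k ≤ e) :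
    rho (fun k => Fin (n (e - k))) k = altSum e n (e - k) := by
  induction k with
  | zero =>
    show (Fintype.card (Fin (n (e - 0))) : ℤ) = _
    unfold altSum
    simp
  | succ k ih =>
    show (Fintype.card (Fin (n (e - (k + 1)))) : ℤ) - rho (fun k => Fin (n (e - k))) k = _
    rw [ih (by omega), altSum_rec e n (e - (k + 1)) (by omega)]
    have h1 : e - (k + 1) + 1 = e - k := by omega
    rw [h1]
    simp

end orig

section transport
variable {R : Type u} [CommRing R] (n : ℕ → ℕ)
  (A : (i : ℕ) → Matrix (Fin (n i)) (Fin (n (i + 1))) R)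

lemma Mcast_mul (i j l : ℕ) (h : j = i + 1) (h' : l = j + 1) (hA : A i * A (i + 1) = 0) :
    Mcast n A i j h * Mcast n A j l h' = 0 := by
  subst h
  subst h'
  rw [Mcast_rfl, Mcast_rfl]
  exact hA

lemma Mcast_mul' (i j l : ℕ) (h : j = i + 1) (h' : l = j + 1)
    (hA : Mcast n A i j h * Mcast n A j l h' = 0) : A i * A (i + 1) = 0 := by
  subst h
  subst h'
  rw [Mcast_rfl, Mcast_rfl] at hA
  exact hA

lemma Mcast_rank (i j : ℕ) (h : j = i + 1) :
    matrixRank (Mcast n A i j h) = matrixRank (A i) ∧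
      detIdeal (Mcast n A i j h) = detIdeal (A i) := by
  subst h
  rw [Mcast_rfl]
  exact ⟨rfl, rfl⟩

lemma Mcast_ker (i j : ℕ) (h : j = i + 1) :
    LinearMap.ker (Mcast n A i j h).mulVecLin = ⊥ ↔ LinearMap.ker (A i).mulVecLin = ⊥ := by
  subst h
  rw [Mcast_rfl]

lemma Mcast_exact (i j l : ℕ) (h : j = i + 1) (h' : l = j + 1) :
    LinearMap.ker (Mcast n A i j h).mulVecLin = LinearMap.range (Mcast n A j l h').mulVecLin ↔
    LinearMap.ker (A i).mulVecLin = LinearMap.range (A (i + 1)).mulVecLin := by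
  subst h
  subst h'
  rw [Mcast_rfl, Mcast_rfl]

end transport

section main
variable {R : Type u} [CommRing R] (e : ℕ) (n : ℕ → ℕ)
  (A : (i : ℕ) → Matrix (Fin (n i)) (Fin (n (i + 1))) R)

lemma isCx_psiO (hA : ∀ i, i + 2 ≤ e → A i * A (i + 1) = 0) :
    IsCx (fun k => Fin (n (e - k))) e (psiO e n A) := by
  intro k hk
  rw [psiO_eq e n A (k + 1) (by omega), psiO_eq e n A k (by omega)]
  exact Mcast_mul n A _ _ _ _ _ (hA _ (by omega))

lemma isEx_psiO_iff (he : 1 ≤ e) :
    IsEx (fun k => Fin (n (e - k))) e (psiO e n A) ↔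
      (LinearMap.ker (A (e - 1)).mulVecLin = ⊥ ∧
        ∀ i, i + 2 ≤ e → LinearMap.ker (A i).mulVecLin = LinearMap.range (A (i + 1)).mulVecLin) := by
  constructor
  · rintro ⟨h1, h2⟩
    constructor
    · have h3 := h1 he
      rw [psiO_eq e n A 0 (by omega)] at h3
      exact (Mcast_ker n A _ _ _).mp h3
    · intro i hi
      have h3 := h2 (e - (i + 2)) (by omega)
      rw [psiO_eq e n A (e - (i + 2) + 1) (by omega), psiO_eq e n A (e - (i + 2)) (by omega)] at h3
      have h4 := (Mcast_exact n A _ _ _ _ _).mp h3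
      have hi' : e - (e - (i + 2) + 1 + 1) = i := by omega
      rw [hi'] at h4
      exact h4
  · rintro ⟨h1, h2⟩
    constructor
    · intro _
      rw [psiO_eq e n A 0 (by omega)]
      exact (Mcast_ker n A _ _ _).mpr h1
    · intro k hk
      rw [psiO_eq e n A (k + 1) (by omega), psiO_eq e n A k (by omega)]
      exact (Mcast_exact n A _ _ _ _ _).mpr (h2 _ (by omega))

lemma rankCond_psiO_iff :
    RankCond (fun k => Fin (n (e - k))) e (psiO e n A) ↔
      ∀ j, 1 ≤ j → j ≤ e → (matrixRank (A (j - 1)) : ℤ) = altSum e n j := by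
  constructor
  · intro h j hj1 hje
    have h1 := h (e - j) (by omega)
    rw [psiO_eq e n A (e - j) (by omega), (Mcast_rank n A _ _ _).1,
      rho_eq_altSum e n (e - j) (by omega)] at h1
    have h2 : e - (e - j + 1) = j - 1 := by omega
    have h3 : e - (e - j) = j := by omega
    rw [h2, h3] at h1
    exact h1
  · intro h k hk
    rw [psiO_eq e n A k hk, (Mcast_rank n A _ _ _).1, rho_eq_altSum e n k (by omega)]
    have h1 := h (e - k) (by omega) (by omega)
    have h2 : e - k - 1 = e - (k + 1) := by omega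
    rw [h2] at h1
    exact h1

lemma gradeCond_psiO_iff :
    GradeCond (fun k => Fin (n (e - k))) e (psiO e n A) ↔
      ∀ j, 1 ≤ j → j ≤ e → (detIdeal (A (j - 1)) = ⊤ ∨
        ∃ rs : List R, rs.length = j ∧ (∀ r ∈ rs, r ∈ detIdeal (A (j - 1))) ∧
          IsRegular R rs) := by
  constructor
  · intro h j hj1 hje
    have h1 := h (e - j) (by omega)
    rw [psiO_eq e n A (e - j) (by omega), (Mcast_rank n A _ _ _).2] at h1
    have h2 : e - (e - j + 1) = j - 1 := by omega
    have h3 : e - (e - j) = j := by omega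
    rw [h2, h3] at h1
    exact h1
  · intro h k hk
    rw [psiO_eq e n A k hk, (Mcast_rank n A _ _ _).2]
    have h1 := h (e - k) (by omega) (by omega)
    have h2 : e - k - 1 = e - (k + 1) := by omega
    rw [h2] at h1
    exact h1

/-- Buchsbaum–Eisenbud sufficiency in the original indexing -/
theorem suff_orig [IsNoetherianRing R] (he : 1 ≤ e)
    (hA : ∀ i, i + 2 ≤ e → A i * A (i + 1) = 0)
    (hrank : ∀ j, 1 ≤ j → j ≤ e →
      (matrixRank (A (j - 1)) : ℤ) = ∑ t ∈ Finset.Icc j e, (-1 : ℤ) ^ (t - j) * (n t : ℤ))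
    (hdet : ∀ j, 1 ≤ j → j ≤ e →
      detIdeal (A (j - 1)) = ⊤ ∨
        ∃ rs : List R, rs.length = j ∧ (∀ r ∈ rs, r ∈ detIdeal (A (j - 1))) ∧
          IsRegular R rs) :
    LinearMap.ker (A (e - 1)).mulVecLin = ⊥ ∧
      ∀ i, i + 2 ≤ e → LinearMap.ker (A i).mulVecLin = LinearMap.range (A (i + 1)).mulVecLin := by
  rw [← isEx_psiO_iff e n A he]
  exact suff e (fun k => Fin (n (e - k))) (psiO e n A) (isCx_psiO e n A hA)
    ((rankCond_psiO_iff e n A).mpr hrank) ((gradeCond_psiO_iff e n A).mpr hdet)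

end main

end Groth.Agent.Lib.Helper9.BE
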