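import Groth.Agent.Lib.Helper9.BELoc

/-!
# Buchsbaum–Eisenbud: sufficiency (helper9)
-/

set_option autoImplicit false
universe u
open CAlgX Matrix

namespace Groth.Agent.Lib.Helper9.BE
open IsLocalRing RingTheory.Sequence

section split
variable {R : Type u} [CommRing R] {a b c : Type} [Fintype a] [Fintype b] [Fintype c]

lemma exists_isUnit_of_span_eq_top [IsLocalRing R] {S : Set R} (h : Ideal.span S = ⊤) :
    ∃ s ∈ S, IsUnit s := by
  by_contra hcon
  push Not at hcon
  have hle : Ideal.span S ≤ IsLocalRing.maximalIdeal R :=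
    Ideal.span_le.mpr (fun s hs => (IsLocalRing.mem_maximalIdeal s).mpr
      (mem_nonunits_iff.mpr (hcon s hs)))
  rw [h] at hle
  exact (IsLocalRing.maximalIdeal.isMaximal R).ne_top (top_le_iff.mp hle)

theorem exists_rows [IsLocalRing R] [DecidableEq a] [DecidableEq b] (φ : Matrix b a R)
    (htop : minorIdeal φ (Fintype.card a) = ⊤) :
    ∃ (f : Fin (Fintype.card a) → b) (W : Matrix a b R), Function.Injective f ∧ W * φ = 1 ∧
      (∀ k l, ((1 : Matrix b b R) - φ * W) (f k) l = 0) ∧
      (∀ w : a → R, (∀ k, (φ *ᵥ w) (f k) = 0) → w = 0) := by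
  obtain ⟨s, ⟨⟨f, g⟩, rfl⟩, hs⟩ := exists_isUnit_of_span_eq_top htop
  simp only at hs
  have hf : Function.Injective f := by
    by_contra hf
    rw [Function.Injective] at hf
    push Not at hf
    obtain ⟨i, j, hij, hne⟩ := hf
    have h0 : (φ.submatrix f g).det = 0 :=
      Matrix.det_zero_of_row_eq hne (by ext k; simp [hij])
    rw [h0] at hs
    exact not_isUnit_zero hs
  have hg : Function.Injective g := by
    by_contra hg
    rw [Function.Injective] at hg
    push Not at hg
    obtain ⟨i, j, hij, hne⟩ := hg
    have h0 : (φ.submatrix f g).det = 0 :=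
      Matrix.det_zero_of_column_eq hne (fun k => by simp [hij])
    rw [h0] at hs
    exact not_isUnit_zero hs
  have hgb : Function.Bijective g :=
    (Fintype.bijective_iff_injective_and_card g).mpr ⟨hg, by simp⟩
  let ge : Fin (Fintype.card a) ≃ a := Equiv.ofBijective g hgb
  let S : Matrix a b R := (1 : Matrix b b R).submatrix (f ∘ ge.symm) id
  let U : Matrix a a R := φ.submatrix (f ∘ ge.symm) id
  have hSφ : S * φ = U := by
    ext i j
    simp [S, U, Matrix.mul_apply, Matrix.one_apply]
  have hUdet : IsUnit U.det := by
    have h1 : U.submatrix ge ge = φ.submatrix f g := by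
      ext i j
      simp [U, ge]
    rw [← Matrix.det_submatrix_equiv_self ge U, h1]
    exact hs
  have hSapp : ∀ (v : b → R) (j : a), (S *ᵥ v) j = v (f (ge.symm j)) := by
    intro v j
    simp [S, Matrix.mulVec, dotProduct, Matrix.one_apply]
  refine ⟨f, U⁻¹ * S, hf, ?_, ?_, ?_⟩
  · rw [Matrix.mul_assoc, hSφ, Matrix.nonsing_inv_mul _ hUdet]
  · intro k l
    have h1 : S * ((1 : Matrix b b R) - φ * (U⁻¹ * S)) = 0 := by
      rw [Matrix.mul_sub, Matrix.mul_one, ← Matrix.mul_assoc, ← Matrix.mul_assoc, hSφ,
        Matrix.mul_nonsing_inv _ hUdet, Matrix.one_mul, sub_self]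
    have h2 := congrFun (congrFun h1 (ge k)) l
    simpa [S, Matrix.mul_apply, Matrix.one_apply] using h2
  · intro w hw
    have h1 : U *ᵥ w = 0 := by
      rw [← hSφ, ← Matrix.mulVec_mulVec]
      funext j
      rw [hSapp]
      exact hw _
    have h2 : U⁻¹ *ᵥ (U *ᵥ w) = w := by
      rw [Matrix.mulVec_mulVec, Matrix.nonsing_inv_mul _ hUdet, Matrix.one_mulVec]
    rw [← h2, h1, Matrix.mulVec_zero]

theorem split_off [IsLocalRing R] (φ : Matrix b a R) (ψ : Matrix c b R)
    (htop : minorIdeal φ (Fintype.card a) = ⊤) :
    ∃ (T : Type) (_ : Fintype T) (c₀ : T → b),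
      ((Fintype.card T : ℤ) = Fintype.card b - Fintype.card a) ∧
      LinearMap.ker φ.mulVecLin = ⊥ ∧
      (ψ * φ = 0 →
        (∀ r, minorIdeal (ψ.submatrix id c₀) r = minorIdeal ψ r) ∧
        LinearMap.range (ψ.submatrix id c₀).mulVecLin = LinearMap.range ψ.mulVecLin ∧
        (LinearMap.ker (ψ.submatrix id c₀).mulVecLin = ⊥ ↔
          LinearMap.ker ψ.mulVecLin = LinearMap.range φ.mulVecLin)) := by
  classical
  obtain ⟨f, W, hf, hWφ, hP, hw0⟩ := exists_rows φ htop
  refine ⟨{i : b // i ∉ Set.range f}, inferInstance, Subtype.val, ?_, ?_, ?_⟩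
  · have h1 := Fintype.card_subtype_compl (fun x : b => x ∈ Set.range f)
    have h2 : Fintype.card {x : b // x ∈ Set.range f} = Fintype.card a := by
      rw [← Fintype.card_congr (Equiv.ofInjective f hf), Fintype.card_fin]
    have h3 : Fintype.card a ≤ Fintype.card b := by
      have := Fintype.card_le_of_injective f hf
      simpa using this
    rw [h2] at h1
    rw [h1]
    push_cast [h3]
    ring
  · rw [LinearMap.ker_eq_bot']
    intro w hw
    apply hw0
    intro k
    have : φ *ᵥ w = 0 := hw
    rw [this]
    rfl
  · intro hψφ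
    set P : Matrix b b R := (1 : Matrix b b R) - φ * W with hPdef
    set E : Matrix b {i : b // i ∉ Set.range f} R :=
      (1 : Matrix b b R).submatrix id Subtype.val with hEdef
    set Q : Matrix {i : b // i ∉ Set.range f} b R := P.submatrix Subtype.val id with hQdef
    set B : Matrix c {i : b // i ∉ Set.range f} R := ψ.submatrix id Subtype.val with hBdef
    have hB : B = ψ * E := by
      ext i j
      simp [B, E, Matrix.mul_apply, Matrix.one_apply]
    have hEapp : ∀ (u : {i : b // i ∉ Set.range f} → R) (i' : b),
        (E *ᵥ u) i' = if h : i' ∉ Set.range f then u ⟨i', h⟩ else 0 := by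
      intro u i'
      by_cases h : i' ∉ Set.range f
      · rw [dif_pos h]
        simp only [Matrix.mulVec, dotProduct, E, Matrix.submatrix_apply, id, Matrix.one_apply]
        rw [Finset.sum_eq_single ⟨i', h⟩]
        · simp
        · intro t _ ht
          have : i' ≠ t.val := fun h' => ht (Subtype.ext h'.symm)
          simp [this]
        · intro h'
          exact absurd (Finset.mem_univ _) h'
      · rw [dif_neg h]
        simp only [Matrix.mulVec, dotProduct, E, Matrix.submatrix_apply, id, Matrix.one_apply]
        apply Finset.sum_eq_zero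
        intro t _
        have : i' ≠ t.val := fun h' => h (h' ▸ t.2)
        simp [this]
    have hEQ : E * Q = P := by
      ext i' l
      have h1 : (E * Q) i' l = (E *ᵥ (fun t => Q t l)) i' := by
        simp [Matrix.mul_apply, Matrix.mulVec, dotProduct]
      rw [h1, hEapp]
      by_cases h : i' ∉ Set.range f
      · rw [dif_pos h]
        rfl
      · rw [dif_neg h]
        rw [not_not] at h
        obtain ⟨k, rfl⟩ := h
        exact (hP k l).symm
    have hψP : ψ * P = ψ := by
      rw [hPdef, Matrix.mul_sub, Matrix.mul_one, ← Matrix.mul_assoc, hψφ, Matrix.zero_mul,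
        sub_zero]
    have hψ : ψ = B * Q := by
      rw [hB, Matrix.mul_assoc, hEQ, hψP]
    refine ⟨fun r => ?_, ?_, ?_⟩
    · apply le_antisymm (minorIdeal_submatrix_le ψ id Subtype.val r)
      conv_lhs => rw [hψ]
      exact minorIdeal_mul_right_le B Q r
    · apply le_antisymm
      · rw [hB, Matrix.mulVecLin_mul]
        exact LinearMap.range_comp_le_range _ _
      · conv_lhs => rw [hψ]
        rw [Matrix.mulVecLin_mul]
        exact LinearMap.range_comp_le_range _ _
    · constructor
      · intro hker
        apply le_antisymm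
        · intro v hv
          have hv' : ψ *ᵥ v = 0 := hv
          have h1 : B *ᵥ (Q *ᵥ v) = 0 := by
            rw [Matrix.mulVec_mulVec, ← hψ, hv']
          have h2 : Q *ᵥ v = 0 := by
            have : Q *ᵥ v ∈ LinearMap.ker B.mulVecLin := h1
            rw [hker] at this
            exact this
          have h3 : P *ᵥ v = 0 := by
            rw [← hEQ, ← Matrix.mulVec_mulVec, h2, Matrix.mulVec_zero]
          have h4 : v = φ *ᵥ (W *ᵥ v) := by
            have : P *ᵥ v = v - φ *ᵥ (W *ᵥ v) := by
              rw [hPdef, Matrix.sub_mulVec, Matrix.one_mulVec, Matrix.mulVec_mulVec]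
            rw [this] at h3
            exact sub_eq_zero.mp h3
          exact ⟨W *ᵥ v, h4.symm⟩
        · rw [LinearMap.range_le_ker_iff, ← Matrix.mulVecLin_mul, hψφ]
          simp
      · intro hex
        rw [LinearMap.ker_eq_bot']
        intro u hu
        have hu' : B *ᵥ u = 0 := hu
        have h1 : E *ᵥ u ∈ LinearMap.ker ψ.mulVecLin := by
          show ψ *ᵥ (E *ᵥ u) = 0
          rw [Matrix.mulVec_mulVec, ← hB, hu']
        rw [hex] at h1
        obtain ⟨w, hw⟩ := h1
        have hw' : φ *ᵥ w = E *ᵥ u := hw
        have hw0' : w = 0 := by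
          apply hw0
          intro k
          rw [hw', hEapp, dif_neg]
          rw [not_not]
          exact ⟨k, rfl⟩
        have h2 : E *ᵥ u = 0 := by
          rw [← hw', hw0', Matrix.mulVec_zero]
        funext t
        have h3 := congrFun h2 t.val
        rw [hEapp, dif_pos t.2] at h3
        exact h3

end split

section induction

/-- index types of the complex with the left end split off -/
def ιS (ι : ℕ → Type) (T : Type) : ℕ → Type
  | 0 => T
  | (k + 1) => ι (k + 2)

instance instFintypeιS (ι : ℕ → Type) (T : Type) [Fintype T] [∀ k, Fintype (ι k)] :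
    ∀ k, Fintype (ιS ι T k)
  | 0 => (inferInstance : Fintype T)
  | (k + 1) => (inferInstance : Fintype (ι (k + 2)))

variable {R : Type u} [CommRing R]

/-- maps of the complex with the left end split off -/
def ψS (ι : ℕ → Type) [∀ k, Fintype (ι k)] (T : Type) [Fintype T]
    (ψ : ∀ k, Matrix (ι (k + 1)) (ι k) R) (B : Matrix (ι 2) T R) :
    ∀ k, Matrix (ιS ι T (k + 1)) (ιS ι T k) R
  | 0 => B
  | (k + 1) => ψ (k + 2)

theorem rho_S (ι : ℕ → Type) [∀ k, Fintype (ι k)] (T : Type) [Fintype T]
    (h0 : (Fintype.card T : ℤ) = Fintype.card (ι 1) - Fintype.card (ι 0)) :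
    ∀ k, rho (ιS ι T) k = rho ι (k + 1) := by
  intro k
  induction k with
  | zero =>
    show (Fintype.card T : ℤ) = (Fintype.card (ι 1) : ℤ) - (Fintype.card (ι 0) : ℤ)
    exact h0
  | succ k ih =>
    show (Fintype.card (ι (k + 2)) : ℤ) - rho (ιS ι T) k =
      (Fintype.card (ι (k + 2)) : ℤ) - rho ι (k + 1)
    rw [ih]

theorem suff_local : ∀ (e d : ℕ) (R : Type u) [CommRing R] [IsLocalRing R] [IsNoetherianRing R],
    (maximalIdeal R).height ≤ d →
    ∀ (ι : ℕ → Type) [∀ k, Fintype (ι k)] (ψ : ∀ k, Matrix (ι (k + 1)) (ι k) R),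
      IsCx ι e ψ → RankCond ι e ψ → GradeCond ι e ψ → IsEx ι e ψ := by
  intro e
  induction e with
  | zero =>
    intro d R _ _ _ _ ι _ ψ _ _ _
    exact ⟨fun h => absurd h (by omega), fun k hk => absurd hk (by omega)⟩
  | succ e ihe =>
    intro d
    induction d using Nat.strong_induction_on with
    | _ d ihd =>
      intro R _ _ _ hdim ι _ ψ hcx hrk hgr
      have hrk0 : matrixRank (ψ 0) = Fintype.card (ι 0) := by
        have := hrk 0 (by omega)
        rw [rho] at this
        exact_mod_cast this
      rcases hgr 0 (by omega) with htop | ⟨rs, hlen, hmem, hreg⟩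
      · -- split off
        have htop' : minorIdeal (ψ 0) (Fintype.card (ι 0)) = ⊤ := by
          rw [← hrk0]; exact htop
        obtain ⟨T, instT, c₀, hcard, hker, hrest⟩ := split_off (ψ 0) (ψ 1) htop'
        rcases Nat.eq_zero_or_pos e with he0 | hepos
        · subst he0
          exact ⟨fun _ => hker, fun k hk => absurd hk (by omega)⟩
        obtain ⟨hmin, hrange, hiff⟩ := hrest (hcx 0 (by omega))
        have hcx' : IsCx (ιS ι T) e (ψS ι T ψ ((ψ 1).submatrix id c₀)) := by
          intro k hk
          cases k with
          | zero =>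
            show ψ 2 * (ψ 1).submatrix id c₀ = 0
            have h1 : ψ 2 * (ψ 1).submatrix id c₀ = (ψ 2 * ψ 1).submatrix id c₀ := by
              ext i j
              simp [Matrix.mul_apply]
            rw [h1, hcx 1 (by omega)]
            rfl
          | succ k =>
            show ψ (k + 3) * ψ (k + 2) = 0
            exact hcx (k + 2) (by omega)
        have hrho := rho_S ι T hcard
        have hrk' : RankCond (ιS ι T) e (ψS ι T ψ ((ψ 1).submatrix id c₀)) := by
          intro k hk
          rw [hrho k]
          cases k with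
          | zero =>
            show (matrixRank ((ψ 1).submatrix id c₀) : ℤ) = _
            rw [matrixRank_congr _ (ψ 1) hmin]
            exact hrk 1 (by omega)
          | succ k =>
            show (matrixRank (ψ (k + 2)) : ℤ) = _
            exact hrk (k + 2) (by omega)
        have hgr' : GradeCond (ιS ι T) e (ψS ι T ψ ((ψ 1).submatrix id c₀)) := by
          intro k hk
          cases k with
          | zero =>
            show detIdeal ((ψ 1).submatrix id c₀) = ⊤ ∨ ∃ rs : List R, rs.length = e - 0 ∧
              (∀ r ∈ rs, r ∈ detIdeal ((ψ 1).submatrix id c₀)) ∧ IsRegular R rs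
            rw [detIdeal_congr _ (ψ 1) hmin]
            have := hgr 1 (by omega)
            rwa [show e + 1 - 1 = e - 0 by omega] at this
          | succ k =>
            show detIdeal (ψ (k + 2)) = ⊤ ∨ ∃ rs : List R, rs.length = e - (k + 1) ∧
              (∀ r ∈ rs, r ∈ detIdeal (ψ (k + 2))) ∧ IsRegular R rs
            have := hgr (k + 2) (by omega)
            rwa [show e + 1 - (k + 2) = e - (k + 1) by omega] at this
        have hex' := ihe d R hdim (ιS ι T) (ψS ι T ψ ((ψ 1).submatrix id c₀)) hcx' hrk' hgr'
        refine ⟨fun _ => hker, fun k hk => ?_⟩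
        cases k with
        | zero =>
          exact hiff.mp (hex'.1 hepos)
        | succ k =>
          cases k with
          | zero =>
            have h1 := hex'.2 0 (by omega)
            have h2 : LinearMap.ker (ψ 2).mulVecLin =
                LinearMap.range ((ψ 1).submatrix id c₀).mulVecLin := h1
            rw [h2, hrange]
          | succ k =>
            have h1 := hex'.2 (k + 1) (by omega)
            exact h1
      · -- depth case
        have hlen' : rs.length = e + 1 := by rw [hlen]; omega
        have hmem_m : ∀ x ∈ rs, x ∈ maximalIdeal R := by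
          intro x hx
          by_contra hxm
          have hunit : IsUnit x := by
            by_contra hnu
            exact hxm ((IsLocalRing.mem_maximalIdeal x).mpr (mem_nonunits_iff.mpr hnu))
          have h1 : Ideal.ofList rs = ⊤ :=
            Ideal.eq_top_of_isUnit_mem _ (Ideal.subset_span hx) hunit
          apply hreg.2
          rw [h1, Submodule.top_smul]
        apply acyc_main ι (e + 1) ψ hcx rs hlen' hmem_m hreg
        intro p hp hpm
        have h1 : p < maximalIdeal R :=
          lt_of_le_of_ne (IsLocalRing.le_maximalIdeal hp.ne_top) hpm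
        have h2 : p.height < (maximalIdeal R).height :=
          Ideal.height_strict_mono_of_isPrime_of_isPrime h1
        have h3 : p.height < d := lt_of_lt_of_le h2 hdim
        obtain ⟨n, hn⟩ := ENat.ne_top_iff_exists.mp (ne_top_of_lt h3)
        have hnd : n < d := by
          rw [← hn] at h3
          exact_mod_cast h3
        have hdim' : (maximalIdeal (Localization.AtPrime p)).height ≤ n := by
          have e1 := IsLocalization.AtPrime.ringKrullDim_eq_height p (Localization.AtPrime p)
          rw [← IsLocalRing.maximalIdeal_height_eq_ringKrullDim] at e1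
          have e2 : (maximalIdeal (Localization.AtPrime p)).height = p.height := by
            exact_mod_cast e1
          rw [e2, ← hn]
        have hrg := rank_grade_localization ι p (e + 1) ψ hrk hgr
        exact ihd n hnd (Localization.AtPrime p) hdim' ι
          (mapCx ι (algebraMap R (Localization.AtPrime p)) ψ)
          (isCx_map ι _ (e + 1) ψ hcx) hrg.1 hrg.2

/-- Buchsbaum–Eisenbud, sufficiency, over a Noetherian ring -/
theorem suff [IsNoetherianRing R] (e : ℕ) (ι : ℕ → Type) [∀ k, Fintype (ι k)]
    (ψ : ∀ k, Matrix (ι (k + 1)) (ι k) R)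
    (hcx : IsCx ι e ψ) (hrk : RankCond ι e ψ) (hgr : GradeCond ι e ψ) : IsEx ι e ψ := by
  apply isEx_of_localization ι e ψ hcx
  intro p hp
  have hfin : (maximalIdeal (Localization.AtPrime p)).height ≠ ⊤ :=
    Ideal.height_ne_top (IsLocalRing.maximalIdeal.isMaximal _).ne_top
  obtain ⟨d, hd⟩ := ENat.ne_top_iff_exists.mp hfin
  have hrg := rank_grade_localization ι p e ψ hrk hgr
  exact suff_local e d (Localization.AtPrime p) (by rw [← hd]) ι
    (mapCx ι (algebraMap R (Localization.AtPrime p)) ψ)
    (isCx_map ι _ e ψ hcx) hrg.1 hrg.2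

end induction

end Groth.Agent.Lib.Helper9.BE
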