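import Mathlib

set_option autoImplicit false

namespace Groth.Agent.Lib.Helper9.BLGlue

variable {A A' : Type*} [CommRing A] [CommRing A'] (φ : A →+* A') (t : A)

theorem map_span_pow (m : ℕ) :
    Ideal.map φ (Ideal.span {t} ^ m) = Ideal.span {φ t ^ m} := by
  rw [Ideal.span_singleton_pow, Ideal.map_span, Set.image_singleton, map_pow]

section
variable (hq : ∀ m : ℕ, Function.Bijective
    (Ideal.quotientMap (Ideal.map φ (Ideal.span {t} ^ m)) φ Ideal.le_comap_map))
  (htor : ∀ a' : A', (∃ m : ℕ, φ t ^ m * a' = 0) →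
    ∃! a : A, (∃ m : ℕ, t ^ m * a = 0) ∧ φ a = a')

include hq in
theorem surj_mod (m : ℕ) (a' : A') : ∃ (a₀ : A) (d' : A'), φ a₀ = a' + φ t ^ m * d' := by
  obtain ⟨q, hq'⟩ := (hq m).2 (Ideal.Quotient.mk _ a')
  obtain ⟨a₀, rfl⟩ := Ideal.Quotient.mk_surjective q
  rw [Ideal.quotientMap_mk, Ideal.Quotient.eq, map_span_pow, Ideal.mem_span_singleton'] at hq'
  obtain ⟨d', hd'⟩ := hq'
  exact ⟨a₀, d', by linear_combination -hd'⟩

include hq in
theorem inj_mod (m : ℕ) (e : A) (d' : A') (he : φ e = φ t ^ m * d') : ∃ e₁ : A, e = t ^ m * e₁ := by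
  have h1 : Ideal.quotientMap (Ideal.map φ (Ideal.span {t} ^ m)) φ Ideal.le_comap_map
      (Ideal.Quotient.mk _ e) = 0 := by
    rw [Ideal.quotientMap_mk, Ideal.Quotient.eq_zero_iff_mem, map_span_pow,
      Ideal.mem_span_singleton']
    exact ⟨d', by rw [he, mul_comm]⟩
  have h2 : Ideal.Quotient.mk (Ideal.span {t} ^ m) e = 0 := (hq m).1 (by rw [h1, map_zero])
  rw [Ideal.Quotient.eq_zero_iff_mem, Ideal.span_singleton_pow, Ideal.mem_span_singleton'] at h2
  obtain ⟨e₁, he₁⟩ := h2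
  exact ⟨e₁, by rw [← he₁, mul_comm]⟩

include htor in
theorem inj_pair (a : A) (h1 : φ a = 0) (h2 : algebraMap A (Localization.Away t) a = 0) :
    a = 0 := by
  rw [IsLocalization.map_eq_zero_iff (Submonoid.powers t)] at h2
  obtain ⟨⟨_, m, rfl⟩, hm⟩ := h2
  exact (htor 0 ⟨0, mul_zero _⟩).unique ⟨⟨m, hm⟩, h1⟩ ⟨⟨0, mul_zero _⟩, map_zero φ⟩

theorem awayMap_algebraMap (a : A) :
    Localization.awayMap φ t (algebraMap A (Localization.Away t) a) =
      algebraMap A' (Localization.Away (φ t)) (φ a) := by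
  unfold Localization.awayMap IsLocalization.Away.map
  rw [IsLocalization.map_eq]

include hq htor in
theorem surj_pair (a' : A') (b : Localization.Away t)
    (hab : algebraMap A' (Localization.Away (φ t)) a' = Localization.awayMap φ t b) :
    ∃ a : A, φ a = a' ∧ algebraMap A (Localization.Away t) a = b := by
  obtain ⟨⟨c, ⟨_, m, rfl⟩⟩, hc⟩ := IsLocalization.surj (Submonoid.powers t) b
  simp only at hc
  -- transport hc
  have hc' := congrArg (Localization.awayMap φ t) hc
  rw [map_mul, awayMap_algebraMap, awayMap_algebraMap, ← hab, ← map_mul, map_pow] at hc'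
  have h0 : algebraMap A' (Localization.Away (φ t)) (a' * φ t ^ m - φ c) = 0 := by
    rw [map_sub, hc', sub_self]
  rw [IsLocalization.map_eq_zero_iff (Submonoid.powers (φ t))] at h0
  obtain ⟨⟨_, l, rfl⟩, hl⟩ := h0
  obtain ⟨w, ⟨⟨k, hk⟩, hw⟩, -⟩ := htor (a' * φ t ^ m - φ c) ⟨l, hl⟩
  have hw0 : algebraMap A (Localization.Away t) w = 0 := by
    rw [IsLocalization.map_eq_zero_iff (Submonoid.powers t)]
    exact ⟨⟨_, k, rfl⟩, hk⟩
  obtain ⟨a₀, d', ha₀⟩ := surj_mod φ t hq m a'
  have hφe : φ (t ^ m * a₀ - (c + w)) = φ t ^ (m + m) * d' := by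
    rw [map_sub, map_mul, map_pow, map_add, hw, ha₀, pow_add]
    ring
  obtain ⟨e₁, he₁⟩ := inj_mod φ t hq (m + m) _ d' hφe
  have hτ' : φ t ^ m * (φ t ^ m * (φ e₁ - d')) = 0 := by
    have h1 := congrArg φ he₁
    rw [hφe, map_mul, map_pow] at h1
    rw [pow_add] at h1
    linear_combination -h1
  obtain ⟨τ, ⟨⟨k', hk'⟩, hτ⟩, -⟩ := htor (φ t ^ m * (φ e₁ - d')) ⟨m, hτ'⟩
  have hτ0 : algebraMap A (Localization.Away t) τ = 0 := by
    rw [IsLocalization.map_eq_zero_iff (Submonoid.powers t)]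
    exact ⟨⟨_, k', rfl⟩, hk'⟩
  refine ⟨a₀ - t ^ m * e₁ + τ, ?_, ?_⟩
  · rw [map_add, map_sub, map_mul, map_pow, hτ, ha₀]
    ring
  · have hu : IsUnit (algebraMap A (Localization.Away t) (t ^ m)) :=
      IsLocalization.map_units (Localization.Away t) (⟨t ^ m, m, rfl⟩ : Submonoid.powers t)
    apply hu.mul_right_cancel
    rw [hc, ← map_mul]
    have h2 : (a₀ - t ^ m * e₁ + τ) * t ^ m = (c + w) + τ * t ^ m := by
      have : t ^ m * a₀ - (c + w) = t ^ m * t ^ m * e₁ := by rw [he₁, pow_add]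
      linear_combination this
    rw [h2, map_add, map_add, map_mul, hw0, hτ0, zero_mul, add_zero, add_zero]

include htor in
theorem hom_ext {Γ : Type*} [CommRing Γ] (ψ₁ ψ₂ : Γ →+* A) (h1 : φ.comp ψ₁ = φ.comp ψ₂)
    (h2 : (algebraMap A (Localization.Away t)).comp ψ₁ =
      (algebraMap A (Localization.Away t)).comp ψ₂) : ψ₁ = ψ₂ := by
  ext γ
  have e1 : φ (ψ₁ γ) = φ (ψ₂ γ) := RingHom.congr_fun h1 γ
  have e2 : algebraMap A (Localization.Away t) (ψ₁ γ) =
      algebraMap A (Localization.Away t) (ψ₂ γ) := RingHom.congr_fun h2 γ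
  have := inj_pair φ t htor (ψ₁ γ - ψ₂ γ) (by rw [map_sub, e1, sub_self])
    (by rw [map_sub, e2, sub_self])
  exact sub_eq_zero.1 this

include hq htor in
theorem exists_lift {Γ : Type*} [CommRing Γ] (ψ' : Γ →+* A') (ψt : Γ →+* Localization.Away t)
    (hc : (algebraMap A' (Localization.Away (φ t))).comp ψ' =
      (Localization.awayMap φ t).comp ψt) :
    ∃ ψ : Γ →+* A, φ.comp ψ = ψ' ∧ (algebraMap A (Localization.Away t)).comp ψ = ψt := by
  have hex : ∀ γ : Γ, ∃ a : A, φ a = ψ' γ ∧ algebraMap A (Localization.Away t) a = ψt γ :=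
    fun γ => surj_pair φ t hq htor (ψ' γ) (ψt γ) (RingHom.congr_fun hc γ)
  choose f hf1 hf2 using hex
  have huniq : ∀ a b : A, φ a = φ b → algebraMap A (Localization.Away t) a =
      algebraMap A (Localization.Away t) b → a = b := by
    intro a b e1 e2
    have := inj_pair φ t htor (a - b) (by rw [map_sub, e1, sub_self])
      (by rw [map_sub, e2, sub_self])
    exact sub_eq_zero.1 this
  refine ⟨{ toFun := f
            map_one' := huniq _ _ (by rw [hf1, map_one, map_one]) (by rw [hf2, map_one, map_one])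
            map_mul' := fun x y => huniq _ _ (by rw [hf1, map_mul, map_mul, hf1, hf1])
              (by rw [hf2, map_mul, map_mul, hf2, hf2])
            map_zero' := huniq _ _ (by rw [hf1, map_zero, map_zero])
              (by rw [hf2, map_zero, map_zero])
            map_add' := fun x y => huniq _ _ (by rw [hf1, map_add, map_add, hf1, hf1])
              (by rw [hf2, map_add, map_add, hf2, hf2]) }, ?_, ?_⟩
  · ext γ; exact hf1 γ
  · ext γ; exact hf2 γ

include hq in
theorem cover (𝔭 : PrimeSpectrum A) :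
    𝔭 ∈ Set.range (PrimeSpectrum.comap φ) ∨
      𝔭 ∈ Set.range (PrimeSpectrum.comap (algebraMap A (Localization.Away t))) := by
  by_cases ht : t ∈ 𝔭.asIdeal
  · left
    let π' : A' →+* A' ⧸ Ideal.span {φ t} := Ideal.Quotient.mk _
    have hsurj : Function.Surjective (π'.comp φ) := by
      intro y
      obtain ⟨a', rfl⟩ := Ideal.Quotient.mk_surjective y
      obtain ⟨a₀, d', h⟩ := surj_mod φ t hq 1 a'
      refine ⟨a₀, ?_⟩
      show π' (φ a₀) = π' a'
      rw [h, map_add, map_mul]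
      have : π' (φ t ^ 1) = 0 := by
        rw [pow_one]
        exact Ideal.Quotient.eq_zero_iff_mem.2 (Ideal.mem_span_singleton_self _)
      rw [this, zero_mul, add_zero]
    have hmem : 𝔭 ∈ PrimeSpectrum.zeroLocus (RingHom.ker (π'.comp φ) : Set A) := by
      intro x hx
      have hx' : π' (φ x) = 0 := hx
      rw [Ideal.Quotient.eq_zero_iff_mem, Ideal.mem_span_singleton'] at hx'
      obtain ⟨d', hd'⟩ := hx'
      obtain ⟨e₁, he₁⟩ := inj_mod φ t hq 1 x d' (by rw [pow_one, ← hd', mul_comm])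
      rw [he₁, pow_one]
      exact 𝔭.asIdeal.mul_mem_right _ ht
    rw [← range_comap_of_surjective _ _ hsurj] at hmem
    obtain ⟨𝔮, rfl⟩ := hmem
    exact ⟨PrimeSpectrum.comap π' 𝔮, rfl⟩
  · right
    rw [PrimeSpectrum.localization_away_comap_range (Localization.Away t) t]
    exact ht

end

end Groth.Agent.Lib.Helper9.BLGlue
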