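import Mathlib
import Groth.Agent.Lib.Helper9.BLGlue

set_option autoImplicit false

open CategoryTheory AlgebraicGeometry

namespace Groth.Agent.Lib.Helper9.BLGlue

universe u

variable (A A' : Type u) [CommRing A] [CommRing A'] (φ : A →+* A') (t : A)

section
variable (hq : ∀ m : ℕ, Function.Bijective
    (Ideal.quotientMap (Ideal.map φ (Ideal.span {t} ^ m)) φ Ideal.le_comap_map))
  (htor : ∀ a' : A', (∃ m : ℕ, φ t ^ m * a' = 0) →
    ∃! a : A, (∃ m : ℕ, t ^ m * a = 0) ∧ φ a = a')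

include htor in
theorem spec_hom_ext {B : CommRingCat.{u}} (g₁ g₂ : Spec (CommRingCat.of A) ⟶ Spec B)
    (h1 : Spec.map (CommRingCat.ofHom φ) ≫ g₁ = Spec.map (CommRingCat.ofHom φ) ≫ g₂)
    (h2 : Spec.map (CommRingCat.ofHom (algebraMap A (Localization.Away t))) ≫ g₁ =
      Spec.map (CommRingCat.ofHom (algebraMap A (Localization.Away t))) ≫ g₂) : g₁ = g₂ := by
  rw [← Spec.map_preimage g₁, ← Spec.map_preimage g₂] at h1 h2 ⊢
  rw [← Spec.map_comp, ← Spec.map_comp] at h1 h2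
  have e1 := Spec.map_injective h1
  have e2 := Spec.map_injective h2
  congr 1
  ext : 1
  apply hom_ext φ t htor
  · have := congrArg CommRingCat.Hom.hom e1
    simpa using this
  · have := congrArg CommRingCat.Hom.hom e2
    simpa using this

include hq htor in
theorem exists_glue (X : Scheme.{u}) [X.IsQuasiAffine]
    (x' : Spec (CommRingCat.of A') ⟶ X)
    (xt : Spec (CommRingCat.of (Localization.Away t)) ⟶ X)
    (hc : Spec.map (CommRingCat.ofHom (algebraMap A' (Localization.Away (φ t)))) ≫ x' =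
      Spec.map (CommRingCat.ofHom (Localization.awayMap φ t)) ≫ xt) :
    ∃ s : Spec (CommRingCat.of A) ⟶ X, Spec.map (CommRingCat.ofHom φ) ≫ s = x' ∧
      Spec.map (CommRingCat.ofHom (algebraMap A (Localization.Away t))) ≫ s = xt := by
  have hcomp : (algebraMap A' (Localization.Away (φ t))).comp (Spec.preimage (x' ≫ X.toSpecΓ)).hom =
      (Localization.awayMap φ t).comp (Spec.preimage (xt ≫ X.toSpecΓ)).hom := by
    have h := congrArg (· ≫ X.toSpecΓ) hc
    simp only [Category.assoc] at h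
    rw [← Spec.map_preimage (x' ≫ X.toSpecΓ), ← Spec.map_preimage (xt ≫ X.toSpecΓ),
      ← Spec.map_comp, ← Spec.map_comp] at h
    have h' := congrArg CommRingCat.Hom.hom (Spec.map_injective h)
    simpa using h'
  obtain ⟨ψ, h1, h2⟩ := exists_lift φ t hq htor _ _ hcomp
  have hg1 : Spec.map (CommRingCat.ofHom φ) ≫ Spec.map (CommRingCat.ofHom ψ) =
      x' ≫ X.toSpecΓ := by
    rw [← Spec.map_comp, ← Spec.map_preimage (x' ≫ X.toSpecΓ)]
    congr 1
    ext : 1
    simpa using h1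
  have hg2 : Spec.map (CommRingCat.ofHom (algebraMap A (Localization.Away t))) ≫
      Spec.map (CommRingCat.ofHom ψ) = xt ≫ X.toSpecΓ := by
    rw [← Spec.map_comp, ← Spec.map_preimage (xt ≫ X.toSpecΓ)]
    congr 1
    ext : 1
    simpa using h2
  have hrange : Set.range ⇑(Spec.map (CommRingCat.ofHom ψ)) ⊆ Set.range ⇑X.toSpecΓ := by
    rintro _ ⟨𝔭, rfl⟩
    rcases cover φ t hq 𝔭 with ⟨𝔮, h𝔮⟩ | ⟨𝔮, h𝔮⟩
    · let 𝔮' : ↥(Spec (CommRingCat.of A')) := 𝔮
      refine ⟨x' 𝔮', ?_⟩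
      have e : (Spec.map (CommRingCat.ofHom φ) ≫ Spec.map (CommRingCat.ofHom ψ)) 𝔮' =
          (x' ≫ X.toSpecΓ) 𝔮' := by rw [hg1]
      rw [Scheme.Hom.comp_apply, Scheme.Hom.comp_apply] at e
      rw [← e]
      have h3 : (Spec.map (CommRingCat.ofHom φ)) 𝔮' = 𝔭 := h𝔮
      rw [h3]
    · let 𝔮' : ↥(Spec (CommRingCat.of (Localization.Away t))) := 𝔮
      refine ⟨xt 𝔮', ?_⟩
      have e : (Spec.map (CommRingCat.ofHom (algebraMap A (Localization.Away t))) ≫
          Spec.map (CommRingCat.ofHom ψ)) 𝔮' = (xt ≫ X.toSpecΓ) 𝔮' := by rw [hg2]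
      rw [Scheme.Hom.comp_apply, Scheme.Hom.comp_apply] at e
      rw [← e]
      have h3 : (Spec.map (CommRingCat.ofHom (algebraMap A (Localization.Away t)))) 𝔮' = 𝔭 := h𝔮
      rw [h3]
  refine ⟨IsOpenImmersion.lift X.toSpecΓ (Spec.map (CommRingCat.ofHom ψ)) hrange, ?_, ?_⟩
  · rw [← cancel_mono X.toSpecΓ, Category.assoc, IsOpenImmersion.lift_fac, hg1]
  · rw [← cancel_mono X.toSpecΓ, Category.assoc, IsOpenImmersion.lift_fac, hg2]

include hq htor in
theorem main (X : Scheme.{u}) [X.IsQuasiAffine] (p : X ⟶ Spec (CommRingCat.of A)) :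
    (∀ s₁ s₂ : Spec (CommRingCat.of A) ⟶ X, s₁ ≫ p = 𝟙 _ → s₂ ≫ p = 𝟙 _ →
        Spec.map (CommRingCat.ofHom φ) ≫ s₁ = Spec.map (CommRingCat.ofHom φ) ≫ s₂ →
        Spec.map (CommRingCat.ofHom (algebraMap A (Localization.Away t))) ≫ s₁ =
          Spec.map (CommRingCat.ofHom (algebraMap A (Localization.Away t))) ≫ s₂ →
        s₁ = s₂) ∧
    (∀ (x' : Spec (CommRingCat.of A') ⟶ X) (xt : Spec (CommRingCat.of (Localization.Away t)) ⟶ X),
        x' ≫ p = Spec.map (CommRingCat.ofHom φ) →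
        xt ≫ p = Spec.map (CommRingCat.ofHom (algebraMap A (Localization.Away t))) →
        Spec.map (CommRingCat.ofHom (algebraMap A' (Localization.Away (φ t)))) ≫ x' =
          Spec.map (CommRingCat.ofHom (Localization.awayMap φ t)) ≫ xt →
        ∃ s : Spec (CommRingCat.of A) ⟶ X, s ≫ p = 𝟙 _ ∧
          Spec.map (CommRingCat.ofHom φ) ≫ s = x' ∧
          Spec.map (CommRingCat.ofHom (algebraMap A (Localization.Away t))) ≫ s = xt) := by
  constructor
  · intro s₁ s₂ _ _ h1 h2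
    rw [← cancel_mono X.toSpecΓ]
    exact spec_hom_ext A A' φ t htor _ _
      (by rw [← Category.assoc, h1, Category.assoc])
      (by rw [← Category.assoc, h2, Category.assoc])
  · intro x' xt hx' hxt hc
    obtain ⟨s, hs1, hs2⟩ := exists_glue A A' φ t hq htor X x' xt hc
    refine ⟨s, ?_, hs1, hs2⟩
    apply spec_hom_ext A A' φ t htor
    · rw [← Category.assoc, hs1, hx', Category.comp_id]
    · rw [← Category.assoc, hs2, hxt, Category.comp_id]

end

end Groth.Agent.Lib.Helper9.BLGlue
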