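import Mathlib
import Groth.Prelude
import Groth.Agent.Lib.Helper12.DvrCurve
import Groth.Agent.Lib.Helper13.BlowMono
import Groth.Agent.Lib.Helper18.CartGen
set_option backward.isDefEq.respectTransparency.types false
set_option autoImplicit false
universe u
open CategoryTheory CategoryTheory.Limits AlgebraicGeometry TopologicalSpace

/-!
# An open of a blow-up which is universally submersive over the base is everything (helper9)
-/

namespace Groth.Agent.Lib.Helper9.BlowSubm

open Groth.Agent.Lib.Helper13.BlowMono Groth.Agent.Lib.Helper18.CartGen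

/-- a DVR has exactly two primes -/
theorem dvr_point_cases {R : Type u} [CommRing R] [IsDomain R] [IsDiscreteValuationRing R]
    (y : PrimeSpectrum R) :
    y = IsLocalRing.closedPoint R ∨ y = (⟨⊥, Ideal.isPrime_bot⟩ : PrimeSpectrum R) := by
  by_cases h : y.asIdeal = ⊥
  · right; exact PrimeSpectrum.ext h
  · left
    have hmax : y.asIdeal.IsMaximal := Ring.DimensionLEOne.maximalOfPrime h y.isPrime
    exact PrimeSpectrum.ext (IsLocalRing.eq_maximalIdeal hmax)

/-- For a quotient map onto the spectrum of a local domain which is not a field, some point over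
the closed point lies in the closure of the preimage of the complement of the closed point. -/
theorem exists_mem_closure_preimage {R : Type u} [CommRing R] [IsDomain R] [IsLocalRing R]
    (hR : ¬ IsField R) {W : Type*} [TopologicalSpace W] (p : W → PrimeSpectrum R)
    (hp : Topology.IsQuotientMap p) :
    ∃ w, p w = IsLocalRing.closedPoint R ∧
      w ∈ closure (p ⁻¹' ({IsLocalRing.closedPoint R}ᶜ : Set (PrimeSpectrum R))) := by
  by_contra hcon
  push Not at hcon
  have hcl : IsClosed (p ⁻¹' ({IsLocalRing.closedPoint R}ᶜ : Set (PrimeSpectrum R))) := by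
    rw [← closure_subset_iff_isClosed]
    intro w hw
    simp only [Set.mem_preimage, Set.mem_compl_iff, Set.mem_singleton_iff]
    intro hws
    exact hcon w hws hw
  have hcl' : IsClosed ({IsLocalRing.closedPoint R}ᶜ : Set (PrimeSpectrum R)) :=
    hp.isClosed_preimage.mp hcl
  let η : PrimeSpectrum R := ⟨⊥, Ideal.isPrime_bot⟩
  have hη : η ∈ ({IsLocalRing.closedPoint R}ᶜ : Set (PrimeSpectrum R)) := by
    simp only [Set.mem_compl_iff, Set.mem_singleton_iff]
    intro h
    apply hR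
    have h2 : (⊥ : Ideal R) = IsLocalRing.maximalIdeal R := congrArg PrimeSpectrum.asIdeal h
    exact IsLocalRing.isField_iff_maximalIdeal_eq.mpr h2.symm
  have hspec : η ⤳ IsLocalRing.closedPoint R :=
    (PrimeSpectrum.le_iff_specializes η _).mp
      (show η.asIdeal ≤ (IsLocalRing.closedPoint R).asIdeal from bot_le)
  exact (hspec.mem_closed hcl' hη) rfl

/-- pointwise form of L1 -/
theorem apply_eq_of_notMem_support {X X' T : Scheme.{u}} (𝓘 : X.IdealSheafData) (b : X' ⟶ X)
    (hb : BlowUp.IsBlowUp b 𝓘) (ψ₁ ψ₂ : T ⟶ X') (h : ψ₁ ≫ b = ψ₂ ≫ b) (t : T)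
    (ht : b (ψ₁ t) ∉ (𝓘.support : Set X)) : ψ₁ t = ψ₂ t := by
  let V : T.Opens := (ψ₁ ≫ b) ⁻¹ᵁ 𝓘.support.compl
  have htV : t ∈ V := by
    show (ψ₁ ≫ b) t ∈ (𝓘.support : Set X)ᶜ
    rw [Scheme.Hom.comp_apply]
    exact ht
  have key : V.ι ≫ ψ₁ = V.ι ≫ ψ₂ := by
    apply eq_of_comp_eq_of_disjoint_support 𝓘 b hb
    · rw [Category.assoc, Category.assoc, h]
    · intro v
      have hv : (ψ₁ ≫ b) (V.ι v) ∈ (𝓘.support : Set X)ᶜ := v.2
      rw [Category.assoc, Scheme.Hom.comp_apply]
      exact hv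
  have e1 : (V.ι ≫ ψ₁) ⟨t, htV⟩ = ψ₁ t := by
    rw [Scheme.Hom.comp_apply]; rfl
  have e2 : (V.ι ≫ ψ₂) ⟨t, htV⟩ = ψ₂ t := by
    rw [Scheme.Hom.comp_apply]; rfl
  rw [← e1, ← e2, key]

theorem eq_top {X X' : Scheme.{u}} [IsNoetherian X] [X'.IsSeparated]
    (𝓘 : X.IdealSheafData) (b : X' ⟶ X) [LocallyOfFiniteType b]
    (hb : BlowUp.IsBlowUp b 𝓘) (U : X'.Opens) (hU : SGA1.UnivSubmersive (U.ι ≫ b)) : U = ⊤ := by
  have : IsLocallyNoetherian X' := LocallyOfFiniteType.isLocallyNoetherian b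
  rw [eq_top_iff]
  rintro x' -
  have hE : ∀ y : X', y ∈ ((𝓘.comap b).support : Set X') ↔ b y ∈ (𝓘.support : Set X) := by
    intro y
    rw [Scheme.IdealSheafData.support_comap]
    rfl
  by_cases hx'E : x' ∈ ((𝓘.comap b).support : Set X')
  · -- the point lies on the exceptional divisor
    obtain ⟨x'', hspec, hne, hx''⟩ := exists_generization_notMem_support (𝓘.comap b) hb.1 x' hx'E
    obtain ⟨R, iR, iD, iV, γ, hγs, hγη⟩ :=
      Groth.Agent.Lib.Helper12.DvrCurve.exists_dvr_scheme x' x'' hspec hne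
    have hpq : Topology.IsQuotientMap (pullback.snd (U.ι ≫ b) (γ ≫ b)) :=
      hU _ _ _ (IsPullback.of_hasPullback (U.ι ≫ b) (γ ≫ b)).flip
    have hRf : ¬ IsField R := IsDiscreteValuationRing.not_isField R
    obtain ⟨w, hws, hwcl⟩ := exists_mem_closure_preimage hRf
      (fun w => (pullback.snd (U.ι ≫ b) (γ ≫ b)) w) hpq
    let B : (pullback (U.ι ≫ b) (γ ≫ b)).Opens :=
      (pullback.snd (U.ι ≫ b) (γ ≫ b)) ⁻¹ᵁ
        ⟨({IsLocalRing.closedPoint R}ᶜ : Set (PrimeSpectrum R)),
          (IsLocalRing.isClosed_singleton_closedPoint R).isOpen_compl⟩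
    have hcomm : pullback.fst (U.ι ≫ b) (γ ≫ b) ≫ U.ι ≫ b =
        pullback.snd (U.ι ≫ b) (γ ≫ b) ≫ γ ≫ b := pullback.condition
    have hagree : B.ι ≫ (pullback.fst (U.ι ≫ b) (γ ≫ b) ≫ U.ι) =
        B.ι ≫ (pullback.snd (U.ι ≫ b) (γ ≫ b) ≫ γ) := by
      apply eq_of_comp_eq_of_disjoint_support 𝓘 b hb
      · simp only [Category.assoc]
        rw [hcomm]
      · intro t
        simp only [Category.assoc]
        rw [hcomm, Scheme.Hom.comp_apply, Scheme.Hom.comp_apply,
          Scheme.Hom.comp_apply]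
        have ht : (pullback.snd (U.ι ≫ b) (γ ≫ b)) (B.ι t) ∈
            ({IsLocalRing.closedPoint R}ᶜ : Set (PrimeSpectrum R)) := t.2
        have hη : (pullback.snd (U.ι ≫ b) (γ ≫ b)) (B.ι t) =
            (⟨⊥, Ideal.isPrime_bot⟩ : PrimeSpectrum R) := by
          rcases dvr_point_cases ((pullback.snd (U.ι ≫ b) (γ ≫ b)) (B.ι t)) with h | h
          · exact absurd h ht
          · exact h
        rw [hη, hγη, ← hE]
        exact hx''
    have hw' : w ∈ closure (B : Set ↥(pullback (U.ι ≫ b) (γ ≫ b))) := hwcl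
    have heq := apply_eq_of_mem_closure _ _ B hagree w hw'
    rw [Scheme.Hom.comp_apply, Scheme.Hom.comp_apply] at heq
    have h2 : γ ((pullback.snd (U.ι ≫ b) (γ ≫ b)) w) = x' := by
      rw [← hγs]
      exact congrArg (fun z => γ z) hws
    rw [h2] at heq
    show x' ∈ (U : Set X')
    rw [← heq, ← Scheme.Opens.range_ι U]
    exact ⟨_, rfl⟩
  · -- the point lies off the exceptional divisor
    have hbx : b x' ∉ (𝓘.support : Set X) := fun h => hx'E ((hE x').mpr h)
    have hq : Topology.IsQuotientMap (U.ι ≫ b) :=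
      MorphismProperty.universally_le _ _ hU
    obtain ⟨u, hu⟩ := hq.surjective (b x')
    rw [Scheme.Hom.comp_apply] at hu
    obtain ⟨z, hz1, hz2⟩ := Scheme.Pullback.exists_preimage_pullback (f := b) (g := b) (U.ι u) x' hu
    have h := apply_eq_of_notMem_support 𝓘 b hb (pullback.fst b b) (pullback.snd b b)
      pullback.condition z (by rw [hz1, hu]; exact hbx)
    rw [hz1, hz2] at h
    show x' ∈ (U : Set X')
    rw [← h, ← Scheme.Opens.range_ι U]
    exact ⟨_, rfl⟩

end Groth.Agent.Lib.Helper9.BlowSubm
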