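import Mathlib
import Groth.Agent.Lib.Helper9.QFrame
import Groth.Agent.Lib.Helper9.PA3

/-! The ideal `x_z (x_a : a ≠ l) + (x_o^q)`: setup, standard monomials, single-generator maps
(helper9). -/

set_option autoImplicit false
universe u
open MvPolynomial W4c1hilbpn
open Groth.Agent.Lib.Helper29.BddComp Groth.Agent.Lib.Helper29.TgtGraded
open Groth.Agent.Lib.Helper20.MonoIdeal (exps_of_le)
open Groth.Agent.Lib.Helper9.TwoPlanes (gen gen_apply gen_comm eal shift_eal)
open Groth.Agent.Lib.Helper9.PA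
open Groth.Agent.Lib.Helper9.QFrame

namespace Groth.Agent.Lib.Helper9.C50

/-- configuration: variables `z`, `o`, `l`, a further variable `m₁`, and the exponent `q` -/
structure Cfg (M : ℕ) where
  z : Fin M
  o : Fin M
  l : Fin M
  m₁ : Fin M
  q : ℕ
  hzo : z ≠ o
  hzl : z ≠ l
  hol : o ≠ l
  hmz : m₁ ≠ z
  hmo : m₁ ≠ o
  hml : m₁ ≠ l
  hq : 2 ≤ q
  hcase : (∃ m₂, m₂ ≠ z ∧ m₂ ≠ o ∧ m₂ ≠ l ∧ m₂ ≠ m₁) ∨ 4 ≤ q

variable {M : ℕ} (C : Cfg M)

/-- the pure power generator -/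
noncomputable def hh : Fin M →₀ ℕ := Finsupp.single C.o C.q

theorem hh_apply (m : Fin M) : hh C m = if C.o = m then C.q else 0 := by
  unfold hh; rw [Finsupp.single_apply]

theorem degree_hh : (hh C).degree = C.q := Finsupp.degree_single _ _

theorem hh_z : hh C C.z = 0 := by
  rw [hh_apply, if_neg (fun e => C.hzo e.symm)]

theorem hh_o : hh C C.o = C.q := by
  rw [hh_apply, if_pos rfl]

theorem gen_bound (u v m : Fin M) : gen u v m ≤ 2 := by
  rw [gen_apply]; split_ifs <;> omega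

theorem gen_pos_left (u v : Fin M) : 1 ≤ gen u v u := by
  rw [gen_apply]; simp only [↓reduceIte]; omega

theorem gen_pos_right (u v : Fin M) : 1 ≤ gen u v v := by
  rw [gen_apply]; simp only [↓reduceIte]; omega

theorem gen_zero {u v m : Fin M} (h1 : u ≠ m) (h2 : v ≠ m) : gen u v m = 0 := by
  rw [gen_apply, if_neg h1, if_neg h2]

theorem gen_one_left {u v : Fin M} (h : v ≠ u) : gen u v u = 1 := by
  rw [gen_apply, if_neg h]; simp only [↓reduceIte]

theorem gen_one_right {u v : Fin M} (h : u ≠ v) : gen u v v = 1 := by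
  rw [gen_apply, if_neg h]; simp only [↓reduceIte]

open Classical in
/-- the quadric generators -/
noncomputable def Gz : Finset (Fin M →₀ ℕ) := (Finset.univ.erase C.l).image (fun a => gen C.z a)

theorem mem_Gz (s : Fin M →₀ ℕ) : s ∈ Gz C ↔ ∃ a, a ≠ C.l ∧ s = gen C.z a := by
  classical
  unfold Gz
  rw [Finset.mem_image]
  constructor
  · rintro ⟨a, ha, rfl⟩
    exact ⟨a, (Finset.mem_erase.mp ha).1, rfl⟩
  · rintro ⟨a, ha, rfl⟩
    exact ⟨a, Finset.mem_erase.mpr ⟨ha, Finset.mem_univ _⟩, rfl⟩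

open Classical in
/-- all generators -/
noncomputable def Gf : Finset (Fin M →₀ ℕ) := insert (hh C) (Gz C)

theorem mem_Gf (s : Fin M →₀ ℕ) : s ∈ Gf C ↔ s = hh C ∨ ∃ a, a ≠ C.l ∧ s = gen C.z a := by
  classical
  unfold Gf
  rw [Finset.mem_insert, mem_Gz]

theorem hh_mem : hh C ∈ Gf C := (mem_Gf C _).mpr (Or.inl rfl)

theorem genz_mem {a : Fin M} (ha : a ≠ C.l) : gen C.z a ∈ Gf C :=
  (mem_Gf C _).mpr (Or.inr ⟨a, ha, rfl⟩)

theorem hh_ne_gen (a : Fin M) : hh C ≠ gen C.z a := by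
  intro e
  have h := DFunLike.congr_fun e C.z
  rw [hh_z] at h
  have := gen_pos_left C.z a
  omega

theorem anti_Gf : ∀ s ∈ (↑(Gf C) : Set (Fin M →₀ ℕ)), ∀ s' ∈ (↑(Gf C) : Set (Fin M →₀ ℕ)),
    s ≤ s' → s = s' := by
  intro s hs s' hs' hle
  rcases (mem_Gf C s).mp (Finset.mem_coe.mp hs) with rfl | ⟨a, _, rfl⟩
  · rcases (mem_Gf C s').mp (Finset.mem_coe.mp hs') with rfl | ⟨a', _, rfl⟩
    · rfl
    · exfalso
      have h := hle C.o
      rw [hh_o] at h
      have h2 := gen_bound C.z a' C.o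
      have h3 : gen C.z a' C.o ≤ 1 := by
        rw [gen_apply, if_neg C.hzo]; split_ifs <;> omega
      have := C.hq
      omega
  · rcases (mem_Gf C s').mp (Finset.mem_coe.mp hs') with rfl | ⟨a', _, rfl⟩
    · exfalso
      have h := hle C.z
      rw [hh_z] at h
      have := gen_pos_left C.z a
      omega
    · exact gen_le_gen hle

variable (k : Type u) [Field k]

/-- the ideal -/
noncomputable abbrev I50 : Ideal (MvPolynomial (Fin M) k) := Ig k (↑(Gf C) : Set (Fin M →₀ ℕ))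

theorem gmem {g : Fin M →₀ ℕ} (hg : g ∈ Gf C) : monomial g (1 : k) ∈ I50 C k :=
  gen_mem_g k (Finset.mem_coe.mpr hg)

theorem mem_exps50 (β : Fin M →₀ ℕ) :
    β ∈ exps (I50 C k) ↔ 2 ≤ β C.z ∨ (1 ≤ β C.z ∧ ∃ a, a ≠ C.z ∧ a ≠ C.l ∧ 1 ≤ β a) ∨
      C.q ≤ β C.o := by
  rw [mem_exps_g]
  constructor
  · rintro ⟨s, hs, hle⟩
    rcases (mem_Gf C s).mp (Finset.mem_coe.mp hs) with rfl | ⟨a, ha, rfl⟩
    · right; right
      have h := hle C.o
      rw [hh_o] at h
      exact h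
    · obtain ⟨e1, e2, e3⟩ := (gen_le_iff _ _ _).mp hle
      by_cases haz : a = C.z
      · left; exact e3 haz.symm
      · right; left; exact ⟨e1, a, haz, ha, e2⟩
  · rintro (h | ⟨h1, a, haz, hal, h2⟩ | h)
    · exact ⟨_, Finset.mem_coe.mpr (genz_mem C C.hzl), (gen_le_iff _ _ _).mpr ⟨by omega, by omega,
        fun _ => h⟩⟩
    · exact ⟨_, Finset.mem_coe.mpr (genz_mem C hal), (gen_le_iff _ _ _).mpr ⟨h1, h2,
        fun e => absurd e.symm haz⟩⟩
    · refine ⟨_, Finset.mem_coe.mpr (hh_mem C), ?_⟩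
      intro m
      rw [hh_apply]
      split_ifs with e
      · subst e; exact h
      · exact Nat.zero_le _

/-! ### standard monomials -/

theorem std_noz (β : Fin M →₀ ℕ) (h1 : β C.z = 0) (h2 : β C.o < C.q) : β ∉ exps (I50 C k) := by
  intro hmem
  rcases (mem_exps50 C k β).mp hmem with h | ⟨h, _⟩ | h <;> omega

theorem std_zl (β : Fin M →₀ ℕ) (h1 : β C.z = 1) (h2 : ∀ a, a ≠ C.z → a ≠ C.l → β a = 0) :
    β ∉ exps (I50 C k) := by
  intro hmem
  rcases (mem_exps50 C k β).mp hmem with h | ⟨_, a, haz, hal, h⟩ | h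
  · omega
  · have := h2 a haz hal; omega
  · have := h2 C.o (fun e => C.hzo e.symm) C.hol
    have := C.hq
    omega

theorem o_lt_of_std {β : Fin M →₀ ℕ} (h : β ∉ exps (I50 C k)) : β C.o < C.q := by
  by_contra hcon
  exact h ((mem_exps50 C k β).mpr (Or.inr (Or.inr (by omega))))

/-! ### the targets of the pure power generator -/

/-- `x_z x_l^{q-1}` -/
noncomputable def ezl : Fin M →₀ ℕ := Finsupp.single C.z 1 + Finsupp.single C.l (C.q - 1)

/-- `x_l^q` -/
noncomputable def sl : Fin M →₀ ℕ := Finsupp.single C.l C.q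

theorem ezl_apply (m : Fin M) :
    ezl C m = (if C.z = m then 1 else 0) + (if C.l = m then C.q - 1 else 0) := by
  unfold ezl; rw [Finsupp.add_apply, Finsupp.single_apply, Finsupp.single_apply]

theorem ezl_z : ezl C C.z = 1 := by
  have n : ¬ C.l = C.z := fun e => C.hzl e.symm
  rw [ezl_apply]; simp only [↓reduceIte, if_neg n]

theorem degree_ezl : (ezl C).degree = C.q := by
  unfold ezl
  rw [map_add, Finsupp.degree_single, Finsupp.degree_single]
  have := C.hq
  omega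

theorem sl_apply (m : Fin M) : sl C m = if C.l = m then C.q else 0 := by
  unfold sl; rw [Finsupp.single_apply]

theorem degree_sl : (sl C).degree = C.q := Finsupp.degree_single _ _

/-- the valid targets of `x_o^q` -/
def InT (μ : Fin M →₀ ℕ) : Prop :=
  μ = ezl C ∨ (μ C.z = 0 ∧ μ.degree = C.q ∧ μ ≠ hh C ∧ μ ≠ sl C)

theorem eq_single_of (μ : Fin M →₀ ℕ) (l : Fin M) (h : ∀ a, a ≠ l → μ a = 0) :
    μ = Finsupp.single l (μ l) := by
  ext m
  rw [Finsupp.single_apply]
  by_cases e : l = m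
  · rw [if_pos e, e]
  · rw [if_neg e]; exact h m (fun e' => e e'.symm)

theorem exists_ne_l {μ : Fin M →₀ ℕ} (hd : μ.degree = C.q) (hne : μ ≠ sl C) :
    ∃ a, a ≠ C.l ∧ 1 ≤ μ a := by
  by_contra hcon
  push Not at hcon
  apply hne
  have h0 : ∀ a, a ≠ C.l → μ a = 0 := fun a ha => by have := hcon a ha; omega
  have e := eq_single_of μ C.l h0
  have hd' := hd
  rw [e, Finsupp.degree_single] at hd'
  rw [e, hd']; rfl

theorem le_of_degree_eq {s μ : Fin M →₀ ℕ} (hle : s ≤ μ) (hd : μ.degree = s.degree) : μ = s := by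
  have h1 : s + (μ - s) = μ := add_tsub_cancel_of_le hle
  have h2 := congrArg Finsupp.degree h1
  rw [map_add] at h2
  have h3 : (μ - s).degree = 0 := by omega
  rw [Finsupp.degree_eq_zero_iff] at h3
  rw [h3, add_zero] at h1
  exact h1.symm

theorem std_InT {μ : Fin M →₀ ℕ} (h : InT C μ) : μ ∉ exps (I50 C k) := by
  rcases h with rfl | ⟨hz, hd, hne, _⟩
  · apply std_zl C k _ (ezl_z C)
    intro a haz hal
    rw [ezl_apply, if_neg (fun e => haz e.symm), if_neg (fun e => hal e.symm)]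
  · apply std_noz C k _ hz
    by_contra hcon
    apply hne
    apply le_of_degree_eq
    · intro m
      rw [hh_apply]
      split_ifs with e
      · subst e; omega
      · exact Nat.zero_le _
    · rw [hd, degree_hh]

/-! ### valid pairs -/

/-- valid pairs `(g, μ)` -/
def V : Set ((Fin M →₀ ℕ) × (Fin M →₀ ℕ)) :=
  {x | (x.1 = hh C ∧ InT C x.2) ∨ ((∃ a, a ≠ C.l ∧ x.1 = gen C.z a) ∧ x.2 = gen C.z C.l)}

theorem fst_mem_Gf {x : (Fin M →₀ ℕ) × (Fin M →₀ ℕ)} (hx : x ∈ V C) : x.1 ∈ Gf C := by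
  rcases hx with ⟨h, _⟩ | ⟨⟨a, ha, h⟩, _⟩
  · rw [h]; exact hh_mem C
  · rw [h]; exact genz_mem C ha

theorem std_genzl : gen C.z C.l ∉ exps (I50 C k) := by
  apply std_zl C k _ (gen_one_left (fun e => C.hzl e.symm))
  intro a haz hal
  exact gen_zero (fun e => haz e.symm) (fun e => hal e.symm)

theorem std_V {x : (Fin M →₀ ℕ) × (Fin M →₀ ℕ)} (hx : x ∈ V C) : x.2 ∉ exps (I50 C k) := by
  rcases hx with ⟨_, h⟩ | ⟨_, h⟩
  · exact std_InT C k h
  · rw [h]; exact std_genzl C k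

theorem degree_V {x : (Fin M →₀ ℕ) × (Fin M →₀ ℕ)} (hx : x ∈ V C) :
    x.2.degree = x.1.degree := by
  rcases hx with ⟨h1, h2⟩ | ⟨⟨a, _, h1⟩, h2⟩
  · rw [h1, degree_hh]
    rcases h2 with h | ⟨_, h, _⟩
    · rw [h, degree_ezl]
    · exact h
  · rw [h1, h2, degree_gen, degree_gen]

theorem sg_hh {μ : Fin M →₀ ℕ} (hμ : InT C μ) : SgCond (I50 C k) (hh C) μ := by
  intro β hβ hnle i hle
  have ho : β C.o < C.q := by
    by_contra hcon
    apply hnle
    intro m
    rw [hh_apply]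
    split_ifs with e
    · subst e; omega
    · exact Nat.zero_le _
  have hβz : 1 ≤ β C.z := by
    rcases (mem_exps50 C k β).mp hβ with h | ⟨h, _⟩ | h <;> omega
  have hsum : (Finsupp.single i 1 + β - hh C) + hh C = Finsupp.single i 1 + β :=
    tsub_add_cancel_of_le hle
  obtain ⟨γ, hγdef⟩ : ∃ γ : Fin M →₀ ℕ, γ = Finsupp.single i 1 + β - hh C := ⟨_, rfl⟩
  rw [← hγdef] at hsum ⊢
  have hγz : 1 ≤ γ C.z := by
    have h := DFunLike.congr_fun hsum C.z
    rw [Finsupp.add_apply, Finsupp.add_apply, hh_z] at h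
    omega
  rcases hμ with rfl | ⟨hz, hd, _, hne⟩
  · apply (mem_exps50 C k _).mpr
    left
    rw [Finsupp.add_apply, ezl_z]
    omega
  · obtain ⟨a, hal, ha⟩ := exists_ne_l C hd hne
    have haz : a ≠ C.z := by
      intro e; rw [e] at ha; omega
    apply (mem_exps50 C k _).mpr
    right; left
    refine ⟨?_, a, haz, hal, ?_⟩
    · rw [Finsupp.add_apply]; omega
    · rw [Finsupp.add_apply]; omega

theorem sg_gen {a : Fin M} (hal : a ≠ C.l) : SgCond (I50 C k) (gen C.z a) (gen C.z C.l) := by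
  intro β hβ hnle i hle
  have hsum : (Finsupp.single i 1 + β - gen C.z a) + gen C.z a = Finsupp.single i 1 + β :=
    tsub_add_cancel_of_le hle
  obtain ⟨γ, hγdef⟩ : ∃ γ : Fin M →₀ ℕ, γ = Finsupp.single i 1 + β - gen C.z a := ⟨_, rfl⟩
  rw [← hγdef] at hsum ⊢
  have hpt : ∀ m, γ m + gen C.z a m = (Finsupp.single i 1 : Fin M →₀ ℕ) m + β m := fun m => by
    have h := DFunLike.congr_fun hsum m
    rw [Finsupp.add_apply, Finsupp.add_apply] at h
    exact h
  have hzl1 : 1 ≤ gen C.z C.l C.z := gen_pos_left _ _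
  apply (mem_exps50 C k _).mpr
  rcases (mem_exps50 C k β).mp hβ with h | ⟨h1, a', ha'z, ha'l, h2⟩ | h
  · by_cases haz : a = C.z
    · exfalso
      subst haz
      exact hnle ((gen_le_iff _ _ _).mpr ⟨by omega, by omega, fun _ => h⟩)
    · left
      have h3 := hpt C.z
      rw [gen_one_left haz] at h3
      rw [Finsupp.add_apply]
      omega
  · by_cases haa' : a = a'
    · exfalso
      subst haa'
      exact hnle ((gen_le_iff _ _ _).mpr ⟨h1, h2, fun e => absurd e.symm ha'z⟩)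
    · right; left
      refine ⟨?_, a', ha'z, ha'l, ?_⟩
      · rw [Finsupp.add_apply]; omega
      · have h3 := hpt a'
        rw [gen_zero (fun e => ha'z e.symm) haa'] at h3
        rw [Finsupp.add_apply]
        omega
  · by_cases hao : a = C.o
    · subst hao
      right; left
      refine ⟨?_, C.o, fun e => C.hzo e.symm, hal, ?_⟩
      · rw [Finsupp.add_apply]; omega
      · have h3 := hpt C.o
        rw [gen_one_right C.hzo] at h3
        rw [Finsupp.add_apply]
        have := C.hq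
        omega
    · right; right
      have h3 := hpt C.o
      rw [gen_zero C.hzo hao] at h3
      rw [Finsupp.add_apply]
      omega

theorem sg_V {x : (Fin M →₀ ℕ) × (Fin M →₀ ℕ)} (hx : x ∈ V C) : SgCond (I50 C k) x.1 x.2 := by
  rcases hx with ⟨h1, h2⟩ | ⟨⟨a, ha, h1⟩, h2⟩
  · rw [h1]; exact sg_hh C k h2
  · rw [h1, h2]; exact sg_gen C k ha

end Groth.Agent.Lib.Helper9.C50
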