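import Mathlib
import Groth.Agent.Lib.Helper9.C50a
import Groth.Agent.Lib.Helper9.B48b

/-! The ideal `x_z (x_a : a ≠ l) + (x_o^q)`: classification and spanning (helper9). -/

set_option autoImplicit false
universe u
open MvPolynomial W4c1hilbpn
open Groth.Agent.Lib.Helper29.BddComp Groth.Agent.Lib.Helper29.TgtGraded
open Groth.Agent.Lib.Helper20.MonoIdeal (exps_of_le)
open Groth.Agent.Lib.Helper9.TwoPlanes (gen gen_apply gen_comm eal shift_eal sum_eal eal_inj
  shift_gen_eal)
open Groth.Agent.Lib.Helper9.PA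
open Groth.Agent.Lib.Helper9.QFrame

namespace Groth.Agent.Lib.Helper9.C50

variable {M : ℕ} (C : Cfg M) (k : Type u) [Field k]

/-- the output of the classification step -/
def StepOut (α : Fin M → ℤ) (g : Fin M →₀ ℕ) : Prop :=
  (g, shift g α) ∈ V C ∨ ∃ b, b ≠ C.z ∧ α = eal C.z b ∧ ∃ a, a ≠ C.z ∧ a ≠ C.l ∧ g = gen C.z a

theorem std_single_add {j u v : Fin M} (hjz : j ≠ C.z) (huz : u ≠ C.z) (hvz : v ≠ C.z)
    (ho : (Finsupp.single j 1 + gen u v : Fin M →₀ ℕ) C.o < C.q) :
    Finsupp.single j 1 + gen u v ∉ exps (I50 C k) := by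
  apply std_noz C k _ _ ho
  rw [Finsupp.add_apply, Finsupp.single_apply, if_neg hjz, gen_zero huz hvz]

/-- the classification step -/
theorem step50 (α : Fin M → ℤ) (hsum : ∑ m, α m = 0) (φ : Tgt (I50 C k))
    (hφ : φ ∈ tPiece (I50 C k) α) {g : Fin M →₀ ℕ} (hg : g ∈ Gf C)
    (hval : φ ⟨monomial g 1, gmem C k hg⟩ ≠ 0) : StepOut C α g := by
  have hgm := gmem C k hg
  have hnn : ∀ m, 0 ≤ toZ g α m := by
    by_contra hcon
    obtain ⟨m, hm⟩ := not_forall.mp hcon
    exact hval (phi_eq_zero _ α hφ _ _ ⟨m, not_le.mp hm⟩)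
  have hco := phi_eq_co _ α hφ g hgm hnn
  have hc : co (I50 C k) α φ g ≠ 0 := by
    intro h; rw [h, zero_smul] at hco; exact hval hco
  have hμ : shift g α ∉ exps (I50 C k) := by
    intro h; rw [cls_eq_zero _ h, smul_zero] at hco; exact hval hco
  have hdeg : (shift g α).degree = g.degree := by
    have h1 := Groth.Agent.Lib.Helper29.TgtPow.degree_shift α g hnn
    rw [hsum, add_zero] at h1
    exact_mod_cast h1
  have hμm : ∀ m, ((shift g α m : ℕ) : ℤ) = ((g m : ℕ) : ℤ) + α m := fun m => by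
    show ((((g m : ℕ) : ℤ) + α m).toNat : ℤ) = _
    exact Int.toNat_of_nonneg (hnn m)
  rcases (mem_Gf C g).mp hg with rfl | ⟨a, hal, rfl⟩
  · -- the pure power
    left
    refine Or.inl ⟨rfl, ?_⟩
    rw [degree_hh] at hdeg
    obtain ⟨μ, hμdef⟩ : ∃ μ : Fin M →₀ ℕ, μ = shift (hh C) α := ⟨_, rfl⟩
    rw [← hμdef] at hμ hdeg hco hμm
    show InT C (shift (hh C) α)
    rw [← hμdef]
    have hμz : μ C.z ≤ 1 := by
      by_contra hcon; exact hμ ((mem_exps50 C k μ).mpr (Or.inl (by omega)))
    have hμo : μ C.o < C.q := o_lt_of_std C k hμ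
    by_cases hz1 : μ C.z = 1
    · left
      have h0 : ∀ a, a ≠ C.z → a ≠ C.l → μ a = 0 := by
        intro a haz hal
        by_contra hne
        exact hμ ((mem_exps50 C k μ).mpr (Or.inr (Or.inl ⟨by omega, a, haz, hal, by omega⟩)))
      have e1 : μ = Finsupp.single C.z 1 + Finsupp.single C.l (μ C.l) := by
        ext m
        rw [Finsupp.add_apply, Finsupp.single_apply, Finsupp.single_apply]
        by_cases emz : C.z = m
        · subst emz
          rw [if_pos rfl, if_neg (fun e => C.hzl e.symm), hz1]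
          rfl
        · by_cases eml : C.l = m
          · subst eml
            rw [if_neg emz, if_pos rfl, zero_add]
          · rw [if_neg emz, if_neg eml]
            exact h0 m (fun e => emz e.symm) (fun e => eml e.symm)
      have h2 := congrArg Finsupp.degree e1
      rw [hdeg, map_add, Finsupp.degree_single, Finsupp.degree_single] at h2
      have h3 : μ C.l = C.q - 1 := by omega
      rw [e1, h3]; rfl
    · right
      have hz0 : μ C.z = 0 := by omega
      refine ⟨hz0, hdeg, ?_, ?_⟩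
      · intro e; rw [e, hh_o] at hμo; omega
      · intro e
        -- the syzygy with `x_z x_o`
        have hαo : α C.o = -(C.q : ℤ) := by
          have h1 := hμm C.o
          rw [e, sl_apply, if_neg (fun e' => C.hol e'.symm), hh_o] at h1
          push_cast at h1
          omega
        have hg₁ : gen C.z C.o ∈ Gf C := genz_mem C C.hol
        have hg₁m := gmem C k hg₁
        have hz : φ ⟨monomial (gen C.z C.o) 1, hg₁m⟩ = 0 := by
          refine phi_eq_zero _ α hφ _ _ ⟨C.o, ?_⟩
          show ((gen C.z C.o C.o : ℕ) : ℤ) + α C.o < 0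
          rw [hαo, gen_one_right C.hzo]
          have := C.hq
          push_cast
          omega
        have hβm : monomial (Finsupp.single C.z 1 + hh C) (1 : k) ∈ I50 C k :=
          add_mem_g _ hgm _
        have r1 := phi_X _ φ C.z (hh C) hgm hβm
        have hle : gen C.z C.o ≤ Finsupp.single C.z 1 + hh C := by
          apply (gen_le_iff _ _ _).mpr
          refine ⟨?_, ?_, fun e' => absurd e' C.hzo⟩
          · rw [Finsupp.add_apply, Finsupp.single_apply, if_pos rfl]; omega
          · rw [Finsupp.add_apply, hh_o]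
            have := C.hq
            omega
        have r2 := phi_of_le_g _ φ hg₁m hβm hle
        rw [hz, smul_zero] at r2
        rw [r2, hco, smul_comm, X_smul_cls] at r1
        have hst : Finsupp.single C.z 1 + μ ∉ exps (I50 C k) := by
          apply std_zl C k
          · rw [Finsupp.add_apply, Finsupp.single_apply, if_pos rfl, hz0]
          · intro a haz hal
            rw [Finsupp.add_apply, Finsupp.single_apply, if_neg (fun e' => haz e'.symm), e,
              sl_apply, if_neg (fun e' => hal e'.symm)]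
        exact smul_ne_zero hc (cls_ne_zero _ hst) r1.symm
  · -- a quadric generator
    rw [degree_gen] at hdeg
    obtain ⟨u, v, huv⟩ := exists_gen_of_degree_two _ hdeg
    have hα : ∀ m, α m = ((gen u v m : ℕ) : ℤ) - ((gen C.z a m : ℕ) : ℤ) := fun m => by
      have := hμm m
      rw [huv] at this
      omega
    rw [huv] at hμ hco
    by_cases huz : u = C.z
    · subst huz
      have hvl : v = C.l := by
        by_contra hne
        exact hμ (gmem C k (genz_mem C hne))
      subst hvl
      exact Or.inl (Or.inr ⟨⟨a, hal, rfl⟩, huv⟩)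
    by_cases hvz : v = C.z
    · subst hvz
      have hul : u = C.l := by
        by_contra hne
        apply hμ
        rw [gen_comm]
        exact gmem C k (genz_mem C hne)
      subst hul
      exact Or.inl (Or.inr ⟨⟨a, hal, rfl⟩, huv.trans (gen_comm _ _)⟩)
    have hμo : gen u v C.o < C.q := o_lt_of_std C k hμ
    -- a generic contradiction from a neighbour `gen z j`
    have key : ∀ j, j ≠ C.l → j ≠ C.z →
        ((gen C.z j a : ℕ) : ℤ) + α a < 0 →
        (Finsupp.single j 1 + gen u v : Fin M →₀ ℕ) C.o < C.q → False := by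
      intro j hjl hjz hneg ho
      have hh' := gmem C k (genz_mem C hjl)
      have heq : Finsupp.single j 1 + gen C.z a = Finsupp.single a 1 + gen C.z j := by
        unfold gen; abel
      have hz : φ ⟨monomial (gen C.z j) 1, hh'⟩ = 0 :=
        phi_eq_zero _ α hφ _ _ ⟨a, hneg⟩
      exact std_single_add C k hjz huz hvz ho (rel0_g _ φ hgm hh' j a heq hz hco hc)
    have hom : ∀ j, j ≠ C.o → (Finsupp.single j 1 + gen u v : Fin M →₀ ℕ) C.o < C.q := by
      intro j hj
      rw [Finsupp.add_apply, Finsupp.single_apply, if_neg hj, zero_add]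
      exact hμo
    by_cases haz : a = C.z
    · exfalso
      subst haz
      refine key C.m₁ C.hml C.hmz ?_ (hom _ C.hmo)
      rw [hα, gen_one_left C.hmz, gen_zero huz hvz]
      have : gen C.z C.z C.z = 2 := by rw [gen_apply]; simp only [↓reduceIte]
      rw [this]
      norm_num
    by_cases hau : a = u
    · right
      exact ⟨v, hvz, Groth.Agent.Lib.Helper9.B48.eal_of_alpha hα hau, a, haz, hal, rfl⟩
    by_cases hav : a = v
    · right
      exact ⟨u, huz, Groth.Agent.Lib.Helper9.B48.eal_of_alpha' hα hav, a, haz, hal, rfl⟩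
    exfalso
    have hua : u ≠ a := fun e => hau e.symm
    have hva : v ≠ a := fun e => hav e.symm
    by_cases ham : a = C.m₁
    · rcases C.hcase with ⟨m₂, h2z, h2o, h2l, h2m⟩ | hq4
      · exact key m₂ h2l h2z
          (toZ_neg C.z a m₂ u v (Or.inl (fun e => h2m (e.trans ham))) hua hva (hα a)) (hom _ h2o)
      · refine key C.o C.hol (fun e => C.hzo e.symm)
          (toZ_neg C.z a C.o u v (Or.inl (fun e => C.hmo (ham.symm.trans e.symm))) hua hva (hα a)) ?_
        rw [Finsupp.add_apply, Finsupp.single_apply, if_pos rfl]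
        have := gen_bound u v C.o
        omega
    · exact key C.m₁ C.hml C.hmz
        (toZ_neg C.z a C.m₁ u v (Or.inl (fun e => ham e.symm)) hua hva (hα a)) (hom _ C.hmo)

/-! ### the spanning family -/

open Classical in
/-- `x_o^q`-targets of degree `q` not involving `x_z` -/
noncomputable def Aq : Finset (Fin M →₀ ℕ) := (Finset.univ.erase C.z).finsuppAntidiag C.q

theorem mem_Aq (μ : Fin M →₀ ℕ) : μ ∈ Aq C ↔ μ C.z = 0 ∧ μ.degree = C.q := by
  classical
  unfold Aq
  rw [Finset.mem_finsuppAntidiag]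
  constructor
  · rintro ⟨h1, h2⟩
    have hz : μ C.z = 0 := by
      by_contra hne
      have := h2 (Finsupp.mem_support_iff.mpr hne)
      exact (Finset.mem_erase.mp this).1 rfl
    refine ⟨hz, ?_⟩
    rw [Finsupp.degree_eq_sum, ← Finset.add_sum_erase _ _ (Finset.mem_univ C.z), hz, zero_add]
    exact h1
  · rintro ⟨hz, hd⟩
    refine ⟨?_, ?_⟩
    · rw [Finsupp.degree_eq_sum, ← Finset.add_sum_erase _ _ (Finset.mem_univ C.z), hz,
        zero_add] at hd
      exact hd
    · intro a ha
      rw [Finset.mem_erase]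
      exact ⟨fun e => (Finsupp.mem_support_iff.mp ha) (e ▸ hz), Finset.mem_univ _⟩

open Classical in
/-- the targets of `x_o^q`, as a finset -/
noncomputable def Tq : Finset (Fin M →₀ ℕ) :=
  insert (ezl C) (((Aq C).erase (hh C)).erase (sl C))

theorem mem_Tq (μ : Fin M →₀ ℕ) : μ ∈ Tq C ↔ InT C μ := by
  classical
  unfold Tq InT
  rw [Finset.mem_insert, Finset.mem_erase, Finset.mem_erase, mem_Aq]
  constructor
  · rintro (h | ⟨h1, h2, h3, h4⟩)
    · exact Or.inl h
    · exact Or.inr ⟨h3, h4, h2, h1⟩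
  · rintro (h | ⟨h3, h4, h2, h1⟩)
    · exact Or.inl h
    · exact Or.inr ⟨h1, h2, h3, h4⟩

open Classical in
/-- the valid pairs, as a finset -/
noncomputable def Vf : Finset ((Fin M →₀ ℕ) × (Fin M →₀ ℕ)) :=
  (({hh C} : Finset (Fin M →₀ ℕ)) ×ˢ Tq C) ∪ ((Gz C) ×ˢ ({gen C.z C.l} : Finset (Fin M →₀ ℕ)))

theorem mem_Vf (x : (Fin M →₀ ℕ) × (Fin M →₀ ℕ)) : x ∈ Vf C ↔ x ∈ V C := by
  classical
  unfold Vf V
  rw [Finset.mem_union, Finset.mem_product, Finset.mem_product, Finset.mem_singleton,
    Finset.mem_singleton, mem_Tq, mem_Gz, Set.mem_setOf_eq]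

open Classical in
/-- indices for the derivations `x_b ∂/∂x_z` -/
noncomputable def Df : Finset (Fin M) := Finset.univ.erase C.z

theorem mem_Df (b : Fin M) : b ∈ Df C ↔ b ≠ C.z := by
  classical
  unfold Df
  rw [Finset.mem_erase]
  exact ⟨fun h => h.1, fun h => ⟨h, Finset.mem_univ _⟩⟩

/-- index type of the basis -/
abbrev Idx : Type := ↥(Vf C) ⊕ ↥(Df C)

/-- the basis family -/
noncomputable def vfam : Idx C → Tgt (I50 C k) :=
  Sum.elim (fun x => psiT (I50 C k) (isMono_g k _) x.1.1 x.1.2)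
    (fun y => Dg (I50 C k) C.z y.1)

/-- the span of the basis family -/
noncomputable def W : Submodule k (Tgt (I50 C k)) := Submodule.span k (Set.range (vfam C k))

theorem psi_mem_W {x : (Fin M →₀ ℕ) × (Fin M →₀ ℕ)} (hx : x ∈ V C) :
    psiT (I50 C k) (isMono_g k _) x.1 x.2 ∈ W C k :=
  Submodule.subset_span ⟨Sum.inl ⟨x, (mem_Vf C x).mpr hx⟩, rfl⟩

theorem D_mem_W {b : Fin M} (hbz : b ≠ C.z) : Dg (I50 C k) C.z b ∈ W C k :=
  Submodule.subset_span ⟨Sum.inr ⟨b, (mem_Df C _).mpr hbz⟩, rfl⟩

theorem star50 (α : Fin M → ℤ) (φ : Tgt (I50 C k)) (hφ : φ ∈ tPiece (I50 C k) α)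
    (hS1 : ∀ g (hg : g ∈ Gf C), φ ⟨monomial g 1, gmem C k hg⟩ ≠ 0 → (g, shift g α) ∈ V C) :
    φ ∈ W C k :=
  star_g k (Gf C) (anti_Gf C) (V C) (fun x hx => sg_V C k hx) (W C k)
    (fun x hx _ => psi_mem_W C k hx) α φ hφ hS1

theorem case1 {b : Fin M} (hbz : b ≠ C.z) (φ : Tgt (I50 C k))
    (hφ : φ ∈ tPiece (I50 C k) (eal C.z b)) : φ ∈ W C k := by
  have hzb : C.z ≠ b := Ne.symm hbz
  have hzm : C.z ≠ C.m₁ := Ne.symm C.hmz
  have hg₀ : gen C.z C.m₁ ∈ Gf C := genz_mem C C.hml
  set d := co (I50 C k) (eal C.z b) φ (gen C.z C.m₁) with hd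
  have hφ₁ : φ - d • Dg (I50 C k) C.z b ∈ tPiece (I50 C k) (eal C.z b) :=
    Submodule.sub_mem _ hφ (Submodule.smul_mem _ _ (Dg_mem _ hzb))
  have hco₀ := phi_eq_co' _ _ hφ (gen C.z C.m₁) (gmem C k hg₀)
  rw [shift_gen_eal hzb] at hco₀
  have hsuff : φ - d • Dg (I50 C k) C.z b ∈ W C k := by
    apply star50 C k (eal C.z b) _ hφ₁
    intro g hg hne
    rcases step50 C k (eal C.z b) (sum_eal _ _) _ hφ₁ hg hne with
      h | ⟨b', hb'z, hαeq, a, haz, hal, hga⟩
    · exact h
    · exfalso
      obtain ⟨_, hbb⟩ := eal_inj hzb (Ne.symm hb'z) hαeq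
      subst hbb
      subst hga
      apply hne
      have hza : C.z ≠ a := Ne.symm haz
      rw [LinearMap.sub_apply, LinearMap.smul_apply, Dg_gen _ hza,
        phi_eq_co' _ _ hφ _ _, shift_gen_eal hzb, ← sub_smul]
      by_cases hst : gen b a ∈ exps (I50 C k)
      · rw [cls_eq_zero _ hst, smul_zero]
      · have hcc : co (I50 C k) (eal C.z b) φ (gen C.z a) = d := by
          have hgg := gmem C k hg
          have hh' := gmem C k hg₀
          have heq : Finsupp.single C.m₁ 1 + gen C.z a = Finsupp.single a 1 + gen C.z C.m₁ := by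
            unfold gen; abel
          have hco := phi_eq_co' _ _ hφ (gen C.z a) hgg
          rw [shift_gen_eal hzb] at hco
          have hμ : Finsupp.single C.m₁ 1 + gen b a = Finsupp.single a 1 + gen b C.m₁ := by
            unfold gen; abel
          have hst' : Finsupp.single C.m₁ 1 + gen b a ∉ exps (I50 C k) := by
            apply std_single_add C k C.hmz hbz haz
            rw [Finsupp.add_apply, Finsupp.single_apply, if_neg C.hmo, zero_add]
            exact o_lt_of_std C k hst
          exact rel1_g _ φ hgg hh' C.m₁ a heq hco hco₀ hμ hst'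
        rw [hcc, sub_self, zero_smul]
  have e : φ = (φ - d • Dg (I50 C k) C.z b) + d • Dg (I50 C k) C.z b := (sub_add_cancel _ _).symm
  rw [e]
  exact (W C k).add_mem hsuff ((W C k).smul_mem _ (D_mem_W C k hbz))

theorem tPiece_le_W (α : Fin M → ℤ) (hsum : ∑ m, α m = 0) : tPiece (I50 C k) α ≤ W C k := by
  intro φ hφ
  by_cases hα : ∃ b, b ≠ C.z ∧ α = eal C.z b
  · obtain ⟨b, hbz, rfl⟩ := hα
    exact case1 C k hbz φ hφ
  · apply star50 C k α φ hφ
    intro g hg hne
    rcases step50 C k α hsum φ hφ hg hne with h | ⟨b, hbz, hαeq, _⟩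
    · exact h
    · exact absurd ⟨b, hbz, hαeq⟩ hα

/-- the degree-0 part -/
noncomputable def H0 : Submodule k (Tgt (I50 C k)) :=
  ⨆ α : {α : Fin M → ℤ // ∑ i, α i = 0}, tPiece (I50 C k) α.1

theorem H0_eq_W : H0 C k = W C k := by
  apply le_antisymm
  · apply iSup_le
    rintro ⟨α, hα⟩
    exact tPiece_le_W C k α hα
  · unfold W
    rw [Submodule.span_le]
    rintro _ ⟨x, rfl⟩
    rcases x with ⟨x, hx⟩ | ⟨b, hy⟩
    · have hxV := (mem_Vf C x).mp hx
      have hs : ∑ i, alphaOf x.1 x.2 i = 0 := by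
        rw [Groth.Agent.Lib.Helper29.TgtDim.sum_alphaOf, degree_V C hxV]; ring
      exact le_iSup (fun α : {α : Fin M → ℤ // ∑ i, α i = 0} => tPiece (I50 C k) α.1)
        ⟨_, hs⟩ (psiT_mem _ _ _ _)
    · have hbz := (mem_Df C _).mp hy
      exact le_iSup (fun α : {α : Fin M → ℤ // ∑ i, α i = 0} => tPiece (I50 C k) α.1)
        ⟨_, sum_eal C.z b⟩ (Dg_mem _ (Ne.symm hbz))

end Groth.Agent.Lib.Helper9.C50
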