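import Mathlib
import Groth.Agent.Lib.Helper9.C50b
import Groth.Agent.Lib.Helper9.PA4

/-! The ideal `x_z (x_a : a ≠ l) + (x_o^q)`: independence, count and the final statement
(helper9). -/

set_option autoImplicit false
universe u
open MvPolynomial W4c1hilbpn
open Groth.Agent.Lib.Helper29.BddComp Groth.Agent.Lib.Helper29.TgtGraded
open Groth.Agent.Lib.Helper20.MonoIdeal (exps_of_le)
open Groth.Agent.Lib.Helper9.TwoPlanes (gen gen_apply gen_comm eal shift_eal sum_eal eal_inj
  shift_gen_eal)
open Groth.Agent.Lib.Helper9.PA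
open Groth.Agent.Lib.Helper9.QFrame

namespace Groth.Agent.Lib.Helper9.C50

variable {M : ℕ} (C : Cfg M) (k : Type u) [Field k]

theorem vfam_indep : LinearIndependent k (vfam C k) := by
  classical
  have hzm : C.z ≠ C.m₁ := Ne.symm C.hmz
  have hg₀ : gen C.z C.m₁ ∈ Gf C := genz_mem C C.hml
  rw [Fintype.linearIndependent_iff]
  intro c hc
  rw [Fintype.sum_sum_type] at hc
  have key1 : ∀ y : ↥(Df C), c (Sum.inr y) = 0 := by
    rintro ⟨b, hy⟩
    have hbz := (mem_Df C _).mp hy
    have hst : gen b C.m₁ ∉ exps (I50 C k) := by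
      apply std_noz C k _ (gen_zero hbz C.hmz)
      have h1 : gen b C.m₁ C.o ≤ 1 := by
        rw [gen_apply, if_neg C.hmo]; split_ifs <;> omega
      have := C.hq
      omega
    have h1 : ∀ x : ↥(Vf C),
        cqL (I50 C k) (isMono_g k _) (gen b C.m₁) hst
          (vfam C k (Sum.inl x) ⟨monomial (gen C.z C.m₁) 1, gmem C k hg₀⟩) = 0 := by
      rintro ⟨x, hx⟩
      have hxV := (mem_Vf C x).mp hx
      show cqL (I50 C k) (isMono_g k _) (gen b C.m₁) hst
        (psiT (I50 C k) (isMono_g k _) x.1 x.2 ⟨monomial (gen C.z C.m₁) 1, gmem C k hg₀⟩) = 0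
      have hpsi := psiT_gen_g k (anti_Gf C) (Finset.mem_coe.mpr (fst_mem_Gf C hxV))
        (Finset.mem_coe.mpr hg₀) x.2 (sg_V C k hxV)
      rw [hpsi]
      split_ifs with hx1
      · rw [cqL_cls, if_neg]
        intro e
        rcases hxV with ⟨h, _⟩ | ⟨_, h⟩
        · exact hh_ne_gen C C.m₁ (h.symm.trans hx1)
        · have h2 := DFunLike.congr_fun (h.symm.trans e) C.z
          rw [gen_zero hbz C.hmz] at h2
          have := gen_pos_left C.z C.l
          omega
      · exact map_zero _
    have h2 : ∀ y' : ↥(Df C),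
        cqL (I50 C k) (isMono_g k _) (gen b C.m₁) hst
          (vfam C k (Sum.inr y') ⟨monomial (gen C.z C.m₁) 1, gmem C k hg₀⟩) =
          if y' = (⟨b, hy⟩ : ↥(Df C)) then 1 else 0 := by
      rintro ⟨b', hy'⟩
      show cqL (I50 C k) (isMono_g k _) (gen b C.m₁) hst
        (Dg (I50 C k) C.z b' ⟨monomial (gen C.z C.m₁) 1, gmem C k hg₀⟩) = _
      rw [Dg_gen _ hzm, cqL_cls]
      by_cases hbb : b' = b
      · subst hbb
        rw [if_pos rfl, if_pos rfl]
      · rw [if_neg (fun e => hbb (gen_right_inj e)), if_neg]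
        intro e
        exact hbb (congrArg (fun z : ↥(Df C) => z.1) e)
    have hE := congrArg (fun φ : Tgt (I50 C k) =>
      cqL (I50 C k) (isMono_g k _) (gen b C.m₁) hst
        (φ ⟨monomial (gen C.z C.m₁) 1, gmem C k hg₀⟩)) hc
    simp only [LinearMap.add_apply, LinearMap.sum_apply, LinearMap.smul_apply, map_add, map_sum,
      map_smul, LinearMap.zero_apply, map_zero, h1, h2, smul_zero, Finset.sum_const_zero, zero_add,
      smul_eq_mul, mul_ite, mul_one, mul_zero, Finset.sum_ite_eq', Finset.mem_univ, if_true] at hE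
    exact hE
  have hc' : ∑ x : ↥(Vf C), c (Sum.inl x) • vfam C k (Sum.inl x) = 0 := by
    have h0 : ∑ y : ↥(Df C), c (Sum.inr y) • vfam C k (Sum.inr y) = 0 :=
      Finset.sum_eq_zero (fun y _ => by rw [key1 y, zero_smul])
    rw [h0, add_zero] at hc
    exact hc
  have key2 : ∀ x : ↥(Vf C), c (Sum.inl x) = 0 := by
    rintro ⟨x₀, hx₀⟩
    have hx₀V := (mem_Vf C x₀).mp hx₀
    have hst : x₀.2 ∉ exps (I50 C k) := std_V C k hx₀V
    have hx₀G := fst_mem_Gf C hx₀V
    have h1 : ∀ x : ↥(Vf C),
        cqL (I50 C k) (isMono_g k _) x₀.2 hst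
          (vfam C k (Sum.inl x) ⟨monomial x₀.1 1, gmem C k hx₀G⟩) =
          if x = (⟨x₀, hx₀⟩ : ↥(Vf C)) then 1 else 0 := by
      rintro ⟨x, hx⟩
      have hxV := (mem_Vf C x).mp hx
      show cqL (I50 C k) (isMono_g k _) x₀.2 hst
        (psiT (I50 C k) (isMono_g k _) x.1 x.2 ⟨monomial x₀.1 1, gmem C k hx₀G⟩) = _
      have hpsi := psiT_gen_g k (anti_Gf C) (Finset.mem_coe.mpr (fst_mem_Gf C hxV))
        (Finset.mem_coe.mpr hx₀G) x.2 (sg_V C k hxV)
      rw [hpsi]
      by_cases hgg : x.1 = x₀.1
      · rw [if_pos hgg, cqL_cls]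
        by_cases hmm : x.2 = x₀.2
        · rw [if_pos hmm, if_pos]
          exact Subtype.ext (Prod.ext hgg hmm)
        · rw [if_neg hmm, if_neg]
          intro e
          exact hmm (congrArg (fun z : ↥(Vf C) => z.1.2) e)
      · rw [if_neg hgg, map_zero, if_neg]
        intro e
        exact hgg (congrArg (fun z : ↥(Vf C) => z.1.1) e)
    have hE := congrArg (fun φ : Tgt (I50 C k) =>
      cqL (I50 C k) (isMono_g k _) x₀.2 hst
        (φ ⟨monomial x₀.1 1, gmem C k hx₀G⟩)) hc'
    simp only [LinearMap.sum_apply, LinearMap.smul_apply, map_sum,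
      map_smul, LinearMap.zero_apply, map_zero, h1, smul_eq_mul, mul_ite, mul_one, mul_zero,
      Finset.sum_ite_eq', Finset.mem_univ, if_true] at hE
    exact hE
  rintro (x | y)
  · exact key2 x
  · exact key1 y

/-! ### the count -/

theorem card_Aq : (Aq C).card = (M - 1 + C.q - 1).choose C.q := by
  classical
  unfold Aq
  rw [Finset.card_finsuppAntidiag_nat_eq_choose, Finset.card_erase_of_mem (Finset.mem_univ _),
    Finset.card_univ, Fintype.card_fin]

theorem hh_mem_Aq : hh C ∈ Aq C := (mem_Aq C _).mpr ⟨hh_z C, degree_hh C⟩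

theorem sl_ne_hh : sl C ≠ hh C := by
  intro e
  have h := DFunLike.congr_fun e C.o
  rw [hh_o, sl_apply, if_neg (fun e' => C.hol e'.symm)] at h
  have := C.hq
  omega

theorem sl_mem_Aq : sl C ∈ Aq C := by
  refine (mem_Aq C _).mpr ⟨?_, degree_sl C⟩
  rw [sl_apply, if_neg (fun e => C.hzl e.symm)]

theorem card_Tq : (Tq C).card + 1 = (Aq C).card := by
  classical
  unfold Tq
  have h1 : ezl C ∉ ((Aq C).erase (hh C)).erase (sl C) := by
    intro h
    have h2 := ((mem_Aq C _).mp (Finset.mem_of_mem_erase (Finset.mem_of_mem_erase h))).1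
    rw [ezl_z] at h2
    omega
  have h2 : sl C ∈ (Aq C).erase (hh C) := Finset.mem_erase.mpr ⟨sl_ne_hh C, sl_mem_Aq C⟩
  rw [Finset.card_insert_of_notMem h1, Finset.card_erase_add_one h2,
    Finset.card_erase_add_one (hh_mem_Aq C)]

theorem card_Gz : (Gz C).card = M - 1 := by
  classical
  unfold Gz
  rw [Finset.card_image_of_injective, Finset.card_erase_of_mem (Finset.mem_univ _),
    Finset.card_univ, Fintype.card_fin]
  intro a a' h
  exact gen_left_inj h

theorem card_Vf : (Vf C).card = (Tq C).card + (M - 1) := by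
  classical
  unfold Vf
  rw [Finset.card_union_of_disjoint, Finset.card_product, Finset.card_product,
    Finset.card_singleton, Finset.card_singleton, card_Gz, one_mul, mul_one]
  rw [Finset.disjoint_left]
  rintro ⟨g, μ⟩ h1 h2
  rw [Finset.mem_product] at h1 h2
  have e1 : g = hh C := Finset.mem_singleton.mp h1.1
  obtain ⟨a, _, e2⟩ := (mem_Gz C g).mp h2.1
  exact hh_ne_gen C a (e1.symm.trans e2)

theorem card_Df : (Df C).card = M - 1 := by
  classical
  unfold Df
  rw [Finset.card_erase_of_mem (Finset.mem_univ _), Finset.card_univ, Fintype.card_fin]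

theorem finrank_H0 :
    Module.finrank k ↥(H0 C k) + 1 = (M - 1 + C.q - 1).choose C.q + 2 * (M - 1) := by
  rw [H0_eq_W C k]
  unfold W
  rw [finrank_span_eq_card (vfam_indep C k)]
  simp only [Fintype.card_sum, Fintype.card_coe]
  rw [card_Vf, card_Df, ← card_Aq, ← card_Tq]
  omega

/-! ### the statement -/

theorem main13450 (k : Type u) [Field k] (n q : ℕ)
    (hcase : (n = 3 ∧ 4 ≤ q) ∨ (4 ≤ n ∧ 2 ≤ q)) :
    Module.finrank k ↥(⨆ α : {α : Fin (n + 1) → ℤ // ∑ i, α i = 0},
      tPiece (Ideal.span ({f : MvPolynomial (Fin (n + 1)) k | ∃ i : Fin (n + 1), i.val + 1 ≤ n ∧ f = MvPolynomial.X 0 * MvPolynomial.X i} ∪ {MvPolynomial.X 1 ^ q})) α.1) =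
      2 * n - 1 + Nat.choose (n + q - 1) (n - 1) := by
  classical
  have hn : 3 ≤ n := by rcases hcase with ⟨h, _⟩ | ⟨h, _⟩ <;> omega
  have hq : 2 ≤ q := by rcases hcase with ⟨_, h⟩ | ⟨_, h⟩ <;> omega
  have h0v : ((0 : Fin (n + 1)) : ℕ) = 0 := rfl
  have h1v : ((1 : Fin (n + 1)) : ℕ) = 1 := by
    rw [Fin.val_one']
    exact Nat.mod_eq_of_lt (by omega)
  have hl : n < n + 1 := by omega
  have h2 : 2 < n + 1 := by omega
  let C : Cfg (n + 1) :=
    { z := 0
      o := 1
      l := ⟨n, hl⟩
      m₁ := ⟨2, h2⟩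
      q := q
      hzo := by
        intro e
        have := congrArg Fin.val e
        rw [h0v, h1v] at this
        omega
      hzl := by
        intro e
        have := congrArg Fin.val e
        rw [h0v] at this
        simp only at this
        omega
      hol := by
        intro e
        have := congrArg Fin.val e
        rw [h1v] at this
        simp only at this
        omega
      hmz := by
        intro e
        have := congrArg Fin.val e
        rw [h0v] at this
        simp only at this
        omega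
      hmo := by
        intro e
        have := congrArg Fin.val e
        rw [h1v] at this
        simp only at this
        omega
      hml := by
        intro e
        have := congrArg Fin.val e
        simp only at this
        omega
      hq := hq
      hcase := by
        rcases hcase with ⟨_, h⟩ | ⟨h, _⟩
        · exact Or.inr h
        · left
          refine ⟨⟨3, by omega⟩, ?_, ?_, ?_, ?_⟩
          · intro e
            have := congrArg Fin.val e
            rw [h0v] at this
            simp only at this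
            omega
          · intro e
            have := congrArg Fin.val e
            rw [h1v] at this
            simp only at this
            omega
          · intro e
            have := congrArg Fin.val e
            simp only at this
            omega
          · intro e
            have := congrArg Fin.val e
            simp only at this
            omega }
  have hCz : C.z = 0 := rfl
  have hCo : C.o = 1 := rfl
  have hCl : C.l = ⟨n, hl⟩ := rfl
  have hCq : C.q = q := rfl
  have ne_l : ∀ i : Fin (n + 1), i ≠ C.l ↔ i.val + 1 ≤ n := by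
    intro i
    have hi := i.isLt
    rw [hCl]
    constructor
    · intro h
      by_contra hc
      exact h (Fin.ext (by simp only; omega))
    · intro h e
      have := congrArg Fin.val e
      simp only at this
      omega
  have hpow : (X 1 ^ q : MvPolynomial (Fin (n + 1)) k) = monomial (hh C) 1 := by
    rw [X_pow_eq_monomial]; rfl
  have hset : ({f : MvPolynomial (Fin (n + 1)) k | ∃ i : Fin (n + 1), i.val + 1 ≤ n ∧ f = MvPolynomial.X 0 * MvPolynomial.X i} ∪ {MvPolynomial.X 1 ^ q}) = (fun s => monomial s (1 : k)) '' (↑(Gf C) : Set (Fin (n + 1) →₀ ℕ)) := by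
    ext f
    constructor
    · rintro (⟨i, hi, rfl⟩ | hf)
      · exact ⟨gen 0 i, Finset.mem_coe.mpr (genz_mem C ((ne_l i).mpr hi)), (X_mul_X_eq k 0 i).symm⟩
      · rw [Set.mem_singleton_iff] at hf
        exact ⟨hh C, Finset.mem_coe.mpr (hh_mem C), by rw [hf, hpow]⟩
    · rintro ⟨s, hs, rfl⟩
      rcases (mem_Gf C s).mp (Finset.mem_coe.mp hs) with rfl | ⟨a, ha, rfl⟩
      · exact Or.inr (Set.mem_singleton_iff.mpr hpow.symm)
      · exact Or.inl ⟨a, (ne_l a).mp ha, (X_mul_X_eq k 0 a).symm⟩
  have hI : Ideal.span ({f : MvPolynomial (Fin (n + 1)) k | ∃ i : Fin (n + 1), i.val + 1 ≤ n ∧ f = MvPolynomial.X 0 * MvPolynomial.X i} ∪ {MvPolynomial.X 1 ^ q}) = I50 C k := by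
    show _ = Ig k _
    unfold Ig; rw [hset]
  rw [hI]
  have hmain := finrank_H0 C k
  unfold H0 at hmain
  rw [hCq] at hmain
  have hch : (n + 1 - 1 + q - 1).choose q = (n + q - 1).choose (n - 1) := by
    have e : n + 1 - 1 + q - 1 = n + q - 1 := by omega
    rw [e]
    exact Nat.choose_symm_of_eq_add (by omega)
  rw [hch] at hmain
  omega

end Groth.Agent.Lib.Helper9.C50
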