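import Mathlib
import Groth.Agent.Lib.Helper9.CIAscC
import Groth.Agent.Lib.Helper22.CIMorSynt
import Groth.Agent.Lib.Helper25.CIFibreBC
import Groth.Agent.S9144

/-!
# Ascent of the locally complete intersection property along syntomic maps, and base change
along finitely generated field extensions (helper9)
-/

set_option autoImplicit false
set_option maxHeartbeats 400000
set_option linter.style.haveILetI false
set_option linter.unusedSectionVars false
universe u

open RingTheory.Sequence IsLocalRing TensorProduct

namespace Groth.Agent.Lib.Helper9.CIAsc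

/-- ascent of `LocCI` along a syntomic ring map with Noetherian source. -/
theorem locCI_of_syntomic_of_locCI (R S : Type u) [CommRing R] [CommRing S] [Algebra R S]
    [IsNoetherianRing R] (hsyn : Synt.IsSyntomic R S) (hR : LocCI R) : LocCI S := by
  intro r _
  haveI hp : (r.comap (algebraMap R S)).IsPrime := Ideal.comap_isPrime _ _
  letI alg : Algebra (Localization.AtPrime (r.comap (algebraMap R S))) (Localization.AtPrime r) :=
    (Localization.localRingHom (r.comap (algebraMap R S)) r (algebraMap R S) rfl).toAlgebra
  haveI : IsScalarTower R (Localization.AtPrime (r.comap (algebraMap R S)))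
      (Localization.AtPrime r) := by
    refine IsScalarTower.of_algebraMap_eq (fun a => ?_)
    show algebraMap R (Localization.AtPrime r) a =
      Localization.localRingHom (r.comap (algebraMap R S)) r (algebraMap R S) rfl
        (algebraMap R (Localization.AtPrime (r.comap (algebraMap R S))) a)
    rw [Localization.localRingHom_to_map]
    exact IsScalarTower.algebraMap_apply R S (Localization.AtPrime r) a
  haveI : IsLocalHom (algebraMap (Localization.AtPrime (r.comap (algebraMap R S)))
      (Localization.AtPrime r)) :=
    Localization.isLocalHom_localRingHom (r.comap (algebraMap R S)) r (algebraMap R S) rfl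
  haveI : IsNoetherianRing (Localization.AtPrime (r.comap (algebraMap R S))) :=
    IsLocalization.isNoetherianRing (r.comap (algebraMap R S)).primeCompl _ inferInstance
  exact ci_of_syntomic_local R S hsyn (Localization.AtPrime (r.comap (algebraMap R S)))
    (Localization.AtPrime r) (r.comap (algebraMap R S)) r (hR _)

/-- a finite type algebra over a field all of whose local rings are complete intersections is
syntomic. -/
theorem isSyntomic_of_field (k S : Type u) [Field k] [CommRing S] [Algebra k S]
    [Algebra.FiniteType k S] (h : LocCI S) : Synt.IsSyntomic k S := by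
  refine ⟨inferInstance, (Algebra.FinitePresentation.of_finiteType).mp inferInstance,
    fun p => ?_⟩
  haveI := p.isPrime
  haveI : Algebra.FiniteType p.asIdeal.ResidueField (p.asIdeal.Fiber S) := inferInstance
  rw [Groth.Agent.Lib.Helper22.CIMorSynt.isLCIOver_iff_forall_ci]
  haveI hmax : p.asIdeal.IsMaximal := by
    rw [Ideal.eq_bot_of_prime p.asIdeal]
    exact Ideal.bot_isMaximal
  have hbij : Function.Bijective (algebraMap k p.asIdeal.ResidueField) :=
    ⟨(algebraMap k p.asIdeal.ResidueField).injective,
      Ideal.algebraMap_residueField_surjective p.asIdeal⟩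
  let e0 : k ≃ₐ[k] p.asIdeal.ResidueField :=
    AlgEquiv.ofBijective (Algebra.ofId k p.asIdeal.ResidueField) hbij
  let e : p.asIdeal.Fiber S ≃+* S :=
    ((Algebra.TensorProduct.congr e0.symm (AlgEquiv.refl : S ≃ₐ[k] S)).trans
      (Algebra.TensorProduct.lid k S)).toRingEquiv
  exact locCI_of_ringEquiv e.symm h

theorem isRegularLocalRing_of_isField' (X : Type u) [CommRing X] [IsLocalRing X]
    [IsNoetherianRing X] (hf : IsField X) : IsRegularLocalRing X := by
  apply IsRegularLocalRing.of_spanFinrank_maximalIdeal_le
  have h0 : maximalIdeal X = ⊥ := IsLocalRing.isField_iff_maximalIdeal_eq.mp hf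
  rw [h0, Submodule.spanFinrank_bot]
  exact ringKrullDim_nonneg_of_nontrivial

/-- generic syntomicity of a finite type domain over a field. -/
theorem exists_away_isSyntomic (k D : Type u) [Field k] [CommRing D] [IsDomain D] [Algebra k D]
    [Algebra.FiniteType k D] :
    ∃ g : D, g ≠ 0 ∧ Synt.IsSyntomic k (Localization.Away g) := by
  haveI : IsNoetherianRing D := Algebra.FiniteType.isNoetherianRing k D
  haveI hbp : (⊥ : Ideal D).IsPrime := Ideal.isPrime_bot
  haveI : IsNoetherianRing (Localization.AtPrime (⊥ : Ideal D)) :=
    IsLocalization.isNoetherianRing (⊥ : Ideal D).primeCompl _ inferInstance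
  have hmax : maximalIdeal (Localization.AtPrime (⊥ : Ideal D)) = ⊥ := by
    rw [← Localization.AtPrime.map_eq_maximalIdeal, Ideal.map_bot]
  haveI : IsRegularLocalRing (Localization.AtPrime (⊥ : Ideal D)) :=
    isRegularLocalRing_of_isField' _ (IsLocalRing.isField_iff_maximalIdeal_eq.mpr hmax)
  have hci : Pi1.IsCompleteIntersection (Localization.AtPrime (⊥ : Ideal D)) :=
    Groth.Agent.Lib.Helper27.CILocus.isCompleteIntersection_of_isRegularLocalRing _
  have hcio : Synt.IsCIOver k (Localization.AtPrime (⊥ : Ideal D)) :=
    (Groth.Agent.Lib.Helper25.CIFibreBC.isCIOver_iff_pi1 k _).mpr hci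
  obtain ⟨g, hg, hlci⟩ := ((Groth.Agent.S9144.result k D ⊥).1).mp hcio
  refine ⟨g, fun h0 => hg (by rw [h0]; exact Ideal.zero_mem _), ?_⟩
  haveI : Algebra.FiniteType k (Localization.Away g) := hlci.1
  exact isSyntomic_of_field k _
    ((Groth.Agent.Lib.Helper22.CIMorSynt.isLCIOver_iff_forall_ci k (Localization.Away g)).mp hlci)

end Groth.Agent.Lib.Helper9.CIAsc
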