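import Mathlib
import Groth.Agent.Lib.Helper9.CIAscD

/-!
# Locally complete intersection rings under base change along finitely generated field
extensions (helper9)
-/

set_option autoImplicit false
set_option maxHeartbeats 400000
set_option linter.style.haveILetI false
set_option linter.unusedSectionVars false
universe u

open RingTheory.Sequence IsLocalRing TensorProduct

namespace Groth.Agent.Lib.Helper9.CIAsc

/-- `LocCI` passes from `R ⊗ A` to `R ⊗ K` when `K` is a localization of `A`. -/
theorem locCI_tensor_of_isLocalization (k R A K : Type u) [CommRing k] [CommRing R] [CommRing A]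
    [CommRing K] [Algebra k R] [Algebra k A] [Algebra k K] [Algebra A K] [IsScalarTower k A K]
    (M : Submonoid A) [IsLocalization M K] (h1 : LocCI (R ⊗[k] A)) : LocCI (R ⊗[k] K) := by
  letI alg1 : Algebra (R ⊗[k] A) (R ⊗[k] K) :=
    (Algebra.TensorProduct.map (AlgHom.id k R) (IsScalarTower.toAlgHom k A K)).toAlgebra
  haveI : IsScalarTower R (R ⊗[k] A) (R ⊗[k] K) := by
    refine IsScalarTower.of_algebraMap_eq (R := R) (S := R ⊗[k] A)
      (A := R ⊗[k] K) (fun x => ?_)
    show algebraMap R (R ⊗[k] K) x =
      (Algebra.TensorProduct.map (AlgHom.id k R) (IsScalarTower.toAlgHom k A K))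
        (algebraMap R (R ⊗[k] A) x)
    simp [Algebra.TensorProduct.algebraMap_apply]
  haveI hloc : IsLocalization
      (M.map (Algebra.TensorProduct.includeRight (R := k) (A := R))) (R ⊗[k] K) :=
    IsLocalization.tensorProduct_tensorProduct_right k R M K
      (by
        ext x
        show (Algebra.TensorProduct.map (AlgHom.id k R) (IsScalarTower.toAlgHom k A K))
          ((1 : R) ⊗ₜ[k] x) = (1 : R) ⊗ₜ[k] (algebraMap A K x)
        simp)
  exact locCI_of_isLocalization
    (M.map (Algebra.TensorProduct.includeRight (R := k) (A := R))) h1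

theorem main_aux (k K R D : Type u) [Field k] [Field K] [Algebra k K] [CommRing D] [IsDomain D]
    [Algebra k D] [Algebra.FiniteType k D] [Algebra D K] [IsScalarTower k D K]
    (hinj : Function.Injective (algebraMap D K)) (M : Submonoid D) [IsLocalization M K]
    [CommRing R] [Algebra k R] [IsNoetherianRing R] (hR : LocCI R) : LocCI (K ⊗[k] R) := by
  classical
  obtain ⟨g, hg0, hsynD⟩ := exists_away_isSyntomic k D
  haveI hfr : IsLocalization (nonZeroDivisors D) K := by
    refine IsLocalization.of_le M _ ?_ ?_
    · intro x hx
      have hu : IsUnit (algebraMap D K x) := IsLocalization.map_units K ⟨x, hx⟩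
      rw [mem_nonZeroDivisors_iff_ne_zero]
      intro h0
      rw [h0, map_zero] at hu
      exact not_isUnit_zero hu
    · intro r hr
      have hr0 : r ≠ 0 := nonZeroDivisors.ne_zero hr
      have : algebraMap D K r ≠ 0 := by
        intro h0
        exact hr0 (hinj (by rw [h0, map_zero]))
      exact isUnit_iff_ne_zero.mpr this
  have hle : Submonoid.powers g ≤ nonZeroDivisors D := by
    rintro x ⟨n, rfl⟩
    exact pow_mem (mem_nonZeroDivisors_of_ne_zero hg0) n
  letI algK : Algebra (Localization.Away g) K :=
    IsLocalization.localizationAlgebraOfSubmonoidLe (Localization.Away g) K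
      (Submonoid.powers g) (nonZeroDivisors D) hle
  haveI tow1 : IsScalarTower D (Localization.Away g) K :=
    IsLocalization.localization_isScalarTower_of_submonoid_le (Localization.Away g) K
      (Submonoid.powers g) (nonZeroDivisors D) hle
  haveI hlocK : IsLocalization
      ((nonZeroDivisors D).map (algebraMap D (Localization.Away g))) K :=
    IsLocalization.isLocalization_of_submonoid_le (Localization.Away g) K
      (Submonoid.powers g) (nonZeroDivisors D) hle
  haveI tow2 : IsScalarTower k (Localization.Away g) K := by
    refine IsScalarTower.of_algebraMap_eq (fun a => ?_)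
    rw [IsScalarTower.algebraMap_apply k D (Localization.Away g),
      ← IsScalarTower.algebraMap_apply D (Localization.Away g) K,
      ← IsScalarTower.algebraMap_apply k D K]
  have hsyn' : Synt.IsSyntomic R (R ⊗[k] Localization.Away g) :=
    Groth.Agent.Lib.Helper22.SyntBC.isSyntomic_baseChange k R (Localization.Away g) hsynD
  have h1 : LocCI (R ⊗[k] Localization.Away g) := locCI_of_syntomic_of_locCI R _ hsyn' hR
  have h2 : LocCI (R ⊗[k] K) :=
    locCI_tensor_of_isLocalization k R (Localization.Away g) K
      ((nonZeroDivisors D).map (algebraMap D (Localization.Away g))) h1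
  exact locCI_of_ringEquiv (Algebra.TensorProduct.comm k R K).toRingEquiv h2

theorem main8950 (k K R : Type u) [Field k] [Field K] [Algebra k K]
    (hK : ∃ s : Finset K, IntermediateField.adjoin k (s : Set K) = ⊤)
    [CommRing R] [Algebra k R] [IsNoetherianRing R] (hR : LocCI R) :
    IsNoetherianRing (K ⊗[k] R) ∧ LocCI (K ⊗[k] R) := by
  classical
  haveI hess : Algebra.EssFiniteType k K := IntermediateField.fg_top_iff.mp hK
  haveI : Algebra.EssFiniteType R (R ⊗[k] K) := inferInstance
  haveI hN : IsNoetherianRing (R ⊗[k] K) := Algebra.EssFiniteType.isNoetherianRing R _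
  have hN' : IsNoetherianRing (K ⊗[k] R) :=
    isNoetherianRing_of_ringEquiv (R ⊗[k] K) (Algebra.TensorProduct.comm k R K).toRingEquiv
  refine ⟨hN', ?_⟩
  exact main_aux k K R (Algebra.EssFiniteType.subalgebra k K) Subtype.val_injective
    (Algebra.EssFiniteType.submonoid k K) hR

end Groth.Agent.Lib.Helper9.CIAsc
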