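import Mathlib

/-!
# Presentation of the Kähler differentials of `B = k[X_1..X_r]/(a_1..a_c)` by the Jacobian matrix
-/

set_option autoImplicit false

namespace Groth.Agent.Lib.Helper9.CIFitt1

open TensorProduct KaehlerDifferential MvPolynomial

universe u

section Chain

variable {k : Type u} [CommRing k] {r : ℕ}

/-- chain rule for the universal derivation of an algebra over a polynomial ring -/
theorem D_algebraMap (A : Type u) [CommRing A] [Algebra k A]
    [Algebra (MvPolynomial (Fin r) k) A] [IsScalarTower k (MvPolynomial (Fin r) k) A]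
    (p : MvPolynomial (Fin r) k) :
    D k A (algebraMap (MvPolynomial (Fin r) k) A p) =
      ∑ j, algebraMap (MvPolynomial (Fin r) k) A (pderiv j p) •
        D k A (algebraMap (MvPolynomial (Fin r) k) A (X j)) := by
  classical
  induction p using MvPolynomial.induction_on with
  | C c =>
    have h1 : algebraMap (MvPolynomial (Fin r) k) A (C c) = algebraMap k A c := by
      rw [← MvPolynomial.algebraMap_eq, ← IsScalarTower.algebraMap_apply]
    rw [h1, Derivation.map_algebraMap]
    simp
  | add p q hp hq =>
    rw [map_add, map_add, hp, hq, ← Finset.sum_add_distrib]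
    refine Finset.sum_congr rfl fun j _ => ?_
    rw [map_add, map_add, add_smul]
  | mul_X p i hp =>
    rw [map_mul, Derivation.leibniz, hp, Finset.smul_sum]
    have key : ∀ j, algebraMap (MvPolynomial (Fin r) k) A (pderiv j (p * X i)) •
        D k A (algebraMap (MvPolynomial (Fin r) k) A (X j)) =
        algebraMap (MvPolynomial (Fin r) k) A (X i) •
          (algebraMap (MvPolynomial (Fin r) k) A (pderiv j p) •
            D k A (algebraMap (MvPolynomial (Fin r) k) A (X j))) +
        (if j = i then algebraMap (MvPolynomial (Fin r) k) A p •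
          D k A (algebraMap (MvPolynomial (Fin r) k) A (X i)) else 0) := by
      intro j
      rw [pderiv_mul, pderiv_X, map_add, map_mul, map_mul, add_smul, smul_smul,
        mul_comm (algebraMap (MvPolynomial (Fin r) k) A (X i))]
      congr 1
      by_cases h : j = i
      · subst h
        simp
      · rw [if_neg h, Pi.single_apply, if_neg (Ne.symm h), map_zero, mul_zero, zero_smul]
    simp_rw [key]
    rw [Finset.sum_add_distrib, Finset.sum_ite_eq' Finset.univ i, if_pos (Finset.mem_univ i),
      add_comm]

end Chain

section Pres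

variable (k : Type u) [CommRing k] (r c : ℕ) (B : Type u) [CommRing B] [Algebra k B]
  [Algebra (MvPolynomial (Fin r) k) B] [IsScalarTower k (MvPolynomial (Fin r) k) B]
  (a : Fin c → MvPolynomial (Fin r) k)

/-- the Jacobian matrix of `a`, with entries in `B` -/
noncomputable def jac : Matrix (Fin c) (Fin r) B :=
  fun i j => algebraMap (MvPolynomial (Fin r) k) B (pderiv j (a i))

/-- the differentials of the coordinate functions -/
noncomputable def gens : Fin r → Ω[B⁄k] :=
  fun j => D k B (algebraMap (MvPolynomial (Fin r) k) B (X j))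

theorem span_gens (hsurj : Function.Surjective (algebraMap (MvPolynomial (Fin r) k) B)) :
    Submodule.span B (Set.range (gens k r B)) = ⊤ := by
  rw [eq_top_iff, ← KaehlerDifferential.span_range_derivation k B, Submodule.span_le]
  rintro _ ⟨b, rfl⟩
  obtain ⟨p, rfl⟩ := hsurj b
  rw [SetLike.mem_coe, D_algebraMap]
  exact Submodule.sum_mem _ fun j _ => Submodule.smul_mem _ _ (Submodule.subset_span ⟨j, rfl⟩)

theorem ker_gens (hsurj : Function.Surjective (algebraMap (MvPolynomial (Fin r) k) B))
    (hker : RingHom.ker (algebraMap (MvPolynomial (Fin r) k) B) = Ideal.span (Set.range a)) :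
    Submodule.span B (Set.range fun i => (jac k r c B a i : Fin r → B)) =
      LinearMap.ker (Fintype.linearCombination B (gens k r B)) := by
  classical
  have ha0 : ∀ i, algebraMap (MvPolynomial (Fin r) k) B (a i) = 0 := fun i => by
    rw [← RingHom.mem_ker, hker]
    exact Ideal.subset_span ⟨i, rfl⟩
  apply le_antisymm
  · rw [Submodule.span_le]
    rintro _ ⟨i, rfl⟩
    rw [SetLike.mem_coe, LinearMap.mem_ker, Fintype.linearCombination_apply]
    have := D_algebraMap (k := k) B (a i)
    rw [ha0 i, map_zero] at this
    exact this.symm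
  · intro z hz
    rw [LinearMap.mem_ker, Fintype.linearCombination_apply] at hz
    let bas := (mvPolynomialBasis k (Fin r)).baseChange B
    have hbas : ∀ j, bas j = (1 : B) ⊗ₜ[MvPolynomial (Fin r) k] D k (MvPolynomial (Fin r) k) (X j) :=
      fun j => by
        rw [Module.Basis.baseChange_apply, mvPolynomialBasis_apply]
    have h1 : mapBaseChange k (MvPolynomial (Fin r) k) B (∑ j, z j • bas j) = 0 := by
      rw [map_sum, ← hz]
      refine Finset.sum_congr rfl fun j _ => ?_
      rw [map_smul, hbas, mapBaseChange_tmul, one_smul, map_D]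
      rfl
    obtain ⟨ξ, hξ⟩ :=
      (exact_kerCotangentToTensor_mapBaseChange k (MvPolynomial (Fin r) k) B hsurj _).mp h1
    obtain ⟨⟨g, hg⟩, rfl⟩ := Ideal.toCotangent_surjective _ ξ
    rw [kerCotangentToTensor_toCotangent] at hξ
    have hDg : D k (MvPolynomial (Fin r) k) g =
        ∑ j, pderiv j g • D k (MvPolynomial (Fin r) k) (X j) := by
      conv_lhs => rw [← (mvPolynomialBasis k (Fin r)).sum_repr (D k (MvPolynomial (Fin r) k) g)]
      refine Finset.sum_congr rfl fun j _ => ?_
      rw [mvPolynomialBasis_repr_apply, mvPolynomialBasis_apply]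
    have h2 : (1 : B) ⊗ₜ[MvPolynomial (Fin r) k] D k (MvPolynomial (Fin r) k) g =
        ∑ j, algebraMap (MvPolynomial (Fin r) k) B (pderiv j g) • bas j := by
      rw [hDg, TensorProduct.tmul_sum]
      refine Finset.sum_congr rfl fun j _ => ?_
      rw [hbas, ← TensorProduct.smul_tmul, TensorProduct.smul_tmul', Algebra.smul_def, mul_one,
        smul_eq_mul, mul_one]
    have h3 : z = fun j => algebraMap (MvPolynomial (Fin r) k) B (pderiv j g) := by
      have : bas.equivFun.symm z =
          bas.equivFun.symm (fun j => algebraMap (MvPolynomial (Fin r) k) B (pderiv j g)) := by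
        rw [Module.Basis.equivFun_symm_apply, Module.Basis.equivFun_symm_apply, ← h2]
        exact hξ.symm
      exact bas.equivFun.symm.injective this
    have hg' : g ∈ Ideal.span (Set.range a) := hker ▸ hg
    obtain ⟨w, hw⟩ := Ideal.mem_span_range_iff_exists_fun.mp hg'
    have h4 : ∀ j, algebraMap (MvPolynomial (Fin r) k) B (pderiv j g) =
        ∑ i, algebraMap (MvPolynomial (Fin r) k) B (w i) * jac k r c B a i j := by
      intro j
      rw [← hw, map_sum, map_sum]
      refine Finset.sum_congr rfl fun i _ => ?_
      rw [pderiv_mul, map_add, map_mul, map_mul, ha0 i, mul_zero, zero_add]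
      rfl
    have h5 : (fun j => algebraMap (MvPolynomial (Fin r) k) B (pderiv j g)) =
        ∑ i, algebraMap (MvPolynomial (Fin r) k) B (w i) • (jac k r c B a i : Fin r → B) := by
      funext j
      rw [h4 j, Finset.sum_apply]
      rfl
    rw [h3, h5]
    exact Submodule.sum_mem _ fun i _ =>
      Submodule.smul_mem _ _ (Submodule.subset_span ⟨i, rfl⟩)

end Pres

end Groth.Agent.Lib.Helper9.CIFitt1
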