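import Mathlib
import Groth.Agent.Lib.Helper9.CIFitt1

/-!
# Injectivity of the Jacobian map for a reduced complete intersection over a perfect field
-/

set_option autoImplicit false

namespace Groth.Agent.Lib.Helper9.CIFitt2

open TensorProduct KaehlerDifferential MvPolynomial

universe u

section Local

/-- Jacobian criterion at a formally smooth point: in a formally smooth local `k`-algebra `P'` whose
residue field is formally smooth over `k`, an element of the maximal ideal whose differential
vanishes in `κ ⊗ Ω` lies in the square of the maximal ideal. -/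
theorem mem_sq_of_tmul_D_eq_zero (k : Type u) [CommRing k] (P' : Type u) [CommRing P']
    [Algebra k P'] [IsLocalRing P'] [Algebra.FormallySmooth k P']
    [Algebra.FormallySmooth k (IsLocalRing.ResidueField P')]
    (y : P') (hy : y ∈ IsLocalRing.maximalIdeal P')
    (h : (1 : IsLocalRing.ResidueField P') ⊗ₜ[P'] D k P' y = 0) :
    y ∈ IsLocalRing.maximalIdeal P' ^ 2 := by
  have hsurj : Function.Surjective (algebraMap P' (IsLocalRing.ResidueField P')) :=
    IsLocalRing.residue_surjective
  obtain ⟨l, hl⟩ := (Algebra.FormallySmooth.iff_split_injection (R := k) (P := P')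
    (A := IsLocalRing.ResidueField P') hsurj).mp inferInstance
  have hker : RingHom.ker (algebraMap P' (IsLocalRing.ResidueField P')) =
      IsLocalRing.maximalIdeal P' := IsLocalRing.ker_residue
  have hy' : y ∈ RingHom.ker (algebraMap P' (IsLocalRing.ResidueField P')) := hker ▸ hy
  have h1 : kerCotangentToTensor k P' (IsLocalRing.ResidueField P')
      (Ideal.toCotangent _ ⟨y, hy'⟩) = 0 := by
    rw [kerCotangentToTensor_toCotangent]
    exact h
  have h2 : Ideal.toCotangent _ (⟨y, hy'⟩ : RingHom.ker (algebraMap P'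
      (IsLocalRing.ResidueField P'))) = 0 := by
    have := congrArg l h1
    rw [map_zero, ← LinearMap.comp_apply, hl] at this
    exact this
  rw [Ideal.toCotangent_eq_zero] at h2
  rw [← hker]
  exact h2

end Local

section Main

variable (k : Type u) [Field k] [PerfectField k] (r c : ℕ) (B : Type u) [CommRing B]
  [IsReduced B] [Algebra k B]
  [Algebra (MvPolynomial (Fin r) k) B] [IsScalarTower k (MvPolynomial (Fin r) k) B]
  (a : Fin c → MvPolynomial (Fin r) k)

/-- at a minimal prime, the coefficients of a Jacobian relation vanish -/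
theorem mem_minimalPrime
    (hsurj : Function.Surjective (algebraMap (MvPolynomial (Fin r) k) B))
    (hker : RingHom.ker (algebraMap (MvPolynomial (Fin r) k) B) = Ideal.span (Set.range a))
    (hqr : ∀ w : Fin c → MvPolynomial (Fin r) k,
      ∑ i, w i * a i ∈ Ideal.span (Set.range a) ^ 2 → ∀ i, w i ∈ Ideal.span (Set.range a))
    (w : Fin c → MvPolynomial (Fin r) k)
    (hI : ∀ j, ∑ i, w i * pderiv j (a i) ∈ Ideal.span (Set.range a))
    (𝔭 : Ideal B) (h𝔭 : 𝔭 ∈ minimalPrimes B) (i : Fin c) :
    algebraMap (MvPolynomial (Fin r) k) B (w i) ∈ 𝔭 := by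
  classical
  haveI : 𝔭.IsPrime := h𝔭.1.1
  obtain ⟨I, hIdef⟩ : ∃ I : Ideal (MvPolynomial (Fin r) k), I = Ideal.span (Set.range a) :=
    ⟨_, rfl⟩
  rw [← hIdef] at hker hqr hI
  have haI : ∀ i, a i ∈ I := fun i => hIdef ▸ Ideal.subset_span ⟨i, rfl⟩
  obtain ⟨g, hgdef⟩ : ∃ g : MvPolynomial (Fin r) k, g = ∑ i, w i * a i := ⟨_, rfl⟩
  have hg : g ∈ I := hgdef ▸ I.sum_mem fun i _ => I.mul_mem_left _ (haI i)
  have hpg : ∀ j, pderiv j g ∈ I := fun j => by
    have : pderiv j g = ∑ i, pderiv j (w i) * a i + ∑ i, w i * pderiv j (a i) := by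
      rw [hgdef, map_sum, ← Finset.sum_add_distrib]
      exact Finset.sum_congr rfl fun i _ => pderiv_mul
    rw [this]
    exact I.add_mem (I.sum_mem fun i _ => I.mul_mem_left _ (haI i)) (hI j)
  -- the prime of the polynomial ring
  obtain ⟨𝔮, h𝔮def⟩ : ∃ 𝔮 : Ideal (MvPolynomial (Fin r) k),
      𝔮 = 𝔭.comap (algebraMap (MvPolynomial (Fin r) k) B) := ⟨_, rfl⟩
  haveI : 𝔮.IsPrime := h𝔮def ▸ Ideal.comap_isPrime _ _
  have hI𝔮 : I ≤ 𝔮 := by
    intro x hx
    rw [h𝔮def, Ideal.mem_comap]
    rw [← hker, RingHom.mem_ker] at hx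
    rw [hx]
    exact 𝔭.zero_mem
  have h𝔮min : 𝔮 ∈ I.minimalPrimes := by
    have := Ideal.minimalPrimes_comap_of_surjective hsurj h𝔭
    rw [← RingHom.ker_eq_comap_bot, hker, ← h𝔮def] at this
    exact this
  have hIrad : I.IsRadical := by
    rw [← hker]
    exact (RingHom.ker_isRadical_iff_reduced_of_surjective hsurj).mpr inferInstance
  have hmap : I.map (algebraMap (MvPolynomial (Fin r) k) (Localization.AtPrime 𝔮)) =
      IsLocalRing.maximalIdeal (Localization.AtPrime 𝔮) := by
    rw [← Localization.AtPrime.map_eq_maximalIdeal,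
      ← IsLocalization.AtPrime.radical_map_of_mem_minimalPrimes (A := Localization.AtPrime 𝔮)
        𝔮 I h𝔮min,
      ← IsLocalization.map_radical 𝔮.primeCompl (Localization.AtPrime 𝔮) I, hIrad.radical]
  -- smoothness instances
  haveI : Algebra.FormallySmooth (MvPolynomial (Fin r) k) (Localization.AtPrime 𝔮) :=
    Algebra.FormallySmooth.of_isLocalization 𝔮.primeCompl
  haveI : Algebra.FormallySmooth k (Localization.AtPrime 𝔮) :=
    Algebra.FormallySmooth.comp k (MvPolynomial (Fin r) k) (Localization.AtPrime 𝔮)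
  haveI : Algebra.EssFiniteType (MvPolynomial (Fin r) k) (Localization.AtPrime 𝔮) :=
    Algebra.EssFiniteType.of_isLocalization (Localization.AtPrime 𝔮) 𝔮.primeCompl
  haveI : Algebra.EssFiniteType k (Localization.AtPrime 𝔮) :=
    Algebra.EssFiniteType.comp k (MvPolynomial (Fin r) k) (Localization.AtPrime 𝔮)
  haveI : Algebra.FiniteType (Localization.AtPrime 𝔮)
      (IsLocalRing.ResidueField (Localization.AtPrime 𝔮)) :=
    Algebra.FiniteType.of_surjective (Algebra.ofId _ _) IsLocalRing.residue_surjective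
  haveI : Algebra.EssFiniteType k (IsLocalRing.ResidueField (Localization.AtPrime 𝔮)) :=
    Algebra.EssFiniteType.comp k (Localization.AtPrime 𝔮)
      (IsLocalRing.ResidueField (Localization.AtPrime 𝔮))
  haveI : Algebra.FormallySmooth k (IsLocalRing.ResidueField (Localization.AtPrime 𝔮)) :=
    Algebra.FormallySmooth.of_perfectField
  -- the element
  have hy : algebraMap (MvPolynomial (Fin r) k) (Localization.AtPrime 𝔮) g ∈
      IsLocalRing.maximalIdeal (Localization.AtPrime 𝔮) := by
    rw [← hmap]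
    exact Ideal.mem_map_of_mem _ hg
  have hD : (1 : IsLocalRing.ResidueField (Localization.AtPrime 𝔮)) ⊗ₜ[Localization.AtPrime 𝔮]
      D k (Localization.AtPrime 𝔮)
        (algebraMap (MvPolynomial (Fin r) k) (Localization.AtPrime 𝔮) g) = 0 := by
    rw [CIFitt1.D_algebraMap (k := k) (Localization.AtPrime 𝔮) g, TensorProduct.tmul_sum]
    refine Finset.sum_eq_zero fun j _ => ?_
    have hx : algebraMap (MvPolynomial (Fin r) k) (Localization.AtPrime 𝔮) (pderiv j g) ∈
        IsLocalRing.maximalIdeal (Localization.AtPrime 𝔮) := by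
      rw [← hmap]
      exact Ideal.mem_map_of_mem _ (hpg j)
    have h0 : algebraMap (MvPolynomial (Fin r) k) (Localization.AtPrime 𝔮) (pderiv j g) •
        (1 : IsLocalRing.ResidueField (Localization.AtPrime 𝔮)) = 0 := by
      rw [Algebra.smul_def, mul_one, IsLocalRing.ResidueField.algebraMap_eq]
      exact (IsLocalRing.residue_eq_zero_iff _).mpr hx
    have h3 := TensorProduct.smul_tmul (R := Localization.AtPrime 𝔮)
      (algebraMap (MvPolynomial (Fin r) k) (Localization.AtPrime 𝔮) (pderiv j g))
      (1 : IsLocalRing.ResidueField (Localization.AtPrime 𝔮))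
      (D k (Localization.AtPrime 𝔮)
        (algebraMap (MvPolynomial (Fin r) k) (Localization.AtPrime 𝔮) (X j)))
    rw [← h3, h0, TensorProduct.zero_tmul]
  have hsq := mem_sq_of_tmul_D_eq_zero k (Localization.AtPrime 𝔮) _ hy hD
  rw [← hmap, ← Ideal.map_pow,
    IsLocalization.algebraMap_mem_map_algebraMap_iff 𝔮.primeCompl (Localization.AtPrime 𝔮)] at hsq
  obtain ⟨m, hm, hmg⟩ := hsq
  have hmw : ∑ i, (m * w i) * a i ∈ I ^ 2 := by
    have : ∑ i, (m * w i) * a i = m * g := by
      rw [hgdef, Finset.mul_sum]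
      exact Finset.sum_congr rfl fun i _ => mul_assoc _ _ _
    rw [this]
    exact hmg
  have h1 : m * w i ∈ 𝔮 := hI𝔮 (hqr (fun i => m * w i) hmw i)
  have h2 : w i ∈ 𝔮 := (Ideal.IsPrime.mem_or_mem inferInstance h1).resolve_left hm
  rw [h𝔮def, Ideal.mem_comap] at h2
  exact h2

theorem jac_injective
    (hsurj : Function.Surjective (algebraMap (MvPolynomial (Fin r) k) B))
    (hker : RingHom.ker (algebraMap (MvPolynomial (Fin r) k) B) = Ideal.span (Set.range a))
    (hqr : ∀ w : Fin c → MvPolynomial (Fin r) k,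
      ∑ i, w i * a i ∈ Ideal.span (Set.range a) ^ 2 → ∀ i, w i ∈ Ideal.span (Set.range a)) :
    Function.Injective
      (Fintype.linearCombination B (fun i => (CIFitt1.jac k r c B a i : Fin r → B))) := by
  classical
  rw [injective_iff_map_eq_zero]
  intro z hz
  have hz' : ∀ j, ∑ i, z i * CIFitt1.jac k r c B a i j = 0 := fun j => by
    have := congrFun hz j
    rw [Fintype.linearCombination_apply, Finset.sum_apply] at this
    exact this
  choose w hw using fun i => hsurj (z i)
  have hI : ∀ j, ∑ i, w i * pderiv j (a i) ∈ Ideal.span (Set.range a) := fun j => by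
    rw [← hker, RingHom.mem_ker, map_sum, ← hz' j]
    refine Finset.sum_congr rfl fun i _ => ?_
    rw [map_mul, hw i]
    rfl
  funext i
  have hnil : z i ∈ nilradical B := by
    rw [nilradical, ← Ideal.sInf_minimalPrimes, Submodule.mem_sInf]
    intro 𝔭 h𝔭
    rw [← hw i]
    exact mem_minimalPrime k r c B a hsurj hker hqr w hI 𝔭 h𝔭 i
  rw [mem_nilradical] at hnil
  exact hnil.eq_zero

end Main

end Groth.Agent.Lib.Helper9.CIFitt2
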