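import Mathlib
import Groth.Prelude.Def_Fitting
import Groth.Agent.Lib.Helper9.CIFitt2
import Groth.Agent.Lib.Helper9.QuasiReg
import Groth.Agent.Lib.Helper18.FittLib3
import Groth.Agent.Lib.Helper22.ExtOne

/-!
# `Fitt_{r-c} Ω_{B/k} = Fitt_0 Ext¹(Ω_{B/k}, B)` for a reduced complete intersection
-/

set_option autoImplicit false

namespace Groth.Agent.Lib.Helper9.CIFitt3

open CategoryTheory MvPolynomial
open Groth.Agent.Lib.Helper18.FittLib

universe u

/-- degree one quasi-regularity of a weakly regular sequence -/
theorem qr_one {A : Type u} [CommRing A] {c : ℕ} (a : Fin c → A)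
    (ha : RingTheory.Sequence.IsWeaklyRegular A (List.ofFn a)) (w : Fin c → A)
    (hw : ∑ i, w i * a i ∈ Ideal.span (Set.range a) ^ 2) (i : Fin c) :
    w i ∈ Ideal.span (Set.range a) := by
  classical
  let Q : MvPolynomial (Fin c) A := ∑ i, MvPolynomial.C (w i) * MvPolynomial.X i
  have hQh : Q.IsHomogeneous 1 := MvPolynomial.IsHomogeneous.sum _ _ _ (fun i _ => by
    have := (MvPolynomial.isHomogeneous_C (Fin c) (w i)).mul
      (MvPolynomial.isHomogeneous_X A i)
    simpa using this)
  have hQe : MvPolynomial.eval a Q = ∑ i, w i * a i := by simp [Q]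
  have hq := Groth.Agent.Lib.Helper9.QuasiReg.quasiRegular_of_isWeaklyRegular a ha 1 Q hQh
    (by rw [hQe]; exact hw)
  have := hq (Finsupp.single i 1)
  have hcoef : MvPolynomial.coeff (Finsupp.single i 1) Q = w i := by
    simp [Q, MvPolynomial.coeff_sum, MvPolynomial.coeff_C_mul, MvPolynomial.coeff_X',
      Finsupp.single_left_inj]
  rwa [hcoef] at this

section Fitt

variable {R : Type u} [CommRing R] {c r : ℕ} (J : Matrix (Fin c) (Fin r) R)
  {M : Type u} [AddCommGroup M] [Module R M]

/-- the zeroth Fitting ideal of `Ext¹(M, R)` for a module with a two-term free resolution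
`0 → R^c → R^r → M → 0` given by a matrix `J` is the ideal of `c × c` minors of `J`. -/
theorem fitt_ext_one (x : Fin r → M) (hx : Submodule.span R (Set.range x) = ⊤)
    (hJ : Submodule.span R (Set.range fun i => (J i : Fin r → R)) =
      LinearMap.ker (Fintype.linearCombination R x))
    (hinj : Function.Injective (Fintype.linearCombination R (fun i => (J i : Fin r → R)))) :
    Fitt.ideal R (Abelian.Ext.{u} (ModuleCat.of R M) (ModuleCat.of R R) 1) 0 =
      matMinorIdeal J c := by
  classical
  have hLsurj : Function.Surjective (Fintype.linearCombination R x) := by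
    rw [← LinearMap.range_eq_top, Fintype.range_linearCombination, hx]
  have hex : Function.Exact (Fintype.linearCombination R (fun i => (J i : Fin r → R)))
      (Fintype.linearCombination R x) := by
    rw [LinearMap.exact_iff, ← hJ, Fintype.range_linearCombination]
  obtain ⟨δ, hδs, hδk⟩ := Groth.Agent.Lib.Helper22.ExtOne.exists_connecting (G := R)
    (Fintype.linearCombination R (fun i => (J i : Fin r → R)))
    (Fintype.linearCombination R x) hinj hLsurj hex
  let y : Fin c → Abelian.Ext.{u} (ModuleCat.of R M) (ModuleCat.of R R) 1 :=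
    fun i => δ (LinearMap.proj i)
  have hy : Submodule.span R (Set.range y) = ⊤ := by
    rw [eq_top_iff]
    rintro e -
    obtain ⟨φ', rfl⟩ := hδs e
    rw [dual_eq_sum φ', map_sum]
    refine Submodule.sum_mem _ fun i _ => ?_
    rw [map_smul]
    exact Submodule.smul_mem _ _ (Submodule.subset_span ⟨i, rfl⟩)
  have hcomb : ∀ z : Fin c → R, Fintype.linearCombination R y z =
      δ (∑ i, z i • (LinearMap.proj i : (Fin c → R) →ₗ[R] R)) := by
    intro z
    rw [Fintype.linearCombination_apply, map_sum]
    exact Finset.sum_congr rfl fun i _ => (map_smul δ _ _).symm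
  have hA : Submodule.span R (Set.range fun j => (J.transpose j : Fin c → R)) =
      LinearMap.ker (Fintype.linearCombination R y) := by
    apply le_antisymm
    · rw [Submodule.span_le]
      rintro _ ⟨j, rfl⟩
      rw [SetLike.mem_coe, LinearMap.mem_ker, hcomb, hδk]
      refine ⟨LinearMap.proj j, ?_⟩
      refine LinearMap.ext fun v => ?_
      rw [LinearMap.comp_apply, Fintype.linearCombination_apply, LinearMap.proj_apply,
        Finset.sum_apply, LinearMap.sum_apply]
      refine Finset.sum_congr rfl fun i _ => ?_
      rw [LinearMap.smul_apply, LinearMap.proj_apply, Pi.smul_apply, smul_eq_mul, smul_eq_mul]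
      show v i * J i j = J.transpose j i * v i
      rw [Matrix.transpose_apply, mul_comm]
    · intro z hz
      rw [LinearMap.mem_ker, hcomb, hδk] at hz
      obtain ⟨ψ, hψ⟩ := hz
      have hzi : ∀ i, z i = ∑ j, ψ (Pi.single j 1) * J i j := by
        intro i
        have h1 := LinearMap.congr_fun hψ (Pi.single i 1)
        rw [LinearMap.comp_apply, Fintype.linearCombination_apply, LinearMap.sum_apply] at h1
        have h2 : ∑ i', (Pi.single i (1 : R) : Fin c → R) i' • (J i' : Fin r → R) = J i := by
          rw [Finset.sum_eq_single i]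
          · rw [Pi.single_eq_same, one_smul]
          · intro b _ hb
            rw [Pi.single_eq_of_ne hb, zero_smul]
          · intro h
            exact absurd (Finset.mem_univ i) h
        have h3 : ∑ i', (z i' • (LinearMap.proj i' : (Fin c → R) →ₗ[R] R))
            (Pi.single i (1 : R)) = z i := by
          rw [Finset.sum_eq_single i]
          · rw [LinearMap.smul_apply, LinearMap.proj_apply, Pi.single_eq_same, smul_eq_mul,
              mul_one]
          · intro b _ hb
            rw [LinearMap.smul_apply, LinearMap.proj_apply, Pi.single_eq_of_ne hb, smul_zero]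
          · intro h
            exact absurd (Finset.mem_univ i) h
        rw [h2, h3] at h1
        rw [← h1]
        conv_lhs => rw [dual_eq_sum ψ]
        rw [LinearMap.sum_apply]
        refine Finset.sum_congr rfl fun j _ => ?_
        rw [LinearMap.smul_apply, LinearMap.proj_apply, smul_eq_mul]
      have hz2 : z = ∑ j, ψ (Pi.single j 1) • (J.transpose j : Fin c → R) := by
        funext i
        rw [hzi i, Finset.sum_apply]
        refine Finset.sum_congr rfl fun j _ => ?_
        rw [Pi.smul_apply, Matrix.transpose_apply, smul_eq_mul]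
      rw [hz2]
      exact Submodule.sum_mem _ fun j _ =>
        Submodule.smul_mem _ _ (Submodule.subset_span ⟨j, rfl⟩)
  rw [fitt_eq_matMinorIdeal y hy J.transpose hA 0, matMinorIdeal_transpose, Nat.sub_zero]

end Fitt

theorem main (k : Type u) [Field k] [PerfectField k] (r c : ℕ)
    (B : Type u) [CommRing B] [Algebra k B] [IsReduced B]
    (φ : MvPolynomial (Fin r) k →ₐ[k] B) (hφ : Function.Surjective φ)
    (a : Fin c → MvPolynomial (Fin r) k)
    (ha : RingTheory.Sequence.IsRegular (MvPolynomial (Fin r) k) (List.ofFn a))
    (hker : RingHom.ker φ.toRingHom = Ideal.span (Set.range a)) :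
    Fitt.ideal B (KaehlerDifferential k B) (r - c) =
      Fitt.ideal B (Abelian.Ext.{u} (ModuleCat.of B (KaehlerDifferential k B))
        (ModuleCat.of B B) 1) 0 := by
  classical
  letI : Algebra (MvPolynomial (Fin r) k) B := φ.toRingHom.toAlgebra
  haveI : IsScalarTower k (MvPolynomial (Fin r) k) B :=
    IsScalarTower.of_algebraMap_eq fun x => (φ.commutes x).symm
  have hsurj : Function.Surjective (algebraMap (MvPolynomial (Fin r) k) B) := hφ
  have hker' : RingHom.ker (algebraMap (MvPolynomial (Fin r) k) B) =
      Ideal.span (Set.range a) := hker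
  have hqr : ∀ w : Fin c → MvPolynomial (Fin r) k,
      ∑ i, w i * a i ∈ Ideal.span (Set.range a) ^ 2 → ∀ i, w i ∈ Ideal.span (Set.range a) :=
    fun w hw i => qr_one a ha.toIsWeaklyRegular w hw i
  have hinj := CIFitt2.jac_injective k r c B a hsurj hker' hqr
  haveI : Nontrivial B := by
    by_contra hB
    rw [not_nontrivial_iff_subsingleton] at hB
    apply ha.top_ne_smul
    have h1 : Ideal.span (Set.range a) = ⊤ := by
      rw [← hker', Ideal.eq_top_iff_one, RingHom.mem_ker]
      exact Subsingleton.elim _ _
    rw [Groth.Agent.Lib.Helper9.QuasiReg.ofList_ofFn, h1, Submodule.top_smul]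
  have hcr : c ≤ r := le_of_fin_injective B _ hinj
  have hx := CIFitt1.span_gens k r B hsurj
  have hJ := CIFitt1.ker_gens k r c B a hsurj hker'
  rw [fitt_eq_matMinorIdeal (CIFitt1.gens k r B) hx (CIFitt1.jac k r c B a) hJ (r - c),
    fitt_ext_one (CIFitt1.jac k r c B a) (CIFitt1.gens k r B) hx hJ hinj]
  congr 1
  omega

end Groth.Agent.Lib.Helper9.CIFitt3
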