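import Mathlib
import Groth.Prelude.Def_DeRham

/-!
# Čech surjectivity for coordinate hyperplanes (chart case), used for S19629
-/

set_option autoImplicit false
universe u
open exteriorPower

namespace Groth.Agent.Lib.Helper9.CechHyp

section Top
variable {R : Type*} [CommRing R] {M : Type*} [AddCommGroup M] [Module R M]

/-- The top exterior power of a module spanned by `m` elements is cyclic. -/
theorem exists_smul_ιMulti {m : ℕ} (v : Fin m → M) (hv : Submodule.span R (Set.range v) = ⊤)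
    (y : ⋀[R]^m M) : ∃ r : R, y = r • ιMulti R m v := by
  classical
  have hy : y ∈ Submodule.span R (Set.range (ιMulti_family R m v)) := by
    rw [ιMulti_family_span_of_span R hv]; trivial
  have hle : Submodule.span R (Set.range (ιMulti_family R m v)) ≤
      Submodule.span R {ιMulti R m v} := by
    rw [Submodule.span_le]
    rintro _ ⟨s, rfl⟩
    show ιMulti R m (v ∘ (Set.powersetCard.ofFinEmbEquiv.symm s)) ∈ _
    have hbij : Function.Bijective (Set.powersetCard.ofFinEmbEquiv.symm s : Fin m → Fin m) :=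
      Finite.injective_iff_bijective.mp (Set.powersetCard.ofFinEmbEquiv.symm s).injective
    have h2 : v ∘ (Set.powersetCard.ofFinEmbEquiv.symm s : Fin m → Fin m) =
        v ∘ (Equiv.ofBijective _ hbij : Equiv.Perm (Fin m)) := rfl
    rw [h2, AlternatingMap.map_perm, Units.smul_def]
    exact zsmul_mem (Submodule.mem_span_singleton_self _) _
  obtain ⟨r, hr⟩ := Submodule.mem_span_singleton.mp (hle hy)
  exact ⟨r, hr.symm⟩

end Top

section Main

variable (k : Type u) [Field k] (A : Type u) [CommRing A] [Algebra k A]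

/-- `Ω` of a quotient is spanned by the differentials of the images of coordinates. -/
theorem span_D_mk {d : ℕ} (t : Fin d → A) (b : Module.Basis (Fin d) A (Ω[A⁄k]))
    (hb : ∀ i, b i = KaehlerDifferential.D k A (t i)) (𝔞 : Ideal A) :
    Submodule.span (A ⧸ 𝔞) (Set.range fun i : Fin d =>
      KaehlerDifferential.D k (A ⧸ 𝔞) (Ideal.Quotient.mk 𝔞 (t i))) = ⊤ := by
  rw [eq_top_iff, ← KaehlerDifferential.span_range_derivation k (A ⧸ 𝔞), Submodule.span_le]
  rintro _ ⟨a', rfl⟩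
  obtain ⟨a, rfl⟩ := Ideal.Quotient.mk_surjective a'
  have h1 : KaehlerDifferential.D k (A ⧸ 𝔞) (Ideal.Quotient.mk 𝔞 a) =
      KaehlerDifferential.map k k A (A ⧸ 𝔞) (KaehlerDifferential.D k A a) := by
    rw [KaehlerDifferential.map_D]; rfl
  rw [SetLike.mem_coe, h1, ← b.sum_repr (KaehlerDifferential.D k A a), map_sum]
  refine Submodule.sum_mem _ fun i _ => ?_
  rw [map_smul, hb i, KaehlerDifferential.map_D, ← algebraMap_smul (A ⧸ 𝔞)]
  exact Submodule.smul_mem _ _ (Submodule.subset_span ⟨i, rfl⟩)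

variable {k A}
variable {d n : ℕ} (t : Fin d → A) (e : Fin n ↪ Fin d)

/-- The ideal of the coordinate stratum `D_J`. -/
abbrev IdJ (J : Finset (Fin n)) : Ideal A := ⨆ i ∈ J, Ideal.span {t (e i)}

theorem t_mem (J : Finset (Fin n)) {j : Fin n} (hj : j ∈ J) : t (e j) ∈ IdJ t e J := by
  have h : Ideal.span {t (e j)} ≤ IdJ t e J := le_biSup (fun i => Ideal.span {t (e i)}) hj
  exact h (Ideal.subset_span rfl)

variable (k) in
/-- The form `a · dt_{c 0} ∧ ⋯ ∧ dt_{c (m-1)}` on `A ⧸ 𝔞`. -/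
noncomputable def tau (𝔞 : Ideal A) (m : ℕ) (a : A) (c : Fin m → Fin d) :
    ↥(⋀[(A ⧸ 𝔞)]^m (Ω[(A ⧸ 𝔞)⁄k])) :=
  DeRham.gen (KaehlerDifferential.D k (A ⧸ 𝔞)) m (Ideal.Quotient.mk 𝔞 a)
    (fun l => Ideal.Quotient.mk 𝔞 (t (c l)))

theorem tau_eq_zero (𝔞 : Ideal A) (m : ℕ) (a : A) (c : Fin m → Fin d) (l : Fin m)
    (hl : t (c l) ∈ 𝔞) : tau k t 𝔞 m a c = 0 := by
  unfold tau DeRham.gen
  rw [AlternatingMap.map_coord_zero _ l, smul_zero]
  show KaehlerDifferential.D k (A ⧸ 𝔞) (Ideal.Quotient.mk 𝔞 (t (c l))) = 0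
  rw [Ideal.Quotient.eq_zero_iff_mem.mpr hl, map_zero]

theorem psi_tau {𝔞 𝔟 : Ideal A} (h : 𝔞 ≤ 𝔟)
    (ψ : ∀ p : ℕ, ↥(⋀[(A ⧸ 𝔞)]^p (Ω[(A ⧸ 𝔞)⁄k])) →+ ↥(⋀[(A ⧸ 𝔟)]^p (Ω[(A ⧸ 𝔟)⁄k])))
    (hψ : DeRham.IsCxMap (KaehlerDifferential.D k (A ⧸ 𝔞)) (KaehlerDifferential.D k (A ⧸ 𝔟))
      (Ideal.Quotient.factor h) ψ)
    (m : ℕ) (a : A) (c : Fin m → Fin d) : ψ m (tau k t 𝔞 m a c) = tau k t 𝔟 m a c := by
  show ψ m (DeRham.gen _ m _ _) = DeRham.gen _ m _ _
  rw [hψ m]
  simp only [Ideal.Quotient.factor_mk]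

theorem exists_tau (b : Module.Basis (Fin d) A (Ω[A⁄k]))
    (hb : ∀ i, b i = KaehlerDifferential.D k A (t i))
    (𝔞 : Ideal A) (m : ℕ) (c : Fin m → Fin d) (hc : ∀ i : Fin d, t i ∈ 𝔞 ∨ ∃ l, c l = i)
    (y : ↥(⋀[(A ⧸ 𝔞)]^m (Ω[(A ⧸ 𝔞)⁄k]))) : ∃ a : A, y = tau k t 𝔞 m a c := by
  have hspan : Submodule.span (A ⧸ 𝔞) (Set.range fun l : Fin m =>
      KaehlerDifferential.D k (A ⧸ 𝔞) (Ideal.Quotient.mk 𝔞 (t (c l)))) = ⊤ := by
    rw [eq_top_iff, ← span_D_mk k A t b hb 𝔞, Submodule.span_le]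
    rintro _ ⟨i, rfl⟩
    rcases hc i with hi | ⟨l, rfl⟩
    · show KaehlerDifferential.D k (A ⧸ 𝔞) (Ideal.Quotient.mk 𝔞 (t i)) ∈ _
      rw [Ideal.Quotient.eq_zero_iff_mem.mpr hi, map_zero]; exact zero_mem _
    · exact Submodule.subset_span ⟨l, rfl⟩
  obtain ⟨r, hr⟩ := exists_smul_ιMulti _ hspan y
  obtain ⟨a, rfl⟩ := Ideal.Quotient.mk_surjective r
  exact ⟨a, hr⟩

end Main

theorem main
    (k : Type u) [Field k] (A : Type u) [CommRing A] [Algebra k A]
    (d n : ℕ) (t : Fin d → A) (e : Fin n ↪ Fin d)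
    (b : Module.Basis (Fin d) A (Ω[A⁄k])) (hb : ∀ i, b i = KaehlerDifferential.D k A (t i))
    (ψ : ∀ (I J : Finset (Fin n)) (p : ℕ), ↥(⋀[(A ⧸ (⨆ i ∈ I, Ideal.span {t (e i)} : Ideal A))]^p (Ω[(A ⧸ (⨆ i ∈ I, Ideal.span {t (e i)} : Ideal A))⁄k])) →+ ↥(⋀[(A ⧸ (⨆ i ∈ J, Ideal.span {t (e i)} : Ideal A))]^p (Ω[(A ⧸ (⨆ i ∈ J, Ideal.span {t (e i)} : Ideal A))⁄k])))
    (hψ : ∀ (I J : Finset (Fin n)) (h : I ⊆ J),
      DeRham.IsCxMap (KaehlerDifferential.D k (A ⧸ (⨆ i ∈ I, Ideal.span {t (e i)} : Ideal A))) (KaehlerDifferential.D k (A ⧸ (⨆ i ∈ J, Ideal.span {t (e i)} : Ideal A)))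
        (Ideal.Quotient.factor (biSup_mono h)) (ψ I J))
    (s m : ℕ) (hs : s + 1 + m = d)
    (g : ∀ J : Finset (Fin n), ↥(⋀[(A ⧸ (⨆ i ∈ J, Ideal.span {t (e i)} : Ideal A))]^m (Ω[(A ⧸ (⨆ i ∈ J, Ideal.span {t (e i)} : Ideal A))⁄k]))) :
    ∃ ω : ∀ I : Finset (Fin n), ↥(⋀[(A ⧸ (⨆ i ∈ I, Ideal.span {t (e i)} : Ideal A))]^m (Ω[(A ⧸ (⨆ i ∈ I, Ideal.span {t (e i)} : Ideal A))⁄k])),
      ∀ J : Finset (Fin n), J.card = s + 1 →
        (∑ j ∈ J.attach,
          ((-1 : ℤ) ^ (J.filter (fun i => i < j.1)).card) •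
            ψ (J.erase j.1) J m (ω (J.erase j.1))) = g J := by
  classical
  -- enumerations of the complements
  have hcex : ∀ J : Finset (Fin n), ∃ c : Fin m → Fin d,
      J.card = s + 1 → ∀ i : Fin d, i ∉ J.map e → ∃ l, c l = i := by
    intro J
    by_cases hJ : J.card = s + 1
    · have hcard : ((J.map e)ᶜ).card = m := by
        rw [Finset.card_compl, Fintype.card_fin, Finset.card_map, hJ]; omega
      refine ⟨fun l => (J.map e)ᶜ.orderEmbOfFin hcard l, fun _ i hi => ?_⟩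
      have hmem : i ∈ Set.range ((J.map e)ᶜ.orderEmbOfFin hcard) := by
        rw [Finset.range_orderEmbOfFin]; simpa using hi
      exact hmem
    · exact ⟨fun _ => ⟨0, by omega⟩, fun h => absurd h hJ⟩
  choose c hc using hcex
  -- coefficients
  have haex : ∀ J : Finset (Fin n), ∃ a : A,
      J.card = s + 1 → g J = tau k t (IdJ t e J) m a (c J) := by
    intro J
    by_cases hJ : J.card = s + 1
    · have hcJ : ∀ i : Fin d, t i ∈ IdJ t e J ∨ ∃ l, c J l = i := by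
        intro i
        by_cases hi : i ∈ J.map e
        · left
          obtain ⟨j, hj, rfl⟩ := Finset.mem_map.mp hi
          exact t_mem t e J hj
        · right; exact hc J hJ i hi
      obtain ⟨a, ha⟩ := exists_tau t b hb (IdJ t e J) m (c J) hcJ (g J)
      exact ⟨a, fun _ => ha⟩
    · exact ⟨0, fun h => absurd h hJ⟩
  choose a ha using haex
  let P : Finset (Fin n) → Finset (Fin n) → Prop := fun I J' =>
    J'.card = s + 1 ∧ ∃ j ∈ J', (∀ i ∈ J', j ≤ i) ∧ J'.erase j = I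
  let ω : ∀ I : Finset (Fin n), ↥(⋀[(A ⧸ IdJ t e I)]^m (Ω[(A ⧸ IdJ t e I)⁄k])) := fun I =>
    ∑ J' ∈ Finset.univ.filter (P I), tau k t (IdJ t e I) m (a J') (c J')
  refine ⟨ω, ?_⟩
  intro J hJ
  have hne : J.Nonempty := Finset.card_pos.mp (by omega)
  have hj₀J : J.min' hne ∈ J := Finset.min'_mem J hne
  -- vanishing of the other terms
  have h2 : ∀ J' : Finset (Fin n), J'.card = s + 1 → J' ≠ J →
      tau k t (IdJ t e J) m (a J') (c J') = 0 := by
    intro J' hcard' hne'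
    have hns : ¬ J ⊆ J' := fun hsub =>
      hne' (Finset.eq_of_subset_of_card_le hsub (by omega)).symm
    obtain ⟨j', hj'J, hj'J'⟩ := Finset.not_subset.mp hns
    have hnot : e j' ∉ J'.map e := by
      intro h
      obtain ⟨x, hx, hxe⟩ := Finset.mem_map.mp h
      exact hj'J' (e.injective hxe ▸ hx)
    obtain ⟨l, hl⟩ := hc J' hcard' (e j') hnot
    exact tau_eq_zero t _ m _ _ l (hl ▸ t_mem t e J hj'J)
  have hterm : ∀ j : {x // x ∈ J}, ψ (J.erase j.1) J m (ω (J.erase j.1))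
      = if j.1 = J.min' hne then g J else 0 := by
    intro j
    show ψ (J.erase j.1) J m (∑ J' ∈ Finset.univ.filter (P (J.erase j.1)),
      tau k t (IdJ t e (J.erase j.1)) m (a J') (c J')) = _
    rw [map_sum]
    have h1 : ∀ J' ∈ Finset.univ.filter (P (J.erase j.1)),
        ψ (J.erase j.1) J m (tau k t (IdJ t e (J.erase j.1)) m (a J') (c J')) =
          tau k t (IdJ t e J) m (a J') (c J') := by
      intro J' _
      exact psi_tau t (biSup_mono (Finset.erase_subset _ _)) (ψ (J.erase j.1) J)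
        (hψ _ _ (Finset.erase_subset _ _)) m (a J') (c J')
    rw [Finset.sum_congr rfl h1]
    by_cases hjj : j.1 = J.min' hne
    · rw [if_pos hjj]
      have hmem : J ∈ Finset.univ.filter (P (J.erase j.1)) := by
        rw [Finset.mem_filter]
        exact ⟨Finset.mem_univ _, hJ, J.min' hne, hj₀J, fun i hi => Finset.min'_le J i hi,
          by rw [hjj]⟩
      rw [Finset.sum_eq_single_of_mem J hmem
        (fun J' hJ' hne' => h2 J' (Finset.mem_filter.mp hJ').2.1 hne')]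
      exact (ha J hJ).symm
    · rw [if_neg hjj]
      apply Finset.sum_eq_zero
      intro J' hJ'
      apply h2 J' (Finset.mem_filter.mp hJ').2.1
      intro hJJ
      rw [hJJ] at hJ'
      obtain ⟨-, -, j', hj', hmin, herase⟩ := Finset.mem_filter.mp hJ'
      have hj'j : j' = j.1 := by
        by_contra hne2
        have hmem : j.1 ∈ J.erase j' := Finset.mem_erase.mpr ⟨fun h => hne2 h.symm, j.2⟩
        rw [herase] at hmem
        exact (Finset.notMem_erase _ _) hmem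
      apply hjj
      rw [← hj'j]
      exact le_antisymm (hmin _ hj₀J) (Finset.min'_le _ _ hj')
  rw [Finset.sum_congr rfl (fun j _ => by rw [hterm j])]
  rw [Finset.sum_eq_single (⟨J.min' hne, hj₀J⟩ : {x // x ∈ J})]
  · rw [if_pos rfl]
    have hemp : J.filter (fun i => i < J.min' hne) = ∅ := by
      rw [Finset.filter_eq_empty_iff]
      intro i hi
      exact not_lt.mpr (Finset.min'_le J i hi)
    rw [hemp, Finset.card_empty, pow_zero, one_smul]
  · intro j _ hj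
    have : j.1 ≠ J.min' hne := fun h => hj (Subtype.ext h)
    rw [if_neg this, smul_zero]
  · intro h
    exact absurd (Finset.mem_attach _ _) h

end Groth.Agent.Lib.Helper9.CechHyp
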