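import Mathlib
import Groth.Prelude.Def_DeRham
import Groth.Agent.Lib.Helper9.CechHyp

/-!
# Relative top de Rham classes for coordinate hyperplanes (chart case), used for S19636
-/

set_option autoImplicit false
universe u
open exteriorPower

namespace Groth.Agent.Lib.Helper9.CechHyp

/-- Dependent sequences by recursion. -/
theorem exists_seq {X : ℕ → Type*} (P0 : X 0 → Prop) (Ps : ∀ m, X m → X (m + 1) → Prop)
    (h0 : ∃ x, P0 x) (hs : ∀ m x, ∃ y, Ps m x y) :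
    ∃ F : ∀ m, X m, P0 (F 0) ∧ ∀ m, Ps m (F m) (F (m + 1)) := by
  classical
  choose f hf using hs
  exact ⟨fun m => Nat.rec (motive := X) h0.choose (fun m x => f m x) m, h0.choose_spec,
    fun m => hf m _⟩

theorem main2
    (k : Type u) [Field k] (A : Type u) [CommRing A] [Algebra k A]
    (d n : ℕ) (t : Fin d → A) (e : Fin n ↪ Fin d)
    (b : Module.Basis (Fin d) A (Ω[A⁄k])) (hb : ∀ i, b i = KaehlerDifferential.D k A (t i))
    (ψ : ∀ (I J : Finset (Fin n)) (p : ℕ), ↥(⋀[(A ⧸ (⨆ i ∈ I, Ideal.span {t (e i)} : Ideal A))]^p (Ω[(A ⧸ (⨆ i ∈ I, Ideal.span {t (e i)} : Ideal A))⁄k])) →+ ↥(⋀[(A ⧸ (⨆ i ∈ J, Ideal.span {t (e i)} : Ideal A))]^p (Ω[(A ⧸ (⨆ i ∈ J, Ideal.span {t (e i)} : Ideal A))⁄k])))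
    (hψ : ∀ (I J : Finset (Fin n)) (h : I ⊆ J),
      DeRham.IsCxMap (KaehlerDifferential.D k (A ⧸ (⨆ i ∈ I, Ideal.span {t (e i)} : Ideal A))) (KaehlerDifferential.D k (A ⧸ (⨆ i ∈ J, Ideal.span {t (e i)} : Ideal A)))
        (Ideal.Quotient.factor (biSup_mono h)) (ψ I J))
    (dq : ∀ (I : Finset (Fin n)) (p : ℕ), ↥(⋀[(A ⧸ (⨆ i ∈ I, Ideal.span {t (e i)} : Ideal A))]^p (Ω[(A ⧸ (⨆ i ∈ I, Ideal.span {t (e i)} : Ideal A))⁄k])) →ₗ[k] ↥(⋀[(A ⧸ (⨆ i ∈ I, Ideal.span {t (e i)} : Ideal A))]^(p + 1) (Ω[(A ⧸ (⨆ i ∈ I, Ideal.span {t (e i)} : Ideal A))⁄k])))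
    (ω : ∀ (J : Finset (Fin n)) (q : ℕ), ↥(⋀[(A ⧸ (⨆ i ∈ J, Ideal.span {t (e i)} : Ideal A))]^q (Ω[(A ⧸ (⨆ i ∈ J, Ideal.span {t (e i)} : Ideal A))⁄k]))) :
    ∃ η : ∀ (I : Finset (Fin n)) (q : ℕ), ↥(⋀[(A ⧸ (⨆ i ∈ I, Ideal.span {t (e i)} : Ideal A))]^q (Ω[(A ⧸ (⨆ i ∈ I, Ideal.span {t (e i)} : Ideal A))⁄k])),
      (∀ (J : Finset (Fin n)) (q : ℕ), J.Nonempty → J.card + (q + 1) = d →
        ω J (q + 1) =
          (∑ j ∈ J.attach, ((-1 : ℤ) ^ (J.filter (fun i => i < j.1)).card) • ψ (J.erase j.1) J (q + 1) (η (J.erase j.1) (q + 1))) +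
            ((-1 : ℤ) ^ J.card) • dq J q (η J q)) ∧
      (∀ J : Finset (Fin n), J.Nonempty → J.card = d →
        ω J 0 = ∑ j ∈ J.attach, ((-1 : ℤ) ^ (J.filter (fun i => i < j.1)).card) • ψ (J.erase j.1) J 0 (η (J.erase j.1) 0)) := by
  classical
  let X : ℕ → Type u := fun m => ∀ I : Finset (Fin n), ↥(⋀[(A ⧸ (⨆ i ∈ I, Ideal.span {t (e i)} : Ideal A))]^m (Ω[(A ⧸ (⨆ i ∈ I, Ideal.span {t (e i)} : Ideal A))⁄k]))
  let P0 : X 0 → Prop := fun x => ∀ J : Finset (Fin n), J.Nonempty → J.card = d →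
        ω J 0 = ∑ j ∈ J.attach, ((-1 : ℤ) ^ (J.filter (fun i => i < j.1)).card) • ψ (J.erase j.1) J 0 (x (J.erase j.1))
  let Ps : ∀ m, X m → X (m + 1) → Prop := fun m x y =>
        ∀ J : Finset (Fin n), J.Nonempty → J.card + (m + 1) = d →
          ω J (m + 1) =
            (∑ j ∈ J.attach, ((-1 : ℤ) ^ (J.filter (fun i => i < j.1)).card) • ψ (J.erase j.1) J (m + 1) (y (J.erase j.1))) +
              ((-1 : ℤ) ^ J.card) • dq J m (x J)
  have h0 : ∃ x : X 0, P0 x := by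
    rcases Nat.eq_zero_or_pos d with hd0 | hdpos
    · refine ⟨fun _ => 0, ?_⟩
      intro J hJne hJ
      exfalso
      have := Finset.card_pos.mpr hJne
      omega
    · have hmain := main k A d n t e b hb ψ hψ (d - 1) 0 (by omega) (fun J => ω J 0)
      obtain ⟨x, hx⟩ := hmain
      refine ⟨x, ?_⟩
      intro J _ hJ
      have h1 := hx J (by omega)
      exact h1.symm
  have hstep : ∀ (m : ℕ) (x : X m), ∃ y : X (m + 1), Ps m x y := by
    intro m x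
    by_cases hm : m + 2 ≤ d
    · have hmain := main k A d n t e b hb ψ hψ (d - (m + 2)) (m + 1) (by omega)
        (fun J => ω J (m + 1) - ((-1 : ℤ) ^ J.card) • dq J m (x J))
      obtain ⟨y, hy⟩ := hmain
      refine ⟨y, ?_⟩
      intro J _ hJ
      have h1 := hy J (by omega)
      rw [h1]
      exact (sub_add_cancel _ _).symm
    · refine ⟨fun _ => 0, ?_⟩
      intro J hJne hJ
      exfalso
      have := Finset.card_pos.mpr hJne
      omega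
  obtain ⟨F, hF0, hFs⟩ := exists_seq (X := X) P0 Ps h0 hstep
  refine ⟨fun I q => F q I, ?_, ?_⟩
  · intro J q hJne hJ
    exact hFs q J hJne hJ
  · intro J hJne hJ
    exact hF0 J hJne hJ

end Groth.Agent.Lib.Helper9.CechHyp
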