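import Mathlib

/-!
# Cyclic vectors and centralizers

* over an algebraically closed field: `finrank (centralizer T) ≤ dim V` implies `T` has a cyclic
  vector (`main_LA`);
* over a commutative ring: if `x`, `y` commute with `G` then `det(Krylov matrix)^4 • (xy - yx) = 0`.
-/

namespace Helper9.CyclicCent

open Polynomial Module

universe uV

section LA
variable {K : Type*} [Field K]

/-- centralizer of `T` as a submodule of `End V`. -/
def Cent {V : Type*} [AddCommGroup V] [Module K V] (T : Module.End K V) :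
    Submodule K (Module.End K V) where
  carrier := {x | x * T = T * x}
  add_mem' := by
    intro a b ha hb
    simp only [Set.mem_ofPred_eq] at ha hb ⊢
    rw [add_mul, mul_add, ha, hb]
  zero_mem' := by
    simp only [Set.mem_ofPred_eq, zero_mul, mul_zero]
  smul_mem' := by
    intro c a ha
    simp only [Set.mem_ofPred_eq] at ha ⊢
    rw [smul_mul_assoc, mul_smul_comm, ha]

theorem mem_Cent {V : Type*} [AddCommGroup V] [Module K V] (T x : Module.End K V) :
    x ∈ Cent T ↔ x * T = T * x := Iff.rfl

/-- `v` is a cyclic vector for `T`. -/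
def Cyc {V : Type*} [AddCommGroup V] [Module K V] (T : Module.End K V) (v : V) : Prop :=
  ∀ u : V, ∃ P : K[X], aeval T P v = u

theorem comm_shift {V : Type*} [AddCommGroup V] [Module K V] (S x : Module.End K V) (c : K) :
    x * (S + c • 1) = (S + c • 1) * x ↔ x * S = S * x := by
  rw [mul_add, add_mul, mul_smul_comm, smul_mul_assoc, mul_one, one_mul]
  exact add_left_inj _

theorem aeval_intertwine {V V' : Type*} [AddCommGroup V] [Module K V] [AddCommGroup V']
    [Module K V'] (ι : V' →ₗ[K] V) (T' : Module.End K V') (T : Module.End K V)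
    (h : ∀ w, ι (T' w) = T (ι w)) (P : K[X]) :
    ∀ w : V', ι (aeval T' P w) = aeval T P (ι w) := by
  induction P using Polynomial.induction_on with
  | C a =>
    intro w
    simp only [aeval_C, Module.algebraMap_end_apply, map_smul]
  | add p q hp hq =>
    intro w
    simp only [map_add, LinearMap.add_apply, hp, hq]
  | monomial n a ih =>
    intro w
    have e1 : aeval T' (C a * X ^ (n + 1)) = aeval T' (C a * X ^ n) * T' := by
      rw [pow_succ, ← mul_assoc, map_mul, aeval_X]
    have e2 : aeval T (C a * X ^ (n + 1)) = aeval T (C a * X ^ n) * T := by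
      rw [pow_succ, ← mul_assoc, map_mul, aeval_X]
    rw [e1, e2, Module.End.mul_apply, Module.End.mul_apply, ih, h]

theorem rec_ineq {V V' : Type*} [AddCommGroup V] [Module K V] [FiniteDimensional K V]
    [AddCommGroup V'] [Module K V'] [FiniteDimensional K V']
    (ι : V' →ₗ[K] V) (hι : Function.Injective ι) (St : V →ₗ[K] V')
    (hSt : Function.Surjective St) (c : K) :
    finrank K (Cent (St ∘ₗ ι + c • (1 : Module.End K V')))
      + finrank K (LinearMap.ker St) * finrank K (LinearMap.ker St)
      ≤ finrank K (Cent (ι ∘ₗ St + c • (1 : Module.End K V))) := by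
  obtain ⟨P, hP⟩ := LinearMap.exists_leftInverse_of_injective ι (LinearMap.ker_eq_bot.mpr hι)
  obtain ⟨σ, hσ⟩ :=
    LinearMap.exists_rightInverse_of_surjective St (LinearMap.range_eq_top.mpr hSt)
  have hP' : ∀ w, P (ι w) = w := fun w => LinearMap.congr_fun hP w
  have hσ' : ∀ w, St (σ w) = w := fun w => LinearMap.congr_fun hσ w
  have hmk : ∀ w, (LinearMap.range ι).mkQ (ι w) = 0 := by
    intro w
    rw [Submodule.mkQ_apply, Submodule.Quotient.mk_eq_zero]
    exact LinearMap.mem_range_self ι w
  let Θ : (↥(Cent (St ∘ₗ ι + c • (1 : Module.End K V'))) ×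
      ((V ⧸ LinearMap.range ι) →ₗ[K] ↥(LinearMap.ker St))) →ₗ[K] Module.End K V :=
    { toFun := fun yh => ι ∘ₗ yh.1.1 ∘ₗ P + σ ∘ₗ yh.1.1 ∘ₗ St ∘ₗ (LinearMap.id - ι ∘ₗ P)
        + (LinearMap.ker St).subtype ∘ₗ yh.2 ∘ₗ (LinearMap.range ι).mkQ
      map_add' := by
        intro a b
        ext v
        simp only [Prod.fst_add, Prod.snd_add, Submodule.coe_add, LinearMap.add_apply,
          LinearMap.comp_apply, map_add, LinearMap.sub_apply, LinearMap.id_apply,
          Submodule.subtype_apply]
        abel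
      map_smul' := by
        intro r a
        ext v
        simp only [Prod.smul_fst, Prod.smul_snd, Submodule.coe_smul, LinearMap.add_apply,
          LinearMap.comp_apply, LinearMap.smul_apply, map_smul, LinearMap.sub_apply,
          LinearMap.id_apply, Submodule.subtype_apply, RingHom.id_apply, smul_add] }
  have hΘ_apply : ∀ yh v, Θ yh v = ι (yh.1.1 (P v)) + σ (yh.1.1 (St (v - ι (P v))))
      + ((yh.2 ((LinearMap.range ι).mkQ v) : ↥(LinearMap.ker St)) : V) := by
    intro yh v
    rfl
  have hΘι : ∀ yh w, Θ yh (ι w) = ι (yh.1.1 w) := by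
    intro yh w
    rw [hΘ_apply, hP', sub_self, map_zero, map_zero, map_zero, hmk, map_zero,
      Submodule.coe_zero, add_zero, add_zero]
  have hcomm : ∀ (y : ↥(Cent (St ∘ₗ ι + c • (1 : Module.End K V')))) (z : V'),
      y.1 (St (ι z)) = St (ι (y.1 z)) := by
    intro y z
    have h1 := (comm_shift (St ∘ₗ ι) y.1 c).mp ((mem_Cent _ _).mp y.2)
    have h2 := LinearMap.congr_fun h1 z
    simpa [Module.End.mul_apply] using h2
  have hmem : ∀ yh, Θ yh ∈ Cent (ι ∘ₗ St + c • (1 : Module.End K V)) := by
    intro yh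
    rw [mem_Cent, comm_shift]
    refine LinearMap.ext fun v => ?_
    rw [Module.End.mul_apply, Module.End.mul_apply, LinearMap.comp_apply,
      LinearMap.comp_apply, hΘι]
    congr 1
    rw [hΘ_apply, map_add, map_add, hσ', LinearMap.map_coe_ker, map_sub, map_sub, hcomm]
    abel
  have hinj : Function.Injective Θ := by
    rw [injective_iff_map_eq_zero]
    rintro ⟨y, h⟩ h0
    have hy : y = 0 := by
      apply Subtype.ext
      refine LinearMap.ext fun w => ?_
      have h1 := LinearMap.congr_fun h0 (ι w)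
      rw [hΘι] at h1
      have h2 : ι (y.1 w) = ι 0 := by rw [map_zero]; exact h1
      simpa using hι h2
    have hh : h = 0 := by
      refine LinearMap.ext fun q => ?_
      obtain ⟨v, rfl⟩ := Submodule.mkQ_surjective (LinearMap.range ι) q
      have h1 := LinearMap.congr_fun h0 v
      rw [hΘ_apply, hy] at h1
      simpa using h1
    rw [hy, hh]
    rfl
  have hfin := LinearMap.finrank_le_finrank_of_injective
    (f := Θ.codRestrict (Cent (ι ∘ₗ St + c • (1 : Module.End K V))) hmem)
    (fun a b hab => hinj (congrArg Subtype.val hab))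
  rw [Module.finrank_prod, Module.finrank_linearMap] at hfin
  have hQ : finrank K (V ⧸ LinearMap.range ι) = finrank K (LinearMap.ker St) := by
    have h1 := (LinearMap.range ι).finrank_quotient_add_finrank
    have h2 := LinearMap.finrank_range_of_inj hι
    have h3 := LinearMap.finrank_range_add_finrank_ker St
    rw [LinearMap.range_eq_top.mpr hSt, finrank_top] at h3
    omega
  rw [hQ] at hfin
  exact hfin

theorem cyc_lift {V V' : Type*} [AddCommGroup V] [Module K V] [FiniteDimensional K V]
    [AddCommGroup V'] [Module K V'] [FiniteDimensional K V']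
    (ι : V' →ₗ[K] V) (hι : Function.Injective ι) (St : V →ₗ[K] V')
    (hSt : Function.Surjective St) (c : K) (hk : finrank K (LinearMap.ker St) = 1)
    (hcyc : ∃ w, Cyc (St ∘ₗ ι + c • (1 : Module.End K V')) w) :
    ∃ v, Cyc (ι ∘ₗ St + c • (1 : Module.End K V)) v := by
  obtain ⟨w, hw⟩ := hcyc
  obtain ⟨T', hT'⟩ : ∃ T' : Module.End K V', T' = St ∘ₗ ι + c • 1 := ⟨_, rfl⟩
  obtain ⟨T, hT⟩ : ∃ T : Module.End K V, T = ι ∘ₗ St + c • 1 := ⟨_, rfl⟩
  rw [← hT'] at hw
  rw [← hT]
  have hint : ∀ z, ι (T' z) = T (ι z) := by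
    intro z
    rw [hT', hT]
    simp only [LinearMap.add_apply, LinearMap.comp_apply, LinearMap.smul_apply,
      Module.End.one_apply, map_add, map_smul]
  have hS : ∀ v, ι (St v) = aeval T (X - C c) v := by
    intro v
    rw [map_sub, aeval_X, aeval_C, LinearMap.sub_apply, Module.algebraMap_end_apply, hT,
      LinearMap.add_apply, LinearMap.comp_apply, LinearMap.smul_apply, Module.End.one_apply,
      add_sub_cancel_right]
  have hV' : ∀ v, St v = w → ∀ u', ∃ P : K[X], aeval T P v = ι u' := by
    intro v hv u'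
    obtain ⟨Q, hQ⟩ := hw u'
    refine ⟨Q * (X - C c), ?_⟩
    rw [map_mul, Module.End.mul_apply, ← hS, hv, ← aeval_intertwine ι T' T hint Q w, hQ]
  have hdimV' : finrank K V' + 1 = finrank K V := by
    have h3 := LinearMap.finrank_range_add_finrank_ker St
    rw [LinearMap.range_eq_top.mpr hSt, finrank_top] at h3
    omega
  have hfull : ∀ v, St v = w → v ∉ LinearMap.range ι → Cyc T v := by
    intro v hv hnot u
    have htop : LinearMap.range ι ⊔ Submodule.span K {v} = ⊤ := by
      apply Submodule.eq_top_of_finrank_eq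
      have hlt : LinearMap.range ι < LinearMap.range ι ⊔ Submodule.span K {v} := by
        refine lt_of_le_of_ne le_sup_left fun heq => hnot ?_
        rw [heq]
        exact Submodule.mem_sup_right (Submodule.mem_span_singleton_self v)
      have h1 := Submodule.finrank_lt_finrank_of_lt hlt
      have h2 := LinearMap.finrank_range_of_inj hι
      have h4 := Submodule.finrank_le (LinearMap.range ι ⊔ Submodule.span K {v})
      omega
    have hu : u ∈ LinearMap.range ι ⊔ Submodule.span K {v} := by rw [htop]; trivial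
    obtain ⟨a, ha, b, hb, rfl⟩ := Submodule.mem_sup.mp hu
    obtain ⟨u', rfl⟩ := ha
    obtain ⟨r, rfl⟩ := Submodule.mem_span_singleton.mp hb
    obtain ⟨P1, hP1⟩ := hV' v hv u'
    refine ⟨P1 + C r, ?_⟩
    rw [map_add, LinearMap.add_apply, hP1, aeval_C, Module.algebraMap_end_apply]
  obtain ⟨v₀, hv₀⟩ := hSt w
  by_cases h0 : v₀ ∈ LinearMap.range ι
  · have hne : LinearMap.ker St ≠ ⊥ := by
      intro hb
      rw [hb, finrank_bot] at hk
      omega
    obtain ⟨e, he, he0⟩ := Submodule.exists_mem_ne_zero_of_ne_bot hne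
    have hSte : St e = 0 := LinearMap.mem_ker.mp he
    refine ⟨v₀ + e, hfull (v₀ + e) (by rw [map_add, hv₀, hSte, add_zero]) ?_⟩
    intro hmem
    have he_mem : e ∈ LinearMap.range ι := by
      have := Submodule.sub_mem _ hmem h0
      simpa using this
    obtain ⟨e', rfl⟩ := he_mem
    obtain ⟨z, rfl⟩ := h0
    have hsurj : Function.Surjective (St ∘ₗ ι : V' →ₗ[K] V') := by
      intro u'
      obtain ⟨Q, hQ⟩ := hw u'
      refine ⟨aeval T' Q z, ?_⟩
      have hc' : ∀ z', (St ∘ₗ ι) (T' z') = T' ((St ∘ₗ ι) z') := by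
        intro z'
        rw [hT']
        simp only [LinearMap.add_apply, LinearMap.comp_apply, LinearMap.smul_apply,
          Module.End.one_apply, map_add, map_smul]
      rw [aeval_intertwine (St ∘ₗ ι) T' T' hc' Q z, LinearMap.comp_apply, hv₀, hQ]
    have hinj' := LinearMap.injective_iff_surjective.mpr hsurj
    have h0' : e' = 0 := hinj' (by rw [map_zero, LinearMap.comp_apply]; exact hSte)
    exact he0 (by rw [h0', map_zero])
  · exact ⟨v₀, hfull v₀ hv₀ h0⟩

theorem main_LA [IsAlgClosed K] : ∀ n : ℕ, ∀ (V : Type uV) [AddCommGroup V] [Module K V]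
    [FiniteDimensional K V], finrank K V = n → ∀ T : Module.End K V,
    n ≤ finrank K (Cent T) ∧ (finrank K (Cent T) ≤ n → ∃ v, Cyc T v) := by
  intro n
  induction n using Nat.strong_induction_on with
  | _ n ih =>
    intro V _ _ _ hn T
    rcases Nat.eq_zero_or_pos n with h0 | hpos
    · have hsub : Subsingleton V := by
        rw [h0] at hn
        exact Module.finrank_zero_iff.mp hn
      exact ⟨by omega, fun _ => ⟨0, fun u => ⟨0, Subsingleton.elim _ _⟩⟩⟩
    · have hnt : Nontrivial V := Module.nontrivial_of_finrank_pos (R := K) (by omega)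
      obtain ⟨c, hc⟩ := Module.End.exists_eigenvalue T
      obtain ⟨e, he⟩ := hc.exists_hasEigenvector
      obtain ⟨S, hS⟩ : ∃ S : Module.End K V, S = T - c • 1 := ⟨_, rfl⟩
      have hcomp : (LinearMap.range S).subtype ∘ₗ S.rangeRestrict = S :=
        LinearMap.ext fun _ => rfl
      have hTS : (LinearMap.range S).subtype ∘ₗ S.rangeRestrict + c • (1 : Module.End K V)
          = T := by
        rw [hcomp, hS, sub_add_cancel]
      have hι : Function.Injective (LinearMap.range S).subtype := Submodule.subtype_injective _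
      have hSt : Function.Surjective S.rangeRestrict := LinearMap.surjective_rangeRestrict S
      have hker : LinearMap.ker S.rangeRestrict = LinearMap.ker S := LinearMap.ker_rangeRestrict S
      have hk1 : 1 ≤ finrank K (LinearMap.ker S.rangeRestrict) := by
        rw [hker]
        have hemem : e ∈ LinearMap.ker S := by
          rw [LinearMap.mem_ker, hS, LinearMap.sub_apply, he.apply_eq_smul,
            LinearMap.smul_apply, Module.End.one_apply, sub_self]
        have hne : LinearMap.ker S ≠ ⊥ := fun hb =>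
          he.2 (by rw [hb] at hemem; exact (Submodule.mem_bot K).mp hemem)
        by_contra hlt
        have h0' : finrank K (LinearMap.ker S) = 0 := by omega
        exact hne (Submodule.finrank_eq_zero.mp h0')
      have hdim : finrank K (LinearMap.range S) + finrank K (LinearMap.ker S.rangeRestrict)
          = n := by
        rw [hker, ← hn]
        exact LinearMap.finrank_range_add_finrank_ker S
      have hrec := rec_ineq (LinearMap.range S).subtype hι S.rangeRestrict hSt c
      rw [hTS] at hrec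
      have hlt : finrank K (LinearMap.range S) < n := by omega
      obtain ⟨ihA, ihB⟩ := ih _ hlt (LinearMap.range S) rfl
        (S.rangeRestrict ∘ₗ (LinearMap.range S).subtype + c • 1)
      have hkk : finrank K (LinearMap.ker S.rangeRestrict)
          ≤ finrank K (LinearMap.ker S.rangeRestrict) * finrank K (LinearMap.ker S.rangeRestrict) :=
        Nat.le_mul_self _
      refine ⟨by omega, fun hle => ?_⟩
      have hkk2 : finrank K (LinearMap.ker S.rangeRestrict)
          * finrank K (LinearMap.ker S.rangeRestrict)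
          ≤ finrank K (LinearMap.ker S.rangeRestrict) * 1 := by omega
      have hk_le : finrank K (LinearMap.ker S.rangeRestrict) ≤ 1 :=
        Nat.le_of_mul_le_mul_left hkk2 (by omega)
      have hk_eq : finrank K (LinearMap.ker S.rangeRestrict) = 1 := by omega
      rw [hk_eq] at hrec hdim
      obtain ⟨w, hw⟩ := ihB (by omega)
      have := cyc_lift (LinearMap.range S).subtype hι S.rangeRestrict hSt c hk_eq ⟨w, hw⟩
      rw [hTS] at this
      exact this

end LA

section Mat
variable {R : Type*} [CommRing R] {n : ℕ}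

/-- Krylov matrix with columns `G^j t`. -/
def kry (G : Matrix (Fin n) (Fin n) R) (t : Fin n → R) : Matrix (Fin n) (Fin n) R :=
  Matrix.of fun i j => ((G ^ (j : ℕ)).mulVec t) i

theorem mul_kry (M G : Matrix (Fin n) (Fin n) R) (t : Fin n → R) (i j : Fin n) :
    (M * kry G t) i j = (M.mulVec ((G ^ (j : ℕ)).mulVec t)) i := rfl

theorem kry_mulVec (G : Matrix (Fin n) (Fin n) R) (t a : Fin n → R) :
    (∑ j : Fin n, a j • G ^ (j : ℕ)).mulVec t = (kry G t).mulVec a := by
  rw [Matrix.sum_mulVec]
  funext i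
  simp only [Finset.sum_apply, Matrix.smul_mulVec, Pi.smul_apply, smul_eq_mul, Matrix.mulVec,
    dotProduct, kry, Matrix.of_apply]
  exact Finset.sum_congr rfl fun j _ => mul_comm _ _

theorem kry_map {S : Type*} [CommRing S] (f : R →+* S) (G : Matrix (Fin n) (Fin n) R)
    (t : Fin n → R) : (kry G t).map f = kry (G.map f) (f ∘ t) := by
  ext i j
  simp only [kry, Matrix.map_apply, Matrix.of_apply]
  rw [RingHom.map_mulVec, Matrix.map_pow]

theorem key_poly (G x : Matrix (Fin n) (Fin n) R) (hx : x * G = G * x) (t : Fin n → R) :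
    ∃ p : R[X], (kry G t).det • ((kry G t).det • x) = (kry G t).det • aeval G p := by
  obtain ⟨W, hW⟩ : ∃ W, W = kry G t := ⟨_, rfl⟩
  obtain ⟨d, hd⟩ : ∃ d, d = W.det := ⟨_, rfl⟩
  obtain ⟨a, ha⟩ : ∃ a : Fin n → R, a = W.adjugate.mulVec (x.mulVec t) := ⟨_, rfl⟩
  refine ⟨∑ j : Fin n, C (a j) * X ^ (j : ℕ), ?_⟩
  rw [← hW, ← hd]
  have hae : aeval G (∑ j : Fin n, C (a j) * X ^ (j : ℕ)) = ∑ j : Fin n, a j • G ^ (j : ℕ) := by
    rw [map_sum]
    refine Finset.sum_congr rfl fun j _ => ?_
    rw [map_mul, aeval_C, map_pow, aeval_X, Algebra.smul_def]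
  have h1 : (aeval G (∑ j : Fin n, C (a j) * X ^ (j : ℕ))).mulVec t = d • x.mulVec t := by
    rw [hae, kry_mulVec, ← hW, ha, Matrix.mulVec_mulVec, Matrix.mul_adjugate, ← hd,
      Matrix.smul_mulVec, Matrix.one_mulVec]
  obtain ⟨A, hA⟩ : ∃ A, A = aeval G (∑ j : Fin n, C (a j) * X ^ (j : ℕ)) := ⟨_, rfl⟩
  rw [← hA] at h1 ⊢
  have hAG : ∀ j : ℕ, A * G ^ j = G ^ j * A := by
    intro j
    rw [hA]
    have : (aeval G (X ^ j : R[X]) : Matrix (Fin n) (Fin n) R) = G ^ j := by
      rw [map_pow, aeval_X]
    rw [← this, ← map_mul, ← map_mul, mul_comm]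
  have hxG : ∀ j : ℕ, x * G ^ j = G ^ j * x := by
    intro j
    have hc : Commute x G := hx
    exact hc.pow_right j
  have h2 : (d • x) * W = A * W := by
    ext i j
    rw [hW, mul_kry, mul_kry]
    refine congrFun ?_ i
    calc (d • x).mulVec ((G ^ (j : ℕ)).mulVec t)
        = (G ^ (j : ℕ)).mulVec ((d • x).mulVec t) := by
          rw [Matrix.mulVec_mulVec, Matrix.mulVec_mulVec, Matrix.smul_mul, hxG, Matrix.mul_smul]
      _ = (G ^ (j : ℕ)).mulVec (A.mulVec t) := by
          rw [Matrix.smul_mulVec, ← h1]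
      _ = A.mulVec ((G ^ (j : ℕ)).mulVec t) := by
          rw [Matrix.mulVec_mulVec, Matrix.mulVec_mulVec, hAG]
  have h3 := congrArg (· * W.adjugate) h2
  simp only [mul_assoc, Matrix.mul_adjugate] at h3
  rw [← hd, Matrix.mul_smul, Matrix.mul_smul, mul_one, mul_one] at h3
  exact h3

theorem cyc_det {K : Type*} [Field K] {n : ℕ} (g : Matrix (Fin n) (Fin n) K) (v : Fin n → K)
    (hv : Cyc (Matrix.toLinAlgEquiv' g) v) : (kry g v).det ≠ 0 := by
  rcases Nat.eq_zero_or_pos n with h0 | hpos
  · subst h0
    simp [Matrix.det_isEmpty]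
  have hχm : g.charpoly.Monic := g.charpoly_monic
  have hχd : g.charpoly.natDegree = n := by simp
  have hχ1 : g.charpoly ≠ 1 := by
    intro h
    rw [h, natDegree_one] at hχd
    omega
  have key : ∀ i : Fin n, ∃ a : Fin n → K, (kry g v).mulVec a = Pi.single i 1 := by
    intro i
    obtain ⟨P, hP⟩ := hv (Pi.single i 1)
    rw [aeval_algHom_apply, Matrix.toLinAlgEquiv'_apply] at hP
    have hmod : aeval g P = aeval g (P %ₘ g.charpoly) := by
      conv_lhs => rw [← modByMonic_add_div P g.charpoly]
      rw [map_add, map_mul, Matrix.aeval_self_charpoly, zero_mul, add_zero]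
    have hdeg : (P %ₘ g.charpoly).natDegree < n := by
      have := natDegree_modByMonic_lt P hχm hχ1
      omega
    rw [hmod, aeval_eq_sum_range' hdeg, Finset.sum_range] at hP
    exact ⟨fun j => (P %ₘ g.charpoly).coeff j, by rw [← kry_mulVec]; exact hP⟩
  choose a ha using key
  have hmul : kry g v * Matrix.of (fun j i => a i j) = 1 := by
    ext i' i
    have h1 := congrFun (ha i) i'
    rw [Matrix.one_apply]
    simp only [Matrix.mul_apply, Matrix.of_apply]
    simp only [Matrix.mulVec, dotProduct] at h1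
    rw [h1, Pi.single_apply]
  intro hdet
  have h2 := congrArg Matrix.det hmul
  rw [Matrix.det_mul, hdet, zero_mul, Matrix.det_one] at h2
  exact zero_ne_one h2

theorem finrank_Cent_le {K : Type*} [Field K] {n : ℕ} (g : Matrix (Fin n) (Fin n) K) :
    finrank K (Cent (Matrix.toLinAlgEquiv' g))
      ≤ finrank K (Subalgebra.centralizer K ({g} : Set (Matrix (Fin n) (Fin n) K))) := by
  rw [← Subalgebra.finrank_toSubmodule]
  let f : ↥(Cent (Matrix.toLinAlgEquiv' g)) →ₗ[K]
      ↥(Subalgebra.toSubmodule (Subalgebra.centralizer K ({g} : Set (Matrix (Fin n) (Fin n) K)))) :=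
    LinearMap.codRestrict _
      (LinearMap.toMatrixAlgEquiv'.toLinearMap ∘ₗ (Cent (Matrix.toLinAlgEquiv' g)).subtype) (by
        intro x
        rw [Subalgebra.mem_toSubmodule, Subalgebra.mem_centralizer_iff]
        intro h hh
        rw [Set.mem_singleton_iff] at hh
        rw [hh]
        have hx := (mem_Cent _ _).mp x.2
        have h1 := congrArg LinearMap.toMatrixAlgEquiv' hx
        rw [map_mul, map_mul, LinearMap.toMatrixAlgEquiv'_toLinAlgEquiv'] at h1
        exact h1.symm)
  refine LinearMap.finrank_le_finrank_of_injective (f := f) ?_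
  intro a b hab
  apply Subtype.ext
  have h1 := congrArg Subtype.val hab
  exact LinearMap.toMatrixAlgEquiv'.injective h1

theorem core {B : Type*} [CommRing B] {n : ℕ} (G x y : Matrix (Fin n) (Fin n) B)
    (hxg : x * G = G * x) (hyg : y * G = G * y) (i j : Fin n)
    {K : Type*} [Field K] [IsAlgClosed K] (ψ : B →+* K)
    (hψ : ∀ b : B, b * ((x * y) i j - (y * x) i j) = 0 → ψ b = 0)
    (hfin : finrank K (Cent (Matrix.toLinAlgEquiv' (G.map ψ))) ≤ n) : False := by
  obtain ⟨Cm, hCm⟩ : ∃ Cm : B →+* MvPolynomial (Fin n) B, Cm = MvPolynomial.C := ⟨_, rfl⟩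
  have hxP : x.map Cm * G.map Cm = G.map Cm * x.map Cm := by
    rw [← Matrix.map_mul, ← Matrix.map_mul, hxg]
  have hyP : y.map Cm * G.map Cm = G.map Cm * y.map Cm := by
    rw [← Matrix.map_mul, ← Matrix.map_mul, hyg]
  obtain ⟨p, hp⟩ := key_poly (G.map Cm) (x.map Cm) hxP MvPolynomial.X
  obtain ⟨q, hq⟩ := key_poly (G.map Cm) (y.map Cm) hyP MvPolynomial.X
  obtain ⟨d, hd⟩ : ∃ d, d = (kry (G.map Cm)
      (MvPolynomial.X : Fin n → MvPolynomial (Fin n) B)).det := ⟨_, rfl⟩
  rw [← hd] at hp hq
  have hcomm : (d • (d • x.map Cm)) * (d • (d • y.map Cm))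
      = (d • (d • y.map Cm)) * (d • (d • x.map Cm)) := by
    rw [hp, hq]
    simp only [smul_mul_assoc, mul_smul_comm]
    rw [← map_mul, ← map_mul, mul_comm p q]
  have hentry : Cm ((x * y) i j - (y * x) i j) * d ^ 4 = 0 := by
    have h1 := congrFun (congrFun hcomm i) j
    simp only [smul_mul_assoc, mul_smul_comm, Matrix.smul_apply, smul_eq_mul] at h1
    rw [← Matrix.map_mul, ← Matrix.map_mul, Matrix.map_apply, Matrix.map_apply] at h1
    rw [map_sub]
    linear_combination h1
  have hcoef : ∀ s, ψ (MvPolynomial.coeff s (d ^ 4)) = 0 := by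
    intro s
    apply hψ
    have h1 := congrArg (MvPolynomial.coeff s) hentry
    rw [hCm, MvPolynomial.coeff_C_mul, MvPolynomial.coeff_zero] at h1
    rw [mul_comm]
    exact h1
  have hmap0 : MvPolynomial.map ψ d = 0 := by
    have h4 : MvPolynomial.map ψ (d ^ 4) = 0 := by
      ext s
      rw [MvPolynomial.coeff_map, hcoef, MvPolynomial.coeff_zero]
    rw [map_pow] at h4
    exact (pow_eq_zero_iff (n := 4) (by norm_num)).mp h4
  have hdimV : finrank K (Fin n → K) = n := by simp
  obtain ⟨v, hv⟩ := (main_LA n (Fin n → K) hdimV (Matrix.toLinAlgEquiv' (G.map ψ))).2 hfin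
  apply cyc_det (G.map ψ) v hv
  have e1 : (G.map Cm).map (MvPolynomial.eval₂Hom ψ v) = G.map ψ := by
    ext a b
    simp [hCm]
  have e2 : (MvPolynomial.eval₂Hom ψ v) ∘ (MvPolynomial.X : Fin n → MvPolynomial (Fin n) B)
      = v := by
    funext k
    simp
  have h1 : (MvPolynomial.eval₂Hom ψ v) d = (kry (G.map ψ) v).det := by
    rw [hd, RingHom.map_det, RingHom.mapMatrix_apply, kry_map, e1, e2]
  rw [← h1, MvPolynomial.coe_eval₂Hom, ← MvPolynomial.eval_map, hmap0, map_zero]

universe u

theorem final {A : Type u} [CommRing A] (n : ℕ) (g : Matrix (Fin n) (Fin n) A)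
    (hreg : ∀ (K : Type u) [Field K] (φ : A →+* K),
      Module.finrank K (Subalgebra.centralizer K
        ({g.map φ} : Set (Matrix (Fin n) (Fin n) K))) = n)
    (B : Type u) [CommRing B] [Algebra A B] (x y : Matrix (Fin n) (Fin n) B)
    (hxg : x * g.map (algebraMap A B) = g.map (algebraMap A B) * x)
    (hyg : y * g.map (algebraMap A B) = g.map (algebraMap A B) * y) :
    x * y = y * x := by
  by_contra hne
  obtain ⟨i, j, hij⟩ : ∃ i j, (x * y) i j ≠ (y * x) i j := by
    by_contra hall
    push Not at hall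
    exact hne (Matrix.ext hall)
  obtain ⟨c, hc⟩ : ∃ c, c = (x * y) i j - (y * x) i j := ⟨_, rfl⟩
  have hc0 : c ≠ 0 := by rw [hc]; exact sub_ne_zero.mpr hij
  obtain ⟨I, hI⟩ : ∃ I : Ideal B, I = LinearMap.ker (LinearMap.toSpanSingleton B B c) :=
    ⟨_, rfl⟩
  have hmemI : ∀ b, b ∈ I ↔ b * c = 0 := by
    intro b
    rw [hI, LinearMap.mem_ker, LinearMap.toSpanSingleton_apply, smul_eq_mul]
  have hItop : I ≠ ⊤ := by
    intro h
    have h1 : (1 : B) ∈ I := by rw [h]; trivial
    rw [hmemI, one_mul] at h1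
    exact hc0 h1
  obtain ⟨m, hm, hIm⟩ := Ideal.exists_le_maximal I hItop
  have := hm
  let _ : Field (B ⧸ m) := Ideal.Quotient.field m
  refine core (g.map (algebraMap A B)) x y hxg hyg i j
    (K := AlgebraicClosure (B ⧸ m))
    ((algebraMap (B ⧸ m) (AlgebraicClosure (B ⧸ m))).comp (Ideal.Quotient.mk m)) ?_ ?_
  · intro b hb
    rw [← hc] at hb
    have hbm : b ∈ m := hIm ((hmemI b).mpr hb)
    rw [RingHom.comp_apply, Ideal.Quotient.eq_zero_iff_mem.mpr hbm, map_zero]
  · have h1 := hreg (AlgebraicClosure (B ⧸ m))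
      (((algebraMap (B ⧸ m) (AlgebraicClosure (B ⧸ m))).comp (Ideal.Quotient.mk m)).comp
        (algebraMap A B))
    have e : (g.map (algebraMap A B)).map
        ((algebraMap (B ⧸ m) (AlgebraicClosure (B ⧸ m))).comp (Ideal.Quotient.mk m))
        = g.map (((algebraMap (B ⧸ m) (AlgebraicClosure (B ⧸ m))).comp
            (Ideal.Quotient.mk m)).comp (algebraMap A B)) := by
      rw [Matrix.map_map]
      rfl
    rw [e]
    exact (finrank_Cent_le _).trans h1.le

end Mat

end Helper9.CyclicCent
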