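import Mathlib
import Groth.Agent.Lib.Helper9.CyclicCent

/-!
# Flatness of the centralizer scheme of a fiberwise regular matrix
-/

namespace Helper9.CentFlat

open Helper9.CyclicCent Polynomial Module TensorProduct

section Proj
variable {R : Type*} [CommRing R] {n : ℕ}

theorem key_poly' (G x : Matrix (Fin n) (Fin n) R) (hx : x * G = G * x) (t : Fin n → R) :
    (kry G t).det • ((kry G t).det • x)
      = (kry G t).det •
        ∑ j : Fin n, ((kry G t).adjugate.mulVec (x.mulVec t)) j • G ^ (j : ℕ) := by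
  obtain ⟨W, hW⟩ : ∃ W, W = kry G t := ⟨_, rfl⟩
  obtain ⟨d, hd⟩ : ∃ d, d = W.det := ⟨_, rfl⟩
  obtain ⟨a, ha⟩ : ∃ a : Fin n → R, a = W.adjugate.mulVec (x.mulVec t) := ⟨_, rfl⟩
  rw [← hW, ← ha, ← hd]
  have h1 : (∑ j : Fin n, a j • G ^ (j : ℕ)).mulVec t = d • x.mulVec t := by
    rw [kry_mulVec, ← hW, ha, Matrix.mulVec_mulVec, Matrix.mul_adjugate, ← hd,
      Matrix.smul_mulVec, Matrix.one_mulVec]
  obtain ⟨Am, hA⟩ : ∃ Am, Am = ∑ j : Fin n, a j • G ^ (j : ℕ) := ⟨_, rfl⟩
  rw [← hA] at h1 ⊢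
  have hAG : ∀ j : ℕ, Am * G ^ j = G ^ j * Am := by
    intro j
    rw [hA, Finset.sum_mul, Finset.mul_sum]
    refine Finset.sum_congr rfl fun k _ => ?_
    rw [smul_mul_assoc, mul_smul_comm, ← pow_add, ← pow_add, add_comm]
  have hxG : ∀ j : ℕ, x * G ^ j = G ^ j * x := by
    intro j
    have hc : Commute x G := hx
    exact hc.pow_right j
  have h2 : (d • x) * W = Am * W := by
    ext i j
    rw [hW, mul_kry, mul_kry]
    refine congrFun ?_ i
    calc (d • x).mulVec ((G ^ (j : ℕ)).mulVec t)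
        = (G ^ (j : ℕ)).mulVec ((d • x).mulVec t) := by
          rw [Matrix.mulVec_mulVec, Matrix.mulVec_mulVec, Matrix.smul_mul, hxG, Matrix.mul_smul]
      _ = (G ^ (j : ℕ)).mulVec (Am.mulVec t) := by
          rw [Matrix.smul_mulVec, ← h1]
      _ = Am.mulVec ((G ^ (j : ℕ)).mulVec t) := by
          rw [Matrix.mulVec_mulVec, Matrix.mulVec_mulVec, hAG]
  have h3 := congrArg (· * W.adjugate) h2
  simp only [mul_assoc, Matrix.mul_adjugate] at h3
  rw [← hd, Matrix.mul_smul, Matrix.mul_smul, mul_one, mul_one] at h3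
  exact h3

/-- projection onto polynomials in `G` (intended: `u = (det kry)⁻¹`). -/
def proj (G : Matrix (Fin n) (Fin n) R) (v : Fin n → R) (u : R) (y : Matrix (Fin n) (Fin n) R) :
    Matrix (Fin n) (Fin n) R :=
  ∑ k : Fin n, (u * ((kry G v).adjugate.mulVec (y.mulVec v)) k) • G ^ (k : ℕ)

theorem proj_comm (G : Matrix (Fin n) (Fin n) R) (v : Fin n → R) (u : R)
    (y : Matrix (Fin n) (Fin n) R) : proj G v u y * G = G * proj G v u y := by
  unfold proj
  rw [Finset.sum_mul, Finset.mul_sum]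
  refine Finset.sum_congr rfl fun k _ => ?_
  rw [smul_mul_assoc, mul_smul_comm, ← pow_succ, ← pow_succ']

theorem proj_eq_self (G : Matrix (Fin n) (Fin n) R) (v : Fin n → R) (u : R)
    (y : Matrix (Fin n) (Fin n) R) (hu : u * (kry G v).det = 1) (hy : y * G = G * y) :
    proj G v u y = y := by
  have h := key_poly' G y hy v
  obtain ⟨d, hd⟩ : ∃ d, d = (kry G v).det := ⟨_, rfl⟩
  obtain ⟨a, ha⟩ : ∃ a : Fin n → R, a = (kry G v).adjugate.mulVec (y.mulVec v) := ⟨_, rfl⟩
  rw [← hd, ← ha] at h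
  rw [← hd] at hu
  have hproj : proj G v u y = u • ∑ k : Fin n, a k • G ^ (k : ℕ) := by
    unfold proj
    rw [← ha, Finset.smul_sum]
    refine Finset.sum_congr rfl fun k _ => ?_
    rw [mul_smul]
  have h1 : u • (u • (d • (d • y))) = y := by
    rw [smul_smul, smul_smul, smul_smul]
    have : u * u * d * d = 1 := by linear_combination (u * d + 1) * hu
    rw [this, one_smul]
  rw [h, smul_smul, smul_smul] at h1
  have h2 : u * u * d = u := by linear_combination u * hu
  rw [h2] at h1
  rw [hproj, h1]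

theorem proj_map {S : Type*} [CommRing S] (f : R →+* S) (G : Matrix (Fin n) (Fin n) R)
    (v : Fin n → R) (u : R) (y : Matrix (Fin n) (Fin n) R) :
    (proj G v u y).map f = proj (G.map f) (f ∘ v) (f u) (y.map f) := by
  have hcoef : ∀ k, f (((kry G v).adjugate.mulVec (y.mulVec v)) k)
      = ((kry (G.map f) (f ∘ v)).adjugate.mulVec ((y.map f).mulVec (f ∘ v))) k := by
    intro k
    have e1 : (kry G v).adjugate.map f = (kry (G.map f) (f ∘ v)).adjugate := by
      have := RingHom.map_adjugate f (kry G v)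
      rw [RingHom.mapMatrix_apply, RingHom.mapMatrix_apply, kry_map] at this
      exact this
    have e2 : f ∘ (y.mulVec v) = (y.map f).mulVec (f ∘ v) := by
      funext i
      exact RingHom.map_mulVec f y v i
    rw [RingHom.map_mulVec, e1, e2]
  ext i j
  simp only [proj, Matrix.map_apply, Matrix.sum_apply, Matrix.smul_apply, smul_eq_mul, map_sum,
    map_mul]
  refine Finset.sum_congr rfl fun k _ => ?_
  rw [hcoef, ← Matrix.map_pow, Matrix.map_apply]

end Proj

section Main
universe u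
variable {A : Type u} [CommRing A] {n : ℕ}

/-- ring homs between commutative rings, with instance paths through `CommRing`. -/
abbrev CRHom (R S : Type*) [CommRing R] [CommRing S] := R →+* S

/-- The ideal of the commutant scheme of `g`. -/
noncomputable def commIdeal (g : Matrix (Fin n) (Fin n) A) :
    Ideal (MvPolynomial (Fin n × Fin n) A) :=
  Ideal.span (Set.range fun ij : Fin n × Fin n =>
        (Matrix.mvPolynomialX (Fin n) (Fin n) A * g.map MvPolynomial.C -
          g.map MvPolynomial.C * Matrix.mvPolynomialX (Fin n) (Fin n) A :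
            Matrix (Fin n) (Fin n) (MvPolynomial (Fin n × Fin n) A)) ij.1 ij.2)

theorem gen_mem (g : Matrix (Fin n) (Fin n) A) (i j : Fin n) :
    (Matrix.mvPolynomialX (Fin n) (Fin n) A * g.map MvPolynomial.C -
          g.map MvPolynomial.C * Matrix.mvPolynomialX (Fin n) (Fin n) A :
            Matrix (Fin n) (Fin n) (MvPolynomial (Fin n × Fin n) A)) i j ∈ commIdeal g :=
  Ideal.subset_span ⟨(i, j), rfl⟩

/-- An `A`-algebra hom out of the polynomial ring sending `X` to a matrix commuting with `g`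
kills the commutant ideal. -/
theorem kills {F : Type*} [CommRing F] [Algebra A F] (g : Matrix (Fin n) (Fin n) A)
    (h : MvPolynomial (Fin n × Fin n) A →ₐ[A] F)
    (hc : (Matrix.of fun i j => h (MvPolynomial.X (i, j))) * g.map (algebraMap A F)
      = g.map (algebraMap A F) * (Matrix.of fun i j => h (MvPolynomial.X (i, j)))) :
    ∀ p ∈ commIdeal g, h p = 0 := by
  have hle : commIdeal g ≤ RingHom.ker (h : MvPolynomial (Fin n × Fin n) A →+* F) := by
    unfold commIdeal
    rw [Ideal.span_le]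
    rintro _ ⟨ij, rfl⟩
    rw [SetLike.mem_coe, RingHom.mem_ker]
    have h1 := congrFun (congrFun hc ij.1) ij.2
    simp only [Matrix.mul_apply, Matrix.of_apply, Matrix.map_apply] at h1
    simp only [Matrix.sub_apply, Matrix.mul_apply, map_sub, map_sum, map_mul, RingHom.coe_coe,
      Matrix.map_apply, Matrix.mvPolynomialX_apply, ← MvPolynomial.algebraMap_eq,
      AlgHom.commutes]
    rw [sub_eq_zero]
    exact h1
  intro p hp
  exact hle hp

/-- Conversely, a hom killing the commutant ideal sends `X` to a matrix commuting with `g`. -/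
theorem comm_of_kills {F : Type*} [CommRing F] [Algebra A F] (g : Matrix (Fin n) (Fin n) A)
    (h : MvPolynomial (Fin n × Fin n) A →ₐ[A] F) (hk : ∀ p ∈ commIdeal g, h p = 0) :
    (Matrix.of fun i j => h (MvPolynomial.X (i, j))) * g.map (algebraMap A F)
      = g.map (algebraMap A F) * (Matrix.of fun i j => h (MvPolynomial.X (i, j))) := by
  ext i j
  have h1 := hk _ (gen_mem g i j)
  simp only [Matrix.sub_apply, Matrix.mul_apply, map_sub, map_sum, map_mul,
      Matrix.map_apply, Matrix.mvPolynomialX_apply, ← MvPolynomial.algebraMap_eq,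
      AlgHom.commutes] at h1
  simp only [Matrix.mul_apply, Matrix.of_apply, Matrix.map_apply]
  exact sub_eq_zero.mp h1

theorem comm_of_kills'' {F H : Type*} [CommRing F]
    [FunLike H (MvPolynomial (Fin n × Fin n) A) F]
    [RingHomClass H (MvPolynomial (Fin n × Fin n) A) F] (g : Matrix (Fin n) (Fin n) A)
    (h : H) (hk : ∀ p ∈ commIdeal g, h p = 0) :
    (Matrix.of fun i j => h (MvPolynomial.X (i, j))) * g.map (fun a => h (MvPolynomial.C a))
      = g.map (fun a => h (MvPolynomial.C a)) *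
        (Matrix.of fun i j => h (MvPolynomial.X (i, j))) := by
  ext i j
  have h1 := hk _ (gen_mem g i j)
  simp only [Matrix.sub_apply, Matrix.mul_apply, map_sub, map_sum, map_mul,
      Matrix.map_apply, Matrix.mvPolynomialX_apply] at h1
  simp only [Matrix.mul_apply, Matrix.of_apply, Matrix.map_apply]
  exact sub_eq_zero.mp h1

set_option synthInstance.maxHeartbeats 400000 in
set_option maxHeartbeats 1600000 in
theorem projective_of_cyclic {A₁ : Type u} [CommRing A₁] [Algebra A A₁]
    (g : Matrix (Fin n) (Fin n) A) (v : Fin n → A₁) (u : A₁)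
    (hu : u * (kry (g.map (algebraMap A A₁)) v).det = 1) :
    Module.Projective A₁
      (A₁ ⊗[A] (MvPolynomial (Fin n × Fin n) A ⧸ commIdeal g)) := by
  -- data over F = A₁ ⊗ P
  obtain ⟨GF, hGF⟩ : ∃ GF : Matrix (Fin n) (Fin n) (A₁ ⊗[A] MvPolynomial (Fin n × Fin n) A),
      GF = g.map (algebraMap A _) := ⟨_, rfl⟩
  obtain ⟨vF, hvF⟩ : ∃ vF : Fin n → (A₁ ⊗[A] MvPolynomial (Fin n × Fin n) A),
      vF = (algebraMap A₁ _) ∘ v := ⟨_, rfl⟩
  obtain ⟨uF, huF⟩ : ∃ uF : (A₁ ⊗[A] MvPolynomial (Fin n × Fin n) A), uF = algebraMap A₁ _ u :=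
    ⟨_, rfl⟩
  obtain ⟨XF, hXF⟩ : ∃ XF : Matrix (Fin n) (Fin n) (A₁ ⊗[A] MvPolynomial (Fin n × Fin n) A),
      XF = Matrix.of fun i j => (1 : A₁) ⊗ₜ[A] (MvPolynomial.X (i, j)) := ⟨_, rfl⟩
  have huF1 : uF * (kry GF vF).det = 1 := by
    have h1 := congrArg (algebraMap A₁ (A₁ ⊗[A] MvPolynomial (Fin n × Fin n) A)) hu
    rw [map_mul, map_one, RingHom.map_det, RingHom.mapMatrix_apply, kry_map,
      Matrix.map_map] at h1
    have e3 : (⇑(algebraMap A₁ (A₁ ⊗[A] MvPolynomial (Fin n × Fin n) A))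
        ∘ ⇑(algebraMap A A₁))
        = ⇑(algebraMap A (A₁ ⊗[A] MvPolynomial (Fin n × Fin n) A)) := by
      funext a
      rw [Function.comp_apply, ← IsScalarTower.algebraMap_apply]
    rw [e3] at h1
    rw [huF, hGF, hvF]
    exact h1
  obtain ⟨ρ, hρ⟩ : ∃ ρ : MvPolynomial (Fin n × Fin n) A →ₐ[A]
      (A₁ ⊗[A] MvPolynomial (Fin n × Fin n) A),
      ρ = MvPolynomial.aeval (fun ij : Fin n × Fin n => proj GF vF uF XF ij.1 ij.2) :=
    ⟨_, rfl⟩
  have hρX : ∀ i j, ρ (MvPolynomial.X (i, j)) = proj GF vF uF XF i j := by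
    intro i j
    rw [hρ, MvPolynomial.aeval_X]
  have hρmat : (Matrix.of fun i j => ρ (MvPolynomial.X (i, j))) = proj GF vF uF XF := by
    ext i j
    rw [Matrix.of_apply, hρX]
  have hρJ : ∀ p ∈ commIdeal g, ρ p = 0 := by
    apply kills g ρ
    rw [hρmat, ← hGF]
    exact proj_comm _ _ _ _
  obtain ⟨ι, hι⟩ : ∃ ι : MvPolynomial (Fin n × Fin n) A →ₐ[A]
      (A₁ ⊗[A] MvPolynomial (Fin n × Fin n) A), ι = Algebra.TensorProduct.includeRight :=
    ⟨_, rfl⟩
  have hιX : ∀ p, ι p = (1 : A₁) ⊗ₜ[A] p := by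
    intro p
    rw [hι]
    rfl
  obtain ⟨JF, hJF⟩ : ∃ JF : Ideal (A₁ ⊗[A] MvPolynomial (Fin n × Fin n) A),
      JF = Ideal.map ι (commIdeal g) := ⟨_, rfl⟩
  obtain ⟨π, hπ⟩ : ∃ π : CRHom (A₁ ⊗[A] MvPolynomial (Fin n × Fin n) A)
      ((A₁ ⊗[A] MvPolynomial (Fin n × Fin n) A) ⧸ JF), ∀ z, π z = Ideal.Quotient.mk JF z :=
    ⟨Ideal.Quotient.mk JF, fun _ => rfl⟩
  have hcong : ∀ p, Ideal.Quotient.mk JF (ρ p) = Ideal.Quotient.mk JF (ι p) := by
    intro p
    have hEq : (Ideal.Quotient.mkₐ A JF).comp ρ = (Ideal.Quotient.mkₐ A JF).comp ι := by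
      apply MvPolynomial.algHom_ext
      rintro ⟨i, j⟩
      rw [AlgHom.comp_apply, AlgHom.comp_apply, Ideal.Quotient.mkₐ_eq_mk, hρX, hιX, ← hπ, ← hπ]
      have hpm := congrFun (congrFun (proj_map π GF vF uF XF) i) j
      rw [Matrix.map_apply] at hpm
      rw [hpm]
      have hu' : π uF * (kry (GF.map π) (π ∘ vF)).det = 1 := by
        have h1 := congrArg π huF1
        rw [map_mul, map_one, RingHom.map_det, RingHom.mapMatrix_apply, kry_map] at h1
        exact h1
      have hcomm0 := comm_of_kills''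
        (F := (A₁ ⊗[A] MvPolynomial (Fin n × Fin n) A) ⧸ JF) g
        ((Ideal.Quotient.mkₐ A JF).comp ι) (by
          intro p hp
          rw [AlgHom.comp_apply, Ideal.Quotient.mkₐ_eq_mk, Ideal.Quotient.eq_zero_iff_mem, hJF]
          exact Ideal.mem_map_of_mem _ hp)
      have eX : XF.map π
          = Matrix.of fun i j => ((Ideal.Quotient.mkₐ A JF).comp ι) (MvPolynomial.X (i, j)) := by
        ext a b
        rw [hXF]
        simp only [Matrix.map_apply, Matrix.of_apply, AlgHom.comp_apply,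
          Ideal.Quotient.mkₐ_eq_mk, hιX, hπ]
      have eG : GF.map π
          = g.map (fun a => ((Ideal.Quotient.mkₐ A JF).comp ι) (MvPolynomial.C a)) := by
        rw [hGF, Matrix.map_map]
        ext a b
        simp only [Matrix.map_apply, Function.comp_apply, hπ, AlgHom.comp_apply,
          Ideal.Quotient.mkₐ_eq_mk]
        rw [← MvPolynomial.algebraMap_eq, AlgHom.commutes]
      rw [← eX, ← eG] at hcomm0
      rw [proj_eq_self _ _ _ _ hu' hcomm0, Matrix.map_apply, hXF, Matrix.of_apply]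
    have h2 := congrArg (fun f => f p) hEq
    simp only [AlgHom.comp_apply, Ideal.Quotient.mkₐ_eq_mk] at h2
    exact h2
  have hdiff : ∀ p, ρ p - ι p ∈ JF := fun p => Ideal.Quotient.eq.mp (hcong p)
  -- the base-changed quotient map
  obtain ⟨θ, hθ⟩ : ∃ θ : (A₁ ⊗[A] MvPolynomial (Fin n × Fin n) A) →ₗ[A₁]
      (A₁ ⊗[A] (MvPolynomial (Fin n × Fin n) A ⧸ commIdeal g)),
      θ = LinearMap.baseChange A₁ (Ideal.Quotient.mkₐ A (commIdeal g)).toLinearMap := ⟨_, rfl⟩
  have hθtmul : ∀ (a : A₁) (p : MvPolynomial (Fin n × Fin n) A),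
      θ (a ⊗ₜ p) = a ⊗ₜ (Ideal.Quotient.mk (commIdeal g) p) := by
    intro a p
    rw [hθ, LinearMap.baseChange_tmul]
    rfl
  have hθJ : ∀ j ∈ commIdeal g, ∀ f : (A₁ ⊗[A] MvPolynomial (Fin n × Fin n) A),
      θ (f * ((1 : A₁) ⊗ₜ[A] j)) = 0 := by
    intro j hj f
    induction f using TensorProduct.induction_on with
    | zero => rw [zero_mul, map_zero]
    | tmul a p =>
      rw [Algebra.TensorProduct.tmul_mul_tmul, mul_one, hθtmul,
        Ideal.Quotient.eq_zero_iff_mem.mpr (Ideal.mul_mem_left _ p hj), TensorProduct.tmul_zero]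
    | add x y hx hy => rw [add_mul, map_add, hx, hy, add_zero]
  have hθJF : ∀ z ∈ JF, θ z = 0 := by
    intro z hz
    have hq : ∀ f : (A₁ ⊗[A] MvPolynomial (Fin n × Fin n) A), θ (f * z) = 0 := by
      rw [hJF] at hz
      unfold Ideal.map at hz
      refine Submodule.span_induction ?_ ?_ ?_ ?_ hz
      · rintro _ ⟨j, hj, rfl⟩ f
        show θ (f * ι j) = 0
        rw [hιX]
        exact hθJ j hj f
      · intro f
        rw [mul_zero, map_zero]
      · intro x y _ _ hx hy f
        rw [mul_add, map_add, hx, hy, add_zero]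
      · intro a x _ hx f
        rw [smul_eq_mul, ← mul_assoc]
        exact hx (f * a)
    have h1 := hq 1
    rwa [one_mul] at h1
  have hkey : ∀ p : MvPolynomial (Fin n × Fin n) A,
      θ (ρ p) = (1 : A₁) ⊗ₜ[A] (Ideal.Quotient.mk (commIdeal g) p) := by
    intro p
    have h1 : ρ p = ι p + (ρ p - ι p) := by abel
    rw [h1, map_add, hθJF _ (hdiff p), add_zero, hιX, hθtmul]
  -- the section
  obtain ⟨ρq, hρq⟩ : ∃ ρq : (MvPolynomial (Fin n × Fin n) A ⧸ commIdeal g) →ₐ[A]
      (A₁ ⊗[A] MvPolynomial (Fin n × Fin n) A),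
      ρq = Ideal.Quotient.liftₐ (commIdeal g) ρ hρJ := ⟨_, rfl⟩
  have hρq_mk : ∀ p, ρq (Ideal.Quotient.mk (commIdeal g) p) = ρ p := by
    intro p
    rw [hρq]
    rfl
  have hsplit : θ.comp (LinearMap.liftBaseChange A₁ ρq.toLinearMap) = LinearMap.id := by
    apply TensorProduct.AlgebraTensorModule.ext
    intro a z
    obtain ⟨p, rfl⟩ := Ideal.Quotient.mk_surjective z
    rw [LinearMap.comp_apply, LinearMap.liftBaseChange_tmul, AlgHom.toLinearMap_apply,
      hρq_mk, map_smul, hkey, LinearMap.id_apply, TensorProduct.smul_tmul', smul_eq_mul, mul_one]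
  exact Module.Projective.of_split _ _ hsplit

set_option synthInstance.maxHeartbeats 400000 in
set_option maxHeartbeats 1600000 in
theorem flat_commutant (g : Matrix (Fin n) (Fin n) A)
    (hreg : ∀ (K : Type u) [Field K] (φ : A →+* K),
      Module.finrank K (Subalgebra.centralizer K
        ({g.map φ} : Set (Matrix (Fin n) (Fin n) K))) = n) :
    Module.Flat A (MvPolynomial (Fin n × Fin n) A ⧸ commIdeal g) := by
  obtain ⟨Dt, hDt⟩ : ∃ Dt : MvPolynomial (Fin n) A,
      Dt = (kry (g.map (algebraMap A (MvPolynomial (Fin n) A)))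
        (MvPolynomial.X : Fin n → MvPolynomial (Fin n) A)).det := ⟨_, rfl⟩
  have hflat : Module.Flat A (Localization.Away Dt) :=
    Module.Flat.trans A (MvPolynomial (Fin n) A) (Localization.Away Dt)
  have hff : Module.FaithfullyFlat A (Localization.Away Dt) := by
    rw [Module.faithfullyFlat_iff]
    refine ⟨hflat, fun m hm htop => ?_⟩
    have := hm
    let _ : Field (A ⧸ m) := Ideal.Quotient.field m
    obtain ⟨ψ, hψ⟩ : ∃ ψ : A →+* AlgebraicClosure (A ⧸ m),
        ψ = (algebraMap (A ⧸ m) (AlgebraicClosure (A ⧸ m))).comp (Ideal.Quotient.mk m) :=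
      ⟨_, rfl⟩
    have hψm : ∀ a ∈ m, ψ a = 0 := by
      intro a ha
      rw [hψ, RingHom.comp_apply, Ideal.Quotient.eq_zero_iff_mem.mpr ha, map_zero]
    have hfin : finrank (AlgebraicClosure (A ⧸ m))
        (Cent (Matrix.toLinAlgEquiv' (g.map ψ))) ≤ n :=
      (finrank_Cent_le _).trans (hreg (AlgebraicClosure (A ⧸ m)) ψ).le
    have hdimV : finrank (AlgebraicClosure (A ⧸ m)) (Fin n → AlgebraicClosure (A ⧸ m)) = n := by
      simp
    obtain ⟨w, hw⟩ := (main_LA n (Fin n → AlgebraicClosure (A ⧸ m)) hdimV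
      (Matrix.toLinAlgEquiv' (g.map ψ))).2 hfin
    have hdet := cyc_det (g.map ψ) w hw
    have e1 : (g.map (algebraMap A (MvPolynomial (Fin n) A))).map (MvPolynomial.eval₂Hom ψ w)
        = g.map ψ := by
      ext a b
      simp [MvPolynomial.algebraMap_eq]
    have e2 : (MvPolynomial.eval₂Hom ψ w) ∘ (MvPolynomial.X : Fin n → MvPolynomial (Fin n) A)
        = w := by
      funext k
      simp
    have hev : (MvPolynomial.eval₂Hom ψ w) Dt = (kry (g.map ψ) w).det := by
      rw [hDt, RingHom.map_det, RingHom.mapMatrix_apply, kry_map, e1, e2]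
    have hunit : IsUnit ((MvPolynomial.eval₂Hom ψ w) Dt) := by
      rw [hev]
      exact isUnit_iff_ne_zero.mpr hdet
    obtain ⟨χ, hχdef⟩ : ∃ χ : Localization.Away Dt →+* AlgebraicClosure (A ⧸ m),
        χ = IsLocalization.Away.lift Dt hunit := ⟨_, rfl⟩
    have hχ : ∀ a : A, χ (algebraMap A (Localization.Away Dt) a) = ψ a := by
      intro a
      rw [IsScalarTower.algebraMap_apply A (MvPolynomial (Fin n) A) (Localization.Away Dt),
        hχdef, IsLocalization.Away.lift_eq, MvPolynomial.algebraMap_eq]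
      simp
    have h1 : (1 : Localization.Away Dt) ∈ m • (⊤ : Submodule A (Localization.Away Dt)) := by
      rw [htop]
      trivial
    have hvan : ∀ z ∈ m • (⊤ : Submodule A (Localization.Away Dt)), χ z = 0 := by
      intro z hz
      refine Submodule.smul_induction_on hz ?_ ?_
      · intro a ha b _
        rw [Algebra.smul_def, map_mul, hχ, hψm a ha, zero_mul]
      · intro x y hx hy
        rw [map_add, hx, hy, add_zero]
    have h2 := hvan 1 h1
    rw [map_one] at h2
    exact one_ne_zero h2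
  -- cyclic data over the localization
  obtain ⟨u, hu⟩ := (IsLocalization.Away.algebraMap_isUnit (S := Localization.Away Dt)
    Dt).exists_left_inv
  have hdetmap : (kry (g.map (algebraMap A (Localization.Away Dt)))
      (fun i => algebraMap (MvPolynomial (Fin n) A) (Localization.Away Dt)
        (MvPolynomial.X i))).det
      = algebraMap (MvPolynomial (Fin n) A) (Localization.Away Dt) Dt := by
    have e3 : (⇑(algebraMap (MvPolynomial (Fin n) A) (Localization.Away Dt))
        ∘ ⇑(algebraMap A (MvPolynomial (Fin n) A)))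
        = ⇑(algebraMap A (Localization.Away Dt)) := by
      funext a
      rw [Function.comp_apply, ← IsScalarTower.algebraMap_apply]
    have h0 := congrArg (algebraMap (MvPolynomial (Fin n) A) (Localization.Away Dt)) hDt
    rw [h0, RingHom.map_det, RingHom.mapMatrix_apply, kry_map, Matrix.map_map, e3]
    rfl
  have hproj := projective_of_cyclic g
    (fun i => algebraMap (MvPolynomial (Fin n) A) (Localization.Away Dt) (MvPolynomial.X i)) u
    (by rw [hdetmap]; exact hu)
  have hfl : Module.Flat (Localization.Away Dt)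
      ((Localization.Away Dt) ⊗[A] (MvPolynomial (Fin n × Fin n) A ⧸ commIdeal g)) :=
    Module.Flat.of_projective
  exact Module.Flat.of_flat_tensorProduct A _ (Localization.Away Dt)

set_option synthInstance.maxHeartbeats 400000 in
set_option maxHeartbeats 1600000 in
theorem final_flat (g : Matrix (Fin n) (Fin n) A)
    (hreg : ∀ (K : Type u) [Field K] (φ : A →+* K),
      Module.finrank K (Subalgebra.centralizer K
        ({g.map φ} : Set (Matrix (Fin n) (Fin n) K))) = n) :
    Module.Flat A (Localization.Away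
      (Ideal.Quotient.mk (commIdeal g) (Matrix.mvPolynomialX (Fin n) (Fin n) A).det)) := by
  have := flat_commutant g hreg
  exact Module.Flat.trans A (MvPolynomial (Fin n × Fin n) A ⧸ commIdeal g) _

end Main

end Helper9.CentFlat
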