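import Groth.Prelude.Def_Exal2
import Mathlib.Algebra.Module.Torsion.Basic
import Mathlib.RingTheory.Ideal.Quotient.Operations
import Mathlib.Tactic.LinearCombination
import Mathlib.Tactic.Ring
import Mathlib.Tactic.Abel

/-!
# Basic facts on `Exal.Ext` and the extension attached to a square-zero lifting problem
-/

set_option autoImplicit false
universe u v w

namespace Groth.Agent.Lib.Helper9.ExalLib

section basic

variable {A : Type u} {B L : Type v} [CommRing A] [CommRing B] [Algebra A B] [AddCommGroup L]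
  [Module B L]

lemma proj_incl (X : Exal.Ext A B L) (z : L) : X.proj (X.incl z) = 0 :=
  (X.isExtension.exact _).2 ⟨z, rfl⟩

lemma incl_mul_incl (X : Exal.Ext A B L) (z z' : L) : X.incl z * X.incl z' = 0 := by
  rw [X.isExtension.mul_incl, proj_incl, zero_smul, map_zero]

lemma ker_proj_sq (X : Exal.Ext A B L) : RingHom.ker X.proj ^ 2 = ⊥ := by
  rw [eq_bot_iff, pow_two, Ideal.mul_le]
  intro x hx y hy
  obtain ⟨z, rfl⟩ := (X.isExtension.exact x).1 ((RingHom.mem_ker).mp hx)
  obtain ⟨z', rfl⟩ := (X.isExtension.exact y).1 ((RingHom.mem_ker).mp hy)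
  rw [incl_mul_incl]; exact Ideal.zero_mem _

end basic

section sqzero

variable {A : Type u} {B R : Type v} [CommRing A] [CommRing B] [Algebra A B] [CommRing R]
  [Algebra A R]

lemma mul_eq_zero_of_sq_eq_bot {I : Ideal R} (hI : I ^ 2 = ⊥) {x y : R} (hx : x ∈ I)
    (hy : y ∈ I) : x * y = 0 := by
  have h : x * y ∈ I ^ 2 := by rw [pow_two]; exact Ideal.mul_mem_mul hx hy
  rwa [hI, Ideal.mem_bot] at h

lemma isTorsionBySet_of_sq_eq_bot {I : Ideal R} (hI : I ^ 2 = ⊥) :
    Module.IsTorsionBySet R ↥I (I : Set R) := by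
  intro x a
  exact Subtype.ext (mul_eq_zero_of_sq_eq_bot hI a.2 x.2)

/-- The `B`-module structure on a square-zero ideal `I` of `R` induced by `f : B → R/I`. -/
@[reducible] noncomputable def sqZeroModule (I : Ideal R) (hI : I ^ 2 = ⊥) (f : B →ₐ[A] R ⧸ I) :
    Module B ↥I :=
  letI : Module (R ⧸ I) ↥I := (isTorsionBySet_of_sq_eq_bot hI).module
  Module.compHom ↥I (f : B →+* R ⧸ I)

lemma sqZeroModule_smul (I : Ideal R) (hI : I ^ 2 = ⊥) (f : B →ₐ[A] R ⧸ I) (b : B) (r : R)
    (hr : Ideal.Quotient.mk I r = f b) (z : ↥I) :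
    letI := sqZeroModule I hI f
    ((b • z : ↥I) : R) = r * z := by
  letI : Module (R ⧸ I) ↥I := (isTorsionBySet_of_sq_eq_bot hI).module
  show (((f b) • z : ↥I) : R) = r * z
  rw [← hr]
  rfl

/-- The extension of `B` by the square-zero ideal `I` obtained by pulling back `R → R/I`
along `f : B → R/I`. -/
noncomputable def sqZeroExt (I : Ideal R) (hI : I ^ 2 = ⊥) (f : B →ₐ[A] R ⧸ I) :
    @Exal.Ext A B ↥I _ _ _ _ (sqZeroModule I hI f) :=
  letI := sqZeroModule I hI f
  { E := ↥(AlgHom.equalizer ((Ideal.Quotient.mkₐ A I).comp (AlgHom.fst A R B))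
      (f.comp (AlgHom.snd A R B)))
    proj := (AlgHom.snd A R B).comp (Subalgebra.val _)
    incl :=
      { toFun := fun z => ⟨((z : R), 0), by
          show Ideal.Quotient.mk I (z : R) = f 0
          rw [map_zero, Ideal.Quotient.eq_zero_iff_mem]; exact z.2⟩
        map_zero' := Subtype.ext (Prod.ext rfl rfl)
        map_add' := fun z z' => Subtype.ext (Prod.ext rfl (add_zero 0).symm) }
    isExtension :=
      { proj_surjective := fun b => by
          obtain ⟨r, hr⟩ := Ideal.Quotient.mk_surjective (f b)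
          exact ⟨⟨(r, b), hr⟩, rfl⟩
        incl_injective := fun z z' h => by
          have h1 := congrArg (fun e => (Subtype.val e : R × B).1) h
          exact Subtype.ext h1
        exact := fun x => by
          obtain ⟨⟨r, b⟩, hx⟩ := x
          have hx' : Ideal.Quotient.mk I r = f b := hx
          constructor
          · intro hb
            change b = 0 at hb
            subst hb
            rw [map_zero, Ideal.Quotient.eq_zero_iff_mem] at hx'
            exact ⟨⟨r, hx'⟩, rfl⟩
          · rintro ⟨z, hz⟩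
            have h1 := congrArg (fun e => (Subtype.val e : R × B).2) hz
            exact h1.symm
        mul_incl := fun x z => by
          obtain ⟨⟨r, b⟩, hx⟩ := x
          have hx' : Ideal.Quotient.mk I r = f b := hx
          apply Subtype.ext
          apply Prod.ext
          · show r * (z : R) = ((b • z : ↥I) : R)
            exact (sqZeroModule_smul I hI f b r hx' z).symm
          · show b * 0 = 0
            exact mul_zero _ } }

lemma sqZeroExt_isTrivial_iff (I : Ideal R) (hI : I ^ 2 = ⊥) (f : B →ₐ[A] R ⧸ I) :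
    letI := sqZeroModule I hI f
    (sqZeroExt I hI f).IsTrivial ↔ ∃ g : B →ₐ[A] R, (Ideal.Quotient.mkₐ A I).comp g = f := by
  letI := sqZeroModule I hI f
  constructor
  · rintro ⟨s, hs⟩
    refine ⟨(AlgHom.fst A R B).comp ((Subalgebra.val _).comp s), ?_⟩
    ext b
    have hmem : Ideal.Quotient.mk I (Subtype.val (s b) : R × B).1 =
        f (Subtype.val (s b) : R × B).2 := (s b).2
    have h2 : (Subtype.val (s b) : R × B).2 = b := hs b
    rw [h2] at hmem
    exact hmem
  · rintro ⟨g, hg⟩
    refine ⟨AlgHom.codRestrict (AlgHom.prod g (AlgHom.id A B)) _ (fun b => ?_), fun b => rfl⟩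
    show Ideal.Quotient.mk I (g b) = f b
    rw [← hg]; rfl

lemma sqZeroExt_isTrivialOver (I : Ideal R) (hI : I ^ 2 = ⊥) (f : B →ₐ[A] R ⧸ I)
    (Λ : Type w) [CommRing Λ] [Algebra Λ A] [Algebra Λ B] [IsScalarTower Λ A B] [Algebra Λ R]
    [IsScalarTower Λ A R] (u : B →ₐ[Λ] R) (hu : ∀ b, Ideal.Quotient.mk I (u b) = f b) :
    letI := sqZeroModule I hI f
    (sqZeroExt I hI f).IsTrivialOver Λ := by
  letI := sqZeroModule I hI f
  refine ⟨
    { toFun := fun b => ⟨(u b, b), hu b⟩
      map_one' := Subtype.ext (Prod.ext (map_one u) rfl)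
      map_mul' := fun b b' => Subtype.ext (Prod.ext (map_mul u b b') rfl)
      map_zero' := Subtype.ext (Prod.ext (map_zero u) rfl)
      map_add' := fun b b' => Subtype.ext (Prod.ext (map_add u b b') rfl)
      commutes' := fun l => ?_ }, fun b => rfl⟩
  apply Subtype.ext
  apply Prod.ext
  · show u (algebraMap Λ B l) = algebraMap A R (algebraMap Λ A l)
    rw [u.commutes, IsScalarTower.algebraMap_apply Λ A R]
  · show algebraMap Λ B l = algebraMap A B (algebraMap Λ A l)
    rw [IsScalarTower.algebraMap_apply Λ A B]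

end sqzero

section conormal

variable {B : Type u} [CommRing B] (J : Ideal B) {M : Type u} [AddCommGroup M]
  [Module (B ⧸ J) M] [Module B M] [IsScalarTower B (B ⧸ J) M]

lemma incl_idealToKer (X : Exal.Ext B (B ⧸ J) M) (z : J) :
    X.incl (X.idealToKer J z) = algebraMap B X.E z :=
  X.incl_kerLift (algebraMap B X.E z) (X.proj_algebraMap_eq_zero J z)

lemma conormalMap_toCotangent (X : Exal.Ext B (B ⧸ J) M) (z : J) :
    X.conormalMap J (J.toCotangent z) = X.idealToKer J z := rfl

lemma incl_conormalMap (X : Exal.Ext B (B ⧸ J) M) (z : J) :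
    X.incl (X.conormalMap J (J.toCotangent z)) = algebraMap B X.E z := by
  rw [conormalMap_toCotangent, incl_idealToKer]

lemma algebraMap_mul_incl (X : Exal.Ext B (B ⧸ J) M) (b : B) (z : M) :
    algebraMap B X.E b * X.incl z = X.incl (b • z) := by
  rw [X.isExtension.mul_incl, AlgHom.commutes, algebraMap_smul]

/-- The map `B × M → E`, `(b, z) ↦ b + i z`. -/
def piMap (X : Exal.Ext B (B ⧸ J) M) (t : B × M) : X.E := algebraMap B X.E t.1 + X.incl t.2

lemma piMap_def (X : Exal.Ext B (B ⧸ J) M) (t : B × M) :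
    piMap J X t = algebraMap B X.E t.1 + X.incl t.2 := rfl

lemma piMap_surjective (X : Exal.Ext B (B ⧸ J) M) : Function.Surjective (piMap J X) := by
  intro x
  obtain ⟨b, hb⟩ := Ideal.Quotient.mk_surjective (X.proj x)
  have h0 : X.proj (x - algebraMap B X.E b) = 0 := by
    rw [map_sub, AlgHom.commutes, Ideal.Quotient.algebraMap_eq, hb, sub_self]
  obtain ⟨z, hz⟩ := (X.isExtension.exact _).1 h0
  refine ⟨(b, z), ?_⟩
  rw [piMap_def]
  show algebraMap B X.E b + X.incl z = x
  rw [hz]; ring

lemma piMap_add (X : Exal.Ext B (B ⧸ J) M) (t t' : B × M) :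
    piMap J X (t + t') = piMap J X t + piMap J X t' := by
  rw [piMap_def, piMap_def, piMap_def, Prod.fst_add, Prod.snd_add, map_add, map_add]; ring

lemma piMap_sub (X : Exal.Ext B (B ⧸ J) M) (t t' : B × M) :
    piMap J X (t - t') = piMap J X t - piMap J X t' := by
  rw [piMap_def, piMap_def, piMap_def, Prod.fst_sub, Prod.snd_sub, map_sub, map_sub]; ring

lemma piMap_zero (X : Exal.Ext B (B ⧸ J) M) : piMap J X 0 = 0 := by
  rw [piMap_def, Prod.fst_zero, Prod.snd_zero, map_zero, map_zero, add_zero]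

lemma piMap_one (X : Exal.Ext B (B ⧸ J) M) : piMap J X (1, 0) = 1 := by
  rw [piMap_def]
  show algebraMap B X.E 1 + X.incl 0 = 1
  rw [map_one, map_zero, add_zero]

lemma piMap_algebraMap (X : Exal.Ext B (B ⧸ J) M) (b : B) :
    piMap J X (b, 0) = algebraMap B X.E b := by
  rw [piMap_def]
  show algebraMap B X.E b + X.incl 0 = _
  rw [map_zero, add_zero]

lemma piMap_incl (X : Exal.Ext B (B ⧸ J) M) (z : M) : piMap J X (0, z) = X.incl z := by
  rw [piMap_def]
  show algebraMap B X.E 0 + X.incl z = _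
  rw [map_zero, zero_add]

lemma proj_piMap (X : Exal.Ext B (B ⧸ J) M) (t : B × M) :
    X.proj (piMap J X t) = Ideal.Quotient.mk J t.1 := by
  rw [piMap_def, map_add, proj_incl, add_zero, AlgHom.commutes, Ideal.Quotient.algebraMap_eq]

lemma piMap_mul (X : Exal.Ext B (B ⧸ J) M) (t t' : B × M) :
    piMap J X t * piMap J X t' = piMap J X (t.1 * t'.1, t.1 • t'.2 + t'.1 • t.2) := by
  rw [piMap_def, piMap_def, piMap_def]
  show (algebraMap B X.E t.1 + X.incl t.2) * (algebraMap B X.E t'.1 + X.incl t'.2) =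
    algebraMap B X.E (t.1 * t'.1) + X.incl (t.1 • t'.2 + t'.1 • t.2)
  rw [map_mul, map_add, ← algebraMap_mul_incl, ← algebraMap_mul_incl]
  have h0 := incl_mul_incl X t.2 t'.2
  linear_combination h0

lemma piMap_eq_zero_imp (X Y : Exal.Ext B (B ⧸ J) M) (h : X.conormalMap J = Y.conormalMap J)
    (t : B × M) (ht : piMap J X t = 0) : piMap J Y t = 0 := by
  obtain ⟨b, z⟩ := t
  have ht' : algebraMap B X.E b + X.incl z = 0 := ht
  have hb : b ∈ J := by
    have h1 := congrArg X.proj ht'
    rw [map_add, proj_incl, add_zero, map_zero, AlgHom.commutes, Ideal.Quotient.algebraMap_eq,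
      Ideal.Quotient.eq_zero_iff_mem] at h1
    exact h1
  have h1 : X.incl (-z) = X.incl (X.conormalMap J (J.toCotangent ⟨b, hb⟩)) := by
    rw [incl_conormalMap, map_neg]
    show -X.incl z = algebraMap B X.E b
    linear_combination -ht'
  have h2 : -z = X.conormalMap J (J.toCotangent ⟨b, hb⟩) := X.isExtension.incl_injective h1
  have h3 : Y.incl (-z) = algebraMap B Y.E b := by
    rw [h2, h, incl_conormalMap]
  rw [map_neg] at h3
  show algebraMap B Y.E b + Y.incl z = 0
  linear_combination -h3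

lemma exists_algHom_of_piMap (X Y : Exal.Ext B (B ⧸ J) M)
    (hker : ∀ t, piMap J X t = 0 → piMap J Y t = 0) :
    ∃ φ : X.E →ₐ[B] Y.E, ∀ t, φ (piMap J X t) = piMap J Y t := by
  classical
  let σ := Function.surjInv (piMap_surjective J X)
  have hσ : ∀ x, piMap J X (σ x) = x := Function.surjInv_eq _
  have key : ∀ t, piMap J Y (σ (piMap J X t)) = piMap J Y t := by
    intro t
    have h1 : piMap J X (σ (piMap J X t) - t) = 0 := by rw [piMap_sub, hσ, sub_self]
    have h2 := hker _ h1
    rw [piMap_sub, sub_eq_zero] at h2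
    exact h2
  refine ⟨{ toFun := fun x => piMap J Y (σ x), map_one' := ?_, map_mul' := ?_, map_zero' := ?_,
            map_add' := ?_, commutes' := ?_ }, key⟩
  · show piMap J Y (σ 1) = 1
    rw [← piMap_one J X, key, piMap_one]
  · intro x y
    obtain ⟨t, rfl⟩ := piMap_surjective J X x
    obtain ⟨t', rfl⟩ := piMap_surjective J X y
    show piMap J Y (σ (piMap J X t * piMap J X t')) =
      piMap J Y (σ (piMap J X t)) * piMap J Y (σ (piMap J X t'))
    rw [piMap_mul, key, key, key, piMap_mul]
  · show piMap J Y (σ 0) = 0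
    rw [← piMap_zero J X, key, piMap_zero]
  · intro x y
    obtain ⟨t, rfl⟩ := piMap_surjective J X x
    obtain ⟨t', rfl⟩ := piMap_surjective J X y
    show piMap J Y (σ (piMap J X t + piMap J X t')) =
      piMap J Y (σ (piMap J X t)) + piMap J Y (σ (piMap J X t'))
    rw [← piMap_add, key, key, key, piMap_add]
  · intro b
    show piMap J Y (σ (algebraMap B X.E b)) = algebraMap B Y.E b
    rw [← piMap_algebraMap J X b, key, piMap_algebraMap]

/-- Two extensions of `B ⧸ J` by `M` with the same conormal map are equivalent. -/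
lemma nonempty_equiv_of_conormalMap_eq (X Y : Exal.Ext B (B ⧸ J) M)
    (h : X.conormalMap J = Y.conormalMap J) : Nonempty (X.Equiv Y) := by
  obtain ⟨φ, hφ⟩ := exists_algHom_of_piMap J X Y (piMap_eq_zero_imp J X Y h)
  obtain ⟨ψ, hψ⟩ := exists_algHom_of_piMap J Y X (piMap_eq_zero_imp J Y X h.symm)
  have h1 : ψ.comp φ = AlgHom.id B X.E := by
    ext x
    obtain ⟨t, rfl⟩ := piMap_surjective J X x
    show ψ (φ (piMap J X t)) = piMap J X t
    rw [hφ, hψ]
  have h2 : φ.comp ψ = AlgHom.id B Y.E := by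
    ext x
    obtain ⟨t, rfl⟩ := piMap_surjective J Y x
    show φ (ψ (piMap J Y t)) = piMap J Y t
    rw [hψ, hφ]
  refine ⟨{ toAlgEquiv := AlgEquiv.ofAlgHom φ ψ h2 h1, proj_apply := ?_, apply_incl := ?_ }⟩
  · intro x
    obtain ⟨t, rfl⟩ := piMap_surjective J X x
    show Y.proj (φ (piMap J X t)) = X.proj (piMap J X t)
    rw [hφ, proj_piMap, proj_piMap]
  · intro z
    show φ (X.incl z) = Y.incl z
    rw [← piMap_incl J X z, hφ, piMap_incl]

end conormal

end Groth.Agent.Lib.Helper9.ExalLib
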