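import Groth.Prelude.Def_Exal3
import Groth.Agent.Lib.Helper9.ExalLib
import Mathlib.RingTheory.Smooth.Kaehler
import Mathlib.RingTheory.Smooth.Basic
import Mathlib.Algebra.Module.Injective
import Mathlib.Algebra.Module.Projective
import Mathlib.LinearAlgebra.Isomorphisms

/-!
# The characteristic homomorphism of an `A`-trivial extension: toolkit
-/

set_option autoImplicit false
universe u v

namespace Groth.Agent.Lib.Helper9.CharHomLib

open TensorProduct KaehlerDifferential
open Groth.Agent.Lib.Helper9.ExalLib

section general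

/-- Induction principle for `C ⊗[B] Ω[B⁄A]`: additive generators are `c ⊗ d b`. -/
lemma tensorKaehler_induction {A : Type u} {B C : Type v} [CommRing A] [CommRing B] [CommRing C]
    [Algebra A B] [Algebra B C]
    {motive : C ⊗[B] Ω[B⁄A] → Prop} (zero : motive 0)
    (add : ∀ x y, motive x → motive y → motive (x + y))
    (tmul_D : ∀ (c : C) (b : B), motive (c ⊗ₜ[B] KaehlerDifferential.D A B b))
    (w : C ⊗[B] Ω[B⁄A]) : motive w := by
  induction w using TensorProduct.induction_on with
  | zero => exact zero
  | add x y hx hy => exact add x y hx hy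
  | tmul c ω =>
    have hω : ω ∈ Submodule.span B (Set.range (KaehlerDifferential.D A B)) := by
      rw [KaehlerDifferential.span_range_derivation]; trivial
    induction hω using Submodule.span_induction generalizing c with
    | mem x hx => obtain ⟨b, rfl⟩ := hx; exact tmul_D c b
    | zero => rw [TensorProduct.tmul_zero]; exact zero
    | add x y _ _ hx hy => rw [TensorProduct.tmul_add]; exact add _ _ (hx c) (hy c)
    | smul b x _ hx => rw [TensorProduct.tmul_smul, TensorProduct.smul_tmul']; exact hx (b • c)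

/-- A morphism of extensions is an equivalence. -/
lemma nonempty_equiv_of_algHom {A : Type u} {B L : Type v} [CommRing A] [CommRing B] [Algebra A B]
    [AddCommGroup L] [Module B L] (X Y : Exal.Ext A B L) (φ : X.E →ₐ[A] Y.E)
    (hproj : ∀ x, Y.proj (φ x) = X.proj x) (hincl : ∀ z, φ (X.incl z) = Y.incl z) :
    Nonempty (X.Equiv Y) := by
  have hinj : Function.Injective φ := by
    refine (injective_iff_map_eq_zero φ).2 ?_
    intro x hx
    have h1 : X.proj x = 0 := by rw [← hproj, hx, map_zero]
    obtain ⟨z, rfl⟩ := (X.isExtension.exact x).1 h1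
    rw [hincl] at hx
    have : z = 0 := Y.isExtension.incl_injective (by rw [hx, map_zero])
    rw [this, map_zero]
  have hsurj : Function.Surjective φ := by
    intro y
    obtain ⟨x, hx⟩ := X.isExtension.proj_surjective (Y.proj y)
    have h1 : Y.proj (y - φ x) = 0 := by rw [map_sub, hproj, hx, sub_self]
    obtain ⟨z, hz⟩ := (Y.isExtension.exact _).1 h1
    refine ⟨x + X.incl z, ?_⟩
    rw [map_add, hincl, hz]; ring
  exact ⟨{ toAlgEquiv := AlgEquiv.ofBijective φ ⟨hinj, hsurj⟩, proj_apply := hproj,
           apply_incl := hincl }⟩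

/-- Extending a linear map through `f` when it kills `ker f`: possible into an injective module,
or when `range f` is a direct summand. -/
lemma exists_extension {C : Type v} [CommRing C] {M N L : Type v} [AddCommGroup M]
    [AddCommGroup N] [AddCommGroup L] [Module C M] [Module C N] [Module C L]
    (f : M →ₗ[C] N) (δ : M →ₗ[C] L) (hδ : LinearMap.ker f ≤ LinearMap.ker δ)
    (h : Module.Injective C L ∨
      ∃ π : N →ₗ[C] N, (∀ n, π n ∈ LinearMap.range f) ∧ ∀ m, π (f m) = f m) :
    ∃ δ'' : N →ₗ[C] L, ∀ m, δ'' (f m) = δ m := by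
  let δ' : LinearMap.range f →ₗ[C] L :=
    ((LinearMap.ker f).liftQ δ hδ).comp f.quotKerEquivRange.symm.toLinearMap
  have hδ' : ∀ m (hm : f m ∈ LinearMap.range f), δ' ⟨f m, hm⟩ = δ m := by
    intro m hm
    show (LinearMap.ker f).liftQ δ hδ (f.quotKerEquivRange.symm ⟨f m, hm⟩) = δ m
    rw [LinearMap.quotKerEquivRange_symm_apply_image]; rfl
  rcases h with hinj | ⟨π, hπ1, hπ2⟩
  · obtain ⟨δ'', h''⟩ := hinj.out (LinearMap.range f).subtype Subtype.val_injective δ'
    exact ⟨δ'', fun m => by
      rw [← hδ' m (LinearMap.mem_range_self f m)]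
      exact h'' ⟨f m, LinearMap.mem_range_self f m⟩⟩
  · refine ⟨δ'.comp (π.codRestrict (LinearMap.range f) hπ1), fun m => ?_⟩
    have h1 : (π.codRestrict (LinearMap.range f) hπ1) (f m) =
        ⟨f m, LinearMap.mem_range_self f m⟩ := Subtype.ext (hπ2 m)
    rw [LinearMap.comp_apply, h1, hδ']

end general

section SectionCalc

variable {B : Type u} {C L : Type v} [CommRing B] [CommRing C] [Algebra B C] [AddCommGroup L]
  [Module C L] (X : Exal.Ext B C L) (σ : C →+* X.E) (hσ : ∀ c, X.proj (σ c) = c)

/-- The `L`-component of `x` with respect to the splitting given by a ring section `σ`. -/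
noncomputable def kap (x : X.E) : L :=
  X.kerLift (x - σ (X.proj x)) (by rw [map_sub, hσ, sub_self])

lemma incl_kap (x : X.E) : X.incl (kap X σ hσ x) = x - σ (X.proj x) := X.incl_kerLift _ _

lemma decomp (x : X.E) : x = σ (X.proj x) + X.incl (kap X σ hσ x) := by rw [incl_kap]; ring

lemma kap_add (x y : X.E) : kap X σ hσ (x + y) = kap X σ hσ x + kap X σ hσ y := by
  apply X.isExtension.incl_injective
  rw [map_add, incl_kap, incl_kap, incl_kap, map_add, map_add]; ring

include hσ in
lemma sigma_mul_incl (c : C) (z : L) : σ c * X.incl z = X.incl (c • z) := by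
  rw [X.isExtension.mul_incl, hσ]

lemma kap_mul (x y : X.E) :
    kap X σ hσ (x * y) = X.proj x • kap X σ hσ y + X.proj y • kap X σ hσ x := by
  apply X.isExtension.incl_injective
  have h0 : (x - σ (X.proj x)) * (y - σ (X.proj y)) = 0 := by
    rw [← incl_kap X σ hσ, ← incl_kap X σ hσ, incl_mul_incl]
  rw [map_add, ← sigma_mul_incl X σ hσ, ← sigma_mul_incl X σ hσ, incl_kap, incl_kap, incl_kap,
    map_mul, map_mul]
  linear_combination h0

lemma kap_sigma (c : C) : kap X σ hσ (σ c) = 0 := by
  apply X.isExtension.incl_injective; rw [incl_kap, hσ, sub_self, map_zero]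

lemma kap_incl (z : L) : kap X σ hσ (X.incl z) = z := by
  apply X.isExtension.incl_injective; rw [incl_kap, proj_incl, map_zero, sub_zero]

lemma kap_one : kap X σ hσ 1 = 0 := by
  have := kap_sigma X σ hσ 1
  rwa [map_one] at this

end SectionCalc

section CharHom

variable (A : Type u) {B C L : Type v} [CommRing A] [CommRing B] [CommRing C]
  [Algebra A B] [Algebra B C] [Algebra A C] [IsScalarTower A B C] [AddCommGroup L] [Module C L]
  (X : Exal.Ext B C L)

lemma algebraMap_carrier_apply (e : X.CharCarrier A) :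
    algebraMap (X.CharCarrier A) C e = X.proj e := rfl

lemma algebraMap_B_carrier_apply (b : B) :
    algebraMap B (X.CharCarrier A) b = algebraMap B X.E b := rfl

lemma inclC_apply (z : L) : X.inclC A z = X.incl z := rfl

lemma algebraMap_surjective : Function.Surjective (algebraMap (X.CharCarrier A) C) :=
  X.isExtension.proj_surjective

lemma inclC_injective : Function.Injective (X.inclC A) := X.isExtension.incl_injective

lemma mul_inclC (e : X.CharCarrier A) (z : L) :
    e * X.inclC A z = X.inclC A (algebraMap (X.CharCarrier A) C e • z) :=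
  X.isExtension.mul_incl e z

lemma ker_sq : RingHom.ker (algebraMap (X.CharCarrier A) C) ^ 2 = ⊥ := by
  rw [eq_bot_iff, pow_two, Ideal.mul_le]
  intro x hx y hy
  obtain ⟨z, rfl⟩ := (X.isExtension.exact x).1 ((RingHom.mem_ker).mp hx)
  obtain ⟨z', rfl⟩ := (X.isExtension.exact y).1 ((RingHom.mem_ker).mp hy)
  rw [Ideal.mem_bot]; exact incl_mul_incl X z z'

lemma inclC_mem_ker (z : L) : X.inclC A z ∈ RingHom.ker (algebraMap (X.CharCarrier A) C) :=
  RingHom.mem_ker.mpr (proj_incl X z)

lemma deltaL_apply (z : L) :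
    X.deltaL A z = kerToTensor A (X.CharCarrier A) C ⟨X.inclC A z, inclC_mem_ker A X z⟩ := rfl

lemma exists_section (hX : X.IsTrivialOver A) :
    ∃ g : C →ₐ[A] X.CharCarrier A, ∀ c, algebraMap (X.CharCarrier A) C (g c) = c := by
  obtain ⟨s, hs⟩ := hX
  exact ⟨{ toRingHom := (s.toRingHom : C →+* X.CharCarrier A),
           commutes' := fun a => s.commutes a }, hs⟩

lemma isTrivialOver_of_section (g : C →ₐ[A] X.CharCarrier A)
    (hg : ∀ c, algebraMap (X.CharCarrier A) C (g c) = c) : X.IsTrivialOver A :=
  ⟨{ toRingHom := (g.toRingHom : C →+* X.RestrictCarrier A),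
     commutes' := fun a => g.commutes a }, hg⟩

lemma baseChangeToMiddle_tmul (c : C) (ω : Ω[B⁄A]) :
    X.baseChangeToMiddle A (c ⊗ₜ ω) =
      c ⊗ₜ[X.CharCarrier A] KaehlerDifferential.map A A B (X.CharCarrier A) ω := rfl

lemma baseChangeToMiddle_tmul_D (c : C) (b : B) :
    X.baseChangeToMiddle A (c ⊗ₜ KaehlerDifferential.D A B b) =
      c ⊗ₜ[X.CharCarrier A]
        KaehlerDifferential.D A (X.CharCarrier A) (algebraMap B (X.CharCarrier A) b) := by
  rw [baseChangeToMiddle_tmul, KaehlerDifferential.map_D]

lemma baseChangeToMiddle_smul (c : C) (w : C ⊗[B] Ω[B⁄A]) :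
    X.baseChangeToMiddle A (c • w) = c • X.baseChangeToMiddle A w := by
  induction w using TensorProduct.induction_on with
  | zero => rw [smul_zero, map_zero, smul_zero]
  | add x y hx hy => rw [smul_add, map_add, map_add, smul_add, hx, hy]
  | tmul c' ω =>
    rw [TensorProduct.smul_tmul', baseChangeToMiddle_tmul, baseChangeToMiddle_tmul,
      TensorProduct.smul_tmul']

lemma mapBaseChange_baseChangeToMiddle (w : C ⊗[B] Ω[B⁄A]) :
    mapBaseChange A (X.CharCarrier A) C (X.baseChangeToMiddle A w) = mapBaseChange A B C w := by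
  induction w using tensorKaehler_induction with
  | zero => rw [map_zero, map_zero, map_zero]
  | add x y hx hy => rw [map_add, map_add, map_add, hx, hy]
  | tmul_D c b =>
    rw [baseChangeToMiddle_tmul_D, mapBaseChange_tmul, mapBaseChange_tmul, map_D, map_D,
      ← IsScalarTower.algebraMap_apply]

lemma exists_kerToTensor_eq (z : EGA41.imperfection A B C) :
    ∃ x : RingHom.ker (algebraMap (X.CharCarrier A) C),
      kerToTensor A (X.CharCarrier A) C x = X.baseChangeToMiddle A (z : C ⊗[B] Ω[B⁄A]) := by
  have h0 : mapBaseChange A (X.CharCarrier A) C (X.baseChangeToMiddle A z) = 0 := by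
    rw [mapBaseChange_baseChangeToMiddle]; exact LinearMap.mem_ker.mp z.2
  obtain ⟨y, hy⟩ := (exact_kerCotangentToTensor_mapBaseChange A (X.CharCarrier A) C
    (algebraMap_surjective A X) _).1 h0
  obtain ⟨x, rfl⟩ := Ideal.toCotangent_surjective _ y
  exact ⟨x, hy⟩

variable {A X}
variable (g : C →ₐ[A] X.CharCarrier A) (hg : ∀ c, algebraMap (X.CharCarrier A) C (g c) = c)

include hg in
lemma comp_section : (IsScalarTower.toAlgHom A (X.CharCarrier A) C).comp g = AlgHom.id A C :=
  AlgHom.ext hg

/-- The retraction of `kerToTensor` attached to an algebra section. -/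
noncomputable def retr : C ⊗[X.CharCarrier A] Ω[X.CharCarrier A⁄A] →ₗ[X.CharCarrier A]
    RingHom.ker (algebraMap (X.CharCarrier A) C) :=
  retractionOfSectionOfKerSqZero g (ker_sq A X) (comp_section g hg)

lemma retr_tmul_D (c : C) (e : X.CharCarrier A) :
    (retr g hg (c ⊗ₜ KaehlerDifferential.D A _ e) : X.CharCarrier A) =
      g c * e - g c * g (algebraMap _ C e) := by
  rw [retr, retractionOfSectionOfKerSqZero_tmul_D]

lemma retr_kerToTensor (x : RingHom.ker (algebraMap (X.CharCarrier A) C)) :
    retr g hg (kerToTensor A (X.CharCarrier A) C x) = x :=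
  LinearMap.congr_fun
    (retractionOfSectionOfKerSqZero_comp_kerToTensor g (ker_sq A X) (comp_section g hg)) x

lemma retr_deltaL (z : L) : (retr g hg (X.deltaL A z) : X.CharCarrier A) = X.inclC A z := by
  rw [deltaL_apply, retr_kerToTensor]

variable (A X) in
lemma deltaL_injective (hX : X.IsTrivialOver A) : Function.Injective (X.deltaL A) := by
  obtain ⟨g, hg⟩ := exists_section A X hX
  intro z z' h
  have h1 := congrArg (fun w => (retr g hg w : X.CharCarrier A)) h
  simp only [retr_deltaL] at h1
  exact inclC_injective A X h1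

/-- The underlying function of `theta`. -/
noncomputable def thetaFun (w : C ⊗[B] Ω[B⁄A]) : L :=
  X.kerLift (retr g hg (X.baseChangeToMiddle A w)).1
    (RingHom.mem_ker.mp (retr g hg (X.baseChangeToMiddle A w)).2)

lemma inclC_thetaFun (w : C ⊗[B] Ω[B⁄A]) :
    X.inclC A (thetaFun g hg w) = (retr g hg (X.baseChangeToMiddle A w)).1 :=
  X.incl_kerLift _ _

/-- The `C`-linear map `C ⊗_B Ω_{B/A} → L`, `c ⊗ d b ↦ c • (b·1 - g(b̄))`, attached to an algebra
section `g`; its restriction to the imperfection module is the characteristic homomorphism. -/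
noncomputable def theta : C ⊗[B] Ω[B⁄A] →ₗ[C] L where
  toFun := thetaFun g hg
  map_add' w w' := by
    apply inclC_injective A X
    rw [map_add, inclC_thetaFun, inclC_thetaFun, inclC_thetaFun, map_add, map_add]; rfl
  map_smul' c w := by
    apply inclC_injective A X
    obtain ⟨e, rfl⟩ := algebraMap_surjective A X c
    have h2 : X.baseChangeToMiddle A (algebraMap (X.CharCarrier A) C e • w) =
        e • X.baseChangeToMiddle A w := by
      rw [baseChangeToMiddle_smul, algebraMap_smul]
    rw [RingHom.id_apply, ← mul_inclC, inclC_thetaFun, inclC_thetaFun, h2, map_smul]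
    rfl

lemma inclC_theta (w : C ⊗[B] Ω[B⁄A]) :
    X.inclC A (theta g hg w) = (retr g hg (X.baseChangeToMiddle A w)).1 :=
  inclC_thetaFun g hg w

lemma inclC_theta_tmul_D (c : C) (b : B) :
    X.inclC A (theta g hg (c ⊗ₜ KaehlerDifferential.D A B b)) =
      g c * algebraMap B (X.CharCarrier A) b - g c * g (algebraMap B C b) := by
  rw [inclC_theta, baseChangeToMiddle_tmul_D, retr_tmul_D, ← IsScalarTower.algebraMap_apply]

lemma isCharHom_iff (χ : EGA41.imperfection A B C →ₗ[C] L) :
    X.IsCharHom A χ ↔
      ∀ z : EGA41.imperfection A B C, χ z = theta g hg (z : C ⊗[B] Ω[B⁄A]) := by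
  constructor
  · intro h z
    apply inclC_injective A X
    have h1 := congrArg (fun w => (retr g hg w : X.CharCarrier A)) (h z)
    simp only [retr_deltaL] at h1
    rw [h1]; exact (inclC_theta g hg _).symm
  · intro h z
    obtain ⟨x, hx⟩ := exists_kerToTensor_eq A X z
    rw [deltaL_apply, ← hx]
    congr 1
    apply Subtype.ext
    show X.inclC A (χ z) = x
    rw [h z, inclC_theta, ← hx, retr_kerToTensor]

variable (A X) in
theorem existsUnique_isCharHom (hX : X.IsTrivialOver A) :
    ∃! χ : EGA41.imperfection A B C →ₗ[C] L, X.IsCharHom A χ := by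
  obtain ⟨g, hg⟩ := exists_section A X hX
  refine ⟨(theta g hg).comp (EGA41.imperfection A B C).subtype,
    (isCharHom_iff g hg _).2 (fun z => rfl), fun χ hχ => ?_⟩
  apply LinearMap.ext
  intro z
  exact (isCharHom_iff g hg χ).1 hχ z

end CharHom

end Groth.Agent.Lib.Helper9.CharHomLib
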