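import Groth.Agent.Lib.Helper9.CharHomLib
import Groth.Agent.S5821
import Mathlib.LinearAlgebra.TensorProduct.RightExactness
import Mathlib.RingTheory.Kaehler.JacobiZariski

/-!
# The characteristic homomorphism of `B/K²` as an `A`-extension of `B/K`, relative to `Λ → A`
-/

set_option autoImplicit false
universe u v

namespace Groth.Agent.Lib.Helper9.CharHomInf

open TensorProduct KaehlerDifferential
open Groth.Agent.Lib.Helper9.ExalLib Groth.Agent.Lib.Helper9.CharHomLib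

variable {Λ : Type u} {A B : Type v} [CommRing Λ] [CommRing A] [CommRing B] [Algebra Λ A]
  [Algebra Λ B] [Algebra A B] [IsScalarTower Λ A B] (K : Ideal B)

/-- The map `C ⊗_A Ω_{A/Λ} → C ⊗_B Ω_{B/Λ}`, `C = B/K`. -/
noncomputable def psi : (B ⧸ K) ⊗[A] Ω[A⁄Λ] →ₗ[B ⧸ K] (B ⧸ K) ⊗[B] Ω[B⁄Λ] :=
  ((KaehlerDifferential.mapBaseChange Λ A B).baseChange (B ⧸ K)).comp
    (TensorProduct.AlgebraTensorModule.cancelBaseChange A B (B ⧸ K) (B ⧸ K)
      Ω[A⁄Λ]).symm.toLinearMap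

lemma psi_apply (w : (B ⧸ K) ⊗[A] Ω[A⁄Λ]) :
    psi (Λ := Λ) K w = ((KaehlerDifferential.mapBaseChange Λ A B).baseChange (B ⧸ K))
      ((TensorProduct.AlgebraTensorModule.cancelBaseChange A B (B ⧸ K) (B ⧸ K) Ω[A⁄Λ]).symm
        w) := rfl

lemma psi_tmul (c : B ⧸ K) (ω : Ω[A⁄Λ]) :
    psi (Λ := Λ) K (c ⊗ₜ ω) = c ⊗ₜ[B] KaehlerDifferential.map Λ Λ A B ω := by
  rw [psi_apply, TensorProduct.AlgebraTensorModule.cancelBaseChange_symm_tmul,
    LinearMap.baseChange_tmul, KaehlerDifferential.mapBaseChange_tmul, one_smul]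

lemma psi_tmul_D (c : B ⧸ K) (a : A) :
    psi (Λ := Λ) K (c ⊗ₜ KaehlerDifferential.D Λ A a) =
      c ⊗ₜ[B] KaehlerDifferential.D Λ B (algebraMap A B a) := by
  rw [psi_tmul, KaehlerDifferential.map_D]

lemma mapBaseChange_psi (w : (B ⧸ K) ⊗[A] Ω[A⁄Λ]) :
    KaehlerDifferential.mapBaseChange Λ B (B ⧸ K) (psi (Λ := Λ) K w) =
      KaehlerDifferential.mapBaseChange Λ A (B ⧸ K) w := by
  induction w using tensorKaehler_induction with
  | zero => rw [map_zero, map_zero, map_zero]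
  | add x y hx hy => rw [map_add, map_add, map_add, hx, hy]
  | tmul_D c a =>
    rw [psi_tmul_D, mapBaseChange_tmul, mapBaseChange_tmul, map_D, map_D,
      ← IsScalarTower.algebraMap_apply]

lemma baseChange_map_psi (w : (B ⧸ K) ⊗[A] Ω[A⁄Λ]) :
    (KaehlerDifferential.map Λ A B B).baseChange (B ⧸ K) (psi (Λ := Λ) K w) = 0 := by
  induction w using tensorKaehler_induction with
  | zero => rw [map_zero, map_zero]
  | add x y hx hy => rw [map_add, map_add, hx, hy, add_zero]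
  | tmul_D c a =>
    rw [psi_tmul_D, LinearMap.baseChange_tmul, map_D, Algebra.algebraMap_self, RingHom.id_apply,
      Derivation.map_algebraMap, TensorProduct.tmul_zero]

lemma psi_mem (z : EGA41.imperfection Λ A (B ⧸ K)) :
    psi (Λ := Λ) K (z : (B ⧸ K) ⊗[A] Ω[A⁄Λ]) ∈ EGA41.imperfection Λ B (B ⧸ K) := by
  show _ ∈ LinearMap.ker _
  rw [LinearMap.mem_ker, mapBaseChange_psi]
  exact LinearMap.mem_ker.mp z.2

lemma one_tmul_D_mem (x : B) (hx : x ∈ K) :
    (1 : B ⧸ K) ⊗ₜ[B] KaehlerDifferential.D Λ B x ∈ EGA41.imperfection Λ B (B ⧸ K) := by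
  show _ ∈ LinearMap.ker _
  rw [LinearMap.mem_ker, KaehlerDifferential.mapBaseChange_tmul, KaehlerDifferential.map_D,
    one_smul]
  have : algebraMap B (B ⧸ K) x = 0 := Ideal.Quotient.eq_zero_iff_mem.mpr hx
  rw [this, map_zero]

section main

variable (htriv : ((Exal.Ext.infinitesimal K).restrictBase A).IsTrivialOver Λ)
  (χ : ↥(EGA41.imperfection Λ A (B ⧸ K)) →ₗ[B ⧸ K] K.Cotangent)
  (hχ : ((Exal.Ext.infinitesimal K).restrictBase A).IsCharHom Λ χ)

include htriv hχ in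
/-- The key structural fact: there is a `C`-linear `θ : C ⊗_B Ω_{B/Λ} → K/K²`, injective on
`Υ_{C/B/Λ}`, with `θ (1 ⊗ dx) = x̄` for `x ∈ K` and `χ = θ ∘ ψ` on `Υ_{C/A/Λ}`. -/
theorem exists_theta :
    ∃ θ : (B ⧸ K) ⊗[B] Ω[B⁄Λ] →ₗ[B ⧸ K] K.Cotangent,
      (∀ w ∈ EGA41.imperfection Λ B (B ⧸ K), θ w = 0 → w = 0) ∧
      (∀ (x : B) (hx : x ∈ K),
        θ ((1 : B ⧸ K) ⊗ₜ[B] KaehlerDifferential.D Λ B x) = K.toCotangent ⟨x, hx⟩) ∧
      ∀ z : EGA41.imperfection Λ A (B ⧸ K),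
        χ z = θ (psi (Λ := Λ) K (z : (B ⧸ K) ⊗[A] Ω[A⁄Λ])) := by
  obtain ⟨gA, hgA⟩ := exists_section Λ ((Exal.Ext.infinitesimal K).restrictBase A) htriv
  let gB : (B ⧸ K) →ₐ[Λ] (Exal.Ext.infinitesimal K).CharCarrier Λ :=
    { toRingHom := (gA.toRingHom : (B ⧸ K) →+* (Exal.Ext.infinitesimal K).CharCarrier Λ)
      commutes' := fun l => by
        have h1 := gA.commutes l
        show gA (algebraMap Λ (B ⧸ K) l) =
          algebraMap B (Exal.Ext.infinitesimal K).E (algebraMap Λ B l)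
        rw [IsScalarTower.algebraMap_apply Λ A B l]
        exact h1 }
  have hgB : ∀ c, algebraMap ((Exal.Ext.infinitesimal K).CharCarrier Λ) (B ⧸ K) (gB c) = c := hgA
  obtain ⟨γ, hγA, hγB⟩ : ∃ γ : (B ⧸ K) →+* B ⧸ K ^ 2,
      (∀ (c : B ⧸ K) (a : A), ((Exal.Ext.infinitesimal K).incl
          (theta gA hgA (c ⊗ₜ KaehlerDifferential.D Λ A a)) : B ⧸ K ^ 2) =
        γ c * algebraMap B (B ⧸ K ^ 2) (algebraMap A B a) - γ c * γ (algebraMap A (B ⧸ K) a)) ∧
      (∀ (c : B ⧸ K) (b : B), ((Exal.Ext.infinitesimal K).incl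
          (theta gB hgB (c ⊗ₜ KaehlerDifferential.D Λ B b)) : B ⧸ K ^ 2) =
        γ c * algebraMap B (B ⧸ K ^ 2) b - γ c * γ (algebraMap B (B ⧸ K) b)) := by
    refine ⟨gA.toRingHom, fun c a => ?_, fun c b => ?_⟩
    · have h := inclC_theta_tmul_D gA hgA c a
      exact h
    · have h := inclC_theta_tmul_D gB hgB c b
      exact h
  have hinj := (Exal.Ext.infinitesimal K).isExtension.incl_injective
  have hcomp : ∀ w : (B ⧸ K) ⊗[A] Ω[A⁄Λ],
      theta gA hgA w = theta gB hgB (psi (Λ := Λ) K w) := by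
    intro w
    induction w using tensorKaehler_induction with
    | zero => rw [map_zero, map_zero, map_zero]
    | add x y hx hy => rw [map_add, map_add, map_add, hx, hy]
    | tmul_D c a =>
      apply hinj
      have e1 := hγA c a
      have e2 := hγB c (algebraMap A B a)
      rw [← IsScalarTower.algebraMap_apply A B (B ⧸ K)] at e2
      rw [psi_tmul_D]
      exact e1.trans e2.symm
  have htrivB : (Exal.Ext.infinitesimal K).IsTrivialOver Λ :=
    isTrivialOver_of_section Λ (Exal.Ext.infinitesimal K) gB hgB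
  let χB : ↥(EGA41.imperfection Λ B (B ⧸ K)) →ₗ[B ⧸ K] K.Cotangent :=
    (theta gB hgB).comp (EGA41.imperfection Λ B (B ⧸ K)).subtype
  have hχB : (Exal.Ext.infinitesimal K).IsCharHom Λ χB :=
    (isCharHom_iff gB hgB χB).2 (fun z => rfl)
  have hbij := Groth.Agent.S5821.result K htrivB χB hχB
  refine ⟨theta gB hgB, ?_, ?_, ?_⟩
  · intro w hw h0
    have h1 : χB ⟨w, hw⟩ = χB 0 := by rw [map_zero]; exact h0
    exact congrArg Subtype.val (hbij.1 h1)
  · intro x hx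
    apply hinj
    have e2 := hγB 1 x
    have h0 : algebraMap B (B ⧸ K) x = 0 := Ideal.Quotient.eq_zero_iff_mem.mpr hx
    have e3 : γ 1 * algebraMap B (B ⧸ K ^ 2) x - γ 1 * γ (algebraMap B (B ⧸ K) x) =
        algebraMap B (B ⧸ K ^ 2) x := by
      rw [h0, map_one, map_zero, one_mul, mul_zero, sub_zero]
    refine (e2.trans e3).trans ?_
    show algebraMap B (B ⧸ K ^ 2) x = K.cotangentToQuotientSquare (K.toCotangent ⟨x, hx⟩)
    rw [Ideal.toCotangent_to_quotient_square]; rfl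
  · intro z
    rw [(isCharHom_iff gA hgA χ).1 hχ z, hcomp]

include htriv hχ in
theorem ker_char (z : EGA41.imperfection Λ A (B ⧸ K)) :
    χ z = 0 ↔ psi (Λ := Λ) K (z : (B ⧸ K) ⊗[A] Ω[A⁄Λ]) = 0 := by
  obtain ⟨θ, hθinj, -, hθχ⟩ := exists_theta K htriv χ hχ
  rw [hθχ z]
  constructor
  · intro h; exact hθinj _ (psi_mem K z) h
  · intro h; rw [h, map_zero]

include htriv hχ in
theorem range_char (x : B) (hx : x ∈ K) :
    K.toCotangent ⟨x, hx⟩ ∈ LinearMap.range χ ↔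
      (1 : B ⧸ K) ⊗ₜ[B] KaehlerDifferential.D A B x = (0 : (B ⧸ K) ⊗[B] Ω[B⁄A]) := by
  obtain ⟨θ, hθinj, hθx, hθχ⟩ := exists_theta K htriv χ hχ
  have hπ : (KaehlerDifferential.map Λ A B B).baseChange (B ⧸ K)
      ((1 : B ⧸ K) ⊗ₜ[B] KaehlerDifferential.D Λ B x) =
      (1 : B ⧸ K) ⊗ₜ[B] KaehlerDifferential.D A B x := by
    rw [LinearMap.baseChange_tmul, KaehlerDifferential.map_D, Algebra.algebraMap_self,
      RingHom.id_apply]
  constructor
  · rintro ⟨z, hz⟩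
    rw [hθχ z, ← hθx x hx, ← sub_eq_zero, ← map_sub] at hz
    have h1 := hθinj _ (Submodule.sub_mem _ (psi_mem K z) (one_tmul_D_mem K x hx)) hz
    rw [sub_eq_zero] at h1
    rw [← hπ, ← h1, baseChange_map_psi]
  · intro h0
    rw [← hπ] at h0
    have hex : Function.Exact
        (LinearMap.lTensor (B ⧸ K) (KaehlerDifferential.mapBaseChange Λ A B))
        (LinearMap.lTensor (B ⧸ K) (KaehlerDifferential.map Λ A B B)) :=
      lTensor_exact (B ⧸ K) (KaehlerDifferential.exact_mapBaseChange_map Λ A B)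
        (KaehlerDifferential.map_surjective Λ A B)
    have h0' : LinearMap.lTensor (B ⧸ K) (KaehlerDifferential.map Λ A B B)
        ((1 : B ⧸ K) ⊗ₜ[B] KaehlerDifferential.D Λ B x) = 0 := by
      rw [← LinearMap.baseChange_eq_ltensor]; exact h0
    obtain ⟨w', hw'⟩ := (hex _).1 h0'
    rw [← LinearMap.baseChange_eq_ltensor] at hw'
    let z0 : (B ⧸ K) ⊗[A] Ω[A⁄Λ] :=
      TensorProduct.AlgebraTensorModule.cancelBaseChange A B (B ⧸ K) (B ⧸ K) Ω[A⁄Λ] w'
    have hψ : psi (Λ := Λ) K z0 = (1 : B ⧸ K) ⊗ₜ[B] KaehlerDifferential.D Λ B x := by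
      rw [psi_apply, LinearEquiv.symm_apply_apply]; exact hw'
    have hz0 : z0 ∈ EGA41.imperfection Λ A (B ⧸ K) := by
      show _ ∈ LinearMap.ker _
      rw [LinearMap.mem_ker, ← mapBaseChange_psi, hψ]
      exact LinearMap.mem_ker.mp (one_tmul_D_mem K x hx)
    refine ⟨⟨z0, hz0⟩, ?_⟩
    rw [hθχ, hψ, hθx x hx]

end main

end Groth.Agent.Lib.Helper9.CharHomInf
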