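import Groth.Agent.Lib.Helper9.CharHomLib

/-!
# Equivalence of two `A`-trivial extensions whose section-derivations differ by a derivation of `C`
-/

set_option autoImplicit false
universe u v

namespace Groth.Agent.Lib.Helper9.CharHomLib

open TensorProduct KaehlerDifferential
open Groth.Agent.Lib.Helper9.ExalLib

section

variable {A : Type u} {B C L : Type v} [CommRing A] [CommRing B] [CommRing C]
  [Algebra A B] [Algebra B C] [Algebra A C] [IsScalarTower A B C] [AddCommGroup L] [Module C L]

theorem nonempty_equiv_of_theta (X Y : Exal.Ext B C L)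
    (g : C →ₐ[A] X.CharCarrier A) (hg : ∀ c, algebraMap (X.CharCarrier A) C (g c) = c)
    (h : C →ₐ[A] Y.CharCarrier A) (hh : ∀ c, algebraMap (Y.CharCarrier A) C (h c) = c)
    (Δ : C → L) (hΔadd : ∀ c c', Δ (c + c') = Δ c + Δ c')
    (hΔmul : ∀ c c', Δ (c * c') = c • Δ c' + c' • Δ c)
    (hΔ : ∀ b : B, Δ (algebraMap B C b) =
      theta h hh ((1 : C) ⊗ₜ[B] KaehlerDifferential.D A B b) -
        theta g hg ((1 : C) ⊗ₜ[B] KaehlerDifferential.D A B b)) :
    Nonempty (X.Equiv Y) := by
  obtain ⟨σ, hσ, hσθ⟩ : ∃ σ : C →+* X.E, (∀ c, X.proj (σ c) = c) ∧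
      (∀ b : B, X.incl (theta g hg ((1 : C) ⊗ₜ[B] KaehlerDifferential.D A B b)) =
        algebraMap B X.E b - σ (algebraMap B C b)) := by
    refine ⟨g.toRingHom, hg, fun b => ?_⟩
    have := inclC_theta_tmul_D g hg 1 b
    rw [map_one, one_mul, one_mul] at this
    exact this
  obtain ⟨τ, hτ, hτθ⟩ : ∃ τ : C →+* Y.E, (∀ c, Y.proj (τ c) = c) ∧
      (∀ b : B, Y.incl (theta h hh ((1 : C) ⊗ₜ[B] KaehlerDifferential.D A B b)) =
        algebraMap B Y.E b - τ (algebraMap B C b)) := by
    refine ⟨h.toRingHom, hh, fun b => ?_⟩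
    have := inclC_theta_tmul_D h hh 1 b
    rw [map_one, one_mul, one_mul] at this
    exact this
  have hΔ0 : Δ 0 = 0 := by
    have := hΔadd 0 0
    rw [add_zero] at this
    simpa using this
  have hΔ1 : Δ 1 = 0 := by
    have := hΔmul 1 1
    rw [mul_one, one_smul] at this
    simpa using this
  let φ : X.E →ₐ[B] Y.E :=
    { toFun := fun x => τ (X.proj x) + Y.incl (kap X σ hσ x + Δ (X.proj x))
      map_one' := by
        rw [map_one, map_one, kap_one, hΔ1, add_zero, map_zero, add_zero]
      map_mul' := fun x y => by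
        have e1 : τ (X.proj x) * Y.incl (kap X σ hσ y + Δ (X.proj y)) =
            Y.incl (X.proj x • (kap X σ hσ y + Δ (X.proj y))) := sigma_mul_incl Y τ hτ _ _
        have e2 : τ (X.proj y) * Y.incl (kap X σ hσ x + Δ (X.proj x)) =
            Y.incl (X.proj y • (kap X σ hσ x + Δ (X.proj x))) := sigma_mul_incl Y τ hτ _ _
        have e3 := incl_mul_incl Y (kap X σ hσ x + Δ (X.proj x)) (kap X σ hσ y + Δ (X.proj y))
        have e4 : kap X σ hσ (x * y) + Δ (X.proj (x * y)) =
            X.proj x • (kap X σ hσ y + Δ (X.proj y)) +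
              X.proj y • (kap X σ hσ x + Δ (X.proj x)) := by
          rw [kap_mul, map_mul, hΔmul, smul_add, smul_add]; abel
        rw [e4, map_add Y.incl, ← e1, ← e2, map_mul, map_mul]
        linear_combination -e3
      map_zero' := by
        have hk0 : kap X σ hσ 0 = 0 := by
          have := kap_sigma X σ hσ 0
          rwa [map_zero] at this
        rw [map_zero, map_zero, hk0, hΔ0, add_zero, map_zero, add_zero]
      map_add' := fun x y => by
        rw [map_add, map_add, kap_add, hΔadd]
        have : kap X σ hσ x + kap X σ hσ y + (Δ (X.proj x) + Δ (X.proj y)) =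
            (kap X σ hσ x + Δ (X.proj x)) + (kap X σ hσ y + Δ (X.proj y)) := by abel
        rw [this, map_add Y.incl]; ring
      commutes' := fun b => by
        show τ (X.proj (algebraMap B X.E b)) +
          Y.incl (kap X σ hσ (algebraMap B X.E b) + Δ (X.proj (algebraMap B X.E b))) =
            algebraMap B Y.E b
        have hk : kap X σ hσ (algebraMap B X.E b) =
            theta g hg ((1 : C) ⊗ₜ[B] KaehlerDifferential.D A B b) := by
          apply X.isExtension.incl_injective
          rw [incl_kap, X.proj.commutes, hσθ]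
        rw [hk, X.proj.commutes, hΔ, add_sub_cancel, hτθ, add_sub_cancel] }
  refine nonempty_equiv_of_algHom X Y φ (fun x => ?_) (fun z => ?_)
  · show Y.proj (τ (X.proj x) + Y.incl (kap X σ hσ x + Δ (X.proj x))) = X.proj x
    rw [map_add, hτ, proj_incl, add_zero]
  · show τ (X.proj (X.incl z)) + Y.incl (kap X σ hσ (X.incl z) + Δ (X.proj (X.incl z))) =
      Y.incl z
    rw [proj_incl, map_zero, kap_incl, hΔ0, add_zero, zero_add]

end

end Groth.Agent.Lib.Helper9.CharHomLib
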