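import Mathlib

set_option autoImplicit false

/-!
# A Noetherian ring with connected spectrum all of whose local rings are domains is a domain
(helper9)
-/

universe u

namespace Helper9.ConnLocDomain

open PrimeSpectrum

/-- If `R_m` is a domain (for a prime `m`), then every minimal prime of `R` contained in `m`
is the kernel of `R → R_m`. -/
theorem minimalPrime_eq_ker (R : Type u) [CommRing R] (m : Ideal R) [m.IsPrime]
    [IsDomain (Localization.AtPrime m)] (p : Ideal R) (hp : p ∈ minimalPrimes R) (hpm : p ≤ m) :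
    p = RingHom.ker (algebraMap R (Localization.AtPrime m)) := by
  have hker : (RingHom.ker (algebraMap R (Localization.AtPrime m))).IsPrime :=
    RingHom.ker_isPrime _
  have hle : RingHom.ker (algebraMap R (Localization.AtPrime m)) ≤ p := by
    intro x hx
    rw [RingHom.mem_ker, IsLocalization.map_eq_zero_iff m.primeCompl] at hx
    obtain ⟨s, hs⟩ := hx
    have hsp : (s : R) ∉ p := fun h => s.2 (hpm h)
    have : (s : R) * x ∈ p := by rw [hs]; exact p.zero_mem
    exact (hp.1.1.mem_or_mem this).resolve_left hsp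
  exact le_antisymm (hp.2 ⟨hker, bot_le⟩ hle) hle

theorem isDomain_of_connected (R : Type u) [CommRing R] [IsNoetherianRing R]
    [ConnectedSpace (PrimeSpectrum R)]
    (h : ∀ (m : Ideal R) [m.IsMaximal], IsDomain (Localization.AtPrime m)) : IsDomain R := by
  classical
  haveI : Nontrivial R := by
    obtain ⟨x⟩ := (inferInstance : Nonempty (PrimeSpectrum R))
    exact x.nontrivial
  haveI : IsReduced R := isReduced_ofLocalizationMaximal R (fun J hJ => by
    haveI := hJ
    haveI := h J
    infer_instance)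
  -- distinct minimal primes are comaximal
  have hcomax : ∀ p ∈ minimalPrimes R, ∀ q ∈ minimalPrimes R, p ≠ q → p ⊔ q = ⊤ := by
    intro p hp q hq hne
    by_contra htop
    obtain ⟨m, hm, hle⟩ := Ideal.exists_le_maximal _ htop
    haveI := hm
    haveI := h m
    have e1 := minimalPrime_eq_ker R m p hp (le_sup_left.trans hle)
    have e2 := minimalPrime_eq_ker R m q hq (le_sup_right.trans hle)
    exact hne (e1.trans e2.symm)
  obtain ⟨p, hp⟩ : (minimalPrimes R).Nonempty := by
    obtain ⟨x⟩ := (inferInstance : Nonempty (PrimeSpectrum R))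
    haveI := x.2
    obtain ⟨p, hp, -⟩ := Ideal.exists_minimalPrimes_le (bot_le : (⊥ : Ideal R) ≤ x.asIdeal)
    exact ⟨p, hp⟩
  haveI hpp : p.IsPrime := hp.1.1
  have hfin : (minimalPrimes R).Finite := minimalPrimes.finite_of_isNoetherianRing R
  have hcompl : (zeroLocus (p : Set R))ᶜ =
      ⋃ q ∈ (minimalPrimes R) \ {p}, zeroLocus (q : Set R) := by
    ext x
    simp only [Set.mem_compl_iff, mem_zeroLocus, SetLike.coe_subset_coe, Set.mem_iUnion,
      Set.mem_diff, Set.mem_singleton_iff, exists_prop]
    constructor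
    · intro hx
      haveI := x.2
      obtain ⟨q, hq, hqx⟩ := Ideal.exists_minimalPrimes_le (bot_le : (⊥ : Ideal R) ≤ x.asIdeal)
      refine ⟨q, ⟨hq, ?_⟩, hqx⟩
      rintro rfl
      exact hx hqx
    · rintro ⟨q, ⟨hq, hne⟩, hqx⟩ hpx
      have : p ⊔ q = ⊤ := hcomax p hp q hq (Ne.symm hne)
      have hle : p ⊔ q ≤ x.asIdeal := sup_le hpx hqx
      rw [this] at hle
      exact x.2.ne_top (top_le_iff.mp hle)
  have hclopen : IsClopen (zeroLocus (p : Set R)) := by
    refine ⟨isClosed_zeroLocus _, ?_⟩
    rw [← isClosed_compl_iff, hcompl]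
    exact (hfin.subset Set.diff_subset).isClosed_biUnion (fun q _ => isClosed_zeroLocus _)
  have huniv : zeroLocus (p : Set R) = Set.univ :=
    hclopen.eq_univ ⟨⟨p, hpp⟩, by simp [mem_zeroLocus]⟩
  have hpbot : p = ⊥ := by
    rw [eq_bot_iff, ← Ideal.zero_eq_bot, ← nilradical_eq_zero R, nilradical_eq_sInf R]
    refine le_sInf (fun J hJ => ?_)
    have : (⟨J, hJ⟩ : PrimeSpectrum R) ∈ zeroLocus (p : Set R) := by
      rw [huniv]; exact Set.mem_univ _
    simpa [mem_zeroLocus] using this
  haveI : (⊥ : Ideal R).IsPrime := hpbot ▸ hpp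
  exact IsDomain.of_bot_isPrime R

theorem isIntegrallyClosed_of_connected (R : Type u) [CommRing R] [IsNoetherianRing R]
    [ConnectedSpace (PrimeSpectrum R)]
    (h : ∀ (m : Ideal R) [m.IsMaximal],
      IsDomain (Localization.AtPrime m) ∧ IsIntegrallyClosed (Localization.AtPrime m)) :
    ∃ _ : IsDomain R, IsIntegrallyClosed R := by
  haveI hd : IsDomain R := isDomain_of_connected R (fun m _ => (h m).1)
  exact ⟨hd, IsIntegrallyClosed.of_localization_maximal (fun m _ _ => (h m).2)⟩

end Helper9.ConnLocDomain
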