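import Mathlib
import Groth.Agent.Lib.Helper9.C50a

/-! The ideal `x_z (x_a : a ≠ l) + x_o^q (x_a : a ∈ {o} ∪ Mid)`: setup, standard monomials,
single-generator maps (helper9). -/

set_option autoImplicit false
universe u
open MvPolynomial W4c1hilbpn
open Groth.Agent.Lib.Helper29.BddComp Groth.Agent.Lib.Helper29.TgtGraded
open Groth.Agent.Lib.Helper20.MonoIdeal (exps_of_le)
open Groth.Agent.Lib.Helper9.TwoPlanes (gen gen_apply gen_comm eal shift_eal)
open Groth.Agent.Lib.Helper9.PA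
open Groth.Agent.Lib.Helper9.QFrame
open Groth.Agent.Lib.Helper9.C50 (gen_zero gen_one_left gen_one_right gen_pos_left gen_pos_right
  gen_bound eq_single_of)

namespace Groth.Agent.Lib.Helper9.D47

/-- configuration -/
structure Cfg (M : ℕ) where
  z : Fin M
  o : Fin M
  l : Fin M
  Mid : Finset (Fin M)
  R : Finset (Fin M)
  m₁ : Fin M
  ρ₁ : Fin M
  q : ℕ
  hzo : z ≠ o
  hzl : z ≠ l
  hol : o ≠ l
  hzM : z ∉ Mid
  hoM : o ∉ Mid
  hlM : l ∉ Mid
  hzR : z ∉ R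
  hoR : o ∉ R
  hlR : l ∉ R
  hMR : ∀ x ∈ Mid, x ∉ R
  hcover : ∀ x, x = z ∨ x = o ∨ x = l ∨ x ∈ Mid ∨ x ∈ R
  hm₁ : m₁ ∈ Mid
  hρ₁ : ρ₁ ∈ R
  hq : 1 ≤ q
  hcase : (∃ ρ₂ ∈ R, ρ₂ ≠ ρ₁) ∨ 3 ≤ q

variable {M : ℕ} (C : Cfg M)

def inA1 (a : Fin M) : Prop := a = C.o ∨ a ∈ C.Mid

def inRl (w : Fin M) : Prop := w ∈ C.R ∨ w = C.l

theorem mid_ne {m : Fin M} (hm : m ∈ C.Mid) : m ≠ C.z ∧ m ≠ C.o ∧ m ≠ C.l ∧ m ∉ C.R :=
  ⟨fun e => C.hzM (e ▸ hm), fun e => C.hoM (e ▸ hm), fun e => C.hlM (e ▸ hm), C.hMR m hm⟩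

theorem r_ne {m : Fin M} (hm : m ∈ C.R) : m ≠ C.z ∧ m ≠ C.o ∧ m ≠ C.l ∧ m ∉ C.Mid :=
  ⟨fun e => C.hzR (e ▸ hm), fun e => C.hoR (e ▸ hm), fun e => C.hlR (e ▸ hm),
    fun h => C.hMR m h hm⟩

theorem inA1_ne_z {a : Fin M} (h : inA1 C a) : a ≠ C.z := by
  rcases h with rfl | h
  · exact fun e => C.hzo e.symm
  · exact (mid_ne C h).1

theorem inA1_ne_l {a : Fin M} (h : inA1 C a) : a ≠ C.l := by
  rcases h with rfl | h
  · exact C.hol
  · exact (mid_ne C h).2.2.1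

theorem inRl_ne_z {w : Fin M} (h : inRl C w) : w ≠ C.z := by
  rcases h with h | rfl
  · exact (r_ne C h).1
  · exact fun e => C.hzl e.symm

theorem inRl_ne_o {w : Fin M} (h : inRl C w) : w ≠ C.o := by
  rcases h with h | rfl
  · exact (r_ne C h).2.1
  · exact fun e => C.hol e.symm

theorem inRl_notMid {w : Fin M} (h : inRl C w) : w ∉ C.Mid := by
  rcases h with h | rfl
  · exact (r_ne C h).2.2.2
  · exact C.hlM

/-- `x_o^q` -/
noncomputable def qo : Fin M →₀ ℕ := Finsupp.single C.o C.q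

/-- `x_o^q x_a` -/
noncomputable def hgen (a : Fin M) : Fin M →₀ ℕ := qo C + Finsupp.single a 1

theorem qo_apply (m : Fin M) : qo C m = if C.o = m then C.q else 0 := by
  unfold qo; rw [Finsupp.single_apply]

theorem qo_o : qo C C.o = C.q := by rw [qo_apply, if_pos rfl]

theorem qo_ne {m : Fin M} (h : m ≠ C.o) : qo C m = 0 := by
  rw [qo_apply, if_neg (fun e => h e.symm)]

theorem hgen_apply (a m : Fin M) :
    hgen C a m = (if C.o = m then C.q else 0) + (if a = m then 1 else 0) := by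
  unfold hgen; rw [Finsupp.add_apply, qo_apply, Finsupp.single_apply]

theorem degree_qo : (qo C).degree = C.q := Finsupp.degree_single _ _

theorem degree_hgen (a : Fin M) : (hgen C a).degree = C.q + 1 := by
  unfold hgen; rw [map_add, degree_qo, Finsupp.degree_single]

theorem hgen_inj {a a' : Fin M} (h : hgen C a = hgen C a') : a = a' := by
  unfold hgen at h
  exact (Finsupp.single_left_inj one_ne_zero).mp (add_left_cancel h)

theorem hgen_zero {a m : Fin M} (h1 : m ≠ C.o) (h2 : a ≠ m) : hgen C a m = 0 := by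
  rw [hgen_apply, if_neg (fun e => h1 e.symm), if_neg h2]

theorem hgen_o_ge (a : Fin M) : C.q ≤ hgen C a C.o := by
  rw [hgen_apply, if_pos rfl]; omega

theorem hgen_o_ne {a : Fin M} (h : a ≠ C.o) : hgen C a C.o = C.q := by
  rw [hgen_apply, if_pos rfl, if_neg h]; rfl

theorem hgen_o_o : hgen C C.o C.o = C.q + 1 := by
  rw [hgen_apply, if_pos rfl, if_pos rfl]

theorem hgen_self_ge (a : Fin M) : 1 ≤ hgen C a a := by
  rw [hgen_apply, if_pos rfl]; omega

theorem hgen_le_iff (a : Fin M) (β : Fin M →₀ ℕ) :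
    hgen C a ≤ β ↔ C.q ≤ β C.o ∧ 1 ≤ β a ∧ (a = C.o → C.q + 1 ≤ β C.o) := by
  constructor
  · intro h
    refine ⟨(hgen_o_ge C a).trans (h C.o), (hgen_self_ge C a).trans (h a), ?_⟩
    intro e
    subst e
    have := h C.o
    rw [hgen_o_o] at this
    exact this
  · rintro ⟨h1, h2, h3⟩ m
    rw [hgen_apply]
    by_cases e1 : C.o = m
    · by_cases e2 : a = m
      · have := h3 (e2.trans e1.symm)
        rw [if_pos e1, if_pos e2]; subst e1; omega
      · rw [if_pos e1, if_neg e2]; subst e1; omega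
    · by_cases e2 : a = m
      · rw [if_neg e1, if_pos e2]; subst e2; omega
      · rw [if_neg e1, if_neg e2]; omega

def InZ (β : Fin M →₀ ℕ) : Prop :=
  2 ≤ β C.z ∨ (1 ≤ β C.z ∧ ∃ a, a ≠ C.z ∧ a ≠ C.l ∧ 1 ≤ β a)

def InO (β : Fin M →₀ ℕ) : Prop :=
  C.q + 1 ≤ β C.o ∨ (C.q ≤ β C.o ∧ ∃ a ∈ C.Mid, 1 ≤ β a)

theorem InZ_iff (β : Fin M →₀ ℕ) : InZ C β ↔ ∃ a, a ≠ C.l ∧ gen C.z a ≤ β := by
  constructor
  · rintro (h | ⟨h1, a, haz, hal, h2⟩)
    · exact ⟨C.z, C.hzl, (gen_le_iff _ _ _).mpr ⟨by omega, by omega, fun _ => h⟩⟩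
    · exact ⟨a, hal, (gen_le_iff _ _ _).mpr ⟨h1, h2, fun e => absurd e.symm haz⟩⟩
  · rintro ⟨a, hal, hle⟩
    obtain ⟨e1, e2, e3⟩ := (gen_le_iff _ _ _).mp hle
    by_cases haz : a = C.z
    · left; exact e3 haz.symm
    · right; exact ⟨e1, a, haz, hal, e2⟩

theorem InO_iff (β : Fin M →₀ ℕ) : InO C β ↔ ∃ a, inA1 C a ∧ hgen C a ≤ β := by
  constructor
  · rintro (h | ⟨h1, a, ha, h2⟩)
    · exact ⟨C.o, Or.inl rfl, (hgen_le_iff C _ _).mpr ⟨by omega, by have := C.hq; omega,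
        fun _ => h⟩⟩
    · exact ⟨a, Or.inr ha, (hgen_le_iff C _ _).mpr ⟨h1, h2, fun e => absurd e (mid_ne C ha).2.1⟩⟩
  · rintro ⟨a, ha, hle⟩
    obtain ⟨e1, e2, e3⟩ := (hgen_le_iff C _ _).mp hle
    rcases ha with rfl | ha
    · left; exact e3 rfl
    · right; exact ⟨e1, a, ha, e2⟩

theorem InO_single_add_iff {j : Fin M} (hjo : j ≠ C.o) (hjM : j ∉ C.Mid) (β : Fin M →₀ ℕ) :
    InO C (Finsupp.single j 1 + β) ↔ InO C β := by
  unfold InO
  rw [Finsupp.add_apply, Finsupp.single_apply, if_neg hjo, zero_add]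
  constructor
  · rintro (h | ⟨h1, a, ha, h2⟩)
    · exact Or.inl h
    · refine Or.inr ⟨h1, a, ha, ?_⟩
      have hja : ¬ j = a := fun e => hjM (e ▸ ha)
      rw [Finsupp.add_apply, Finsupp.single_apply, if_neg hja, zero_add] at h2
      exact h2
  · rintro (h | ⟨h1, a, ha, h2⟩)
    · exact Or.inl h
    · refine Or.inr ⟨h1, a, ha, ?_⟩
      rw [Finsupp.add_apply]; omega

/-! ### generators -/

open Classical in
noncomputable def Gz : Finset (Fin M →₀ ℕ) := (Finset.univ.erase C.l).image (fun a => gen C.z a)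

open Classical in
noncomputable def Go : Finset (Fin M →₀ ℕ) := (insert C.o C.Mid).image (fun a => hgen C a)

theorem mem_Gz (s : Fin M →₀ ℕ) : s ∈ Gz C ↔ ∃ a, a ≠ C.l ∧ s = gen C.z a := by
  classical
  unfold Gz
  rw [Finset.mem_image]
  constructor
  · rintro ⟨a, ha, rfl⟩
    exact ⟨a, (Finset.mem_erase.mp ha).1, rfl⟩
  · rintro ⟨a, ha, rfl⟩
    exact ⟨a, Finset.mem_erase.mpr ⟨ha, Finset.mem_univ _⟩, rfl⟩

theorem mem_Go (s : Fin M →₀ ℕ) : s ∈ Go C ↔ ∃ a, inA1 C a ∧ s = hgen C a := by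
  classical
  unfold Go
  rw [Finset.mem_image]
  constructor
  · rintro ⟨a, ha, rfl⟩
    exact ⟨a, Finset.mem_insert.mp ha, rfl⟩
  · rintro ⟨a, ha, rfl⟩
    exact ⟨a, Finset.mem_insert.mpr ha, rfl⟩

open Classical in
noncomputable def Gf : Finset (Fin M →₀ ℕ) := Gz C ∪ Go C

theorem mem_Gf (s : Fin M →₀ ℕ) :
    s ∈ Gf C ↔ (∃ a, a ≠ C.l ∧ s = gen C.z a) ∨ (∃ a, inA1 C a ∧ s = hgen C a) := by
  classical
  unfold Gf
  rw [Finset.mem_union, mem_Gz, mem_Go]

theorem genz_mem {a : Fin M} (ha : a ≠ C.l) : gen C.z a ∈ Gf C :=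
  (mem_Gf C _).mpr (Or.inl ⟨a, ha, rfl⟩)

theorem hgen_mem {a : Fin M} (ha : inA1 C a) : hgen C a ∈ Gf C :=
  (mem_Gf C _).mpr (Or.inr ⟨a, ha, rfl⟩)

theorem hgen_z {a : Fin M} (ha : a ≠ C.z) : hgen C a C.z = 0 :=
  hgen_zero C C.hzo ha

theorem gen_ne_hgen (a : Fin M) {a' : Fin M} (ha' : a' ≠ C.z) : gen C.z a ≠ hgen C a' := by
  intro e
  have h := DFunLike.congr_fun e C.z
  rw [hgen_z C ha'] at h
  have := gen_pos_left C.z a
  omega

theorem le_of_degree_le {s μ : Fin M →₀ ℕ} (hle : s ≤ μ) (hd : μ.degree ≤ s.degree) : μ = s := by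
  have h1 : s + (μ - s) = μ := add_tsub_cancel_of_le hle
  have h2 := congrArg Finsupp.degree h1
  rw [map_add] at h2
  have h3 : (μ - s).degree = 0 := by omega
  rw [Finsupp.degree_eq_zero_iff] at h3
  rw [h3, add_zero] at h1
  exact h1.symm

theorem anti_Gf : ∀ s ∈ (↑(Gf C) : Set (Fin M →₀ ℕ)), ∀ s' ∈ (↑(Gf C) : Set (Fin M →₀ ℕ)),
    s ≤ s' → s = s' := by
  intro s hs s' hs' hle
  rcases (mem_Gf C s).mp (Finset.mem_coe.mp hs) with ⟨a, _, rfl⟩ | ⟨a, ha, rfl⟩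
  · rcases (mem_Gf C s').mp (Finset.mem_coe.mp hs') with ⟨a', _, rfl⟩ | ⟨a', ha', rfl⟩
    · exact gen_le_gen hle
    · exfalso
      have h := hle C.z
      rw [hgen_z C (inA1_ne_z C ha')] at h
      have := gen_pos_left C.z a
      omega
  · rcases (mem_Gf C s').mp (Finset.mem_coe.mp hs') with ⟨a', _, rfl⟩ | ⟨a', ha', rfl⟩
    · exfalso
      have hd : (gen C.z a').degree ≤ (hgen C a).degree := by
        rw [degree_gen, degree_hgen]
        have := C.hq
        omega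
      exact gen_ne_hgen C a' (inA1_ne_z C ha) (le_of_degree_le hle hd)
    · have hd : (hgen C a').degree ≤ (hgen C a).degree := by
        rw [degree_hgen, degree_hgen]
      exact (le_of_degree_le hle hd).symm

variable (k : Type u) [Field k]

/-- the ideal -/
noncomputable abbrev I47 : Ideal (MvPolynomial (Fin M) k) := Ig k (↑(Gf C) : Set (Fin M →₀ ℕ))

theorem gmem {g : Fin M →₀ ℕ} (hg : g ∈ Gf C) : monomial g (1 : k) ∈ I47 C k :=
  gen_mem_g k (Finset.mem_coe.mpr hg)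

theorem mem_exps47 (β : Fin M →₀ ℕ) : β ∈ exps (I47 C k) ↔ InZ C β ∨ InO C β := by
  rw [mem_exps_g, InZ_iff, InO_iff]
  constructor
  · rintro ⟨s, hs, hle⟩
    rcases (mem_Gf C s).mp (Finset.mem_coe.mp hs) with ⟨a, ha, rfl⟩ | ⟨a, ha, rfl⟩
    · exact Or.inl ⟨a, ha, hle⟩
    · exact Or.inr ⟨a, ha, hle⟩
  · rintro (⟨a, ha, hle⟩ | ⟨a, ha, hle⟩)
    · exact ⟨_, Finset.mem_coe.mpr (genz_mem C ha), hle⟩
    · exact ⟨_, Finset.mem_coe.mpr (hgen_mem C ha), hle⟩

/-! ### standard monomials -/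

theorem std_noz (β : Fin M →₀ ℕ) (h1 : β C.z = 0) (h2 : ¬ InO C β) : β ∉ exps (I47 C k) := by
  intro hmem
  rcases (mem_exps47 C k β).mp hmem with (h | ⟨h, _⟩) | h
  · omega
  · omega
  · exact h2 h

theorem std_zl (β : Fin M →₀ ℕ) (h1 : β C.z = 1) (h2 : ∀ a, a ≠ C.z → a ≠ C.l → β a = 0) :
    β ∉ exps (I47 C k) := by
  intro hmem
  have ho := h2 C.o (fun e => C.hzo e.symm) C.hol
  have hq := C.hq
  rcases (mem_exps47 C k β).mp hmem with (h | ⟨_, a, haz, hal, h⟩) | (h | ⟨h, _⟩)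
  · omega
  · have := h2 a haz hal; omega
  · omega
  · omega

theorem notInO_of_std {β : Fin M →₀ ℕ} (h : β ∉ exps (I47 C k)) : ¬ InO C β :=
  fun h' => h ((mem_exps47 C k β).mpr (Or.inr h'))

theorem notInZ_of_std {β : Fin M →₀ ℕ} (h : β ∉ exps (I47 C k)) : ¬ InZ C β :=
  fun h' => h ((mem_exps47 C k β).mpr (Or.inl h'))

theorem notInO_of_lt {β : Fin M →₀ ℕ} (h : β C.o < C.q) : ¬ InO C β := by
  rintro (h' | ⟨h', _⟩) <;> omega

/-- `x_z x_l^q` -/
noncomputable def ezl : Fin M →₀ ℕ := Finsupp.single C.z 1 + Finsupp.single C.l C.q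

theorem ezl_apply (m : Fin M) :
    ezl C m = (if C.z = m then 1 else 0) + (if C.l = m then C.q else 0) := by
  unfold ezl; rw [Finsupp.add_apply, Finsupp.single_apply, Finsupp.single_apply]

theorem ezl_z : ezl C C.z = 1 := by
  have n : ¬ C.l = C.z := fun e => C.hzl e.symm
  rw [ezl_apply]; simp only [↓reduceIte, if_neg n]

theorem ezl_zero {m : Fin M} (h1 : m ≠ C.z) (h2 : m ≠ C.l) : ezl C m = 0 := by
  rw [ezl_apply, if_neg (fun e => h1 e.symm), if_neg (fun e => h2 e.symm)]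

theorem degree_ezl : (ezl C).degree = C.q + 1 := by
  unfold ezl
  rw [map_add, Finsupp.degree_single, Finsupp.degree_single]
  omega

theorem std_ezl : ezl C ∉ exps (I47 C k) :=
  std_zl C k _ (ezl_z C) (fun _ h1 h2 => ezl_zero C h1 h2)

theorem std_genzl : gen C.z C.l ∉ exps (I47 C k) := by
  apply std_zl C k _ (gen_one_left (fun e => C.hzl e.symm))
  intro a haz hal
  exact gen_zero (fun e => haz e.symm) (fun e => hal e.symm)

theorem std_hgen_w {w : Fin M} (hw : inRl C w) : hgen C w ∉ exps (I47 C k) := by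
  apply std_noz C k _ (hgen_z C (inRl_ne_z C hw))
  rintro (h | ⟨_, a, ha, h⟩)
  · rw [hgen_o_ne C (inRl_ne_o C hw)] at h; omega
  · have hne : w ≠ a := fun e => inRl_notMid C hw (e ▸ ha)
    rw [hgen_zero C (mid_ne C ha).2.1 hne] at h
    omega

/-! ### valid pairs -/

/-- valid pairs `(g, μ)` -/
def V : Set ((Fin M →₀ ℕ) × (Fin M →₀ ℕ)) :=
  {x | ((∃ a, a ≠ C.l ∧ x.1 = gen C.z a) ∧ x.2 = gen C.z C.l) ∨
    ((∃ a, inA1 C a ∧ x.1 = hgen C a) ∧ ((∃ w, inRl C w ∧ x.2 = hgen C w) ∨ x.2 = ezl C))}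

theorem fst_mem_Gf {x : (Fin M →₀ ℕ) × (Fin M →₀ ℕ)} (hx : x ∈ V C) : x.1 ∈ Gf C := by
  rcases hx with ⟨⟨a, ha, h⟩, _⟩ | ⟨⟨a, ha, h⟩, _⟩
  · rw [h]; exact genz_mem C ha
  · rw [h]; exact hgen_mem C ha

theorem std_V {x : (Fin M →₀ ℕ) × (Fin M →₀ ℕ)} (hx : x ∈ V C) : x.2 ∉ exps (I47 C k) := by
  rcases hx with ⟨_, h⟩ | ⟨_, ⟨w, hw, h⟩ | h⟩
  · rw [h]; exact std_genzl C k
  · rw [h]; exact std_hgen_w C k hw
  · rw [h]; exact std_ezl C k

theorem degree_V {x : (Fin M →₀ ℕ) × (Fin M →₀ ℕ)} (hx : x ∈ V C) :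
    x.2.degree = x.1.degree := by
  rcases hx with ⟨⟨a, _, h1⟩, h2⟩ | ⟨⟨a, _, h1⟩, ⟨w, _, h2⟩ | h2⟩
  · rw [h1, h2, degree_gen, degree_gen]
  · rw [h1, h2, degree_hgen, degree_hgen]
  · rw [h1, h2, degree_hgen, degree_ezl]

theorem sg_gen {a : Fin M} (hal : a ≠ C.l) : SgCond (I47 C k) (gen C.z a) (gen C.z C.l) := by
  intro β hβ hnle i hle
  have hsum : (Finsupp.single i 1 + β - gen C.z a) + gen C.z a = Finsupp.single i 1 + β :=
    tsub_add_cancel_of_le hle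
  obtain ⟨γ, hγdef⟩ : ∃ γ : Fin M →₀ ℕ, γ = Finsupp.single i 1 + β - gen C.z a := ⟨_, rfl⟩
  rw [← hγdef] at hsum ⊢
  have hpt : ∀ m, γ m + gen C.z a m = (Finsupp.single i 1 : Fin M →₀ ℕ) m + β m := fun m => by
    have h := DFunLike.congr_fun hsum m
    rw [Finsupp.add_apply, Finsupp.add_apply] at h
    exact h
  have hzl1 : 1 ≤ gen C.z C.l C.z := gen_pos_left _ _
  have hq := C.hq
  apply (mem_exps47 C k _).mpr
  rcases (mem_exps47 C k β).mp hβ with (h | ⟨h1, a', ha'z, ha'l, h2⟩) | (h | ⟨h1, a'', ha'', h2⟩)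
  · by_cases haz : a = C.z
    · exfalso
      subst haz
      exact hnle ((gen_le_iff _ _ _).mpr ⟨by omega, by omega, fun _ => h⟩)
    · left; left
      have h3 := hpt C.z
      rw [gen_one_left haz] at h3
      rw [Finsupp.add_apply]
      omega
  · by_cases haa' : a = a'
    · exfalso
      subst haa'
      exact hnle ((gen_le_iff _ _ _).mpr ⟨h1, h2, fun e => absurd e.symm ha'z⟩)
    · left; right
      refine ⟨?_, a', ha'z, ha'l, ?_⟩
      · rw [Finsupp.add_apply]; omega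
      · have h3 := hpt a'
        rw [gen_zero (fun e => ha'z e.symm) haa'] at h3
        rw [Finsupp.add_apply]
        omega
  · by_cases hao : a = C.o
    · subst hao
      left; right
      refine ⟨?_, C.o, fun e => C.hzo e.symm, hal, ?_⟩
      · rw [Finsupp.add_apply]; omega
      · have h3 := hpt C.o
        rw [gen_one_right C.hzo] at h3
        rw [Finsupp.add_apply]
        omega
    · right; left
      have h3 := hpt C.o
      rw [gen_zero C.hzo hao] at h3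
      rw [Finsupp.add_apply]
      omega
  · obtain ⟨a''z, a''o, a''l, _⟩ := mid_ne C ha''
    by_cases hao : a = C.o
    · subst hao
      left; right
      refine ⟨?_, a'', a''z, a''l, ?_⟩
      · rw [Finsupp.add_apply]; omega
      · have h3 := hpt a''
        rw [gen_zero (fun e => a''z e.symm) (fun e => a''o e.symm)] at h3
        rw [Finsupp.add_apply]
        omega
    · by_cases haa : a = a''
      · subst haa
        left; right
        refine ⟨?_, C.o, fun e => C.hzo e.symm, C.hol, ?_⟩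
        · rw [Finsupp.add_apply]; omega
        · have h3 := hpt C.o
          rw [gen_zero C.hzo hao] at h3
          rw [Finsupp.add_apply]
          omega
      · right; right
        refine ⟨?_, a'', ha'', ?_⟩
        · have h3 := hpt C.o
          rw [gen_zero C.hzo hao] at h3
          rw [Finsupp.add_apply]
          omega
        · have h3 := hpt a''
          rw [gen_zero (fun e => a''z e.symm) haa] at h3
          rw [Finsupp.add_apply]
          omega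

/-- common analysis for a generator `x_o^q x_a` -/
theorem sg_h_aux {a : Fin M} (ha : inA1 C a) {β γ : Fin M →₀ ℕ} {i : Fin M}
    (hβ : β ∈ exps (I47 C k)) (hnle : ¬ hgen C a ≤ β)
    (hpt : ∀ m, γ m + hgen C a m = (Finsupp.single i 1 : Fin M →₀ ℕ) m + β m) :
    1 ≤ γ C.z ∨ 1 ≤ γ C.o ∨ ∃ a'' ∈ C.Mid, 1 ≤ γ a'' := by
  have hq := C.hq
  rcases (mem_exps47 C k β).mp hβ with (h | ⟨h, _⟩) | (h | ⟨h1, a'', ha'', h2⟩)
  · left
    have h3 := hpt C.z
    rw [hgen_z C (inA1_ne_z C ha)] at h3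
    omega
  · left
    have h3 := hpt C.z
    rw [hgen_z C (inA1_ne_z C ha)] at h3
    omega
  · right; left
    have hao : a ≠ C.o := by
      intro e
      subst e
      exact hnle ((hgen_le_iff C _ _).mpr ⟨by omega, by omega, fun _ => h⟩)
    have h3 := hpt C.o
    rw [hgen_o_ne C hao] at h3
    omega
  · right; right
    obtain ⟨a''z, a''o, a''l, _⟩ := mid_ne C ha''
    have haa : a ≠ a'' := by
      intro e
      subst e
      exact hnle ((hgen_le_iff C _ _).mpr ⟨h1, h2, fun e => absurd e a''o⟩)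
    refine ⟨a'', ha'', ?_⟩
    have h3 := hpt a''
    rw [hgen_zero C a''o haa] at h3
    omega

theorem sg_hw {a w : Fin M} (ha : inA1 C a) (hw : inRl C w) :
    SgCond (I47 C k) (hgen C a) (hgen C w) := by
  intro β hβ hnle i hle
  have hsum : (Finsupp.single i 1 + β - hgen C a) + hgen C a = Finsupp.single i 1 + β :=
    tsub_add_cancel_of_le hle
  obtain ⟨γ, hγdef⟩ : ∃ γ : Fin M →₀ ℕ, γ = Finsupp.single i 1 + β - hgen C a := ⟨_, rfl⟩
  rw [← hγdef] at hsum ⊢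
  have hpt : ∀ m, γ m + hgen C a m = (Finsupp.single i 1 : Fin M →₀ ℕ) m + β m := fun m => by
    have h := DFunLike.congr_fun hsum m
    rw [Finsupp.add_apply, Finsupp.add_apply] at h
    exact h
  have hq := C.hq
  have hwo := hgen_o_ge C w
  apply (mem_exps47 C k _).mpr
  rcases sg_h_aux C k ha hβ hnle hpt with h | h | ⟨a'', ha'', h⟩
  · left; right
    refine ⟨?_, C.o, fun e => C.hzo e.symm, C.hol, ?_⟩
    · rw [Finsupp.add_apply]; omega
    · rw [Finsupp.add_apply]; omega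
  · right; left
    rw [Finsupp.add_apply]; omega
  · right; right
    refine ⟨?_, a'', ha'', ?_⟩
    · rw [Finsupp.add_apply]; omega
    · rw [Finsupp.add_apply]; omega

theorem sg_hz {a : Fin M} (ha : inA1 C a) : SgCond (I47 C k) (hgen C a) (ezl C) := by
  intro β hβ hnle i hle
  have hsum : (Finsupp.single i 1 + β - hgen C a) + hgen C a = Finsupp.single i 1 + β :=
    tsub_add_cancel_of_le hle
  obtain ⟨γ, hγdef⟩ : ∃ γ : Fin M →₀ ℕ, γ = Finsupp.single i 1 + β - hgen C a := ⟨_, rfl⟩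
  rw [← hγdef] at hsum ⊢
  have hpt : ∀ m, γ m + hgen C a m = (Finsupp.single i 1 : Fin M →₀ ℕ) m + β m := fun m => by
    have h := DFunLike.congr_fun hsum m
    rw [Finsupp.add_apply, Finsupp.add_apply] at h
    exact h
  have hq := C.hq
  have hz1 := ezl_z C
  apply (mem_exps47 C k _).mpr
  left
  rcases sg_h_aux C k ha hβ hnle hpt with h | h | ⟨a'', ha'', h⟩
  · left
    rw [Finsupp.add_apply]; omega
  · right
    refine ⟨?_, C.o, fun e => C.hzo e.symm, C.hol, ?_⟩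
    · rw [Finsupp.add_apply]; omega
    · rw [Finsupp.add_apply]; omega
  · obtain ⟨a''z, a''o, a''l, _⟩ := mid_ne C ha''
    right
    refine ⟨?_, a'', a''z, a''l, ?_⟩
    · rw [Finsupp.add_apply]; omega
    · rw [Finsupp.add_apply]; omega

theorem sg_V {x : (Fin M →₀ ℕ) × (Fin M →₀ ℕ)} (hx : x ∈ V C) : SgCond (I47 C k) x.1 x.2 := by
  rcases hx with ⟨⟨a, ha, h1⟩, h2⟩ | ⟨⟨a, ha, h1⟩, ⟨w, hw, h2⟩ | h2⟩
  · rw [h1, h2]; exact sg_gen C k ha
  · rw [h1, h2]; exact sg_hw C k ha hw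
  · rw [h1, h2]; exact sg_hz C k ha

end Groth.Agent.Lib.Helper9.D47
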