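import Mathlib
import Groth.Agent.Lib.Helper9.D47a
import Groth.Agent.Lib.Helper9.B48b

/-! The ideal `x_z (x_a : a ≠ l) + x_o^q (x_a : a ∈ {o} ∪ Mid)`: multiplication maps and the
classification step (helper9). -/

set_option autoImplicit false
universe u
open MvPolynomial W4c1hilbpn
open Groth.Agent.Lib.Helper29.BddComp Groth.Agent.Lib.Helper29.TgtGraded
open Groth.Agent.Lib.Helper20.MonoIdeal (exps_of_le)
open Groth.Agent.Lib.Helper9.TwoPlanes (gen gen_apply gen_comm eal shift_eal sum_eal eal_inj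
  shift_gen_eal)
open Groth.Agent.Lib.Helper9.PA
open Groth.Agent.Lib.Helper9.QFrame
open Groth.Agent.Lib.Helper9.C50 (gen_zero gen_one_left gen_one_right gen_pos_left gen_pos_right
  gen_bound eq_single_of)

namespace Groth.Agent.Lib.Helper9.D47

variable {M : ℕ} (C : Cfg M) (k : Type u) [Field k]

/-! ### the multiplication maps `x_o^q ℓ ↦ μ' ℓ` -/

theorem InO_mono {β : Fin M →₀ ℕ} (h : InO C β) (i : Fin M) : InO C (Finsupp.single i 1 + β) := by
  rcases h with h | ⟨h1, a, ha, h2⟩
  · left; rw [Finsupp.add_apply]; omega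
  · right
    refine ⟨by rw [Finsupp.add_apply]; omega, a, ha, by rw [Finsupp.add_apply]; omega⟩

theorem qo_le_of_InO {β : Fin M →₀ ℕ} (h : InO C β) : qo C ≤ β := by
  intro m
  rw [qo_apply]
  split_ifs with e
  · subst e
    rcases h with h | ⟨h, _⟩ <;> omega
  · exact Nat.zero_le _

open Classical in
/-- value of the multiplication map on `x^β` -/
noncomputable def mVal (μ' β : Fin M →₀ ℕ) : MvPolynomial (Fin M) k ⧸ I47 C k :=
  if InO C β then cls (I47 C k) (β - qo C + μ') else 0

noncomputable def mL (μ' : Fin M →₀ ℕ) :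
    MvPolynomial (Fin M) k →ₗ[k] (MvPolynomial (Fin M) k ⧸ I47 C k) :=
  (MvPolynomial.basisMonomials (Fin M) k).constr k (mVal C k μ')

theorem mL_monomial (μ' β : Fin M →₀ ℕ) : mL C k μ' (monomial β 1) = mVal C k μ' β := by
  have h := (MvPolynomial.basisMonomials (Fin M) k).constr_basis k (mVal C k μ') β
  rw [MvPolynomial.coe_basisMonomials] at h
  exact h

theorem mL_compat (μ' : Fin M →₀ ℕ) (i : Fin M) (β : Fin M →₀ ℕ) (hβ : β ∈ exps (I47 C k)) :
    mL C k μ' (X i * monomial β 1) =
      (X i : MvPolynomial (Fin M) k) • mL C k μ' (monomial β 1) := by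
  classical
  rw [X_mul_mono, mL_monomial, mL_monomial]
  unfold mVal
  by_cases h : InO C β
  · rw [if_pos h, if_pos (InO_mono C h i), X_smul_cls]
    congr 1
    rw [add_tsub_assoc_of_le (qo_le_of_InO C h), add_assoc]
  · rw [if_neg h, smul_zero]
    by_cases h' : InO C (Finsupp.single i 1 + β)
    · rw [if_pos h']
      apply cls_eq_zero
      have hZ : InZ C β := by
        rcases (mem_exps47 C k β).mp hβ with hZ | hO
        · exact hZ
        · exact absurd hO h
      have hqz : qo C C.z = 0 := qo_ne C C.hzo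
      apply (mem_exps47 C k _).mpr
      left
      have hzz : β C.z ≤ (Finsupp.single i 1 + β - qo C + μ' : Fin M →₀ ℕ) C.z := by
        rw [Finsupp.add_apply, Finsupp.tsub_apply, Finsupp.add_apply, hqz]; omega
      rcases hZ with h2 | ⟨h1, a, haz, hal, h2⟩
      · left; omega
      · right
        by_cases hao : a = C.o
        · subst hao
          rcases h' with h3 | ⟨_, a'', ha'', h3⟩
          · refine ⟨by omega, C.o, haz, hal, ?_⟩
            rw [Finsupp.add_apply, Finsupp.tsub_apply, qo_o]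
            omega
          · obtain ⟨a''z, a''o, a''l, _⟩ := mid_ne C ha''
            refine ⟨by omega, a'', a''z, a''l, ?_⟩
            rw [Finsupp.add_apply, Finsupp.tsub_apply, qo_ne C a''o]
            omega
        · refine ⟨by omega, a, haz, hal, ?_⟩
          rw [Finsupp.add_apply, Finsupp.tsub_apply, Finsupp.add_apply, qo_ne C hao]
          omega
    · rw [if_neg h']

/-- multiplication by `μ' / x_o^q` on the second block, zero on the first -/
noncomputable def Mq (μ' : Fin M →₀ ℕ) : Tgt (I47 C k) :=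
  mkHom (I47 C k) (isMono_g k _) (mL C k μ') (fun i β hβ => mL_compat C k μ' i β hβ)

theorem Mq_monomial (μ' β : Fin M →₀ ℕ) (hβ : monomial β (1 : k) ∈ I47 C k) :
    Mq C k μ' ⟨monomial β 1, hβ⟩ = mVal C k μ' β := by
  show mL C k μ' (monomial β 1) = _
  exact mL_monomial C k μ' β

theorem Mq_mem (μ' : Fin M →₀ ℕ) : Mq C k μ' ∈ tPiece (I47 C k) (alphaOf (qo C) μ') := by
  classical
  rw [mem_tPiece_iff]
  intro β hβ
  rw [Mq_monomial]
  unfold mVal
  by_cases h : InO C β
  · rw [if_pos h]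
    have hle := qo_le_of_InO C h
    have hs : shift β (alphaOf (qo C) μ') = β - qo C + μ' := by
      ext m
      show ((β m : ℤ) + ((μ' m : ℤ) - (qo C m : ℤ))).toNat = (β - qo C + μ') m
      rw [Finsupp.add_apply, Finsupp.tsub_apply]
      have := hle m
      omega
    refine ⟨fun _ => ?_, fun hneg => ?_⟩
    · rw [hs]; exact Submodule.mem_span_singleton_self _
    · exfalso
      obtain ⟨m, hm⟩ := hneg
      have := hle m
      simp only [alphaOf] at hm
      omega
  · rw [if_neg h]
    exact ⟨fun _ => Submodule.zero_mem _, fun _ => rfl⟩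

theorem Mq_hgen (μ' : Fin M →₀ ℕ) {a : Fin M} (ha : inA1 C a) :
    Mq C k μ' ⟨monomial (hgen C a) 1, gmem C k (hgen_mem C ha)⟩ =
      cls (I47 C k) (Finsupp.single a 1 + μ') := by
  classical
  rw [Mq_monomial]
  unfold mVal
  rw [if_pos ((InO_iff C _).mpr ⟨a, ha, le_rfl⟩)]
  congr 1
  unfold hgen
  rw [add_tsub_cancel_left]

theorem notInO_gen (a : Fin M) : ¬ InO C (gen C.z a) := by
  have hq := C.hq
  have h1 : gen C.z a C.o ≤ 1 := by
    rw [gen_apply, if_neg C.hzo]; split_ifs <;> omega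
  rintro (h | ⟨h, a'', ha'', h2⟩)
  · omega
  · obtain ⟨a''z, a''o, a''l, _⟩ := mid_ne C ha''
    by_cases haa : a = a''
    · subst haa
      rw [gen_zero C.hzo a''o] at h
      omega
    · rw [gen_zero (fun e => a''z e.symm) haa] at h2
      omega

theorem Mq_genz (μ' : Fin M →₀ ℕ) {a : Fin M} (ha : a ≠ C.l) :
    Mq C k μ' ⟨monomial (gen C.z a) 1, gmem C k (genz_mem C ha)⟩ = 0 := by
  classical
  rw [Mq_monomial]
  unfold mVal
  rw [if_neg (notInO_gen C a)]

theorem shift_hgen (μ' : Fin M →₀ ℕ) (a : Fin M) :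
    shift (hgen C a) (alphaOf (qo C) μ') = Finsupp.single a 1 + μ' := by
  ext m
  show ((((hgen C a m : ℕ) : ℤ)) + ((μ' m : ℤ) - (qo C m : ℤ))).toNat = (Finsupp.single a 1 + μ' : Fin M →₀ ℕ) m
  unfold hgen
  rw [Finsupp.add_apply, Finsupp.add_apply]
  push_cast
  omega

theorem sum_alpha_qo {μ' : Fin M →₀ ℕ} (hd : μ'.degree = C.q) :
    ∑ i, alphaOf (qo C) μ' i = 0 := by
  rw [Groth.Agent.Lib.Helper29.TgtDim.sum_alphaOf, hd, degree_qo]; ring

theorem alpha_qo_inj {μ' μ'' : Fin M →₀ ℕ} (h : alphaOf (qo C) μ' = alphaOf (qo C) μ'') :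
    μ' = μ'' := by
  ext m
  have h1 := congrFun h m
  simp only [alphaOf] at h1
  omega

theorem alpha_qo_ne_eal {μ' : Fin M →₀ ℕ} (hz : μ' C.z = 0) {b : Fin M} (hbz : b ≠ C.z) :
    alphaOf (qo C) μ' ≠ eal C.z b := by
  intro e
  have h := congrFun e C.z
  have h1 : eal C.z b C.z = -1 := by
    show (if b = C.z then (1 : ℤ) else 0) - (if C.z = C.z then 1 else 0) = -1
    rw [if_neg hbz, if_pos rfl]; norm_num
  have h2 : alphaOf (qo C) μ' C.z = 0 := by
    show ((μ' C.z : ℕ) : ℤ) - ((qo C C.z : ℕ) : ℤ) = 0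
    rw [hz, qo_ne C C.hzo]; simp
  rw [h1, h2] at h
  omega

theorem exists_single_of_degree_one (ν : Fin M →₀ ℕ) (h : ν.degree = 1) :
    ∃ w, ν = Finsupp.single w 1 := by
  have hne : ν ≠ 0 := by
    intro e; rw [e, map_zero] at h; omega
  obtain ⟨w, hw⟩ : ∃ w, ν w ≠ 0 := by
    by_contra hcon
    push Not at hcon
    exact hne (Finsupp.ext hcon)
  refine ⟨w, ?_⟩
  apply le_of_degree_le
  · intro m
    rw [Finsupp.single_apply]
    split_ifs with e
    · subst e; omega
    · exact Nat.zero_le _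
  · rw [h, Finsupp.degree_single]

theorem lt_of_ne_qo {μ' : Fin M →₀ ℕ} (hd : μ'.degree = C.q) (hne : μ' ≠ qo C) : μ' C.o < C.q := by
  by_contra hcon
  apply hne
  apply le_of_degree_le
  · intro m
    rw [qo_apply]
    split_ifs with e
    · subst e; omega
    · exact Nat.zero_le _
  · rw [hd, degree_qo]

/-! ### the classification step -/

/-- the output of the classification step -/
def StepOut (α : Fin M → ℤ) (g : Fin M →₀ ℕ) : Prop :=
  (g, shift g α) ∈ V C ∨
  (∃ b, b ≠ C.z ∧ α = eal C.z b ∧ ∃ a, a ≠ C.z ∧ a ≠ C.l ∧ g = gen C.z a) ∨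
  (∃ μ' : Fin M →₀ ℕ, μ' C.z = 0 ∧ μ'.degree = C.q ∧ μ' C.o < C.q ∧ α = alphaOf (qo C) μ' ∧
    ∃ a, inA1 C a ∧ g = hgen C a ∧ (Finsupp.single a 1 + μ' : Fin M →₀ ℕ) C.o < C.q)

theorem std_single_add {j : Fin M} {μ : Fin M →₀ ℕ} (hjz : j ≠ C.z) (hμz : μ C.z = 0)
    (ho : ¬ InO C (Finsupp.single j 1 + μ)) :
    Finsupp.single j 1 + μ ∉ exps (I47 C k) := by
  apply std_noz C k _ _ ho
  rw [Finsupp.add_apply, Finsupp.single_apply, if_neg hjz, hμz]

theorem gen_o_two {u v : Fin M} (h : 2 ≤ gen u v C.o) : u = C.o ∧ v = C.o := by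
  rw [gen_apply] at h
  constructor
  · by_contra hne; rw [if_neg hne] at h; split_ifs at h <;> omega
  · by_contra hne; rw [if_neg hne] at h; split_ifs at h <;> omega

/-- step for a quadric generator -/
theorem step_gen (α : Fin M → ℤ) (hsum : ∑ m, α m = 0) (φ : Tgt (I47 C k))
    (hφ : φ ∈ tPiece (I47 C k) α) {a : Fin M} (hal : a ≠ C.l)
    (hval : φ ⟨monomial (gen C.z a) 1, gmem C k (genz_mem C hal)⟩ ≠ 0) :
    StepOut C α (gen C.z a) := by
  have hg := genz_mem C hal
  have hgm := gmem C k hg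
  have hnn : ∀ m, 0 ≤ toZ (gen C.z a) α m := by
    by_contra hcon
    obtain ⟨m, hm⟩ := not_forall.mp hcon
    exact hval (phi_eq_zero _ α hφ _ _ ⟨m, not_le.mp hm⟩)
  have hco := phi_eq_co _ α hφ (gen C.z a) hgm hnn
  have hc : co (I47 C k) α φ (gen C.z a) ≠ 0 := by
    intro h; rw [h, zero_smul] at hco; exact hval hco
  have hμ : shift (gen C.z a) α ∉ exps (I47 C k) := by
    intro h; rw [cls_eq_zero _ h, smul_zero] at hco; exact hval hco
  have hdeg : (shift (gen C.z a) α).degree = 2 := by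
    have h1 := Groth.Agent.Lib.Helper29.TgtPow.degree_shift α (gen C.z a) hnn
    rw [hsum, add_zero, degree_gen] at h1
    exact_mod_cast h1
  have hμm : ∀ m, ((shift (gen C.z a) α m : ℕ) : ℤ) = ((gen C.z a m : ℕ) : ℤ) + α m := fun m => by
    show ((((gen C.z a m : ℕ) : ℤ) + α m).toNat : ℤ) = _
    exact Int.toNat_of_nonneg (hnn m)
  obtain ⟨u, v, huv⟩ := exists_gen_of_degree_two _ hdeg
  have hα : ∀ m, α m = ((gen u v m : ℕ) : ℤ) - ((gen C.z a m : ℕ) : ℤ) := fun m => by
    have := hμm m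
    rw [huv] at this
    omega
  rw [huv] at hμ hco
  by_cases huz : u = C.z
  · subst huz
    have hvl : v = C.l := by
      by_contra hne
      exact hμ (gmem C k (genz_mem C hne))
    subst hvl
    exact Or.inl (Or.inl ⟨⟨a, hal, rfl⟩, huv⟩)
  by_cases hvz : v = C.z
  · subst hvz
    have hul : u = C.l := by
      by_contra hne
      apply hμ
      rw [gen_comm]
      exact gmem C k (genz_mem C hne)
    subst hul
    exact Or.inl (Or.inl ⟨⟨a, hal, rfl⟩, huv.trans (gen_comm _ _)⟩)
  have hμO : ¬ InO C (gen u v) := notInO_of_std C k hμ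
  have hμz : gen u v C.z = 0 := gen_zero huz hvz
  -- a generic contradiction from a neighbour `gen z j`
  have key : ∀ j, j ≠ C.l → j ≠ C.z →
      ((gen C.z j a : ℕ) : ℤ) + α a < 0 →
      ¬ InO C (Finsupp.single j 1 + gen u v) → False := by
    intro j hjl hjz hneg ho
    have hh' := gmem C k (genz_mem C hjl)
    have heq : Finsupp.single j 1 + gen C.z a = Finsupp.single a 1 + gen C.z j := by
      unfold gen; abel
    have hz : φ ⟨monomial (gen C.z j) 1, hh'⟩ = 0 :=
      phi_eq_zero _ α hφ _ _ ⟨a, hneg⟩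
    exact std_single_add C k hjz hμz ho (rel0_g _ φ hgm hh' j a heq hz hco hc)
  have hR : ∀ j ∈ C.R, ¬ InO C (Finsupp.single j 1 + gen u v) := by
    intro j hj
    obtain ⟨_, jo, _, jM⟩ := r_ne C hj
    rw [InO_single_add_iff C jo jM]
    exact hμO
  obtain ⟨ρz, ρo, ρl, ρM⟩ := r_ne C C.hρ₁
  by_cases haz : a = C.z
  · exfalso
    subst haz
    refine key C.ρ₁ ρl ρz ?_ (hR _ C.hρ₁)
    rw [hα, gen_one_left ρz, hμz]
    have : gen C.z C.z C.z = 2 := by rw [gen_apply]; simp only [↓reduceIte]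
    rw [this]
    norm_num
  by_cases hau : a = u
  · right; left
    exact ⟨v, hvz, Groth.Agent.Lib.Helper9.B48.eal_of_alpha hα hau, a, haz, hal, rfl⟩
  by_cases hav : a = v
  · right; left
    exact ⟨u, huz, Groth.Agent.Lib.Helper9.B48.eal_of_alpha' hα hav, a, haz, hal, rfl⟩
  exfalso
  have hua : u ≠ a := fun e => hau e.symm
  have hva : v ≠ a := fun e => hav e.symm
  by_cases haρ : a = C.ρ₁
  · rcases C.hcase with ⟨ρ₂, hρ₂, hne⟩ | hq3
    · obtain ⟨ρ₂z, _, ρ₂l, _⟩ := r_ne C hρ₂
      exact key ρ₂ ρ₂l ρ₂z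
        (toZ_neg C.z a ρ₂ u v (Or.inl (fun e => hne (e.trans haρ))) hua hva (hα a)) (hR _ hρ₂)
    · refine key C.o C.hol (fun e => C.hzo e.symm)
        (toZ_neg C.z a C.o u v (Or.inl (fun e => ρo (haρ.symm.trans e.symm))) hua hva (hα a)) ?_
      rintro (h | ⟨h, a'', ha'', h2⟩)
      · rw [Finsupp.add_apply, Finsupp.single_apply, if_pos rfl] at h
        have := gen_bound u v C.o
        omega
      · rw [Finsupp.add_apply, Finsupp.single_apply, if_pos rfl] at h
        have huv2 : 2 ≤ gen u v C.o := by omega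
        obtain ⟨rfl, rfl⟩ := gen_o_two C huv2
        obtain ⟨_, a''o, _, _⟩ := mid_ne C ha''
        rw [Finsupp.add_apply, Finsupp.single_apply, if_neg (fun e => a''o e.symm),
          gen_zero (fun e => a''o e.symm) (fun e => a''o e.symm)] at h2
        omega
  · exact key C.ρ₁ ρl ρz
      (toZ_neg C.z a C.ρ₁ u v (Or.inl (fun e => haρ e.symm)) hua hva (hα a)) (hR _ C.hρ₁)

/-- step for a generator of the second block -/
theorem step_h (α : Fin M → ℤ) (hsum : ∑ m, α m = 0) (φ : Tgt (I47 C k))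
    (hφ : φ ∈ tPiece (I47 C k) α) {a : Fin M} (ha : inA1 C a)
    (hval : φ ⟨monomial (hgen C a) 1, gmem C k (hgen_mem C ha)⟩ ≠ 0) :
    StepOut C α (hgen C a) := by
  have hq := C.hq
  have hg := hgen_mem C ha
  have hgm := gmem C k hg
  have hnn : ∀ m, 0 ≤ toZ (hgen C a) α m := by
    by_contra hcon
    obtain ⟨m, hm⟩ := not_forall.mp hcon
    exact hval (phi_eq_zero _ α hφ _ _ ⟨m, not_le.mp hm⟩)
  have hco := phi_eq_co _ α hφ (hgen C a) hgm hnn
  have hc : co (I47 C k) α φ (hgen C a) ≠ 0 := by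
    intro h; rw [h, zero_smul] at hco; exact hval hco
  have hμ : shift (hgen C a) α ∉ exps (I47 C k) := by
    intro h; rw [cls_eq_zero _ h, smul_zero] at hco; exact hval hco
  have hdeg : (shift (hgen C a) α).degree = C.q + 1 := by
    have h1 := Groth.Agent.Lib.Helper29.TgtPow.degree_shift α (hgen C a) hnn
    rw [hsum, add_zero, degree_hgen] at h1
    exact_mod_cast h1
  have hμm : ∀ m, ((shift (hgen C a) α m : ℕ) : ℤ) = ((hgen C a m : ℕ) : ℤ) + α m := fun m => by
    show ((((hgen C a m : ℕ) : ℤ) + α m).toNat : ℤ) = _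
    exact Int.toNat_of_nonneg (hnn m)
  obtain ⟨μ, hμdef⟩ : ∃ μ : Fin M →₀ ℕ, μ = shift (hgen C a) α := ⟨_, rfl⟩
  have hVgoal : ∀ P : Prop, ((hgen C a, μ) ∈ V C → P) → ((hgen C a, μ) ∈ V C → P) := fun _ h => h
  unfold StepOut
  rw [← hμdef] at hμ hdeg hco hμm ⊢
  have hα : ∀ m, α m = ((μ m : ℕ) : ℤ) - ((hgen C a m : ℕ) : ℤ) := fun m => by
    have := hμm m; omega
  have hnotZ := notInZ_of_std C k hμ
  have hnotO := notInO_of_std C k hμ
  have haz := inA1_ne_z C ha
  have hμz : μ C.z ≤ 1 := by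
    by_contra hcon; exact hnotZ (Or.inl (by omega))
  by_cases hz1 : μ C.z = 1
  · -- `μ = x_z x_l^q`
    left
    have h0 : ∀ a', a' ≠ C.z → a' ≠ C.l → μ a' = 0 := by
      intro a' ha'z ha'l
      by_contra hne
      exact hnotZ (Or.inr ⟨by omega, a', ha'z, ha'l, by omega⟩)
    have e1 : μ = Finsupp.single C.z 1 + Finsupp.single C.l (μ C.l) := by
      ext m
      rw [Finsupp.add_apply, Finsupp.single_apply, Finsupp.single_apply]
      by_cases emz : C.z = m
      · subst emz
        rw [if_pos rfl, if_neg (fun e => C.hzl e.symm), hz1]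
        rfl
      · by_cases eml : C.l = m
        · subst eml
          rw [if_neg emz, if_pos rfl, zero_add]
        · rw [if_neg emz, if_neg eml]
          exact h0 m (fun e => emz e.symm) (fun e => eml e.symm)
    have h2 := congrArg Finsupp.degree e1
    rw [hdeg, map_add, Finsupp.degree_single, Finsupp.degree_single] at h2
    have h3 : μ C.l = C.q := by omega
    have e2 : μ = ezl C := by rw [e1, h3]; rfl
    exact Or.inr ⟨⟨a, ha, rfl⟩, Or.inr e2⟩
  have hz0 : μ C.z = 0 := by omega
  have hoq : μ C.o ≤ C.q := by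
    by_contra hcon; exact hnotO (Or.inl (by omega))
  by_cases hoq' : μ C.o = C.q
  · -- `μ = x_o^q x_w`
    left
    have hM0 : ∀ a'' ∈ C.Mid, μ a'' = 0 := by
      intro a'' ha''
      by_contra hne
      exact hnotO (Or.inr ⟨by omega, a'', ha'', by omega⟩)
    have hle : qo C ≤ μ := by
      intro m
      rw [qo_apply]
      split_ifs with e
      · subst e; omega
      · exact Nat.zero_le _
    have hadd : qo C + (μ - qo C) = μ := add_tsub_cancel_of_le hle
    have hd1 : (μ - qo C).degree = 1 := by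
      have h2 := congrArg Finsupp.degree hadd
      rw [map_add, degree_qo, hdeg] at h2
      omega
    obtain ⟨w, hw⟩ := exists_single_of_degree_one _ hd1
    have e : μ = hgen C w := by
      unfold hgen; rw [← hw, hadd]
    have hw1 : 1 ≤ μ w := by rw [e]; exact hgen_self_ge C w
    have hwz : w ≠ C.z := by intro e'; rw [e'] at hw1; omega
    have hwo : w ≠ C.o := by
      intro e'
      rw [e, e', hgen_o_o] at hoq'
      omega
    have hwM : w ∉ C.Mid := by
      intro h; have := hM0 w h; omega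
    have hwRl : inRl C w := by
      rcases C.hcover w with h | h | h | h | h
      · exact absurd h hwz
      · exact absurd h hwo
      · exact Or.inr h
      · exact absurd h hwM
      · exact Or.inl h
    exact Or.inr ⟨⟨a, ha, rfl⟩, Or.inl ⟨w, hwRl, e⟩⟩
  have hoq'' : μ C.o < C.q := by omega
  by_cases hμa : 1 ≤ μ a
  · right; right
    have hle : Finsupp.single a 1 ≤ μ := by
      intro m
      rw [Finsupp.single_apply]
      split_ifs with e
      · subst e; exact hμa
      · exact Nat.zero_le _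
    have hadd : Finsupp.single a 1 + (μ - Finsupp.single a 1) = μ := add_tsub_cancel_of_le hle
    obtain ⟨μ', hμ'def⟩ : ∃ μ' : Fin M →₀ ℕ, μ' = μ - Finsupp.single a 1 := ⟨_, rfl⟩
    rw [← hμ'def] at hadd
    have hpt : ∀ m, (if a = m then 1 else 0) + μ' m = μ m := fun m => by
      have h1 := DFunLike.congr_fun hadd m
      rw [Finsupp.add_apply, Finsupp.single_apply] at h1
      exact h1
    refine ⟨μ', ?_, ?_, ?_, ?_, a, ha, rfl, ?_⟩
    · have := hpt C.z; omega
    · have h2 := congrArg Finsupp.degree hadd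
      rw [map_add, Finsupp.degree_single, hdeg] at h2
      omega
    · have := hpt C.o; omega
    · funext m
      rw [hα m]
      show _ = ((μ' m : ℕ) : ℤ) - ((qo C m : ℕ) : ℤ)
      have h1 := hpt m
      have h2 : hgen C a m = qo C m + (if a = m then 1 else 0) := by
        unfold hgen; rw [Finsupp.add_apply, Finsupp.single_apply]
      rw [h2]
      by_cases e : a = m
      · rw [if_pos e] at h1 ⊢; push_cast; omega
      · rw [if_neg e] at h1 ⊢; push_cast; omega
    · rw [hadd]; exact hoq''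
  · exfalso
    have hμa0 : μ a = 0 := by omega
    obtain ⟨m₁z, m₁o, m₁l, _⟩ := mid_ne C C.hm₁
    rcases ha with rfl | haM
    · -- `a = o`
      have hh' := gmem C k (hgen_mem C (Or.inr C.hm₁))
      have heq : Finsupp.single C.m₁ 1 + hgen C C.o = Finsupp.single C.o 1 + hgen C C.m₁ := by
        unfold hgen; abel
      have hz : φ ⟨monomial (hgen C C.m₁) 1, hh'⟩ = 0 := by
        refine phi_eq_zero _ α hφ _ _ ⟨C.o, ?_⟩
        show ((hgen C C.m₁ C.o : ℕ) : ℤ) + α C.o < 0
        rw [hα, hgen_o_ne C m₁o, hgen_o_o, hμa0]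
        push_cast
        omega
      refine std_single_add C k m₁z hz0 ?_ (rel0_g _ φ hgm hh' C.m₁ C.o heq hz hco hc)
      apply notInO_of_lt
      rw [Finsupp.add_apply, Finsupp.single_apply, if_neg m₁o, hμa0]
      omega
    · obtain ⟨_, ao, al, _⟩ := mid_ne C haM
      have hgaa : hgen C a a = 1 := by
        rw [hgen_apply, if_neg (fun e => ao e.symm), if_pos rfl]
      by_cases hox : InO C (Finsupp.single C.o 1 + μ)
      · rcases hox with h | ⟨_, a'', ha'', h2⟩
        · rw [Finsupp.add_apply, Finsupp.single_apply, if_pos rfl] at h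
          omega
        · obtain ⟨a''z, a''o, a''l, _⟩ := mid_ne C ha''
          rw [Finsupp.add_apply, Finsupp.single_apply, if_neg (fun e => a''o e.symm),
            zero_add] at h2
          have haa : a'' ≠ a := by
            intro e; rw [e] at h2; omega
          have hh' := gmem C k (hgen_mem C (Or.inr ha''))
          have heq : Finsupp.single a'' 1 + hgen C a = Finsupp.single a 1 + hgen C a'' := by
            unfold hgen; abel
          have hz : φ ⟨monomial (hgen C a'') 1, hh'⟩ = 0 := by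
            refine phi_eq_zero _ α hφ _ _ ⟨a, ?_⟩
            show ((hgen C a'' a : ℕ) : ℤ) + α a < 0
            rw [hα, hgen_zero C ao haa, hgaa, hμa0]
            norm_num
          refine std_single_add C k a''z hz0 ?_ (rel0_g _ φ hgm hh' a'' a heq hz hco hc)
          apply notInO_of_lt
          rw [Finsupp.add_apply, Finsupp.single_apply, if_neg a''o, zero_add]
          exact hoq''
      · have hh' := gmem C k (hgen_mem C (Or.inl rfl))
        have heq : Finsupp.single C.o 1 + hgen C a = Finsupp.single a 1 + hgen C C.o := by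
          unfold hgen; abel
        have hz : φ ⟨monomial (hgen C C.o) 1, hh'⟩ = 0 := by
          refine phi_eq_zero _ α hφ _ _ ⟨a, ?_⟩
          show ((hgen C C.o a : ℕ) : ℤ) + α a < 0
          rw [hα, hgen_zero C ao (fun e => ao e.symm), hgaa, hμa0]
          norm_num
        exact std_single_add C k (fun e => C.hzo e.symm) hz0 hox
          (rel0_g _ φ hgm hh' C.o a heq hz hco hc)

/-- the classification step -/
theorem step47 (α : Fin M → ℤ) (hsum : ∑ m, α m = 0) (φ : Tgt (I47 C k))
    (hφ : φ ∈ tPiece (I47 C k) α) {g : Fin M →₀ ℕ} (hg : g ∈ Gf C)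
    (hval : φ ⟨monomial g 1, gmem C k hg⟩ ≠ 0) : StepOut C α g := by
  rcases (mem_Gf C g).mp hg with ⟨a, hal, rfl⟩ | ⟨a, ha, rfl⟩
  · exact step_gen C k α hsum φ hφ hal hval
  · exact step_h C k α hsum φ hφ ha hval

end Groth.Agent.Lib.Helper9.D47
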