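import Mathlib
import Groth.Agent.Lib.Helper9.D47b

/-! The ideal `x_z (x_a : a ≠ l) + x_o^q (x_a : a ∈ {o} ∪ Mid)`: the spanning family (helper9). -/

set_option autoImplicit false
universe u
open MvPolynomial W4c1hilbpn
open Groth.Agent.Lib.Helper29.BddComp Groth.Agent.Lib.Helper29.TgtGraded
open Groth.Agent.Lib.Helper20.MonoIdeal (exps_of_le)
open Groth.Agent.Lib.Helper9.TwoPlanes (gen gen_apply gen_comm eal shift_eal sum_eal eal_inj
  shift_gen_eal)
open Groth.Agent.Lib.Helper9.PA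
open Groth.Agent.Lib.Helper9.QFrame
open Groth.Agent.Lib.Helper9.C50 (gen_zero gen_one_left gen_one_right gen_pos_left gen_pos_right
  gen_bound eq_single_of)

namespace Groth.Agent.Lib.Helper9.D47

variable {M : ℕ} (C : Cfg M) (k : Type u) [Field k]

open Classical in
/-- monomials of degree `q` not involving `x_z` -/
noncomputable def Aq : Finset (Fin M →₀ ℕ) := (Finset.univ.erase C.z).finsuppAntidiag C.q

theorem mem_Aq (μ : Fin M →₀ ℕ) : μ ∈ Aq C ↔ μ C.z = 0 ∧ μ.degree = C.q := by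
  classical
  unfold Aq
  rw [Finset.mem_finsuppAntidiag]
  constructor
  · rintro ⟨h1, h2⟩
    have hz : μ C.z = 0 := by
      by_contra hne
      have := h2 (Finsupp.mem_support_iff.mpr hne)
      exact (Finset.mem_erase.mp this).1 rfl
    refine ⟨hz, ?_⟩
    rw [Finsupp.degree_eq_sum, ← Finset.add_sum_erase _ _ (Finset.mem_univ C.z), hz, zero_add]
    exact h1
  · rintro ⟨hz, hd⟩
    refine ⟨?_, ?_⟩
    · rw [Finsupp.degree_eq_sum, ← Finset.add_sum_erase _ _ (Finset.mem_univ C.z), hz,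
        zero_add] at hd
      exact hd
    · intro a ha
      rw [Finset.mem_erase]
      exact ⟨fun e => (Finsupp.mem_support_iff.mp ha) (e ▸ hz), Finset.mem_univ _⟩

open Classical in
/-- the same, without `x_o^q` -/
noncomputable def Aq' : Finset (Fin M →₀ ℕ) := (Aq C).erase (qo C)

theorem mem_Aq' (μ : Fin M →₀ ℕ) : μ ∈ Aq' C ↔ μ C.z = 0 ∧ μ.degree = C.q ∧ μ C.o < C.q := by
  classical
  unfold Aq'
  rw [Finset.mem_erase, mem_Aq]
  constructor
  · rintro ⟨h1, h2, h3⟩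
    exact ⟨h2, h3, lt_of_ne_qo C h3 h1⟩
  · rintro ⟨h2, h3, h4⟩
    refine ⟨?_, h2, h3⟩
    intro e
    rw [e, qo_o] at h4
    omega

open Classical in
/-- the targets of the generators of the second block -/
noncomputable def Tw : Finset (Fin M →₀ ℕ) :=
  insert (ezl C) ((insert C.l C.R).image (fun w => hgen C w))

theorem mem_Tw (μ : Fin M →₀ ℕ) : μ ∈ Tw C ↔ (∃ w, inRl C w ∧ μ = hgen C w) ∨ μ = ezl C := by
  classical
  unfold Tw
  rw [Finset.mem_insert, Finset.mem_image]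
  constructor
  · rintro (h | ⟨w, hw, rfl⟩)
    · exact Or.inr h
    · rcases Finset.mem_insert.mp hw with h | h
      · exact Or.inl ⟨w, Or.inr h, rfl⟩
      · exact Or.inl ⟨w, Or.inl h, rfl⟩
  · rintro (⟨w, hw, rfl⟩ | h)
    · right
      rcases hw with h | h
      · exact ⟨w, Finset.mem_insert.mpr (Or.inr h), rfl⟩
      · exact ⟨w, Finset.mem_insert.mpr (Or.inl h), rfl⟩
    · exact Or.inl h

open Classical in
/-- the valid pairs, as a finset -/
noncomputable def Vf : Finset ((Fin M →₀ ℕ) × (Fin M →₀ ℕ)) :=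
  ((Gz C) ×ˢ ({gen C.z C.l} : Finset (Fin M →₀ ℕ))) ∪ ((Go C) ×ˢ (Tw C))

theorem mem_Vf (x : (Fin M →₀ ℕ) × (Fin M →₀ ℕ)) : x ∈ Vf C ↔ x ∈ V C := by
  classical
  unfold Vf V
  rw [Finset.mem_union, Finset.mem_product, Finset.mem_product, Finset.mem_singleton,
    mem_Tw, mem_Gz, mem_Go, Set.mem_setOf_eq]

open Classical in
/-- indices for the derivations `x_b ∂/∂x_z` -/
noncomputable def Df : Finset (Fin M) := Finset.univ.erase C.z

theorem mem_Df (b : Fin M) : b ∈ Df C ↔ b ≠ C.z := by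
  classical
  unfold Df
  rw [Finset.mem_erase]
  exact ⟨fun h => h.1, fun h => ⟨h, Finset.mem_univ _⟩⟩

/-- index type of the basis -/
abbrev Idx : Type := ↥(Vf C) ⊕ (↥(Df C) ⊕ ↥(Aq' C))

/-- the basis family -/
noncomputable def vfam : Idx C → Tgt (I47 C k) :=
  Sum.elim (fun x => psiT (I47 C k) (isMono_g k _) x.1.1 x.1.2)
    (Sum.elim (fun y => Dg (I47 C k) C.z y.1) (fun μ' => Mq C k μ'.1))

/-- the span of the basis family -/
noncomputable def W : Submodule k (Tgt (I47 C k)) := Submodule.span k (Set.range (vfam C k))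

theorem psi_mem_W {x : (Fin M →₀ ℕ) × (Fin M →₀ ℕ)} (hx : x ∈ V C) :
    psiT (I47 C k) (isMono_g k _) x.1 x.2 ∈ W C k :=
  Submodule.subset_span ⟨Sum.inl ⟨x, (mem_Vf C x).mpr hx⟩, rfl⟩

theorem D_mem_W {b : Fin M} (hbz : b ≠ C.z) : Dg (I47 C k) C.z b ∈ W C k :=
  Submodule.subset_span ⟨Sum.inr (Sum.inl ⟨b, (mem_Df C _).mpr hbz⟩), rfl⟩

theorem M_mem_W {μ' : Fin M →₀ ℕ} (hz : μ' C.z = 0) (hd : μ'.degree = C.q) (ho : μ' C.o < C.q) :
    Mq C k μ' ∈ W C k :=
  Submodule.subset_span ⟨Sum.inr (Sum.inr ⟨μ', (mem_Aq' C _).mpr ⟨hz, hd, ho⟩⟩), rfl⟩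

theorem star47 (α : Fin M → ℤ) (φ : Tgt (I47 C k)) (hφ : φ ∈ tPiece (I47 C k) α)
    (hS1 : ∀ g (hg : g ∈ Gf C), φ ⟨monomial g 1, gmem C k hg⟩ ≠ 0 → (g, shift g α) ∈ V C) :
    φ ∈ W C k :=
  star_g k (Gf C) (anti_Gf C) (V C) (fun x hx => sg_V C k hx) (W C k)
    (fun x hx _ => psi_mem_W C k hx) α φ hφ hS1

theorem caseA {b : Fin M} (hbz : b ≠ C.z) (φ : Tgt (I47 C k))
    (hφ : φ ∈ tPiece (I47 C k) (eal C.z b)) : φ ∈ W C k := by
  obtain ⟨ρz, ρo, ρl, ρM⟩ := r_ne C C.hρ₁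
  have hzb : C.z ≠ b := Ne.symm hbz
  have hg₀ : gen C.z C.ρ₁ ∈ Gf C := genz_mem C ρl
  set d := co (I47 C k) (eal C.z b) φ (gen C.z C.ρ₁) with hd
  have hφ₁ : φ - d • Dg (I47 C k) C.z b ∈ tPiece (I47 C k) (eal C.z b) :=
    Submodule.sub_mem _ hφ (Submodule.smul_mem _ _ (Dg_mem _ hzb))
  have hco₀ := phi_eq_co' _ _ hφ (gen C.z C.ρ₁) (gmem C k hg₀)
  rw [shift_gen_eal hzb] at hco₀
  have hsuff : φ - d • Dg (I47 C k) C.z b ∈ W C k := by
    apply star47 C k (eal C.z b) _ hφ₁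
    intro g hg hne
    rcases step47 C k (eal C.z b) (sum_eal _ _) _ hφ₁ hg hne with
      h | ⟨b', hb'z, hαeq, a, haz, hal, hga⟩ | ⟨μ', hμz, _, _, hαeq, _⟩
    · exact h
    · exfalso
      obtain ⟨_, hbb⟩ := eal_inj hzb (Ne.symm hb'z) hαeq
      subst hbb
      subst hga
      apply hne
      have hza : C.z ≠ a := Ne.symm haz
      rw [LinearMap.sub_apply, LinearMap.smul_apply, Dg_gen _ hza,
        phi_eq_co' _ _ hφ _ _, shift_gen_eal hzb, ← sub_smul]
      by_cases hst : gen b a ∈ exps (I47 C k)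
      · rw [cls_eq_zero _ hst, smul_zero]
      · have hcc : co (I47 C k) (eal C.z b) φ (gen C.z a) = d := by
          have hgg := gmem C k hg
          have hh' := gmem C k hg₀
          have heq : Finsupp.single C.ρ₁ 1 + gen C.z a = Finsupp.single a 1 + gen C.z C.ρ₁ := by
            unfold gen; abel
          have hco := phi_eq_co' _ _ hφ (gen C.z a) hgg
          rw [shift_gen_eal hzb] at hco
          have hμ : Finsupp.single C.ρ₁ 1 + gen b a = Finsupp.single a 1 + gen b C.ρ₁ := by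
            unfold gen; abel
          have hst' : Finsupp.single C.ρ₁ 1 + gen b a ∉ exps (I47 C k) := by
            apply std_single_add C k ρz (gen_zero hbz haz)
            rw [InO_single_add_iff C ρo ρM]
            exact notInO_of_std C k hst
          exact rel1_g _ φ hgg hh' C.ρ₁ a heq hco hco₀ hμ hst'
        rw [hcc, sub_self, zero_smul]
    · exact absurd hαeq.symm (alpha_qo_ne_eal C hμz hbz)
  have e : φ = (φ - d • Dg (I47 C k) C.z b) + d • Dg (I47 C k) C.z b := (sub_add_cancel _ _).symm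
  rw [e]
  exact (W C k).add_mem hsuff ((W C k).smul_mem _ (D_mem_W C k hbz))

theorem caseB {μ' : Fin M →₀ ℕ} (hz : μ' C.z = 0) (hd : μ'.degree = C.q) (ho : μ' C.o < C.q)
    (φ : Tgt (I47 C k)) (hφ : φ ∈ tPiece (I47 C k) (alphaOf (qo C) μ')) : φ ∈ W C k := by
  obtain ⟨m₁z, m₁o, m₁l, _⟩ := mid_ne C C.hm₁
  have hm₁A : inA1 C C.m₁ := Or.inr C.hm₁
  have hg₀ : hgen C C.m₁ ∈ Gf C := hgen_mem C hm₁A
  set d := co (I47 C k) (alphaOf (qo C) μ') φ (hgen C C.m₁) with hdd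
  have hφ₁ : φ - d • Mq C k μ' ∈ tPiece (I47 C k) (alphaOf (qo C) μ') :=
    Submodule.sub_mem _ hφ (Submodule.smul_mem _ _ (Mq_mem C k μ'))
  have hco₀ := phi_eq_co' _ _ hφ (hgen C C.m₁) (gmem C k hg₀)
  rw [shift_hgen] at hco₀
  have hsuff : φ - d • Mq C k μ' ∈ W C k := by
    apply star47 C k (alphaOf (qo C) μ') _ hφ₁
    intro g hg hne
    rcases step47 C k (alphaOf (qo C) μ') (sum_alpha_qo C hd) _ hφ₁ hg hne with
      h | ⟨b', hb'z, hαeq, _⟩ | ⟨μ'', _, _, _, hαeq, a, ha, hga, hao⟩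
    · exact h
    · exact absurd hαeq (alpha_qo_ne_eal C hz hb'z)
    · exfalso
      have hμμ : μ' = μ'' := alpha_qo_inj C hαeq
      subst hμμ
      subst hga
      apply hne
      have haz := inA1_ne_z C ha
      rw [LinearMap.sub_apply, LinearMap.smul_apply, Mq_hgen C k μ' ha,
        phi_eq_co' _ _ hφ _ _, shift_hgen, ← sub_smul]
      have hcc : co (I47 C k) (alphaOf (qo C) μ') φ (hgen C a) = d := by
        have hgg := gmem C k hg
        have hh' := gmem C k hg₀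
        have heq : Finsupp.single C.m₁ 1 + hgen C a = Finsupp.single a 1 + hgen C C.m₁ := by
          unfold hgen; abel
        have hco := phi_eq_co' _ _ hφ (hgen C a) hgg
        rw [shift_hgen] at hco
        have hμ : Finsupp.single C.m₁ 1 + (Finsupp.single a 1 + μ') =
            Finsupp.single a 1 + (Finsupp.single C.m₁ 1 + μ') := by abel
        have hst' : Finsupp.single C.m₁ 1 + (Finsupp.single a 1 + μ') ∉ exps (I47 C k) := by
          apply std_single_add C k m₁z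
          · rw [Finsupp.add_apply, Finsupp.single_apply, if_neg haz, hz]
          · apply notInO_of_lt
            rw [Finsupp.add_apply, Finsupp.single_apply, if_neg m₁o, zero_add]
            exact hao
        exact rel1_g _ φ hgg hh' C.m₁ a heq hco hco₀ hμ hst'
      rw [hcc, sub_self, zero_smul]
  have e : φ = (φ - d • Mq C k μ') + d • Mq C k μ' := (sub_add_cancel _ _).symm
  rw [e]
  exact (W C k).add_mem hsuff ((W C k).smul_mem _ (M_mem_W C k hz hd ho))

theorem tPiece_le_W (α : Fin M → ℤ) (hsum : ∑ m, α m = 0) : tPiece (I47 C k) α ≤ W C k := by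
  intro φ hφ
  by_cases hα : ∃ b, b ≠ C.z ∧ α = eal C.z b
  · obtain ⟨b, hbz, rfl⟩ := hα
    exact caseA C k hbz φ hφ
  by_cases hα' : ∃ μ' : Fin M →₀ ℕ, μ' C.z = 0 ∧ μ'.degree = C.q ∧ μ' C.o < C.q ∧
      α = alphaOf (qo C) μ'
  · obtain ⟨μ', hz, hd, ho, rfl⟩ := hα'
    exact caseB C k hz hd ho φ hφ
  · apply star47 C k α φ hφ
    intro g hg hne
    rcases step47 C k α hsum φ hφ hg hne with h | ⟨b, hbz, hαeq, _⟩ | ⟨μ', hz, hd, ho, hαeq, _⟩
    · exact h
    · exact absurd ⟨b, hbz, hαeq⟩ hα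
    · exact absurd ⟨μ', hz, hd, ho, hαeq⟩ hα'

/-- the degree-0 part -/
noncomputable def H0 : Submodule k (Tgt (I47 C k)) :=
  ⨆ α : {α : Fin M → ℤ // ∑ i, α i = 0}, tPiece (I47 C k) α.1

theorem H0_eq_W : H0 C k = W C k := by
  apply le_antisymm
  · apply iSup_le
    rintro ⟨α, hα⟩
    exact tPiece_le_W C k α hα
  · unfold W
    rw [Submodule.span_le]
    rintro _ ⟨x, rfl⟩
    rcases x with ⟨x, hx⟩ | ⟨b, hy⟩ | ⟨μ', hμ'⟩
    · have hxV := (mem_Vf C x).mp hx
      have hs : ∑ i, alphaOf x.1 x.2 i = 0 := by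
        rw [Groth.Agent.Lib.Helper29.TgtDim.sum_alphaOf, degree_V C hxV]; ring
      exact le_iSup (fun α : {α : Fin M → ℤ // ∑ i, α i = 0} => tPiece (I47 C k) α.1)
        ⟨_, hs⟩ (psiT_mem _ _ _ _)
    · have hbz := (mem_Df C _).mp hy
      exact le_iSup (fun α : {α : Fin M → ℤ // ∑ i, α i = 0} => tPiece (I47 C k) α.1)
        ⟨_, sum_eal C.z b⟩ (Dg_mem _ (Ne.symm hbz))
    · obtain ⟨_, hd, _⟩ := (mem_Aq' C _).mp hμ'
      exact le_iSup (fun α : {α : Fin M → ℤ // ∑ i, α i = 0} => tPiece (I47 C k) α.1)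
        ⟨_, sum_alpha_qo C hd⟩ (Mq_mem C k μ')

end Groth.Agent.Lib.Helper9.D47
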