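import Mathlib
import Groth.Agent.Lib.Helper9.D47c
import Groth.Agent.Lib.Helper9.PA4

/-! The ideal `x_z (x_a : a ≠ l) + x_o^q (x_a : a ∈ {o} ∪ Mid)`: independence, count and the final
statement (helper9). -/

set_option autoImplicit false
universe u
open MvPolynomial W4c1hilbpn
open Groth.Agent.Lib.Helper29.BddComp Groth.Agent.Lib.Helper29.TgtGraded
open Groth.Agent.Lib.Helper20.MonoIdeal (exps_of_le)
open Groth.Agent.Lib.Helper9.TwoPlanes (gen gen_apply gen_comm eal shift_eal sum_eal eal_inj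
  shift_gen_eal)
open Groth.Agent.Lib.Helper9.PA
open Groth.Agent.Lib.Helper9.QFrame
open Groth.Agent.Lib.Helper9.C50 (gen_zero gen_one_left gen_one_right gen_pos_left gen_pos_right
  gen_bound eq_single_of)

namespace Groth.Agent.Lib.Helper9.D47

variable {M : ℕ} (C : Cfg M) (k : Type u) [Field k]

theorem notInO_gen_ρ {b : Fin M} : ¬ InO C (gen b C.ρ₁) := by
  have hq := C.hq
  obtain ⟨ρz, ρo, ρl, ρM⟩ := r_ne C C.hρ₁
  have h1 : gen b C.ρ₁ C.o ≤ 1 := by
    rw [gen_apply, if_neg ρo]; split_ifs <;> omega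
  rintro (h | ⟨h, a'', ha'', h2⟩)
  · omega
  · obtain ⟨a''z, a''o, a''l, _⟩ := mid_ne C ha''
    have hρa : C.ρ₁ ≠ a'' := fun e => ρM (e ▸ ha'')
    by_cases hba : b = a''
    · subst hba
      rw [gen_zero a''o ρo] at h
      omega
    · rw [gen_zero hba hρa] at h2
      omega

theorem vfam_indep : LinearIndependent k (vfam C k) := by
  classical
  obtain ⟨ρz, ρo, ρl, ρM⟩ := r_ne C C.hρ₁
  obtain ⟨m₁z, m₁o, m₁l, _⟩ := mid_ne C C.hm₁
  have hm₁A : inA1 C C.m₁ := Or.inr C.hm₁
  have hzρ : C.z ≠ C.ρ₁ := Ne.symm ρz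
  have hgρ : gen C.z C.ρ₁ ∈ Gf C := genz_mem C ρl
  have hgm : hgen C C.m₁ ∈ Gf C := hgen_mem C hm₁A
  rw [Fintype.linearIndependent_iff]
  intro c hc
  rw [Fintype.sum_sum_type, Fintype.sum_sum_type] at hc
  -- the derivations
  have key1 : ∀ y : ↥(Df C), c (Sum.inr (Sum.inl y)) = 0 := by
    rintro ⟨b, hy⟩
    have hbz := (mem_Df C _).mp hy
    have hst : gen b C.ρ₁ ∉ exps (I47 C k) :=
      std_noz C k _ (gen_zero hbz ρz) (notInO_gen_ρ C)
    have h1 : ∀ x : ↥(Vf C),
        cqL (I47 C k) (isMono_g k _) (gen b C.ρ₁) hst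
          (vfam C k (Sum.inl x) ⟨monomial (gen C.z C.ρ₁) 1, gmem C k hgρ⟩) = 0 := by
      rintro ⟨x, hx⟩
      have hxV := (mem_Vf C x).mp hx
      show cqL (I47 C k) (isMono_g k _) (gen b C.ρ₁) hst
        (psiT (I47 C k) (isMono_g k _) x.1 x.2 ⟨monomial (gen C.z C.ρ₁) 1, gmem C k hgρ⟩) = 0
      have hpsi := psiT_gen_g k (anti_Gf C) (Finset.mem_coe.mpr (fst_mem_Gf C hxV))
        (Finset.mem_coe.mpr hgρ) x.2 (sg_V C k hxV)
      rw [hpsi]
      split_ifs with hx1
      · rw [cqL_cls, if_neg]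
        intro e
        rcases hxV with ⟨_, h⟩ | ⟨⟨a, ha, h⟩, _⟩
        · have h2 := DFunLike.congr_fun (h.symm.trans e) C.z
          rw [gen_zero hbz ρz] at h2
          have := gen_pos_left C.z C.l
          omega
        · exact gen_ne_hgen C C.ρ₁ (inA1_ne_z C ha) (hx1.symm.trans h)
      · exact map_zero _
    have h2 : ∀ y' : ↥(Df C),
        cqL (I47 C k) (isMono_g k _) (gen b C.ρ₁) hst
          (vfam C k (Sum.inr (Sum.inl y')) ⟨monomial (gen C.z C.ρ₁) 1, gmem C k hgρ⟩) =
          if y' = (⟨b, hy⟩ : ↥(Df C)) then 1 else 0 := by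
      rintro ⟨b', hy'⟩
      show cqL (I47 C k) (isMono_g k _) (gen b C.ρ₁) hst
        (Dg (I47 C k) C.z b' ⟨monomial (gen C.z C.ρ₁) 1, gmem C k hgρ⟩) = _
      rw [Dg_gen _ hzρ, cqL_cls]
      by_cases hbb : b' = b
      · subst hbb
        rw [if_pos rfl, if_pos rfl]
      · rw [if_neg (fun e => hbb (gen_right_inj e)), if_neg]
        intro e
        exact hbb (congrArg (fun z : ↥(Df C) => z.1) e)
    have h3 : ∀ μ' : ↥(Aq' C),
        cqL (I47 C k) (isMono_g k _) (gen b C.ρ₁) hst
          (vfam C k (Sum.inr (Sum.inr μ')) ⟨monomial (gen C.z C.ρ₁) 1, gmem C k hgρ⟩) = 0 := by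
      rintro ⟨μ', hμ'⟩
      show cqL (I47 C k) (isMono_g k _) (gen b C.ρ₁) hst
        (Mq C k μ' ⟨monomial (gen C.z C.ρ₁) 1, gmem C k hgρ⟩) = 0
      rw [Mq_genz C k μ' ρl, map_zero]
    have hE := congrArg (fun φ : Tgt (I47 C k) =>
      cqL (I47 C k) (isMono_g k _) (gen b C.ρ₁) hst
        (φ ⟨monomial (gen C.z C.ρ₁) 1, gmem C k hgρ⟩)) hc
    simp only [LinearMap.add_apply, LinearMap.sum_apply, LinearMap.smul_apply, map_add, map_sum,
      map_smul, LinearMap.zero_apply, map_zero, h1, h2, h3, smul_zero, Finset.sum_const_zero,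
      zero_add, add_zero, smul_eq_mul, mul_ite, mul_one, mul_zero, Finset.sum_ite_eq',
      Finset.mem_univ, if_true] at hE
    exact hE
  -- the multiplication maps
  have key3 : ∀ μ' : ↥(Aq' C), c (Sum.inr (Sum.inr μ')) = 0 := by
    rintro ⟨μ₀, hμ₀⟩
    obtain ⟨hz₀, hd₀, ho₀⟩ := (mem_Aq' C _).mp hμ₀
    have hst : Finsupp.single C.m₁ 1 + μ₀ ∉ exps (I47 C k) := by
      apply std_single_add C k m₁z hz₀
      apply notInO_of_lt
      rw [Finsupp.add_apply, Finsupp.single_apply, if_neg m₁o, zero_add]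
      exact ho₀
    have h1 : ∀ x : ↥(Vf C),
        cqL (I47 C k) (isMono_g k _) (Finsupp.single C.m₁ 1 + μ₀) hst
          (vfam C k (Sum.inl x) ⟨monomial (hgen C C.m₁) 1, gmem C k hgm⟩) = 0 := by
      rintro ⟨x, hx⟩
      have hxV := (mem_Vf C x).mp hx
      show cqL (I47 C k) (isMono_g k _) (Finsupp.single C.m₁ 1 + μ₀) hst
        (psiT (I47 C k) (isMono_g k _) x.1 x.2 ⟨monomial (hgen C C.m₁) 1, gmem C k hgm⟩) = 0
      have hpsi := psiT_gen_g k (anti_Gf C) (Finset.mem_coe.mpr (fst_mem_Gf C hxV))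
        (Finset.mem_coe.mpr hgm) x.2 (sg_V C k hxV)
      rw [hpsi]
      split_ifs with hx1
      · rw [cqL_cls, if_neg]
        intro e
        rcases hxV with ⟨⟨a, _, h⟩, _⟩ | ⟨_, ⟨w, hw, h⟩ | h⟩
        · exact gen_ne_hgen C a m₁z (h.symm.trans hx1)
        · have h2 := DFunLike.congr_fun (h.symm.trans e) C.o
          rw [Finsupp.add_apply, Finsupp.single_apply, if_neg m₁o, zero_add] at h2
          have := hgen_o_ge C w
          omega
        · have h2 := DFunLike.congr_fun (h.symm.trans e) C.z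
          rw [Finsupp.add_apply, Finsupp.single_apply, if_neg m₁z, zero_add, hz₀, ezl_z] at h2
          omega
      · exact map_zero _
    have h2 : ∀ y' : ↥(Df C),
        cqL (I47 C k) (isMono_g k _) (Finsupp.single C.m₁ 1 + μ₀) hst
          (vfam C k (Sum.inr (Sum.inl y')) ⟨monomial (hgen C C.m₁) 1, gmem C k hgm⟩) = 0 := by
      rintro ⟨b', hy'⟩
      show cqL (I47 C k) (isMono_g k _) (Finsupp.single C.m₁ 1 + μ₀) hst
        (Dg (I47 C k) C.z b' ⟨monomial (hgen C C.m₁) 1, gmem C k hgm⟩) = _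
      rw [Dg_monomial, hgen_z C m₁z, Nat.cast_zero, zero_smul, map_zero]
    have h3 : ∀ μ' : ↥(Aq' C),
        cqL (I47 C k) (isMono_g k _) (Finsupp.single C.m₁ 1 + μ₀) hst
          (vfam C k (Sum.inr (Sum.inr μ')) ⟨monomial (hgen C C.m₁) 1, gmem C k hgm⟩) =
          if μ' = (⟨μ₀, hμ₀⟩ : ↥(Aq' C)) then 1 else 0 := by
      rintro ⟨μ', hμ'⟩
      show cqL (I47 C k) (isMono_g k _) (Finsupp.single C.m₁ 1 + μ₀) hst
        (Mq C k μ' ⟨monomial (hgen C C.m₁) 1, gmem C k hgm⟩) = _
      rw [Mq_hgen C k μ' hm₁A, cqL_cls]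
      by_cases hμμ : μ' = μ₀
      · subst hμμ
        rw [if_pos rfl, if_pos rfl]
      · rw [if_neg (fun e => hμμ (add_left_cancel e)), if_neg]
        intro e
        exact hμμ (congrArg (fun z : ↥(Aq' C) => z.1) e)
    have hE := congrArg (fun φ : Tgt (I47 C k) =>
      cqL (I47 C k) (isMono_g k _) (Finsupp.single C.m₁ 1 + μ₀) hst
        (φ ⟨monomial (hgen C C.m₁) 1, gmem C k hgm⟩)) hc
    simp only [LinearMap.add_apply, LinearMap.sum_apply, LinearMap.smul_apply, map_add, map_sum,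
      map_smul, LinearMap.zero_apply, map_zero, h1, h2, h3, smul_zero, Finset.sum_const_zero,
      zero_add, add_zero, smul_eq_mul, mul_ite, mul_one, mul_zero, Finset.sum_ite_eq',
      Finset.mem_univ, if_true] at hE
    exact hE
  have hc' : ∑ x : ↥(Vf C), c (Sum.inl x) • vfam C k (Sum.inl x) = 0 := by
    have h0 : ∑ y : ↥(Df C), c (Sum.inr (Sum.inl y)) • vfam C k (Sum.inr (Sum.inl y)) = 0 :=
      Finset.sum_eq_zero (fun y _ => by rw [key1 y, zero_smul])
    have h0' : ∑ y : ↥(Aq' C), c (Sum.inr (Sum.inr y)) • vfam C k (Sum.inr (Sum.inr y)) = 0 :=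
      Finset.sum_eq_zero (fun y _ => by rw [key3 y, zero_smul])
    rw [h0, h0', add_zero, add_zero] at hc
    exact hc
  have key2 : ∀ x : ↥(Vf C), c (Sum.inl x) = 0 := by
    rintro ⟨x₀, hx₀⟩
    have hx₀V := (mem_Vf C x₀).mp hx₀
    have hst : x₀.2 ∉ exps (I47 C k) := std_V C k hx₀V
    have hx₀G := fst_mem_Gf C hx₀V
    have h1 : ∀ x : ↥(Vf C),
        cqL (I47 C k) (isMono_g k _) x₀.2 hst
          (vfam C k (Sum.inl x) ⟨monomial x₀.1 1, gmem C k hx₀G⟩) =
          if x = (⟨x₀, hx₀⟩ : ↥(Vf C)) then 1 else 0 := by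
      rintro ⟨x, hx⟩
      have hxV := (mem_Vf C x).mp hx
      show cqL (I47 C k) (isMono_g k _) x₀.2 hst
        (psiT (I47 C k) (isMono_g k _) x.1 x.2 ⟨monomial x₀.1 1, gmem C k hx₀G⟩) = _
      have hpsi := psiT_gen_g k (anti_Gf C) (Finset.mem_coe.mpr (fst_mem_Gf C hxV))
        (Finset.mem_coe.mpr hx₀G) x.2 (sg_V C k hxV)
      rw [hpsi]
      by_cases hgg : x.1 = x₀.1
      · rw [if_pos hgg, cqL_cls]
        by_cases hmm : x.2 = x₀.2
        · rw [if_pos hmm, if_pos]
          exact Subtype.ext (Prod.ext hgg hmm)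
        · rw [if_neg hmm, if_neg]
          intro e
          exact hmm (congrArg (fun z : ↥(Vf C) => z.1.2) e)
      · rw [if_neg hgg, map_zero, if_neg]
        intro e
        exact hgg (congrArg (fun z : ↥(Vf C) => z.1.1) e)
    have hE := congrArg (fun φ : Tgt (I47 C k) =>
      cqL (I47 C k) (isMono_g k _) x₀.2 hst
        (φ ⟨monomial x₀.1 1, gmem C k hx₀G⟩)) hc'
    simp only [LinearMap.sum_apply, LinearMap.smul_apply, map_sum,
      map_smul, LinearMap.zero_apply, map_zero, h1, smul_eq_mul, mul_ite, mul_one, mul_zero,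
      Finset.sum_ite_eq', Finset.mem_univ, if_true] at hE
    exact hE
  rintro (x | y | μ')
  · exact key2 x
  · exact key1 y
  · exact key3 μ'

/-! ### the count -/

theorem card_Aq : (Aq C).card = (M - 1 + C.q - 1).choose C.q := by
  classical
  unfold Aq
  rw [Finset.card_finsuppAntidiag_nat_eq_choose, Finset.card_erase_of_mem (Finset.mem_univ _),
    Finset.card_univ, Fintype.card_fin]

theorem card_Aq' : (Aq' C).card + 1 = (Aq C).card := by
  classical
  unfold Aq'
  refine Finset.card_erase_add_one ((mem_Aq C _).mpr ⟨qo_ne C C.hzo, degree_qo C⟩)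

theorem card_Gz : (Gz C).card = M - 1 := by
  classical
  unfold Gz
  rw [Finset.card_image_of_injective, Finset.card_erase_of_mem (Finset.mem_univ _),
    Finset.card_univ, Fintype.card_fin]
  intro a a' h
  exact gen_left_inj h

theorem card_Go : (Go C).card = C.Mid.card + 1 := by
  classical
  unfold Go
  rw [Finset.card_image_of_injective, Finset.card_insert_of_notMem C.hoM]
  intro a a' h
  exact hgen_inj C h

theorem card_Tw : (Tw C).card = C.R.card + 2 := by
  classical
  unfold Tw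
  rw [Finset.card_insert_of_notMem, Finset.card_image_of_injective,
    Finset.card_insert_of_notMem C.hlR]
  · intro a a' h
    exact hgen_inj C h
  · rw [Finset.mem_image]
    rintro ⟨w, hw, he⟩
    have hwz : w ≠ C.z := by
      rcases Finset.mem_insert.mp hw with h | h
      · rw [h]; exact fun e => C.hzl e.symm
      · exact (r_ne C h).1
    have h2 := DFunLike.congr_fun he C.z
    rw [hgen_z C hwz, ezl_z] at h2
    omega

theorem card_Vf : (Vf C).card = (M - 1) + (C.Mid.card + 1) * (C.R.card + 2) := by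
  classical
  unfold Vf
  rw [Finset.card_union_of_disjoint, Finset.card_product, Finset.card_product,
    Finset.card_singleton, card_Gz, card_Go, card_Tw, mul_one]
  rw [Finset.disjoint_left]
  rintro ⟨g, μ⟩ h1 h2
  rw [Finset.mem_product] at h1 h2
  obtain ⟨a, _, e1⟩ := (mem_Gz C g).mp h1.1
  obtain ⟨a', ha', e2⟩ := (mem_Go C g).mp h2.1
  exact gen_ne_hgen C a (inA1_ne_z C ha') (e1.symm.trans e2)

theorem card_Df : (Df C).card = M - 1 := by
  classical
  unfold Df
  rw [Finset.card_erase_of_mem (Finset.mem_univ _), Finset.card_univ, Fintype.card_fin]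

theorem card_M : M = C.Mid.card + C.R.card + 3 := by
  classical
  have huniv : (Finset.univ : Finset (Fin M)) =
      insert C.z (insert C.o (insert C.l (C.Mid ∪ C.R))) := by
    ext x
    simp only [Finset.mem_univ, Finset.mem_insert, Finset.mem_union, true_iff]
    exact C.hcover x
  have h := congrArg Finset.card huniv
  rw [Finset.card_univ, Fintype.card_fin, Finset.card_insert_of_notMem,
    Finset.card_insert_of_notMem, Finset.card_insert_of_notMem,
    Finset.card_union_of_disjoint] at h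
  · omega
  · rw [Finset.disjoint_left]
    exact C.hMR
  · rw [Finset.mem_union]
    rintro (h | h)
    · exact C.hlM h
    · exact C.hlR h
  · rw [Finset.mem_insert, Finset.mem_union]
    rintro (h | h | h)
    · exact C.hol h
    · exact C.hoM h
    · exact C.hoR h
  · rw [Finset.mem_insert, Finset.mem_insert, Finset.mem_union]
    rintro (h | h | h | h)
    · exact C.hzo h
    · exact C.hzl h
    · exact C.hzM h
    · exact C.hzR h

theorem finrank_H0 :
    Module.finrank k ↥(H0 C k) + 1 =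
      (M - 1 + C.q - 1).choose C.q + 2 * (M - 1) + (C.Mid.card + 1) * (C.R.card + 2) := by
  rw [H0_eq_W C k]
  unfold W
  rw [finrank_span_eq_card (vfam_indep C k)]
  simp only [Fintype.card_sum, Fintype.card_coe]
  rw [card_Vf, card_Df, ← card_Aq, ← card_Aq']
  omega

/-! ### the statement -/

theorem main13447 (k : Type u) [Field k] (n q r : ℕ) (hn : 4 ≤ n)
    (hq : 1 ≤ q) (hr : r + 3 ≤ n) (hcase : 2 ≤ r ∨ (r = 1 ∧ 3 ≤ q)) :
    Module.finrank k ↥(⨆ α : {α : Fin (n + 1) → ℤ // ∑ i, α i = 0}, tPiece (Ideal.span ({f : MvPolynomial (Fin (n + 1)) k | ∃ i : Fin (n + 1), i.val + 1 ≤ n ∧ f = MvPolynomial.X 0 * MvPolynomial.X i} ∪ {f : MvPolynomial (Fin (n + 1)) k | ∃ i : Fin (n + 1), 1 ≤ i.val ∧ i.val ≤ n - r - 1 ∧ f = MvPolynomial.X 1 ^ q * MvPolynomial.X i})) α.1) =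
      3 * n - 1 + (n - r - 2) * (r + 1) + Nat.choose (n + q - 1) (n - 1) := by
  classical
  have hr1 : 1 ≤ r := by rcases hcase with h | ⟨h, _⟩ <;> omega
  have h0v : ((0 : Fin (n + 1)) : ℕ) = 0 := rfl
  have h1v : ((1 : Fin (n + 1)) : ℕ) = 1 := by
    rw [Fin.val_one']
    exact Nat.mod_eq_of_lt (by omega)
  have hl : n < n + 1 := by omega
  have h2 : 2 < n + 1 := by omega
  have hρ : n - 1 < n + 1 := by omega
  have hMidlt : ∀ m ∈ Finset.Icc 2 (n - r - 1), m < n + 1 := by
    intro m hm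
    rw [Finset.mem_Icc] at hm
    omega
  have hRlt : ∀ m ∈ Finset.Ico (n - r) n, m < n + 1 := by
    intro m hm
    rw [Finset.mem_Ico] at hm
    omega
  set Mid : Finset (Fin (n + 1)) := (Finset.Icc 2 (n - r - 1)).attachFin hMidlt with hMidDef
  set R : Finset (Fin (n + 1)) := (Finset.Ico (n - r) n).attachFin hRlt with hRDef
  have memMid : ∀ i : Fin (n + 1), i ∈ Mid ↔ 2 ≤ i.val ∧ i.val ≤ n - r - 1 := fun i => by
    rw [hMidDef, Finset.mem_attachFin, Finset.mem_Icc]
  have memR : ∀ i : Fin (n + 1), i ∈ R ↔ n - r ≤ i.val ∧ i.val < n := fun i => by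
    rw [hRDef, Finset.mem_attachFin, Finset.mem_Ico]
  have cardMid : Mid.card = n - r - 2 := by
    rw [hMidDef, Finset.card_attachFin, Nat.card_Icc]; omega
  have cardR : R.card = r := by
    rw [hRDef, Finset.card_attachFin, Nat.card_Ico]; omega
  let C : Cfg (n + 1) :=
    { z := 0
      o := 1
      l := ⟨n, hl⟩
      Mid := Mid
      R := R
      m₁ := ⟨2, h2⟩
      ρ₁ := ⟨n - 1, hρ⟩
      q := q
      hzo := by
        intro e
        have := congrArg Fin.val e
        rw [h0v, h1v] at this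
        omega
      hzl := by
        intro e
        have := congrArg Fin.val e
        rw [h0v] at this
        simp only at this
        omega
      hol := by
        intro e
        have := congrArg Fin.val e
        rw [h1v] at this
        simp only at this
        omega
      hzM := by rw [memMid, h0v]; omega
      hoM := by rw [memMid, h1v]; omega
      hlM := by rw [memMid]; simp only; omega
      hzR := by rw [memR, h0v]; omega
      hoR := by rw [memR, h1v]; omega
      hlR := by rw [memR]; simp only; omega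
      hMR := by
        intro x hx
        rw [memMid] at hx
        rw [memR]
        omega
      hcover := by
        intro x
        have hx := x.isLt
        by_cases c0 : x.val = 0
        · exact Or.inl (Fin.ext (by rw [c0, h0v]))
        by_cases c1 : x.val = 1
        · exact Or.inr (Or.inl (Fin.ext (by rw [c1, h1v])))
        by_cases c3 : x.val = n
        · exact Or.inr (Or.inr (Or.inl (Fin.ext c3)))
        by_cases c4 : x.val ≤ n - r - 1
        · exact Or.inr (Or.inr (Or.inr (Or.inl ((memMid x).mpr (by omega)))))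
        · exact Or.inr (Or.inr (Or.inr (Or.inr ((memR x).mpr (by omega)))))
      hm₁ := (memMid _).mpr (by simp only; omega)
      hρ₁ := (memR _).mpr (by simp only; omega)
      hq := hq
      hcase := by
        rcases hcase with h | ⟨_, h⟩
        · left
          refine ⟨⟨n - 2, by omega⟩, (memR _).mpr (by simp only; omega), ?_⟩
          intro e
          have := congrArg Fin.val e
          simp only at this
          omega
        · exact Or.inr h }
  have hCz : C.z = 0 := rfl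
  have hCo : C.o = 1 := rfl
  have hCl : C.l = ⟨n, hl⟩ := rfl
  have hCq : C.q = q := rfl
  have hCM : C.Mid = Mid := rfl
  have hCR : C.R = R := rfl
  have ne_l : ∀ i : Fin (n + 1), i ≠ C.l ↔ i.val + 1 ≤ n := by
    intro i
    have hi := i.isLt
    rw [hCl]
    constructor
    · intro h
      by_contra hc
      exact h (Fin.ext (by simp only; omega))
    · intro h e
      have := congrArg Fin.val e
      simp only at this
      omega
  have inA : ∀ i : Fin (n + 1), inA1 C i ↔ 1 ≤ i.val ∧ i.val ≤ n - r - 1 := by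
    intro i
    unfold inA1
    rw [hCo, hCM, memMid]
    constructor
    · rintro (rfl | h)
      · rw [h1v]; omega
      · omega
    · rintro ⟨h1, h2⟩
      by_cases c : i.val = 1
      · exact Or.inl (Fin.ext (by rw [c, h1v]))
      · exact Or.inr ⟨by omega, h2⟩
  have hpow : ∀ i : Fin (n + 1),
      (X 1 ^ q * X i : MvPolynomial (Fin (n + 1)) k) = monomial (hgen C i) 1 := by
    intro i
    rw [X_pow_eq_monomial, X, monomial_mul, one_mul]
    rfl
  have hset : ({f : MvPolynomial (Fin (n + 1)) k | ∃ i : Fin (n + 1), i.val + 1 ≤ n ∧ f = MvPolynomial.X 0 * MvPolynomial.X i} ∪ {f : MvPolynomial (Fin (n + 1)) k | ∃ i : Fin (n + 1), 1 ≤ i.val ∧ i.val ≤ n - r - 1 ∧ f = MvPolynomial.X 1 ^ q * MvPolynomial.X i}) = (fun s => monomial s (1 : k)) '' (↑(Gf C) : Set (Fin (n + 1) →₀ ℕ)) := by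
    ext f
    constructor
    · rintro (⟨i, hi, rfl⟩ | ⟨i, hi1, hi2, rfl⟩)
      · exact ⟨gen 0 i, Finset.mem_coe.mpr (genz_mem C ((ne_l i).mpr hi)), (X_mul_X_eq k 0 i).symm⟩
      · exact ⟨hgen C i, Finset.mem_coe.mpr (hgen_mem C ((inA i).mpr ⟨hi1, hi2⟩)),
          (hpow i).symm⟩
    · rintro ⟨s, hs, rfl⟩
      rcases (mem_Gf C s).mp (Finset.mem_coe.mp hs) with ⟨a, ha, rfl⟩ | ⟨a, ha, rfl⟩
      · exact Or.inl ⟨a, (ne_l a).mp ha, (X_mul_X_eq k 0 a).symm⟩
      · obtain ⟨h1, h2⟩ := (inA a).mp ha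
        exact Or.inr ⟨a, h1, h2, (hpow a).symm⟩
  have hI : Ideal.span ({f : MvPolynomial (Fin (n + 1)) k | ∃ i : Fin (n + 1), i.val + 1 ≤ n ∧ f = MvPolynomial.X 0 * MvPolynomial.X i} ∪ {f : MvPolynomial (Fin (n + 1)) k | ∃ i : Fin (n + 1), 1 ≤ i.val ∧ i.val ≤ n - r - 1 ∧ f = MvPolynomial.X 1 ^ q * MvPolynomial.X i}) = I47 C k := by
    show _ = Ig k _
    unfold Ig; rw [hset]
  rw [hI]
  have hmain := finrank_H0 C k
  unfold H0 at hmain
  rw [hCq, hCM, hCR, cardMid, cardR] at hmain
  have hch : (n + 1 - 1 + q - 1).choose q = (n + q - 1).choose (n - 1) := by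
    have e : n + 1 - 1 + q - 1 = n + q - 1 := by omega
    rw [e]
    exact Nat.choose_symm_of_eq_add (by omega)
  rw [hch] at hmain
  obtain ⟨a, ha⟩ : ∃ a, n - r - 2 = a := ⟨_, rfl⟩
  rw [ha] at hmain ⊢
  have e1 : (a + 1) * (r + 2) = a * (r + 1) + a + r + 2 := by ring
  rw [e1] at hmain
  have hn' : n = a + r + 2 := by omega
  generalize a * (r + 1) = P at hmain ⊢
  omega

end Groth.Agent.Lib.Helper9.D47
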