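import Mathlib
import Groth.Prelude.Def_DeRham
import Groth.Agent.Lib.Helper6.DeRhamBC

/-!
# Closed and exact forms under base field extension (for S19628)
-/

set_option autoImplicit false
universe u
open exteriorPower TensorProduct

namespace Groth.Agent.Lib.Helper9.DRBaseChange

section
variable (k K : Type u) [Field k] [Field K] [Algebra k K]
    (A A' : Type u) [CommRing A] [CommRing A'] [Algebra k A]
    [Algebra A A'] [Algebra k A'] [IsScalarTower k A A'] [Algebra K A'] [IsScalarTower k K A']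
    (ψ : ∀ p : ℕ, ↥(⋀[A]^p (Ω[A⁄k])) →+ ↥(⋀[A']^p (Ω[A'⁄K])))
    (hψ : DeRham.IsCxMap (KaehlerDifferential.D k A) (KaehlerDifferential.D K A') (algebraMap A A') ψ)

include hψ in
theorem psi_smul (p : ℕ) (c : k) (x : ↥(⋀[A]^p (Ω[A⁄k]))) :
    ψ p (c • x) = (algebraMap k K c) • ψ p x := by
  refine Groth.Agent.Lib.Helper23.DeRhamAux.gen_induction (KaehlerDifferential.D k A)
    (KaehlerDifferential.span_range_derivation k A) p
    (fun x => ψ p (c • x) = (algebraMap k K c) • ψ p x) ?_ ?_ ?_ x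
  · show ψ p (c • 0) = (algebraMap k K c) • ψ p 0
    rw [smul_zero, map_zero, smul_zero]
  · intro x y hx hy
    show ψ p (c • (x + y)) = (algebraMap k K c) • ψ p (x + y)
    rw [smul_add, map_add, map_add, smul_add, hx, hy]
  · intro b₀ b
    show ψ p (c • DeRham.gen (KaehlerDifferential.D k A) p b₀ b) =
      (algebraMap k K c) • ψ p (DeRham.gen (KaehlerDifferential.D k A) p b₀ b)
    have h1 : c • DeRham.gen (KaehlerDifferential.D k A) p b₀ b =
        DeRham.gen (KaehlerDifferential.D k A) p (c • b₀) b := by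
      unfold DeRham.gen; rw [smul_assoc]
    have h2 : algebraMap A A' (c • b₀) = (algebraMap k K c) • algebraMap A A' b₀ := by
      rw [Algebra.smul_def, map_mul, ← IsScalarTower.algebraMap_apply k A A',
        IsScalarTower.algebraMap_apply k K A', ← Algebra.smul_def]
    rw [h1, hψ p, hψ p]
    unfold DeRham.gen
    rw [h2, smul_assoc]

/-- The comparison map `K ⊗ Ω^p_A → Ω^p_{A'}`. -/
noncomputable def Phi (p : ℕ) : K ⊗[k] ↥(⋀[A]^p (Ω[A⁄k])) →+ ↥(⋀[A']^p (Ω[A'⁄K])) :=
  TensorProduct.liftAddHom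
    { toFun := fun s =>
        { toFun := fun x => s • ψ p x
          map_zero' := by rw [map_zero, smul_zero]
          map_add' := fun x y => by rw [map_add, smul_add] }
      map_zero' := by ext x; simp
      map_add' := fun s s' => by ext x; simp [add_smul] }
    (by
      intro c s x
      show (c • s) • ψ p x = s • ψ p (c • x)
      rw [psi_smul k K A A' ψ hψ p c x, smul_smul, Algebra.smul_def, mul_comm])

theorem Phi_tmul (p : ℕ) (s : K) (x : ↥(⋀[A]^p (Ω[A⁄k]))) :
    Phi k K A A' ψ hψ p (s ⊗ₜ[k] x) = s • ψ p x := rfl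

theorem Phi_bijective [Algebra.IsPushout k K A A'] (p : ℕ) :
    Function.Bijective (Phi k K A A' ψ hψ p) :=
  Groth.Agent.Lib.Helper6.DeRhamBC.main k K A A' ψ hψ p (Phi k K A A' ψ hψ p)
    (Phi_tmul k K A A' ψ hψ p)

end

theorem main
    (k K : Type u) [Field k] [Field K] [Algebra k K]
    (A A' : Type u) [CommRing A] [CommRing A'] [Algebra k A]
    [Algebra A A'] [Algebra k A'] [IsScalarTower k A A'] [Algebra K A'] [IsScalarTower k K A']
    [Algebra.IsPushout k K A A']
    (d : ∀ p : ℕ, ↥(⋀[A]^p (Ω[A⁄k])) →ₗ[k] ↥(⋀[A]^(p + 1) (Ω[A⁄k])))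
    (d' : ∀ p : ℕ, ↥(⋀[A']^p (Ω[A'⁄K])) →ₗ[K] ↥(⋀[A']^(p + 1) (Ω[A'⁄K])))
    (ψ : ∀ p : ℕ, ↥(⋀[A]^p (Ω[A⁄k])) →+ ↥(⋀[A']^p (Ω[A'⁄K])))
    (hψ : DeRham.IsCxMap (KaehlerDifferential.D k A) (KaehlerDifferential.D K A') (algebraMap A A') ψ)
    (hcomm : ∀ (p : ℕ) (x : ↥(⋀[A]^p (Ω[A⁄k]))), ψ (p + 1) (d p x) = d' p (ψ p x))
    (p : ℕ) :
    Submodule.span K (ψ p '' (DeRham.cocycles d p : Set ↥(⋀[A]^p (Ω[A⁄k])))) = DeRham.cocycles d' p ∧
      Submodule.span K (ψ p '' (DeRham.coboundaries d p : Set ↥(⋀[A]^p (Ω[A⁄k])))) =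
        DeRham.coboundaries d' p := by
  classical
  have hrep : ∀ (q : ℕ) (w : ↥(⋀[A']^q (Ω[A'⁄K]))),
      ∃ c : (Module.Basis.ofVectorSpaceIndex k K) →₀ ↥(⋀[A]^q (Ω[A⁄k])),
        w = ∑ i ∈ c.support, (Module.Basis.ofVectorSpace k K i) • ψ q (c i) := by
    intro q w
    obtain ⟨z, rfl⟩ := (Phi_bijective k K A A' ψ hψ q).2 w
    obtain ⟨c, rfl⟩ := TensorProduct.eq_repr_basis_left (Module.Basis.ofVectorSpace k K) z
    refine ⟨c, ?_⟩
    rw [Finsupp.sum, map_sum]
    exact Finset.sum_congr rfl (fun i _ => Phi_tmul k K A A' ψ hψ q _ _)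
  have hinj : ∀ (q : ℕ) (c : (Module.Basis.ofVectorSpaceIndex k K) →₀ ↥(⋀[A]^q (Ω[A⁄k]))),
      ∑ i ∈ c.support, (Module.Basis.ofVectorSpace k K i) • ψ q (c i) = 0 → c = 0 := by
    intro q c hc
    apply TensorProduct.sum_tmul_basis_left_eq_zero (Module.Basis.ofVectorSpace k K) c
    apply (Phi_bijective k K A A' ψ hψ q).1
    rw [map_zero, Finsupp.sum, map_sum, ← hc]
    exact Finset.sum_congr rfl (fun i _ => Phi_tmul k K A A' ψ hψ q _ _)
  constructor
  · apply le_antisymm
    · rw [Submodule.span_le]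
      rintro _ ⟨x, hx, rfl⟩
      show ψ p x ∈ LinearMap.ker (d' p)
      have hx' : d p x = 0 := hx
      rw [LinearMap.mem_ker, ← hcomm, hx', map_zero]
    · intro w hw
      obtain ⟨c, rfl⟩ := hrep p w
      have hw' : d' p (∑ i ∈ c.support, (Module.Basis.ofVectorSpace k K i) • ψ p (c i)) = 0 := hw
      rw [map_sum] at hw'
      have hc0 : c.mapRange (d p) (map_zero _) = 0 := by
        apply hinj (p + 1)
        rw [← hw']
        rw [Finset.sum_subset (Finsupp.support_mapRange)]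
        · refine Finset.sum_congr rfl (fun i _ => ?_)
          rw [Finsupp.mapRange_apply, map_smul, hcomm]
        · intro i _ hi
          rw [Finsupp.notMem_support_iff.mp hi, map_zero, smul_zero]
      refine Submodule.sum_mem _ (fun i _ => Submodule.smul_mem _ _ (Submodule.subset_span ?_))
      refine ⟨c i, ?_, rfl⟩
      have := DFunLike.congr_fun hc0 i
      rw [Finsupp.mapRange_apply] at this
      exact this
  · cases p with
    | zero =>
      apply le_antisymm
      · rw [Submodule.span_le]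
        rintro _ ⟨x, hx, rfl⟩
        have hx' : x = 0 := hx
        rw [hx', map_zero]
        exact zero_mem _
      · show (⊥ : Submodule K _) ≤ _
        exact bot_le
    | succ p =>
      apply le_antisymm
      · rw [Submodule.span_le]
        rintro _ ⟨y, ⟨x, rfl⟩, rfl⟩
        exact ⟨ψ p x, (hcomm p x).symm⟩
      · rintro _ ⟨w, rfl⟩
        obtain ⟨c, rfl⟩ := hrep p w
        rw [map_sum]
        refine Submodule.sum_mem _ (fun i _ => ?_)
        rw [map_smul, ← hcomm]
        exact Submodule.smul_mem _ _ (Submodule.subset_span ⟨d p (c i), ⟨c i, rfl⟩, rfl⟩)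

end Groth.Agent.Lib.Helper9.DRBaseChange
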