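import Mathlib

set_option autoImplicit false

/-!
# Extending derivations along formally étale ring maps (helper9)
-/

universe u

namespace Helper9.DerExt

open KaehlerDifferential

/-- Existence: a `ℤ`-derivation of `A` extends to any formally étale `A`-algebra `B`. -/
theorem exists_der_alg (A B : Type u) [CommRing A] [CommRing B] [Algebra A B]
    [Algebra.FormallyEtale A B] (θ : Derivation ℤ A A) :
    ∃ δ : Derivation ℤ B B, ∀ a : A, δ (algebraMap A B a) = algebraMap A B (θ a) := by
  let θ' : Derivation ℤ A B := (Algebra.linearMap A B).compDer θ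
  let L : Ω[A⁄ℤ] →ₗ[A] B := θ'.liftKaehlerDifferential
  have hbc : IsBaseChange B (KaehlerDifferential.map ℤ ℤ A B) :=
    KaehlerDifferential.isBaseChange_of_formallyEtale ℤ A B
  let L' : Ω[B⁄ℤ] →ₗ[B] B := hbc.lift L
  refine ⟨L'.compDer (KaehlerDifferential.D ℤ B), fun a => ?_⟩
  show L' (KaehlerDifferential.D ℤ B (algebraMap A B a)) = _
  rw [← KaehlerDifferential.map_D ℤ ℤ A B a]
  show hbc.lift L _ = _
  rw [IsBaseChange.lift_eq]
  show θ'.liftKaehlerDifferential (KaehlerDifferential.D ℤ A a) = _
  rw [Derivation.liftKaehlerDifferential_comp_D]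
  rfl

/-- Existence, ring-hom form. -/
theorem exists_der (A B : Type u) [CommRing A] [CommRing B] (ρ : A →+* B)
    (hρ : ρ.FormallyEtale) (θ : Derivation ℤ A A) :
    ∃ δ : B →+ B, (∀ x y : B, δ (x * y) = x * δ y + y * δ x) ∧ ∀ a : A, δ (ρ a) = ρ (θ a) := by
  letI := ρ.toAlgebra
  haveI : Algebra.FormallyEtale A B := hρ
  obtain ⟨δ, hδ⟩ := exists_der_alg A B θ
  refine ⟨(δ : B →ₗ[ℤ] B).toAddMonoidHom, fun x y => ?_, fun a => hδ a⟩
  show δ (x * y) = x * δ y + y * δ x
  rw [Derivation.leibniz, smul_eq_mul, smul_eq_mul]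

/-- Uniqueness: two "derivations along `φ`" `B → C` which agree on `A` are equal, if `B` is
formally unramified over `A`. -/
theorem unique_der (A B C : Type u) [CommRing A] [CommRing B] [CommRing C] (ρ : A →+* B)
    (hρ : ρ.FormallyUnramified) (φ : B →+* C) (d1 d2 : B →+ C)
    (h1 : ∀ x y : B, d1 (x * y) = φ x * d1 y + φ y * d1 x)
    (h2 : ∀ x y : B, d2 (x * y) = φ x * d2 y + φ y * d2 x)
    (h : ∀ a : A, d1 (ρ a) = d2 (ρ a)) : d1 = d2 := by
  letI := ρ.toAlgebra
  haveI : Algebra.FormallyUnramified A B := hρ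
  letI := φ.toAlgebra
  letI : Algebra A C := (φ.comp ρ).toAlgebra
  haveI : IsScalarTower A B C := IsScalarTower.of_algebraMap_eq (fun _ => rfl)
  have hsmulB : ∀ (b : B) (c : C), b • c = φ b * c := fun b c => rfl
  have hsmulA : ∀ (a : A) (c : C), a • c = φ (ρ a) * c := fun a c => rfl
  have hsmulAB : ∀ (a : A) (b : B), a • b = ρ a * b := fun a b => rfl
  let e : B →+ C := d1 - d2
  have he : ∀ x y : B, e (x * y) = φ x * e y + φ y * e x := by
    intro x y
    show d1 (x * y) - d2 (x * y) = φ x * (d1 y - d2 y) + φ y * (d1 x - d2 x)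
    rw [h1, h2]; ring
  have he0 : ∀ a : A, e (ρ a) = 0 := by
    intro a
    show d1 (ρ a) - d2 (ρ a) = 0
    rw [h a, sub_self]
  let E : Derivation A B C :=
    { toFun := e
      map_add' := fun x y => map_add e x y
      map_smul' := fun a b => by
        show e (a • b) = a • e b
        rw [hsmulAB, he, he0, mul_zero, add_zero, hsmulA]
      map_one_eq_zero' := by
        show e 1 = 0
        have := he0 1
        rwa [map_one] at this
      leibniz' := fun x y => by
        show e (x * y) = x • e y + y • e x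
        rw [he, hsmulB, hsmulB] }
  have hE : ∀ b : B, E b = 0 := by
    intro b
    rw [← Derivation.liftKaehlerDifferential_comp_D E b]
    have : KaehlerDifferential.D A B b = 0 := Subsingleton.elim _ _
    rw [this, map_zero]
  ext b
  have := hE b
  have h3 : d1 b - d2 b = 0 := this
  exact sub_eq_zero.mp h3

end Helper9.DerExt
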