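import Mathlib
import Groth.Prelude.Def_Coh
import Groth.Agent.Lib.Helper9.DerExt

set_option autoImplicit false

/-!
# A derivation of `A` acts on the cohomology of the structure sheaf of an étale `A`-scheme
(helper9)
-/

universe u

open CategoryTheory CategoryTheory.Limits AlgebraicGeometry Opposite TopologicalSpace

namespace Helper9.DerCoh

variable {A : Type u} [CommRing A] {V : Scheme.{u}} (f : V ⟶ Spec (CommRingCat.of A))

/-- the presheaf of abelian groups underlying the structure sheaf -/
noncomputable abbrev P (V : Scheme.{u}) : (Opens V)ᵒᵖ ⥤ AddCommGrpCat.{u} :=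
  (Coh.toAb (Coh.structureModule V)).obj

/-- the structure map `A → Γ(V, U)` -/
noncomputable def rho (U : V.Opens) : A →+* Γ(V, U) :=
  (V.presheaf.map (homOfLE (le_top (a := U))).op).hom.comp
    ((f.appTop).hom.comp (Scheme.ΓSpecIso (CommRingCat.of A)).inv.hom)

theorem rho_res {U U' : V.Opens} (h : U' ≤ U) (a : A) :
    (V.presheaf.map (homOfLE h).op).hom (rho f U a) = rho f U' a := by
  show (V.presheaf.map (homOfLE le_top).op ≫ V.presheaf.map (homOfLE h).op).hom _ = _
  rw [← Functor.map_comp]
  rfl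

theorem resTop_toGlobal (U : V.Opens) (a : A) :
    Coh.resTop V (op U) (Coh.toGlobal f a) = rho f U a := rfl

theorem rho_etale [Etale f] (W : V.Opens) (hW : IsAffineOpen W) : (rho f W).Etale := by
  have e : W ≤ f ⁻¹ᵁ ⊤ := le_top
  have h1 : (f.appLE ⊤ W e).hom.Etale := Etale.etale_appLE f (isAffineOpen_top _) hW e
  have h2 : (Scheme.ΓSpecIso (CommRingCat.of A)).inv.hom.Etale :=
    RingHom.Etale.of_bijective
      (ConcreteCategory.bijective_of_isIso (Scheme.ΓSpecIso (CommRingCat.of A)).inv)
  have h3 := RingHom.Etale.stableUnderComposition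
    (Scheme.ΓSpecIso (CommRingCat.of A)).inv.hom (f.appLE ⊤ W e).hom h2 h1
  exact h3

theorem rho_formallyEtale [Etale f] (W : V.Opens) (hW : IsAffineOpen W) :
    (rho f W).FormallyEtale := by
  have h := rho_etale f W hW
  exact @Algebra.Etale.formallyEtale A Γ(V, W) _ _ (rho f W).toAlgebra h

theorem exists_delta [Etale f] (θ : Derivation ℤ A A) (W : V.affineOpens) :
    ∃ δ : Γ(V, W.1) →+ Γ(V, W.1), (∀ x y, δ (x * y) = x * δ y + y * δ x) ∧
      ∀ a, δ (rho f W.1 a) = rho f W.1 (θ a) :=
  Helper9.DerExt.exists_der A Γ(V, W.1) (rho f W.1) (rho_formallyEtale f W.1 W.2) θ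

noncomputable def delta [Etale f] (θ : Derivation ℤ A A) (W : V.affineOpens) :
    Γ(V, W.1) →+ Γ(V, W.1) := (exists_delta f θ W).choose

theorem delta_leib [Etale f] (θ : Derivation ℤ A A) (W : V.affineOpens) (x y : Γ(V, W.1)) :
    delta f θ W (x * y) = x * delta f θ W y + y * delta f θ W x :=
  (exists_delta f θ W).choose_spec.1 x y

theorem delta_rho [Etale f] (θ : Derivation ℤ A A) (W : V.affineOpens) (a : A) :
    delta f θ W (rho f W.1 a) = rho f W.1 (θ a) :=
  (exists_delta f θ W).choose_spec.2 a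

theorem delta_res [Etale f] (θ : Derivation ℤ A A) {W W' : V.affineOpens} (h : W'.1 ≤ W.1)
    (x : Γ(V, W.1)) :
    (V.presheaf.map (homOfLE h).op).hom (delta f θ W x) =
      delta f θ W' ((V.presheaf.map (homOfLE h).op).hom x) := by
  have key := Helper9.DerExt.unique_der A Γ(V, W.1) Γ(V, W'.1) (rho f W.1)
    (rho_etale f W.1 W.2).formallyUnramified (V.presheaf.map (homOfLE h).op).hom
    ((V.presheaf.map (homOfLE h).op).hom.toAddMonoidHom.comp (delta f θ W))
    ((delta f θ W').comp (V.presheaf.map (homOfLE h).op).hom.toAddMonoidHom)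
    (fun x y => by
      show (V.presheaf.map (homOfLE h).op).hom (delta f θ W (x * y)) = _
      rw [delta_leib, map_add, map_mul, map_mul]
      rfl)
    (fun x y => by
      show delta f θ W' ((V.presheaf.map (homOfLE h).op).hom (x * y)) = _
      rw [map_mul, delta_leib]
      rfl)
    (fun a => by
      show (V.presheaf.map (homOfLE h).op).hom (delta f θ W (rho f W.1 a)) =
        delta f θ W' ((V.presheaf.map (homOfLE h).op).hom (rho f W.1 a))
      rw [delta_rho, rho_res, rho_res, delta_rho])
  exact DFunLike.congr_fun key x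

/-- the family of affine opens, as a function -/
abbrev Bas (V : Scheme.{u}) : V.affineOpens → Opens V := fun W => W.1

theorem basis (V : Scheme.{u}) : Opens.IsBasis (Set.range (Bas V)) := by
  have : Set.range (Bas V) = V.affineOpens := Subtype.range_coe
  rw [this]
  exact V.isBasis_affineOpens

noncomputable def alpha [Etale f] (θ : Derivation ℤ A A) :
    (inducedFunctor (Bas V)).op ⋙ P V ⟶ (inducedFunctor (Bas V)).op ⋙ P V where
  app W := AddCommGrpCat.ofHom (delta f θ W.unop)
  naturality W W' g := by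
    ext x
    have h : W'.unop.1 ≤ W.unop.1 := leOfHom g.unop.hom
    exact (delta_res f θ h x).symm

noncomputable def deltaSh [Etale f] (θ : Derivation ℤ A A) :
    Coh.toAb (Coh.structureModule V) ⟶ Coh.toAb (Coh.structureModule V) :=
  ⟨TopCat.Sheaf.restrictHomEquivHom (P V) (Coh.toAb (Coh.structureModule V)) (basis V)
    (alpha f θ)⟩

theorem deltaSh_app [Etale f] (θ : Derivation ℤ A A) (W : V.affineOpens) (x : Γ(V, W.1)) :
    ((deltaSh f θ).hom.app (op W.1)).hom x = delta f θ W x := by
  have := TopCat.Sheaf.extend_hom_app (P V) (Coh.toAb (Coh.structureModule V)) (basis V)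
    (alpha f θ) W
  have h2 : (deltaSh f θ).hom.app (op W.1) = (alpha f θ).app (op W) := this
  rw [h2]
  rfl

theorem leib_sh [Etale f] (θ : Derivation ℤ A A) (a : A) :
    Coh.smulAb (Coh.structureModule V) (Coh.toGlobal f a) ≫ deltaSh f θ =
      Coh.smulAb (Coh.structureModule V) (Coh.toGlobal f (θ a)) +
        deltaSh f θ ≫ Coh.smulAb (Coh.structureModule V) (Coh.toGlobal f a) := by
  apply Sheaf.hom_ext
  apply TopCat.Sheaf.hom_ext (P V) (Coh.toAb (Coh.structureModule V)) (basis V)
  intro W
  apply AddCommGrpCat.hom_ext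
  apply AddMonoidHom.ext
  intro (x : Γ(V, W.1))
  have hd : ∀ y : Γ(V, W.1), ((deltaSh f θ).hom.app (op W.1)).hom y = delta f θ W y :=
    deltaSh_app f θ W
  have goal : ∀ z : Γ(V, W.1), delta f θ W (rho f W.1 a * z) =
      rho f W.1 (θ a) * z + rho f W.1 a * delta f θ W z := by
    intro z
    rw [delta_leib, delta_rho]
    ring
  exact (hd (rho f W.1 a * x)).trans ((goal x).trans
    (congrArg (fun t => rho f W.1 (θ a) * x + rho f W.1 a * t) (hd x).symm))

theorem main (A : Type u) [CommRing A] (V : Scheme.{u}) [V.Over (Spec (CommRingCat.of A))]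
    [Etale (V ↘ Spec (CommRingCat.of A))] (θ : Derivation ℤ A A) (i : ℕ) :
    ∃ D : Coh.HH V (Coh.structureModule V) i →+ Coh.HH V (Coh.structureModule V) i,
      ∀ (a : A) (ξ : Coh.HH V (Coh.structureModule V) i), D (a • ξ) = θ a • ξ + a • D ξ := by
  refine ⟨Sheaf.H.map (deltaSh (V ↘ Spec (CommRingCat.of A)) θ) i, fun a ξ => ?_⟩
  have hsm : ∀ (b : A) (η : Coh.HH V (Coh.structureModule V) i),
      b • η = Sheaf.H.map (Coh.smulAb (Coh.structureModule V)
        (Coh.toGlobal (V ↘ Spec (CommRingCat.of A)) b)) i η := fun b η => rfl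
  rw [hsm, hsm, hsm, ← Sheaf.H.map_comp_apply, leib_sh, Sheaf.H.map_add_apply,
    Sheaf.H.map_comp_apply]

end Helper9.DerCoh
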