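import Mathlib

set_option autoImplicit false

namespace Groth.Agent.Lib.Helper9.LogCartB

open exteriorPower

variable {B : Type*} [CommRing B] {L : Type*} [AddCommGroup L] [Module B L]

/-- Contraction with a linear form on the exterior algebra. -/
noncomputable def cl (φ : Module.Dual B L) : ExteriorAlgebra B L →ₗ[B] ExteriorAlgebra B L :=
  CliffordAlgebra.contractLeft (Q := (0 : QuadraticForm B L)) φ

theorem cl_ι_mul (φ : Module.Dual B L) (a : L) (b : ExteriorAlgebra B L) :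
    cl φ (ExteriorAlgebra.ι B a * b) = φ a • b - ExteriorAlgebra.ι B a * cl φ b :=
  CliffordAlgebra.contractLeft_ι_mul φ a b

theorem cl_one (φ : Module.Dual B L) : cl φ (1 : ExteriorAlgebra B L) = 0 :=
  CliffordAlgebra.contractLeft_one _ φ

theorem one_mem_zero : (1 : ExteriorAlgebra B L) ∈ ⋀[B]^0 L := by
  have := ExteriorAlgebra.ιMulti_range B 0 (M := L) (Set.mem_range_self (Fin.elim0 : Fin 0 → L))
  simpa using this

theorem ι_mul_mem (a : L) (q : ℕ) (y : ExteriorAlgebra B L) (hy : y ∈ ⋀[B]^q L) :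
    ExteriorAlgebra.ι B a * y ∈ ⋀[B]^(q + 1) L := by
  show _ ∈ LinearMap.range (ExteriorAlgebra.ι B) ^ (q + 1)
  rw [pow_succ']
  exact Submodule.mul_mem_mul (LinearMap.mem_range_self _ _) hy

theorem cl_ιMulti_mem (φ : Module.Dual B L) : ∀ (q : ℕ) (v : Fin (q + 1) → L),
    cl φ (ExteriorAlgebra.ιMulti B (q + 1) v) ∈ ⋀[B]^q L := by
  intro q
  induction q with
  | zero =>
    intro v
    rw [ExteriorAlgebra.ιMulti_succ_apply, cl_ι_mul, ExteriorAlgebra.ιMulti_zero_apply, cl_one,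
      mul_zero, sub_zero]
    exact Submodule.smul_mem _ _ one_mem_zero
  | succ q ih =>
    intro v
    rw [ExteriorAlgebra.ιMulti_succ_apply, cl_ι_mul]
    refine Submodule.sub_mem _ (Submodule.smul_mem _ _ ?_) ?_
    · exact ExteriorAlgebra.ιMulti_range B (q + 1) (Set.mem_range_self _)
    · exact ι_mul_mem _ _ _ (ih (Matrix.vecTail v))

theorem cl_mem (φ : Module.Dual B L) (q : ℕ) (x : ExteriorAlgebra B L)
    (hx : x ∈ ⋀[B]^(q + 1) L) : cl φ x ∈ ⋀[B]^q L := by
  rw [← ExteriorAlgebra.ιMulti_span_fixedDegree] at hx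
  induction hx using Submodule.span_induction with
  | mem x hx => obtain ⟨v, rfl⟩ := hx; exact cl_ιMulti_mem φ q v
  | zero => rw [map_zero]; exact Submodule.zero_mem _
  | add x y _ _ hx hy => rw [map_add]; exact Submodule.add_mem _ hx hy
  | smul a x _ hx => rw [map_smul]; exact Submodule.smul_mem _ _ hx

/-- Contraction on graded pieces. -/
noncomputable def cj (φ : Module.Dual B L) (q : ℕ) : ↥(⋀[B]^(q + 1) L) →ₗ[B] ↥(⋀[B]^q L) :=
  (cl φ).restrict (cl_mem φ q)

@[simp] theorem cj_coe (φ : Module.Dual B L) (q : ℕ) (x : ↥(⋀[B]^(q + 1) L)) :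
    ((cj φ q x : ↥(⋀[B]^q L)) : ExteriorAlgebra B L) = cl φ (x : ExteriorAlgebra B L) := rfl

/-- Left multiplication by a vector on graded pieces. -/
noncomputable def ml (a : L) (q : ℕ) : ↥(⋀[B]^q L) →ₗ[B] ↥(⋀[B]^(q + 1) L) :=
  (LinearMap.mulLeft B (ExteriorAlgebra.ι B a)).restrict (fun y hy => ι_mul_mem a q y hy)

@[simp] theorem ml_coe (a : L) (q : ℕ) (x : ↥(⋀[B]^q L)) :
    ((ml a q x : ↥(⋀[B]^(q + 1) L)) : ExteriorAlgebra B L) =
      ExteriorAlgebra.ι B a * (x : ExteriorAlgebra B L) := rfl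

section Setting

variable {R : Type*} [CommRing R] [Algebra R B] [Module R L] [IsScalarTower R B L]
  {κ : Type*} [DecidableEq κ] (w : κ → L)

variable (B) in
/-- The basic wedge monomials. -/
noncomputable def X {k : ℕ} (μ : Fin k → κ) : ↥(⋀[B]^k L) := exteriorPower.ιMulti B k (w ∘ μ)

theorem X_coe_succ {k : ℕ} (μ : Fin (k + 1) → κ) :
    ((X B w μ : ↥(⋀[B]^(k + 1) L)) : ExteriorAlgebra B L) =
      ExteriorAlgebra.ι B (w (μ 0)) * ((X B w (Fin.tail μ) : ↥(⋀[B]^k L)) : ExteriorAlgebra B L) := by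
  rw [X, X, ιMulti_apply_coe, ιMulti_apply_coe, ExteriorAlgebra.ιMulti_succ_apply]
  rfl

theorem X_coe_zero (μ : Fin 0 → κ) :
    ((X B w μ : ↥(⋀[B]^0 L)) : ExteriorAlgebra B L) = 1 := by
  rw [X, ιMulti_apply_coe, ExteriorAlgebra.ιMulti_zero_apply]

theorem ml_X {k : ℕ} (ν : κ) (μ : Fin k → κ) : ml (w ν) k (X B w μ) = X B w (Fin.cons ν μ) := by
  apply Subtype.ext
  rw [ml_coe, X_coe_succ]
  simp

variable (R) in
/-- The `R`-span of the basic wedge monomials. -/
noncomputable def Lam (k : ℕ) : Submodule R ↥(⋀[B]^k L) :=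
  Submodule.span R (Set.range (fun μ : Fin k → κ => X B w μ))

theorem X_mem_Lam {k : ℕ} (μ : Fin k → κ) : X B w μ ∈ Lam R w k :=
  Submodule.subset_span ⟨μ, rfl⟩

theorem ml_Lam (ν : κ) (k : ℕ) (y : ↥(⋀[B]^k L)) (hy : y ∈ Lam R w k) :
    ml (w ν) k y ∈ Lam R w (k + 1) := by
  induction hy using Submodule.span_induction with
  | mem x hx => obtain ⟨μ, rfl⟩ := hx; rw [ml_X]; exact X_mem_Lam w _
  | zero => rw [map_zero]; exact Submodule.zero_mem _
  | add x y _ _ hx hy => rw [map_add]; exact Submodule.add_mem _ hx hy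
  | smul a x _ hx => rw [LinearMap.map_smul_of_tower]; exact Submodule.smul_mem _ _ hx

variable (φ : κ → Module.Dual B L) (hφ : ∀ ν κ', φ ν (w κ') = if κ' = ν then 1 else 0)

include hφ in
theorem exists_cl_X (ν : κ) : ∀ (k : ℕ) (μ : Fin (k + 1) → κ),
    ∃ y ∈ Lam R w k, ((y : ↥(⋀[B]^k L)) : ExteriorAlgebra B L) =
      cl (φ ν) ((X B w μ : ↥(⋀[B]^(k + 1) L)) : ExteriorAlgebra B L) := by
  intro k
  induction k with
  | zero =>
    intro μ
    refine ⟨(if μ 0 = ν then X B w (Fin.tail μ) else 0), ?_, ?_⟩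
    · split_ifs
      · exact X_mem_Lam w _
      · exact Submodule.zero_mem _
    · rw [X_coe_succ, cl_ι_mul, X_coe_zero, cl_one, mul_zero, sub_zero, hφ]
      split_ifs
      · rw [one_smul, X_coe_zero]
      · rw [zero_smul]; rfl
  | succ k ih =>
    intro μ
    obtain ⟨y', hy', hy'e⟩ := ih (Fin.tail μ)
    refine ⟨(if μ 0 = ν then X B w (Fin.tail μ) else 0) - ml (w (μ 0)) k y', ?_, ?_⟩
    · refine Submodule.sub_mem _ ?_ (ml_Lam w _ _ _ hy')
      split_ifs
      · exact X_mem_Lam w _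
      · exact Submodule.zero_mem _
    · rw [X_coe_succ, cl_ι_mul, hφ, Submodule.coe_sub, ml_coe, hy'e]
      congr 1
      split_ifs
      · rw [one_smul]
      · rw [zero_smul]; rfl

include hφ in
theorem cj_Lam (ν : κ) (k : ℕ) (x : ↥(⋀[B]^(k + 1) L)) (hx : x ∈ Lam R w (k + 1)) :
    cj (φ ν) k x ∈ Lam R w k := by
  induction hx using Submodule.span_induction with
  | mem x hx =>
    obtain ⟨μ, rfl⟩ := hx
    obtain ⟨y, hy, hye⟩ := exists_cl_X (R := R) w φ hφ ν k μ
    have : cj (φ ν) k (X B w μ) = y := Subtype.ext (by rw [cj_coe, hye])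
    rw [this]; exact hy
  | zero => rw [map_zero]; exact Submodule.zero_mem _
  | add x y _ _ hx hy => rw [map_add]; exact Submodule.add_mem _ hx hy
  | smul a x _ hx => rw [LinearMap.map_smul_of_tower]; exact Submodule.smul_mem _ _ hx

/-- Number of occurrences of `ν` in `μ`. -/
def cnt {k : ℕ} (ν : κ) (μ : Fin k → κ) : ℕ := ∑ i, if μ i = ν then 1 else 0

theorem cnt_succ {k : ℕ} (ν : κ) (μ : Fin (k + 1) → κ) :
    cnt ν μ = (if μ 0 = ν then 1 else 0) + cnt ν (Fin.tail μ) := by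
  rw [cnt, Fin.sum_univ_succ]
  rfl

include hφ in
theorem nop (ν : κ) : ∀ (k : ℕ) (μ : Fin k → κ),
    ExteriorAlgebra.ι B (w ν) * cl (φ ν) ((X B w μ : ↥(⋀[B]^k L)) : ExteriorAlgebra B L) =
      (cnt ν μ : B) • ((X B w μ : ↥(⋀[B]^k L)) : ExteriorAlgebra B L) := by
  intro k
  induction k with
  | zero =>
    intro μ
    rw [X_coe_zero, cl_one, mul_zero]
    simp [cnt]
  | succ k ih =>
    intro μ
    have hanti : ∀ (a b : L) (y : ExteriorAlgebra B L),
        ExteriorAlgebra.ι B a * (ExteriorAlgebra.ι B b * y) =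
          -(ExteriorAlgebra.ι B b * (ExteriorAlgebra.ι B a * y)) := by
      intro a b y
      rw [← mul_assoc, ← mul_assoc, ← neg_mul, eq_neg_of_add_eq_zero_left
        (ExteriorAlgebra.ι_add_mul_swap a b)]
    rw [X_coe_succ, cl_ι_mul, mul_sub, mul_smul_comm, hanti, ih (Fin.tail μ), cnt_succ, hφ,
      sub_neg_eq_add, mul_smul_comm]
    split_ifs with h
    · rw [h]
      push_cast
      rw [add_smul]
    · push_cast
      rw [zero_smul, zero_add, zero_add]

variable (der : Derivation R B L)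
  (d : ∀ q, ↥(⋀[B]^q L) →ₗ[R] ↥(⋀[B]^(q + 1) L))
  (hrule : ∀ (k : ℕ) (f : B) (μ : Fin k → κ),
    d k (f • X B w μ) = exteriorPower.ιMulti B (k + 1) (Fin.cons (der f) (w ∘ μ)))

include hrule in
theorem rule_coe (k : ℕ) (f : B) (μ : Fin k → κ) :
    ((d k (f • X B w μ) : ↥(⋀[B]^(k + 1) L)) : ExteriorAlgebra B L) =
      ExteriorAlgebra.ι B (der f) * ((X B w μ : ↥(⋀[B]^k L)) : ExteriorAlgebra B L) := by
  rw [hrule, ιMulti_apply_coe, ExteriorAlgebra.ιMulti_succ_apply, X, ιMulti_apply_coe]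
  rfl

include hrule in
theorem rule_Lam (k : ℕ) (y : ↥(⋀[B]^k L)) (hy : y ∈ Lam R w k) (f : B) :
    ((d k (f • y) : ↥(⋀[B]^(k + 1) L)) : ExteriorAlgebra B L) =
      ExteriorAlgebra.ι B (der f) * (y : ExteriorAlgebra B L) := by
  induction hy using Submodule.span_induction with
  | mem x hx => obtain ⟨μ, rfl⟩ := hx; exact rule_coe w der d hrule k f μ
  | zero => simp
  | add x y _ _ hx hy => rw [smul_add, map_add, Submodule.coe_add, hx, hy, Submodule.coe_add, mul_add]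
  | smul a x _ hx =>
    rw [smul_comm f a x, map_smul, Submodule.coe_smul_of_tower, hx, Submodule.coe_smul_of_tower,
      mul_smul_comm]

include hφ in
theorem cl_Lam_zero (ν : κ) (x : ↥(⋀[B]^0 L)) (hx : x ∈ Lam R w 0) :
    cl (φ ν) (x : ExteriorAlgebra B L) = 0 := by
  induction hx using Submodule.span_induction with
  | mem x hx => obtain ⟨μ, rfl⟩ := hx; rw [X_coe_zero, cl_one]
  | zero => simp
  | add x y _ _ hx hy => rw [Submodule.coe_add, map_add, hx, hy, add_zero]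
  | smul a x _ hx =>
    rw [Submodule.coe_smul_of_tower, LinearMap.map_smul_of_tower, hx, smul_zero]

include hφ hrule in
/-- The Lie derivative along `τ • φ ν` in degree zero. -/
theorem Ncomp_zero (ν : κ) (τ : B) (x : ↥(⋀[B]^0 L)) (hx : x ∈ Lam R w 0) (f : B) :
    ((τ • cj (φ ν) 0 (d 0 (f • x)) : ↥(⋀[B]^0 L)) : ExteriorAlgebra B L) =
      (τ * φ ν (der f)) • (x : ExteriorAlgebra B L) := by
  rw [Submodule.coe_smul, cj_coe, rule_Lam w der d hrule 0 x hx f, cl_ι_mul,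
    cl_Lam_zero (R := R) w φ hφ ν x hx, mul_zero, sub_zero, smul_smul]

include hφ hrule in
/-- The Lie derivative along `τ • φ ν` in positive degree. -/
theorem Ncomp_succ (ν : κ) (τ : B) (k : ℕ) (x : ↥(⋀[B]^(k + 1) L)) (hx : x ∈ Lam R w (k + 1))
    (f : B) :
    ((d k (τ • cj (φ ν) k (f • x)) + τ • cj (φ ν) (k + 1) (d (k + 1) (f • x)) :
        ↥(⋀[B]^(k + 1) L)) : ExteriorAlgebra B L) =
      (f • ExteriorAlgebra.ι B (der τ)) * cl (φ ν) (x : ExteriorAlgebra B L) +
        (τ * φ ν (der f)) • (x : ExteriorAlgebra B L) := by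
  have h1 : τ • cj (φ ν) k (f • x) = (τ * f) • cj (φ ν) k x := by
    rw [map_smul, smul_smul]
  rw [Submodule.coe_add, h1, rule_Lam w der d hrule k _ (cj_Lam (R := R) w φ hφ ν k x hx) (τ * f),
    Submodule.coe_smul]
  simp only [cj_coe]
  rw [rule_Lam w der d hrule (k + 1) x hx f, cl_ι_mul,
    Derivation.leibniz, map_add, map_smul, map_smul, smul_sub, smul_smul]
  simp only [add_mul, smul_mul_assoc, mul_smul_comm]
  abel

end Setting

end Groth.Agent.Lib.Helper9.LogCartB
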