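import Mathlib
import Groth.Agent.Lib.Helper9.LogCartB

/-!
# Exterior powers of `M × R`

`⋀^(k+1) (M × R) ≃ ⋀^(k+1) M × ⋀^k M`, and the resulting "stability of the determinant":
if `M × R^r ≃ R^n` then `⋀^(n-r) M ≃ ⋀^n (M × R^r)`.
-/

set_option autoImplicit false

namespace Groth.Agent.Lib.Helper9.ExtSum

open exteriorPower
open Groth.Agent.Lib.Helper9.LogCartB

universe u
variable {R : Type u} [CommRing R] {M : Type u} [AddCommGroup M] [Module R M]

/-- inclusion of exterior algebras induced by `M → M × R` -/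
noncomputable def incl : ExteriorAlgebra R M →ₐ[R] ExteriorAlgebra R (M × R) :=
  ExteriorAlgebra.map (LinearMap.inl R M R)

/-- projection of exterior algebras induced by `M × R → M` -/
noncomputable def proj : ExteriorAlgebra R (M × R) →ₐ[R] ExteriorAlgebra R M :=
  ExteriorAlgebra.map (LinearMap.fst R M R)

/-- the extra vector -/
noncomputable def ee : ExteriorAlgebra R (M × R) := ExteriorAlgebra.ι R ((0 : M), (1 : R))

/-- contraction with the second projection -/
noncomputable def dd : ExteriorAlgebra R (M × R) →ₗ[R] ExteriorAlgebra R (M × R) :=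
  cl (LinearMap.snd R M R)

theorem proj_incl (a : ExteriorAlgebra R M) : proj (incl a) = a := by
  have h : (proj (R := R) (M := M)).comp incl = AlgHom.id R _ := by
    unfold proj incl
    rw [ExteriorAlgebra.map_comp_map, LinearMap.fst_comp_inl, ExteriorAlgebra.map_id]
  exact AlgHom.congr_fun h a

theorem incl_ι (m : M) :
    incl (ExteriorAlgebra.ι R m) = ExteriorAlgebra.ι R ((m, (0 : R)) : M × R) := by
  unfold incl
  rw [ExteriorAlgebra.map_apply_ι]
  rfl

theorem proj_ι (v : M × R) : proj (ExteriorAlgebra.ι R v) = ExteriorAlgebra.ι R v.1 := by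
  unfold proj
  rw [ExteriorAlgebra.map_apply_ι]
  rfl

theorem proj_ee : proj (ee : ExteriorAlgebra R (M × R)) = 0 := by
  unfold ee
  rw [proj_ι]
  exact map_zero _

theorem ee_sq : (ee : ExteriorAlgebra R (M × R)) * ee = 0 := ExteriorAlgebra.ι_sq_zero _

theorem ι_eq (m : M) (t : R) :
    ExteriorAlgebra.ι R ((m, t) : M × R) =
      ExteriorAlgebra.ι R ((m, (0 : R)) : M × R) + t • ee := by
  unfold ee
  rw [← map_smul, ← map_add]
  congr 1
  ext <;> simp

theorem anti (m : M) :
    ExteriorAlgebra.ι R ((m, (0 : R)) : M × R) * ee =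
      - (ee * ExteriorAlgebra.ι R ((m, (0 : R)) : M × R)) :=
  eq_neg_of_add_eq_zero_left (ExteriorAlgebra.ι_add_mul_swap _ _)

theorem dd_algebraMap (r : R) : dd (algebraMap R (ExteriorAlgebra R (M × R)) r) = 0 :=
  CliffordAlgebra.contractLeft_algebraMap _ _ r

theorem dd_ι_mul (v : M × R) (x : ExteriorAlgebra R (M × R)) :
    dd (ExteriorAlgebra.ι R v * x) = v.2 • x - ExteriorAlgebra.ι R v * dd x :=
  cl_ι_mul _ v x

theorem dd_incl (a : ExteriorAlgebra R M) : dd (incl a) = 0 := by
  induction a using CliffordAlgebra.left_induction with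
  | algebraMap r => rw [AlgHom.commutes]; exact dd_algebraMap r
  | add x y hx hy => rw [map_add, map_add, hx, hy, add_zero]
  | ι_mul x m hx =>
    rw [map_mul]
    have h : incl (CliffordAlgebra.ι (0 : QuadraticForm R M) m) =
        ExteriorAlgebra.ι R ((m, (0 : R)) : M × R) := incl_ι m
    rw [h, dd_ι_mul, hx, mul_zero, sub_zero]
    simp

theorem key (m : M) (t : R) (P Q : ExteriorAlgebra R (M × R)) :
    ExteriorAlgebra.ι R ((m, t) : M × R) * (P + ee * Q) =
      ExteriorAlgebra.ι R ((m, (0 : R)) : M × R) * P +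
        ee * (t • P - ExteriorAlgebra.ι R ((m, (0 : R)) : M × R) * Q) := by
  have h1 := anti (R := R) m
  have h2 := ee_sq (R := R) (M := M)
  rw [ι_eq]
  generalize ExteriorAlgebra.ι R ((m, (0 : R)) : M × R) = a at *
  generalize (ee : ExteriorAlgebra R (M × R)) = e at *
  have h3 : a * (e * Q) = - (e * (a * Q)) := by rw [← mul_assoc, h1, neg_mul, mul_assoc]
  have h4 : e * (e * Q) = 0 := by rw [← mul_assoc, h2, zero_mul]
  calc (a + t • e) * (P + e * Q)
      = a * P + a * (e * Q) + t • (e * P) + t • (e * (e * Q)) := by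
        simp only [add_mul, mul_add, smul_mul_assoc]; abel
    _ = a * P + e * (t • P - a * Q) := by
        rw [h3, h4, smul_zero, mul_sub, mul_smul_comm]; abel

theorem decomp (x : ExteriorAlgebra R (M × R)) :
    x = incl (proj x) + ee * incl (proj (dd x)) := by
  induction x using CliffordAlgebra.left_induction with
  | algebraMap r =>
    rw [dd_algebraMap, map_zero, map_zero, mul_zero, add_zero, AlgHom.commutes, AlgHom.commutes]
  | add x y hx hy =>
    rw [map_add, map_add, map_add, map_add, map_add, mul_add]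
    calc x + y = (incl (proj x) + ee * incl (proj (dd x))) +
          (incl (proj y) + ee * incl (proj (dd y))) := congrArg₂ (· + ·) hx hy
      _ = _ := by abel
  | ι_mul x v hx =>
    obtain ⟨m, t⟩ := v
    have hv : CliffordAlgebra.ι (0 : QuadraticForm R (M × R)) (m, t) =
        ExteriorAlgebra.ι R ((m, t) : M × R) := rfl
    rw [hv]
    have h1 : proj (ExteriorAlgebra.ι R ((m, t) : M × R) * x) =
        ExteriorAlgebra.ι R m * proj x := by
      rw [map_mul, proj_ι]
    have h2 : proj (dd (ExteriorAlgebra.ι R ((m, t) : M × R) * x)) =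
        t • proj x - ExteriorAlgebra.ι R m * proj (dd x) := by
      rw [dd_ι_mul, map_sub, map_smul, map_mul, proj_ι]
    rw [h1, h2, map_mul, map_sub, map_smul, map_mul, incl_ι, ← key, ← hx]

theorem incl_mem (k : ℕ) (a : ExteriorAlgebra R M) (ha : a ∈ ⋀[R]^k M) :
    incl a ∈ ⋀[R]^k (M × R) := by
  rw [← ExteriorAlgebra.ιMulti_span_fixedDegree] at ha
  induction ha using Submodule.span_induction with
  | mem x hx =>
    obtain ⟨v, rfl⟩ := hx
    unfold incl
    rw [ExteriorAlgebra.map_apply_ιMulti]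
    exact ExteriorAlgebra.ιMulti_range R k (Set.mem_range_self _)
  | zero => rw [map_zero]; exact Submodule.zero_mem _
  | add x y _ _ hx hy => rw [map_add]; exact Submodule.add_mem _ hx hy
  | smul c x _ hx => rw [map_smul]; exact Submodule.smul_mem _ _ hx

theorem proj_mem (k : ℕ) (a : ExteriorAlgebra R (M × R)) (ha : a ∈ ⋀[R]^k (M × R)) :
    proj a ∈ ⋀[R]^k M := by
  rw [← ExteriorAlgebra.ιMulti_span_fixedDegree] at ha
  induction ha using Submodule.span_induction with
  | mem x hx =>
    obtain ⟨v, rfl⟩ := hx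
    unfold proj
    rw [ExteriorAlgebra.map_apply_ιMulti]
    exact ExteriorAlgebra.ιMulti_range R k (Set.mem_range_self _)
  | zero => rw [map_zero]; exact Submodule.zero_mem _
  | add x y _ _ hx hy => rw [map_add]; exact Submodule.add_mem _ hx hy
  | smul c x _ hx => rw [map_smul]; exact Submodule.smul_mem _ _ hx

theorem dd_ee_incl (b : ExteriorAlgebra R M) : dd (ee * incl b) = incl b := by
  unfold ee
  rw [dd_ι_mul, dd_incl, mul_zero, sub_zero]
  exact one_smul _ _

/-- `⋀^(k+1) (M × R) ≃ ⋀^(k+1) M × ⋀^k M`. -/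
noncomputable def extSucc (k : ℕ) :
    ↥(⋀[R]^(k + 1) (M × R)) ≃ₗ[R] (↥(⋀[R]^(k + 1) M) × ↥(⋀[R]^k M)) where
  toFun x := (⟨proj x.1, proj_mem (k + 1) _ x.2⟩,
    ⟨proj (dd x.1), proj_mem k _ (cl_mem _ k _ x.2)⟩)
  map_add' x y := by
    refine Prod.ext (Subtype.ext ?_) (Subtype.ext ?_)
    · show proj ((x + y : ↥(⋀[R]^(k + 1) (M × R))) : ExteriorAlgebra R (M × R)) =
        proj x.1 + proj y.1
      rw [Submodule.coe_add, map_add]
    · show proj (dd ((x + y : ↥(⋀[R]^(k + 1) (M × R))) : ExteriorAlgebra R (M × R))) =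
        proj (dd x.1) + proj (dd y.1)
      rw [Submodule.coe_add, map_add, map_add]
  map_smul' c x := by
    refine Prod.ext (Subtype.ext ?_) (Subtype.ext ?_)
    · show proj ((c • x : ↥(⋀[R]^(k + 1) (M × R))) : ExteriorAlgebra R (M × R)) =
        c • proj x.1
      rw [Submodule.coe_smul, map_smul]
    · show proj (dd ((c • x : ↥(⋀[R]^(k + 1) (M × R))) : ExteriorAlgebra R (M × R))) =
        c • proj (dd x.1)
      rw [Submodule.coe_smul, map_smul, map_smul]
  invFun y := ⟨incl y.1.1 + ee * incl y.2.1,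
    Submodule.add_mem _ (incl_mem (k + 1) _ y.1.2)
      (ι_mul_mem ((0 : M), (1 : R)) k _ (incl_mem k _ y.2.2))⟩
  left_inv x := Subtype.ext (decomp x.1).symm
  right_inv y := by
    obtain ⟨⟨a, ha⟩, ⟨b, hb⟩⟩ := y
    refine Prod.ext (Subtype.ext ?_) (Subtype.ext ?_)
    · show proj (incl a + ee * incl b) = a
      rw [map_add, map_mul, proj_ee, zero_mul, add_zero, proj_incl]
    · show proj (dd (incl a + ee * incl b)) = b
      rw [map_add, dd_incl, zero_add, dd_ee_incl, proj_incl]

/-- transport of exterior powers along a linear equivalence -/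
noncomputable def extEquiv {M N : Type u} [AddCommGroup M] [Module R M] [AddCommGroup N]
    [Module R N] (e : M ≃ₗ[R] N) (k : ℕ) : ↥(⋀[R]^k M) ≃ₗ[R] ↥(⋀[R]^k N) :=
  LinearEquiv.ofLinear (exteriorPower.map k e.toLinearMap) (exteriorPower.map k e.symm.toLinearMap)
    (by
      rw [← exteriorPower.map_comp]
      have h : e.toLinearMap ∘ₗ e.symm.toLinearMap = LinearMap.id :=
        LinearMap.ext fun x => by simp
      rw [h, exteriorPower.map_id])
    (by
      rw [← exteriorPower.map_comp]
      have h : e.symm.toLinearMap ∘ₗ e.toLinearMap = LinearMap.id :=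
        LinearMap.ext fun x => by simp
      rw [h, exteriorPower.map_id])

theorem subsingleton_snd_of_prod {α β : Type*} [Zero α] (h : Subsingleton (α × β)) :
    Subsingleton β :=
  ⟨fun a b => (Prod.ext_iff.mp (Subsingleton.elim ((0 : α), a) ((0 : α), b))).2⟩

theorem subsingleton_fst_of_prod {α β : Type*} [Zero β] (h : Subsingleton (α × β)) :
    Subsingleton α :=
  ⟨fun a b => (Prod.ext_iff.mp (Subsingleton.elim (a, (0 : β)) (b, (0 : β)))).1⟩

/-- Stability of the determinant: if `⋀^(d+1) (M × R^r) = 0` with `d = k + r`, then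
`⋀^(k+1) M = 0` and `⋀^k M ≃ ⋀^d (M × R^r)`. -/
theorem detStable (r : ℕ) : ∀ (M : Type u) [AddCommGroup M] [Module R M] (k d : ℕ), d = k + r →
    Subsingleton ↥(⋀[R]^(d + 1) (M × (Fin r → R))) →
    Subsingleton ↥(⋀[R]^(k + 1) M) ∧
      Nonempty (↥(⋀[R]^k M) ≃ₗ[R] ↥(⋀[R]^d (M × (Fin r → R)))) := by
  induction r with
  | zero =>
    intro M _ _ k d hd hs
    have hd' : d = k := by omega
    subst hd'
    have e0 : (M × (Fin 0 → R)) ≃ₗ[R] M := LinearEquiv.prodUnique
    exact ⟨(extEquiv e0.symm (d + 1)).toEquiv.subsingleton, ⟨extEquiv e0.symm d⟩⟩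
  | succ r ih =>
    intro M _ _ k d hd hs
    have e1 : ((M × R) × (Fin r → R)) ≃ₗ[R] (M × (Fin (r + 1) → R)) :=
      (LinearEquiv.prodAssoc R M R (Fin r → R)).trans
        (LinearEquiv.prodCongr (LinearEquiv.refl R M)
          (Fin.consLinearEquiv R (fun _ : Fin (r + 1) => R)))
    haveI : Subsingleton ↥(⋀[R]^(d + 1) ((M × R) × (Fin r → R))) :=
      (extEquiv e1 (d + 1)).toEquiv.subsingleton
    obtain ⟨hs', ⟨φ⟩⟩ := ih (M × R) (k + 1) d (by omega) inferInstance
    haveI := hs'
    have hprod : Subsingleton (↥(⋀[R]^(k + 1 + 1) M) × ↥(⋀[R]^(k + 1) M)) :=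
      (extSucc (R := R) (M := M) (k + 1)).symm.toEquiv.subsingleton
    haveI h1 : Subsingleton ↥(⋀[R]^(k + 1) M) := subsingleton_snd_of_prod hprod
    haveI : Unique ↥(⋀[R]^(k + 1) M) := Unique.mk' _
    refine ⟨h1, ⟨?_⟩⟩
    have ψ : ↥(⋀[R]^(k + 1) (M × R)) ≃ₗ[R] ↥(⋀[R]^k M) :=
      (extSucc (R := R) (M := M) k).trans LinearEquiv.uniqueProd
    exact ψ.symm.trans (φ.trans (extEquiv e1 d))

/-- top exterior power of a free module of rank `n` -/
theorem top_of_basis {N : Type*} [AddCommGroup N] [Module R N] {n : ℕ}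
    (b : Module.Basis (Fin n) R N) : Nonempty (↥(⋀[R]^n N) ≃ₗ[R] R) := by
  classical
  haveI : Unique (Set.powersetCard (Fin n) n) :=
    { default := ⟨Finset.univ, by simp [Set.powersetCard]⟩
      uniq := fun s => Subtype.ext ((Finset.card_eq_iff_eq_univ _).mp (by
        have := s.2
        simp only [Set.powersetCard, Set.mem_setOf_eq] at this
        rw [this, Fintype.card_fin])) }
  exact ⟨(b.exteriorPower n).repr.trans (Finsupp.LinearEquiv.finsuppUnique R R _)⟩

/-- exterior powers above the rank vanish -/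
theorem above_top_of_basis {N : Type*} [AddCommGroup N] [Module R N] {n : ℕ}
    (b : Module.Basis (Fin n) R N) : Subsingleton ↥(⋀[R]^(n + 1) N) := by
  classical
  haveI : IsEmpty (Set.powersetCard (Fin n) (n + 1)) :=
    ⟨fun s => by
      have h1 := s.2
      simp only [Set.powersetCard, Set.mem_setOf_eq] at h1
      have h2 := Finset.card_le_univ s.1
      rw [Fintype.card_fin] at h2
      omega⟩
  exact (b.exteriorPower (n + 1)).repr.toEquiv.subsingleton

end Groth.Agent.Lib.Helper9.ExtSum
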