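import Mathlib
import Groth.Agent.Lib.Helper9.ExtSum
import Groth.Agent.Lib.Helper9.QuasiReg

/-!
# `ω_{B/A} ≃ ⋀^(n-r) Ω_{B/A}` for a smooth complete intersection `B = P/(F_1..F_r)`
-/

set_option autoImplicit false

namespace Groth.Agent.Lib.Helper9.DetKaehler

open TensorProduct
open Groth.Agent.Lib.Helper9.ExtSum

universe u

section Cot

variable {S : Type u} [CommRing S]

/-- The conormal module of an ideal generated by a regular sequence is free on the classes of the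
generators. -/
theorem cotangent_equiv {r : ℕ} (F : Fin r → S)
    (hreg : RingTheory.Sequence.IsWeaklyRegular S (List.ofFn F)) (I : Ideal S)
    (hI : I = Ideal.span (Set.range F)) :
    Nonempty (I.Cotangent ≃ₗ[S ⧸ I] (Fin r → S ⧸ I)) := by
  classical
  have hFI : ∀ i, F i ∈ I := fun i => by rw [hI]; exact Ideal.subset_span (Set.mem_range_self i)
  let t : Fin r → I.Cotangent := fun i => I.toCotangent ⟨F i, hFI i⟩
  let φ : (Fin r → S ⧸ I) →ₗ[S ⧸ I] I.Cotangent := Fintype.linearCombination (S ⧸ I) t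
  have hmem : ∀ c : Fin r → S, ∑ i, c i * F i ∈ I := fun c =>
    I.sum_mem (fun i _ => I.mul_mem_left _ (hFI i))
  have hφ : ∀ c : Fin r → S, φ (fun i => Ideal.Quotient.mk I (c i)) =
      I.toCotangent ⟨∑ i, c i * F i, hmem c⟩ := by
    intro c
    rw [Fintype.linearCombination_apply]
    have h1 : (⟨∑ i, c i * F i, hmem c⟩ : I) = ∑ i, c i • (⟨F i, hFI i⟩ : I) := by
      apply Subtype.ext
      simp only [Submodule.coe_sum, Submodule.coe_smul, smul_eq_mul]
    rw [h1, map_sum]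
    refine Finset.sum_congr rfl (fun i _ => ?_)
    rw [map_smul]
    exact algebraMap_smul (S ⧸ I) (c i) (t i)
  have hsurj : Function.Surjective φ := by
    intro x
    obtain ⟨⟨y, hy⟩, rfl⟩ := I.toCotangent_surjective x
    have hy' : y ∈ Ideal.span (Set.range F) := hI ▸ hy
    obtain ⟨c, hc⟩ := (Ideal.mem_span_range_iff_exists_fun).mp hy'
    refine ⟨fun i => Ideal.Quotient.mk I (c i), ?_⟩
    rw [hφ]
    congr 1
    exact Subtype.ext hc
  have hinj : Function.Injective φ := by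
    rw [injective_iff_map_eq_zero]
    intro b hb
    have hc : ∀ i, ∃ c : S, Ideal.Quotient.mk I c = b i :=
      fun i => Ideal.Quotient.mk_surjective (b i)
    choose c hc using hc
    have hb' : b = fun i => Ideal.Quotient.mk I (c i) := funext fun i => (hc i).symm
    rw [hb', hφ, Ideal.toCotangent_eq_zero] at hb
    have hb2 : ∑ i, c i * F i ∈ Ideal.span (Set.range F) ^ (1 + 1) := by rw [← hI]; exact hb
    let Q : MvPolynomial (Fin r) S := ∑ i, MvPolynomial.C (c i) * MvPolynomial.X i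
    have hQh : Q.IsHomogeneous 1 := MvPolynomial.IsHomogeneous.sum _ _ _ (fun i _ => by
      have := (MvPolynomial.isHomogeneous_C (Fin r) (c i)).mul
        (MvPolynomial.isHomogeneous_X S i)
      simpa using this)
    have hQe : MvPolynomial.eval F Q = ∑ i, c i * F i := by simp [Q]
    have hq := Groth.Agent.Lib.Helper9.QuasiReg.quasiRegular_of_isWeaklyRegular F hreg 1 Q hQh
      (by rw [hQe]; exact hb2)
    funext i
    have hci : c i ∈ Ideal.span (Set.range F) := by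
      have := hq (Finsupp.single i 1)
      have hcoef : MvPolynomial.coeff (Finsupp.single i 1) Q = c i := by
        simp [Q, MvPolynomial.coeff_sum, MvPolynomial.coeff_C_mul, MvPolynomial.coeff_X',
          Finsupp.single_left_inj]
      rwa [hcoef] at this
    show b i = 0
    rw [← hc i, Ideal.Quotient.eq_zero_iff_mem, hI]
    exact hci
  exact ⟨(LinearEquiv.ofBijective φ ⟨hinj, hsurj⟩).symm⟩

end Cot

/-- transport of the cotangent module along an equality of ideals -/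
noncomputable def cotEquiv {P : Type u} [CommRing P] (J I : Ideal P) (h : J = I) :
    J.Cotangent ≃ₗ[P] I.Cotangent := by
  subst h; exact LinearEquiv.refl _ _

/-- The conormal sequence of a formally smooth quotient splits. -/
theorem kaehler_split (A : Type u) [CommRing A] (P : Type u) [CommRing P] [Algebra A P]
    [Algebra.FormallySmooth A P] (I : Ideal P) [Algebra.FormallySmooth A (P ⧸ I)] :
    Nonempty (((P ⧸ I) ⊗[P] Ω[P⁄A]) ≃ₗ[P] (I.Cotangent × Ω[(P ⧸ I)⁄A])) := by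
  have hsurj : Function.Surjective (algebraMap P (P ⧸ I)) := Ideal.Quotient.mk_surjective
  obtain ⟨l, hl⟩ := (Algebra.FormallySmooth.iff_split_injection (R := A) (P := P)
    (A := P ⧸ I) hsurj).mp inferInstance
  have hex := KaehlerDifferential.exact_kerCotangentToTensor_mapBaseChange A P (P ⧸ I) hsurj
  have hsj := KaehlerDifferential.mapBaseChange_surjective A P (P ⧸ I) hsurj
  let g : (P ⧸ I) ⊗[P] Ω[P⁄A] →ₗ[P] Ω[(P ⧸ I)⁄A] :=
    (KaehlerDifferential.mapBaseChange A P (P ⧸ I)).restrictScalars P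
  have hex' : Function.Exact (KaehlerDifferential.kerCotangentToTensor A P (P ⧸ I)) g := hex
  have hsj' : Function.Surjective g := hsj
  obtain ⟨e, he⟩ := hex'.splitInjectiveEquiv hsj' ⟨l, hl⟩
  have hker : RingHom.ker (algebraMap P (P ⧸ I)) = I := by
    rw [Ideal.Quotient.algebraMap_eq]; exact Ideal.mk_ker
  exact ⟨e.trans (LinearEquiv.prodCongr (cotEquiv _ _ hker) (LinearEquiv.refl P _))⟩

theorem main_general (A : Type u) [CommRing A] (P : Type u) [CommRing P] [Algebra A P]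
    [Algebra.FormallySmooth A P] (n r : ℕ) (hrn : r ≤ n) (bP : Module.Basis (Fin n) P Ω[P⁄A])
    (F : Fin r → P) (hreg : RingTheory.Sequence.IsWeaklyRegular P (List.ofFn F)) (I : Ideal P)
    (hI : I = Ideal.span (Set.range F)) [Algebra.FormallySmooth A (P ⧸ I)] :
    Nonempty ((Module.Dual (P ⧸ I) (⋀[P ⧸ I]^r I.Cotangent)) ⊗[P ⧸ I]
        ((P ⧸ I) ⊗[P] (⋀[P]^n (Ω[P⁄A])))
      ≃ₗ[P ⧸ I] (⋀[P ⧸ I]^(n - r) (Ω[(P ⧸ I)⁄A]))) := by
  classical
  have hsurj : Function.Surjective (algebraMap P (P ⧸ I)) := Ideal.Quotient.mk_surjective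
  obtain ⟨eA⟩ := cotangent_equiv F hreg I hI
  obtain ⟨eB⟩ := kaehler_split A P I
  let bΩ : Module.Basis (Fin n) (P ⧸ I) ((P ⧸ I) ⊗[P] Ω[P⁄A]) := bP.baseChange (P ⧸ I)
  let e'P : (Ω[(P ⧸ I)⁄A] × (Fin r → P ⧸ I)) ≃ₗ[P] (Fin n → P ⧸ I) :=
    (LinearEquiv.prodComm P _ _).trans
      ((LinearEquiv.prodCongr (eA.restrictScalars P).symm (LinearEquiv.refl P _)).trans
        (eB.symm.trans (bΩ.equivFun.restrictScalars P)))
  let e' : (Ω[(P ⧸ I)⁄A] × (Fin r → P ⧸ I)) ≃ₗ[P ⧸ I] (Fin n → P ⧸ I) :=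
    e'P.extendScalarsOfSurjective hsurj
  let bQ : Module.Basis (Fin n) (P ⧸ I) (Ω[(P ⧸ I)⁄A] × (Fin r → P ⧸ I)) :=
    Module.Basis.ofEquivFun e'
  have hsub : Subsingleton ↥(⋀[P ⧸ I]^(n + 1) (Ω[(P ⧸ I)⁄A] × (Fin r → P ⧸ I))) :=
    above_top_of_basis bQ
  obtain ⟨htop⟩ := top_of_basis bQ
  obtain ⟨-, ⟨ψ⟩⟩ := detStable (R := P ⧸ I) r (Ω[(P ⧸ I)⁄A]) (n - r) n (by omega) hsub
  have eR : ↥(⋀[P ⧸ I]^(n - r) Ω[(P ⧸ I)⁄A]) ≃ₗ[P ⧸ I] (P ⧸ I) := ψ.trans htop
  let bC : Module.Basis (Fin r) (P ⧸ I) I.Cotangent := Module.Basis.ofEquivFun eA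
  obtain ⟨t1⟩ := top_of_basis bC
  obtain ⟨t2⟩ := top_of_basis bP
  have eL1 : Module.Dual (P ⧸ I) ↥(⋀[P ⧸ I]^r I.Cotangent) ≃ₗ[P ⧸ I] (P ⧸ I) :=
    (t1.symm.dualMap).trans (LinearMap.ringLmapEquivSelf (P ⧸ I) (P ⧸ I) (P ⧸ I))
  have eL2 : ((P ⧸ I) ⊗[P] ↥(⋀[P]^n Ω[P⁄A])) ≃ₗ[P ⧸ I] (P ⧸ I) :=
    (TensorProduct.AlgebraTensorModule.congr (LinearEquiv.refl (P ⧸ I) (P ⧸ I)) t2).trans
      (TensorProduct.AlgebraTensorModule.rid P (P ⧸ I) (P ⧸ I))
  exact ⟨((TensorProduct.congr eL1 eL2).trans (TensorProduct.lid (P ⧸ I) (P ⧸ I))).trans eR.symm⟩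

theorem main (A : Type u) [CommRing A]
    (n r : ℕ) (hrn : r ≤ n) (F : Fin r → MvPolynomial (Fin n) A)
    (hreg : RingTheory.Sequence.IsWeaklyRegular (MvPolynomial (Fin n) A) (List.ofFn F))
    (I : Ideal (MvPolynomial (Fin n) A)) (hI : I = Ideal.span (Set.range F))
    [Algebra.Smooth A (MvPolynomial (Fin n) A ⧸ I)] :
    Nonempty ((Module.Dual (MvPolynomial (Fin n) A ⧸ I) (⋀[MvPolynomial (Fin n) A ⧸ I]^r I.Cotangent)) ⊗[MvPolynomial (Fin n) A ⧸ I]
        ((MvPolynomial (Fin n) A ⧸ I) ⊗[MvPolynomial (Fin n) A] (⋀[MvPolynomial (Fin n) A]^n (Ω[MvPolynomial (Fin n) A⁄A])))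
      ≃ₗ[MvPolynomial (Fin n) A ⧸ I] (⋀[MvPolynomial (Fin n) A ⧸ I]^(n - r) (Ω[(MvPolynomial (Fin n) A ⧸ I)⁄A]))) :=
  main_general A (MvPolynomial (Fin n) A) n r hrn (KaehlerDifferential.mvPolynomialBasis A (Fin n))
    F hreg I hI

end Groth.Agent.Lib.Helper9.DetKaehler
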