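import Mathlib
import Groth.Prelude.Def_CAlgX

/-!
# Determinants, derivations and rank factorisation (helper9)

* `deriv_det`: for a derivation `D` and a square matrix `M`,
  `D (det M) = ∑ j a, det (M.updateCol j (Pi.single a 1)) • D (M a j)`.
* `det_updateCol_single_mem`: the cofactors of an `(r+1)`-minor of `Y` lie in the ideal of `r`-minors.
* `minors_vanish`: if an `r`-minor `δ` of `Y` is a unit and all the bordered `(r+1)`-minors around it
  vanish, then all `(r+1)`-minors of `Y` vanish.
* generic matrix: partial derivatives of minors.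
-/

set_option autoImplicit false

universe u

namespace Groth.Agent.Lib.Helper9.DetSmooth

open Matrix

section Deriv

variable {k A N : Type*} [CommRing k] [CommRing A] [Algebra k A] [AddCommGroup N] [Module A N]
  [Module k N] [IsScalarTower k A N]

lemma deriv_prod {ι : Type*} [DecidableEq ι] (D : Derivation k A N) (s : Finset ι) (g : ι → A) :
    D (∏ i ∈ s, g i) = ∑ j ∈ s, (∏ i ∈ s.erase j, g i) • D (g j) := by
  induction s using Finset.induction_on with
  | empty => simp
  | insert a s ha ih =>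
    rw [Finset.prod_insert ha, D.leibniz, ih, Finset.sum_insert ha, Finset.erase_insert ha,
      add_comm (g a • _)]
    congr 1
    rw [Finset.smul_sum]
    refine Finset.sum_congr rfl fun j hj => ?_
    have hja : a ≠ j := fun h => ha (by rw [h]; exact hj)
    rw [Finset.erase_insert_of_ne hja,
      Finset.prod_insert (fun h => ha (Finset.mem_of_mem_erase h)), mul_smul]

theorem deriv_det {ι : Type*} [Fintype ι] [DecidableEq ι] (D : Derivation k A N)
    (M : Matrix ι ι A) :
    D M.det = ∑ j, ∑ a, (M.updateCol j (Pi.single a 1)).det • D (M a j) := by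
  have hupd : ∀ (j a : ι) (σ : Equiv.Perm ι),
      ∏ i, (M.updateCol j (Pi.single a 1)) (σ i) i
        = (if σ j = a then 1 else 0) * ∏ i ∈ Finset.univ.erase j, M (σ i) i := by
    intro j a σ
    rw [← Finset.mul_prod_erase Finset.univ _ (Finset.mem_univ j)]
    congr 1
    · rw [Matrix.updateCol_self, Pi.single_apply]
    · refine Finset.prod_congr rfl fun i hi => ?_
      rw [Matrix.updateCol_ne (Finset.ne_of_mem_erase hi)]
  have hsign : ∀ (u : ℤˣ) (x : A), D (u • x) = u • D x := by
    intro u x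
    rcases Int.units_eq_one_or u with rfl | rfl <;> simp
  have hL : D M.det = ∑ σ : Equiv.Perm ι, ∑ j, Equiv.Perm.sign σ •
      ((∏ i ∈ Finset.univ.erase j, M (σ i) i) • D (M (σ j) j)) := by
    rw [Matrix.det_apply, map_sum]
    refine Finset.sum_congr rfl fun σ _ => ?_
    rw [hsign, deriv_prod, Finset.smul_sum]
  have hR : ∀ j a, (M.updateCol j (Pi.single a 1)).det • D (M a j)
      = ∑ σ : Equiv.Perm ι, if σ j = a then Equiv.Perm.sign σ •
          ((∏ i ∈ Finset.univ.erase j, M (σ i) i) • D (M (σ j) j)) else 0 := by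
    intro j a
    rw [Matrix.det_apply, Finset.sum_smul]
    refine Finset.sum_congr rfl fun σ _ => ?_
    rw [hupd]
    split_ifs with h
    · subst h
      rw [one_mul]
      rcases Int.units_eq_one_or (Equiv.Perm.sign σ) with h1 | h1 <;> simp [h1]
    · simp
  rw [hL, Finset.sum_comm]
  refine Finset.sum_congr rfl fun j _ => ?_
  simp_rw [hR]
  rw [Finset.sum_comm]
  refine Finset.sum_congr rfl fun σ _ => ?_
  rw [Finset.sum_ite_eq]
  simp

end Deriv

section Rank

variable {A : Type u} [CommRing A] {n m r : ℕ}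

lemma det_updateCol_single_mem (Y : Matrix (Fin n) (Fin m) A)
    (f' : Fin (r + 1) → Fin n) (g' : Fin (r + 1) → Fin m) (j a : Fin (r + 1)) :
    ((Y.submatrix f' g').updateCol j (Pi.single a 1)).det ∈ CAlgX.minorIdeal Y r := by
  rw [Matrix.det_succ_column _ j]
  refine Ideal.sum_mem _ fun i _ => Ideal.mul_mem_left _ _ ?_
  have : ((Y.submatrix f' g').updateCol j (Pi.single a 1)).submatrix i.succAbove j.succAbove
      = Y.submatrix (f' ∘ i.succAbove) (g' ∘ j.succAbove) := by
    ext x y
    simp [Fin.succAbove_ne]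
  rw [this]
  exact Ideal.subset_span ⟨(_, _), rfl⟩

/-- bordered index map. -/
def bord {α : Type*} (f : Fin r → α) (i : α) : Fin r ⊕ Fin 1 → α := Sum.elim f (fun _ => i)

@[simp] lemma bord_inl {α : Type*} (f : Fin r → α) (i : α) (a : Fin r) :
    bord f i (Sum.inl a) = f a := rfl

@[simp] lemma bord_inr {α : Type*} (f : Fin r → α) (i : α) (a : Fin 1) :
    bord f i (Sum.inr a) = i := rfl

/-- bordered minor. -/
def bmin (Y : Matrix (Fin n) (Fin m) A) (f : Fin r → Fin n) (g : Fin r → Fin m)
    (i : Fin n) (j : Fin m) : A :=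
  (Y.submatrix (bord f i) (bord g j)).det

lemma bmin_mem (Y : Matrix (Fin n) (Fin m) A) (f : Fin r → Fin n) (g : Fin r → Fin m)
    (i : Fin n) (j : Fin m) : bmin Y f g i j ∈ CAlgX.minorIdeal Y (r + 1) := by
  have : bmin Y f g i j = (Y.submatrix (bord f i ∘ (finSumFinEquiv (m := r) (n := 1)).symm)
      (bord g j ∘ (finSumFinEquiv (m := r) (n := 1)).symm)).det := by
    unfold bmin
    rw [← Matrix.det_submatrix_equiv_self (finSumFinEquiv (m := r) (n := 1)).symm
      (Y.submatrix (bord f i) (bord g j))]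
    rfl
  rw [this]
  exact Ideal.subset_span ⟨(_, _), rfl⟩

lemma bmin_eq_zero_of_row (Y : Matrix (Fin n) (Fin m) A) (f : Fin r → Fin n) (g : Fin r → Fin m)
    (i : Fin n) (j : Fin m) (hi : i ∈ Set.range f) : bmin Y f g i j = 0 := by
  obtain ⟨a, rfl⟩ := hi
  refine Matrix.det_zero_of_row_eq (i := Sum.inl a) (j := Sum.inr 0) (by simp) ?_
  ext b
  simp

lemma bmin_eq_zero_of_col (Y : Matrix (Fin n) (Fin m) A) (f : Fin r → Fin n) (g : Fin r → Fin m)
    (i : Fin n) (j : Fin m) (hj : j ∈ Set.range g) : bmin Y f g i j = 0 := by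
  obtain ⟨b, rfl⟩ := hj
  refine Matrix.det_zero_of_column_eq (i := Sum.inl b) (j := Sum.inr 0) (by simp) ?_
  intro a
  simp

lemma bmin_map {A' : Type u} [CommRing A'] (π : A →+* A') (Y : Matrix (Fin n) (Fin m) A)
    (f : Fin r → Fin n) (g : Fin r → Fin m) (i : Fin n) (j : Fin m) :
    bmin (Y.map π) f g i j = π (bmin Y f g i j) := by
  unfold bmin
  rw [RingHom.map_det]
  rfl

lemma det_mul_thin (E' : Matrix (Fin (r + 1)) (Fin r) A) (W' : Matrix (Fin r) (Fin (r + 1)) A) :
    (E' * W').det = 0 := by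
  have h1 : E' * W' = (Matrix.fromCols E' (0 : Matrix (Fin (r + 1)) (Fin 1) A)) *
      (Matrix.fromRows W' (0 : Matrix (Fin 1) (Fin (r + 1)) A)) := by
    rw [Matrix.fromCols_mul_fromRows]; simp
  have h2 : (Matrix.fromCols E' (0 : Matrix (Fin (r + 1)) (Fin 1) A)) *
      (Matrix.fromRows W' (0 : Matrix (Fin 1) (Fin (r + 1)) A))
      = ((Matrix.fromCols E' (0 : Matrix (Fin (r + 1)) (Fin 1) A)).submatrix id
          (finSumFinEquiv (m := r) (n := 1)).symm) *
        ((Matrix.fromRows W' (0 : Matrix (Fin 1) (Fin (r + 1)) A)).submatrix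
          (finSumFinEquiv (m := r) (n := 1)).symm id) := by
    rw [Matrix.submatrix_mul_equiv]; simp
  rw [h1, h2, Matrix.det_mul]
  have : ((Matrix.fromCols E' (0 : Matrix (Fin (r + 1)) (Fin 1) A)).submatrix id
      (finSumFinEquiv (m := r) (n := 1)).symm).det = 0 := by
    apply Matrix.det_eq_zero_of_column_eq_zero (finSumFinEquiv (Sum.inr 0))
    intro a
    simp
  rw [this, zero_mul]

lemma submatrix_bord (Y : Matrix (Fin n) (Fin m) A) (f : Fin r → Fin n) (g : Fin r → Fin m)
    (i : Fin n) (j : Fin m) :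
    Y.submatrix (bord f i) (bord g j) =
      Matrix.fromBlocks (Y.submatrix f g) (Y.submatrix f (fun _ : Fin 1 => j))
        (Y.submatrix (fun _ : Fin 1 => i) g) (Y.submatrix (fun _ : Fin 1 => i) (fun _ : Fin 1 => j)) := by
  ext (a | a) (b | b) <;> rfl

theorem minors_vanish (Y : Matrix (Fin n) (Fin m) A)
    (f : Fin r → Fin n) (g : Fin r → Fin m) (hδ : IsUnit (Y.submatrix f g).det)
    (h0 : ∀ i j, bmin Y f g i j = 0)
    (f' : Fin (r + 1) → Fin n) (g' : Fin (r + 1) → Fin m) : (Y.submatrix f' g').det = 0 := by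
  haveI : Invertible (Y.submatrix f g) := Matrix.invertibleOfIsUnitDet _ hδ
  have hent : ∀ i j, Y i j =
      ((Y.submatrix (fun _ : Fin 1 => i) g) * ⅟(Y.submatrix f g) *
        (Y.submatrix f (fun _ : Fin 1 => j))) 0 0 := by
    intro i j
    have h1 := h0 i j
    unfold bmin at h1
    rw [submatrix_bord, Matrix.det_fromBlocks₁₁, Matrix.det_fin_one] at h1
    have h2 := (hδ.mul_right_eq_zero).mp h1
    rw [Matrix.sub_apply, sub_eq_zero] at h2
    exact h2
  have hY : Y = ((Y.submatrix id g) * ⅟(Y.submatrix f g)) * (Y.submatrix f id) := by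
    ext i j
    rw [hent i j]
    simp only [Matrix.mul_apply, Matrix.submatrix_apply, id_eq]
  have hsub : Y.submatrix f' g' =
      (((Y.submatrix id g) * ⅟(Y.submatrix f g)).submatrix f' id) *
        ((Y.submatrix f id).submatrix id g') := by
    conv_lhs => rw [hY]
    rw [Matrix.submatrix_mul _ _ f' id g' Function.bijective_id]
  rw [hsub]
  exact det_mul_thin _ _

end Rank

section Generic

open MvPolynomial

variable (k : Type u) [Field k] (n m : ℕ)

/-- the generic matrix. -/
noncomputable def Xm : Matrix (Fin n) (Fin m) (MvPolynomial (Fin n × Fin m) k) :=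
  Matrix.of fun (i : Fin n) (j : Fin m) => (MvPolynomial.X (i, j) : MvPolynomial (Fin n × Fin m) k)

variable {k n m} {r : ℕ}

lemma pderiv_minor_mem (f' : Fin (r + 1) → Fin n) (g' : Fin (r + 1) → Fin m) (v : Fin n × Fin m) :
    pderiv v ((Xm k n m).submatrix f' g').det ∈ CAlgX.minorIdeal (Xm k n m) r := by
  rw [deriv_det]
  refine Ideal.sum_mem _ fun j _ => Ideal.sum_mem _ fun a _ => ?_
  rw [smul_eq_mul]
  exact Ideal.mul_mem_right _ _ (det_updateCol_single_mem _ _ _ _ _)

lemma det_updateCol_inr (Y : Matrix (Fin n) (Fin m) (MvPolynomial (Fin n × Fin m) k))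
    (f : Fin r → Fin n) (g : Fin r → Fin m) (i : Fin n) (j : Fin m) :
    ((Y.submatrix (bord f i) (bord g j)).updateCol (Sum.inr 0) (Pi.single (Sum.inr 0) 1)).det
      = (Y.submatrix f g).det := by
  have : (Y.submatrix (bord f i) (bord g j)).updateCol (Sum.inr 0) (Pi.single (Sum.inr 0) 1)
      = Matrix.fromBlocks (Y.submatrix f g) 0 (Y.submatrix (fun _ : Fin 1 => i) g) 1 := by
    apply Matrix.ext
    rintro (a | a) (b | b)
    · simp
    · have hb : b = 0 := Subsingleton.elim _ _
      subst hb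
      simp
    · simp
    · have ha : a = 0 := Subsingleton.elim _ _
      have hb : b = 0 := Subsingleton.elim _ _
      subst ha hb
      simp
  rw [this, Matrix.det_fromBlocks_zero₁₂, Matrix.det_one, mul_one]

lemma pderiv_bmin (f : Fin r → Fin n) (g : Fin r → Fin m) (i i' : Fin n) (j j' : Fin m)
    (hi' : i' ∉ Set.range f) (hj' : j' ∉ Set.range g) :
    pderiv (i', j') (bmin (Xm k n m) f g i j) =
      if (i, j) = (i', j') then ((Xm k n m).submatrix f g).det else 0 := by
  unfold bmin
  rw [deriv_det]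
  simp only [Fintype.sum_sum_type, Finset.univ_unique, Finset.sum_singleton, Fin.default_eq_zero,
    Matrix.submatrix_apply, bord_inl, bord_inr, Xm, Matrix.of_apply, pderiv_X, Pi.single_apply,
    Prod.mk.injEq, smul_eq_mul]
  have h1 : ∀ a : Fin r, ¬ (f a = i') := fun a h => hi' ⟨a, h⟩
  have h2 : ∀ b : Fin r, ¬ (g b = j') := fun b h => hj' ⟨b, h⟩
  simp only [h1, h2, false_and, and_false, if_false, mul_zero, Finset.sum_const_zero, zero_add,
    add_zero]
  have := det_updateCol_inr (Xm k n m) f g i j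
  simp only [Xm] at this
  rw [this]
  by_cases hij : i = i' ∧ j = j'
  · simp [hij]
  · simp [hij]

lemma minor_castLE_ne_zero (hrn : r ≤ n) (hrm : r ≤ m) :
    ((Xm k n m).submatrix (Fin.castLE hrn) (Fin.castLE hrm)).det ≠ 0 := by
  intro h0
  have h1 := congrArg (MvPolynomial.eval
    (fun v : Fin n × Fin m => if (v.1 : ℕ) = (v.2 : ℕ) then (1 : k) else 0)) h0
  rw [RingHom.map_det, map_zero] at h1
  have h2 : (MvPolynomial.eval
      (fun v : Fin n × Fin m => if (v.1 : ℕ) = (v.2 : ℕ) then (1 : k) else 0)).mapMatrix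
      ((Xm k n m).submatrix (Fin.castLE hrn) (Fin.castLE hrm)) = 1 := by
    ext a b
    simp [Xm, Matrix.one_apply, Fin.ext_iff]
  rw [h2, Matrix.det_one] at h1
  exact one_ne_zero h1

end Generic

end Groth.Agent.Lib.Helper9.DetSmooth
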