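import Mathlib

/-!
# The Jacobian criterion at a prime of `k[σ]/I` (helper9)

For a field `k`, a finite type `σ`, an ideal `I` of `R = k[σ]` and a prime `𝔮` of `R/I` lying over
`𝔭 ⊆ R`:

* `not_smooth`: if `(R/I)_𝔮` is formally smooth over `k` and `I` is generated by elements all of
  whose partial derivatives lie in `𝔭`, then `I R_𝔭 = 0`.
* `smooth_of_jac`: if `I R_𝔭` is generated by `h t ∈ I` (`t : τ`), and there are variables `ι t`
  with `∂ (h t) / ∂ (ι t') = δ_{t t'} u` for some `u ∉ 𝔭`, then `(R/I)_𝔮` is formally smooth over `k`.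

Both come from Mathlib's local Jacobian criterion
`Algebra.FormallySmooth.iff_injective_cotangentComplexBaseChange` for `R_𝔭 → (R/I)_𝔮`.
-/

set_option autoImplicit false

universe u

namespace Groth.Agent.Lib.Helper9.JacPoint

open KaehlerDifferential TensorProduct IsLocalRing MvPolynomial Module

section Abstract

variable {P S : Type*} [CommRing P] [CommRing S] [IsLocalRing P] [IsLocalRing S]
  (φ : P →+* S) (hφ : Function.Surjective φ)

include hφ in
lemma ker_le_abs : RingHom.ker φ ≤ RingHom.ker (IsLocalRing.residue P) := by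
  intro x hx
  rw [RingHom.mem_ker] at hx ⊢
  rw [IsLocalRing.residue_eq_zero_iff, IsLocalRing.mem_maximalIdeal, mem_nonunits_iff]
  intro hu
  have := hu.map φ
  rw [hx] at this
  exact not_isUnit_zero this

/-- the map from a local quotient ring to the residue field of the source. -/
noncomputable def resLift : S →+* ResidueField P :=
  RingHom.liftOfSurjective φ hφ ⟨IsLocalRing.residue P, ker_le_abs φ hφ⟩

lemma resLift_apply (x : P) : resLift φ hφ (φ x) = IsLocalRing.residue P x :=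
  RingHom.liftOfSurjective_comp_apply _ _ _ _

end Abstract

variable {k : Type u} [Field k] {σ : Type} [Fintype σ] [DecidableEq σ]
variable (I : Ideal (MvPolynomial σ k)) (𝔮 : Ideal (MvPolynomial σ k ⧸ I)) [𝔮.IsPrime]

/-- the prime of the polynomial ring below `𝔮`. -/
noncomputable abbrev pp : Ideal (MvPolynomial σ k) := 𝔮.comap (Ideal.Quotient.mk I)

/-- the local ring of the polynomial ring. -/
abbrev PL : Type u := Localization.AtPrime (pp I 𝔮)

/-- the local ring of the quotient. -/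
abbrev SL : Type u := Localization.AtPrime 𝔮

/-- the surjection of local rings. -/
noncomputable def phi : PL I 𝔮 →+* SL I 𝔮 :=
  Localization.localRingHom (pp I 𝔮) 𝔮 (Ideal.Quotient.mk I) rfl

lemma phi_algebraMap (x : MvPolynomial σ k) :
    phi I 𝔮 (algebraMap _ _ x) = algebraMap _ _ (Ideal.Quotient.mk I x) :=
  Localization.localRingHom_to_map _ _ _ _ _

lemma phi_surjective : Function.Surjective (phi I 𝔮) :=
  RingHom.surjective_localRingHom_of_surjective _ Ideal.Quotient.mk_surjective 𝔮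

lemma ker_phi : RingHom.ker (phi I 𝔮) = I.map (algebraMap (MvPolynomial σ k) (PL I 𝔮)) := by
  have hT : Submonoid.map (Ideal.Quotient.mk I) (pp I 𝔮).primeCompl = 𝔮.primeCompl :=
    Submonoid.map_comap_eq_of_surjective Ideal.Quotient.mk_surjective 𝔮.primeCompl
  have := IsLocalization.ker_map (M := (pp I 𝔮).primeCompl) (T := 𝔮.primeCompl) (S := PL I 𝔮)
    (SL I 𝔮) (Ideal.Quotient.mk I) hT
  rw [Ideal.mk_ker] at this
  exact this

attribute [local irreducible] phi

noncomputable local instance algPS : Algebra (PL I 𝔮) (SL I 𝔮) := (phi I 𝔮).toAlgebra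

lemma algebraMap_PS : algebraMap (PL I 𝔮) (SL I 𝔮) = phi I 𝔮 := rfl

lemma ker_alg : RingHom.ker (algebraMap (PL I 𝔮) (SL I 𝔮)) =
    I.map (algebraMap (MvPolynomial σ k) (PL I 𝔮)) := ker_phi I 𝔮

local instance towerkPS : IsScalarTower k (PL I 𝔮) (SL I 𝔮) := by
  refine IsScalarTower.of_algebraMap_eq' ?_
  ext c
  change algebraMap k (SL I 𝔮) c = phi I 𝔮 (algebraMap k (PL I 𝔮) c)
  rw [IsScalarTower.algebraMap_apply k (MvPolynomial σ k) (PL I 𝔮), phi_algebraMap,
    IsScalarTower.algebraMap_apply k (MvPolynomial σ k ⧸ I) (SL I 𝔮)]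
  rfl

local instance etRP : Algebra.FormallyEtale (MvPolynomial σ k) (PL I 𝔮) :=
  Algebra.FormallyEtale.of_isLocalization (pp I 𝔮).primeCompl

local instance smkP : Algebra.FormallySmooth k (PL I 𝔮) :=
  Algebra.FormallySmooth.comp k (MvPolynomial σ k) (PL I 𝔮)

local instance freeP : Module.Free (PL I 𝔮) Ω[PL I 𝔮⁄k] :=
  Module.Free.of_equiv (tensorKaehlerEquivOfFormallyEtale k (MvPolynomial σ k) (PL I 𝔮))

local instance finP : Module.Finite (PL I 𝔮) Ω[PL I 𝔮⁄k] :=
  Module.Finite.equiv (tensorKaehlerEquivOfFormallyEtale k (MvPolynomial σ k) (PL I 𝔮))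

/-- the map from the local ring of the quotient to the residue field of `R_𝔭`. -/
noncomputable def gSK : SL I 𝔮 →+* ResidueField (PL I 𝔮) :=
  resLift (P := PL I 𝔮) (S := SL I 𝔮) (phi I 𝔮) (phi_surjective I 𝔮)

lemma gSK_phi (x : PL I 𝔮) : gSK I 𝔮 (phi I 𝔮 x) = IsLocalRing.residue _ x :=
  resLift_apply (P := PL I 𝔮) (S := SL I 𝔮) (phi I 𝔮) (phi_surjective I 𝔮) x

noncomputable local instance algSK : Algebra (SL I 𝔮) (ResidueField (PL I 𝔮)) :=
  (gSK I 𝔮).toAlgebra

local instance towerPSK : IsScalarTower (PL I 𝔮) (SL I 𝔮) (ResidueField (PL I 𝔮)) :=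
  IsScalarTower.of_algebraMap_eq fun x => (gSK_phi I 𝔮 x).symm

lemma h3 : maximalIdeal (SL I 𝔮) ≤
    RingHom.ker (algebraMap (SL I 𝔮) (ResidueField (PL I 𝔮))) := by
  intro y hy
  obtain ⟨x, rfl⟩ := phi_surjective I 𝔮 y
  rw [RingHom.mem_ker]
  change gSK I 𝔮 (phi I 𝔮 x) = 0
  rw [gSK_phi, IsLocalRing.residue_eq_zero_iff, IsLocalRing.mem_maximalIdeal, mem_nonunits_iff]
  intro hu
  exact ((IsLocalRing.mem_maximalIdeal _).mp hy) (hu.map (phi I 𝔮))

lemma crit : Algebra.FormallySmooth k (SL I 𝔮) ↔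
    Function.Injective (cotangentComplexBaseChange k (SL I 𝔮) (PL I 𝔮)
      (ResidueField (PL I 𝔮))) := by
  refine Algebra.FormallySmooth.iff_injective_cotangentComplexBaseChange (PL I 𝔮)
    (ResidueField (PL I 𝔮)) (phi_surjective I 𝔮) ?_ (h3 I 𝔮)
  rw [ker_alg]
  exact Ideal.FG.map (IsNoetherian.noetherian I) _

/-- coordinates of differentials of `R_𝔭`. -/
noncomputable def coordL (v : σ) : Ω[PL I 𝔮⁄k] →ₗ[PL I 𝔮] PL I 𝔮 :=
  (Finsupp.lapply v) ∘ₗ ((mvPolynomialBasis k σ).baseChange (PL I 𝔮)).repr.toLinearMap ∘ₗ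
    (tensorKaehlerEquivOfFormallyEtale k (MvPolynomial σ k) (PL I 𝔮)).symm.toLinearMap

lemma coordL_D (v : σ) (x : MvPolynomial σ k) :
    coordL I 𝔮 v (D k (PL I 𝔮) (algebraMap _ _ x)) = algebraMap _ _ (pderiv v x) := by
  simp only [coordL, LinearMap.comp_apply, LinearEquiv.coe_coe,
    tensorKaehlerEquivOfFormallyEtale_symm_D_algebraMap, Finsupp.lapply_apply,
    Basis.baseChange_repr_tmul, mvPolynomialBasis_repr_apply]
  rw [Algebra.algebraMap_eq_smul_one]

/-- the basis `d x_v` of the differentials of `R_𝔭`. -/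
noncomputable def bPL : Basis σ (PL I 𝔮) Ω[PL I 𝔮⁄k] :=
  ((mvPolynomialBasis k σ).baseChange (PL I 𝔮)).map
    (tensorKaehlerEquivOfFormallyEtale k (MvPolynomial σ k) (PL I 𝔮))

lemma bPL_repr (ω : Ω[PL I 𝔮⁄k]) (v : σ) : (bPL I 𝔮).repr ω v = coordL I 𝔮 v ω := rfl

lemma one_tmul_eq_zero (ω : Ω[PL I 𝔮⁄k])
    (hω : ∀ v, algebraMap (PL I 𝔮) (ResidueField (PL I 𝔮)) (coordL I 𝔮 v ω) = 0) :
    (1 : ResidueField (PL I 𝔮)) ⊗ₜ[PL I 𝔮] ω = 0 := by
  rw [← (bPL I 𝔮).sum_repr ω, TensorProduct.tmul_sum]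
  refine Finset.sum_eq_zero fun v _ => ?_
  rw [← TensorProduct.smul_tmul, bPL_repr, Algebra.smul_def, hω v, zero_mul,
    TensorProduct.zero_tmul]

/-- coordinate functionals on `K ⊗ Ω`. -/
noncomputable def LamK (v : σ) :
    ResidueField (PL I 𝔮) ⊗[PL I 𝔮] Ω[PL I 𝔮⁄k] →ₗ[ResidueField (PL I 𝔮)]
      ResidueField (PL I 𝔮) :=
  LinearMap.liftBaseChange (ResidueField (PL I 𝔮))
    ((Algebra.linearMap (PL I 𝔮) (ResidueField (PL I 𝔮))) ∘ₗ coordL I 𝔮 v)

lemma LamK_tmul (v : σ) (a : ResidueField (PL I 𝔮)) (ω : Ω[PL I 𝔮⁄k]) :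
    LamK I 𝔮 v (a ⊗ₜ ω) = a * algebraMap _ _ (coordL I 𝔮 v ω) := by
  simp [LamK, LinearMap.liftBaseChange_tmul]

lemma residue_ne_zero {u : MvPolynomial σ k} (hu : u ∉ pp I 𝔮) :
    IsLocalRing.residue (PL I 𝔮) (algebraMap _ _ u) ≠ 0 := by
  rw [Ne, IsLocalRing.residue_eq_zero_iff,
    IsLocalization.AtPrime.to_map_mem_maximal_iff (PL I 𝔮) (pp I 𝔮)]
  exact hu

theorem not_smooth (hsm : Algebra.FormallySmooth k (Localization.AtPrime 𝔮))
    (G : Set (MvPolynomial σ k)) (hG : I = Ideal.span G)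
    (hder : ∀ q ∈ G, ∀ v, pderiv v q ∈ 𝔮.comap (Ideal.Quotient.mk I)) :
    ∀ q ∈ I, ∃ w, w ∉ 𝔮.comap (Ideal.Quotient.mk I) ∧ w * q = 0 := by
  have hinj := (crit I 𝔮).mp hsm
  have hmapG : I.map (algebraMap (MvPolynomial σ k) (PL I 𝔮)) =
      Ideal.span (algebraMap (MvPolynomial σ k) (PL I 𝔮) '' G) := by
    rw [← Ideal.map_span]
    exact congrArg (Ideal.map (algebraMap (MvPolynomial σ k) (PL I 𝔮))) hG
  have key : ∀ b ∈ Ideal.span (algebraMap (MvPolynomial σ k) (PL I 𝔮) '' G),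
      (1 : ResidueField (PL I 𝔮)) ⊗ₜ[PL I 𝔮] (D k (PL I 𝔮) b) = 0 := by
    intro b hb
    refine Submodule.span_induction (p := fun b _ =>
      (1 : ResidueField (PL I 𝔮)) ⊗ₜ[PL I 𝔮] (D k (PL I 𝔮) b) = 0) ?_ ?_ ?_ ?_ hb
    · rintro _ ⟨q, hq, rfl⟩
      refine one_tmul_eq_zero I 𝔮 _ fun v => ?_
      rw [coordL_D, IsLocalRing.ResidueField.algebraMap_eq, IsLocalRing.residue_eq_zero_iff,
        IsLocalization.AtPrime.to_map_mem_maximal_iff (PL I 𝔮) (pp I 𝔮)]
      exact hder q hq v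
    · rw [map_zero, TensorProduct.tmul_zero]
    · intro x y _ _ hx hy
      rw [map_add, TensorProduct.tmul_add, hx, hy, add_zero]
    · intro c x hx ih
      have hxk : algebraMap (PL I 𝔮) (ResidueField (PL I 𝔮)) x = 0 := by
        have hx' : x ∈ RingHom.ker (algebraMap (PL I 𝔮) (SL I 𝔮)) := by
          rw [ker_alg, hmapG]; exact hx
        rw [IsScalarTower.algebraMap_apply (PL I 𝔮) (SL I 𝔮) (ResidueField (PL I 𝔮)),
          (RingHom.mem_ker).mp hx', map_zero]
      rw [smul_eq_mul, Derivation.leibniz, TensorProduct.tmul_add, TensorProduct.tmul_smul, ih,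
        smul_zero, zero_add, ← TensorProduct.smul_tmul, Algebra.smul_def, hxk, zero_mul,
        TensorProduct.zero_tmul]
  have hzero : ∀ x : ResidueField (PL I 𝔮) ⊗[PL I 𝔮]
      RingHom.ker (algebraMap (PL I 𝔮) (SL I 𝔮)), x = 0 := by
    intro x
    apply hinj
    rw [map_zero]
    induction x using TensorProduct.induction_on with
    | zero => rw [map_zero]
    | tmul a b =>
      have hb : (b : PL I 𝔮) ∈ Ideal.span (algebraMap (MvPolynomial σ k) (PL I 𝔮) '' G) := by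
        rw [← hmapG, ← ker_alg]; exact b.2
      rw [cotangentComplexBaseChange_tmul, kerToTensor_apply, key _ hb, smul_zero]
    | add x y hx hy => rw [map_add, hx, hy, add_zero]
  have hsub : Subsingleton (ResidueField (PL I 𝔮) ⊗[PL I 𝔮]
      RingHom.ker (algebraMap (PL I 𝔮) (SL I 𝔮))) := ⟨fun a b => by rw [hzero a, hzero b]⟩
  haveI : Module.Finite (PL I 𝔮) (RingHom.ker (algebraMap (PL I 𝔮) (SL I 𝔮))) := by
    apply Module.Finite.of_fg
    rw [ker_alg]
    exact Ideal.FG.map (IsNoetherian.noetherian I) _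
  have hsub2 : Subsingleton (RingHom.ker (algebraMap (PL I 𝔮) (SL I 𝔮))) :=
    (IsLocalRing.subsingleton_tensorProduct (R := PL I 𝔮)
      (M := RingHom.ker (algebraMap (PL I 𝔮) (SL I 𝔮)))).mp hsub
  intro q hq
  have hq0 : algebraMap (MvPolynomial σ k) (PL I 𝔮) q = 0 := by
    have hmem : algebraMap _ (PL I 𝔮) q ∈ RingHom.ker (algebraMap (PL I 𝔮) (SL I 𝔮)) := by
      rw [ker_alg]; exact Ideal.mem_map_of_mem _ hq
    exact congrArg Subtype.val
      (Subsingleton.elim (⟨_, hmem⟩ : RingHom.ker (algebraMap (PL I 𝔮) (SL I 𝔮))) 0)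
  obtain ⟨w, hw⟩ := (IsLocalization.map_eq_zero_iff (pp I 𝔮).primeCompl (PL I 𝔮) q).mp hq0
  exact ⟨w.1, w.2, hw⟩

theorem smooth_of_jac {τ : Type} [Fintype τ] [DecidableEq τ] (h : τ → MvPolynomial σ k)
    (ι : τ → σ) (u : MvPolynomial σ k)
    (hI : ∀ t, h t ∈ I) (hu : u ∉ 𝔮.comap (Ideal.Quotient.mk I))
    (hgen : ∀ q ∈ I, ∃ w, w ∉ 𝔮.comap (Ideal.Quotient.mk I) ∧
      w * q ∈ Ideal.span (Set.range h))
    (hjac : ∀ t t', pderiv (ι t') (h t) = if t = t' then u else 0) :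
    Algebra.FormallySmooth k (Localization.AtPrime 𝔮) := by
  rw [crit I 𝔮]
  have hker : ∀ t, algebraMap (MvPolynomial σ k) (PL I 𝔮) (h t) ∈
      RingHom.ker (algebraMap (PL I 𝔮) (SL I 𝔮)) := by
    intro t
    rw [ker_alg]
    exact Ideal.mem_map_of_mem _ (hI t)
  let g : τ → RingHom.ker (algebraMap (PL I 𝔮) (SL I 𝔮)) := fun t => ⟨_, hker t⟩
  have hle : I.map (algebraMap (MvPolynomial σ k) (PL I 𝔮)) ≤
      Ideal.span (Set.range fun t => algebraMap (MvPolynomial σ k) (PL I 𝔮) (h t)) := by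
    rw [Ideal.map_le_iff_le_comap]
    intro q hq
    obtain ⟨w, hw, hwq⟩ := hgen q hq
    have hunit : IsUnit (algebraMap (MvPolynomial σ k) (PL I 𝔮) w) :=
      IsLocalization.map_units _ (⟨w, hw⟩ : (pp I 𝔮).primeCompl)
    have h1 : algebraMap _ (PL I 𝔮) (w * q) ∈
        Ideal.span (Set.range fun t => algebraMap (MvPolynomial σ k) (PL I 𝔮) (h t)) := by
      have := Ideal.mem_map_of_mem (algebraMap (MvPolynomial σ k) (PL I 𝔮)) hwq
      rwa [Ideal.map_span, ← Set.range_comp] at this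
    rw [map_mul] at h1
    exact (Ideal.unit_mul_mem_iff_mem _ hunit).mp h1
  have hspan : Submodule.span (PL I 𝔮) (Set.range g) = ⊤ := by
    apply Submodule.map_injective_of_injective
      (Submodule.injective_subtype (RingHom.ker (algebraMap (PL I 𝔮) (SL I 𝔮))))
    rw [Submodule.map_span, Submodule.map_subtype_top, ← Set.range_comp]
    refine le_antisymm (Submodule.span_le.mpr ?_) ?_
    · rintro _ ⟨t, rfl⟩
      exact (g t).2
    · intro x hx
      rw [ker_alg] at hx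
      exact hle hx
  have htop : Submodule.span (ResidueField (PL I 𝔮))
      (Set.range fun t => (1 : ResidueField (PL I 𝔮)) ⊗ₜ[PL I 𝔮] g t) = ⊤ := by
    have := Submodule.baseChange_span (R := PL I 𝔮) (A := ResidueField (PL I 𝔮)) (Set.range g)
    rw [hspan, Submodule.baseChange_top, ← Set.range_comp] at this
    exact this.symm
  rw [injective_iff_map_eq_zero]
  intro x hx
  have hxmem : x ∈ Submodule.span (ResidueField (PL I 𝔮))
      (Set.range fun t => (1 : ResidueField (PL I 𝔮)) ⊗ₜ[PL I 𝔮] g t) := by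
    rw [htop]; trivial
  obtain ⟨c, rfl⟩ := (Submodule.mem_span_range_iff_exists_fun _).mp hxmem
  have hc : ∀ t', c t' = 0 := by
    intro t'
    have h1 := congrArg (LamK I 𝔮 (ι t')) hx
    rw [map_sum, map_sum, map_zero] at h1
    have h2 : ∀ t, LamK I 𝔮 (ι t') (cotangentComplexBaseChange k (SL I 𝔮) (PL I 𝔮)
        (ResidueField (PL I 𝔮)) (c t • (1 : ResidueField (PL I 𝔮)) ⊗ₜ[PL I 𝔮] g t)) =
        if t = t' then c t * IsLocalRing.residue _ (algebraMap _ (PL I 𝔮) u) else 0 := by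
      intro t
      rw [map_smul, map_smul, cotangentComplexBaseChange_tmul, one_smul, kerToTensor_apply,
        LamK_tmul, one_mul]
      change c t • algebraMap _ _ (coordL I 𝔮 (ι t')
        (D k (PL I 𝔮) (algebraMap _ _ (h t)))) = _
      rw [coordL_D, hjac, smul_eq_mul]
      split_ifs
      · rfl
      · rw [map_zero, map_zero, mul_zero]
    simp_rw [h2] at h1
    rw [Finset.sum_ite_eq' Finset.univ t'] at h1
    simp only [Finset.mem_univ, if_true] at h1
    exact (mul_eq_zero.mp h1).resolve_right (residue_ne_zero I 𝔮 hu)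
  exact Finset.sum_eq_zero fun t _ => by rw [hc t]; exact zero_smul (ResidueField (PL I 𝔮)) _

end Groth.Agent.Lib.Helper9.JacPoint
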