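import Mathlib
import Groth.Prelude.Def_CAlgX
import Groth.Agent.Lib.Helper9.DetSmoothA
import Groth.Agent.Lib.Helper9.JacPoint

/-!
# Smooth locus of the generic determinantal variety (helper9)
-/

set_option autoImplicit false

universe u

namespace Groth.Agent.Lib.Helper9.DetSmooth

open Matrix MvPolynomial

variable {k : Type u} [Field k] {n m r : ℕ}

/-- around a nonvanishing `r`-minor, the ideal of `(r+1)`-minors is generated by the bordered minors
outside the hook. -/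
lemma gen_of_minor (f : Fin r → Fin n) (g : Fin r → Fin m)
    (𝔭 : Ideal (MvPolynomial (Fin n × Fin m) k)) [𝔭.IsPrime]
    (hδ : ((Xm k n m).submatrix f g).det ∉ 𝔭) :
    ∀ q ∈ CAlgX.minorIdeal (Xm k n m) (r + 1), ∃ w, w ∉ 𝔭 ∧
      w * q ∈ Ideal.span (Set.range fun t : {t : Fin n × Fin m //
        t.1 ∉ Set.range f ∧ t.2 ∉ Set.range g} => bmin (Xm k n m) f g t.1.1 t.1.2) := by
  classical
  obtain ⟨δ, hδdef⟩ : ∃ δ, δ = ((Xm k n m).submatrix f g).det := ⟨_, rfl⟩
  rw [← hδdef] at hδ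
  obtain ⟨H, hH⟩ : ∃ H, H = Ideal.span (Set.range fun t : {t : Fin n × Fin m //
        t.1 ∉ Set.range f ∧ t.2 ∉ Set.range g} => bmin (Xm k n m) f g t.1.1 t.1.2) := ⟨_, rfl⟩
  rw [← hH]
  let Rδ := Localization.Away δ
  let H' : Ideal Rδ := H.map (algebraMap (MvPolynomial (Fin n × Fin m) k) Rδ)
  let π : MvPolynomial (Fin n × Fin m) k →+* Rδ ⧸ H' :=
    (Ideal.Quotient.mk H').comp (algebraMap (MvPolynomial (Fin n × Fin m) k) Rδ)
  have hπ : ∀ x, π x = 0 ↔ algebraMap (MvPolynomial (Fin n × Fin m) k) Rδ x ∈ H' := by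
    intro x
    exact Ideal.Quotient.eq_zero_iff_mem
  have hunit : IsUnit (((Xm k n m).map π).submatrix f g).det := by
    have h1 : (((Xm k n m).map π).submatrix f g).det = π δ := by
      have h2 := RingHom.map_det π ((Xm k n m).submatrix f g)
      rw [← hδdef] at h2
      exact h2.symm
    rw [h1]
    exact (IsLocalization.Away.algebraMap_isUnit (S := Rδ) δ).map (Ideal.Quotient.mk H')
  have h0 : ∀ i j, bmin ((Xm k n m).map π) f g i j = 0 := by
    intro i j
    rw [bmin_map]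
    by_cases hi : i ∈ Set.range f
    · rw [bmin_eq_zero_of_row _ _ _ _ _ hi, map_zero]
    by_cases hj : j ∈ Set.range g
    · rw [bmin_eq_zero_of_col _ _ _ _ _ hj, map_zero]
    rw [hπ]
    refine Ideal.mem_map_of_mem _ ?_
    rw [hH]
    exact Ideal.subset_span ⟨⟨(i, j), hi, hj⟩, rfl⟩
  have hvan := minors_vanish ((Xm k n m).map π) f g hunit h0
  have hle : CAlgX.minorIdeal (Xm k n m) (r + 1) ≤
      H'.comap (algebraMap (MvPolynomial (Fin n × Fin m) k) Rδ) := by
    unfold CAlgX.minorIdeal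
    rw [Ideal.span_le]
    rintro _ ⟨fg, rfl⟩
    rw [SetLike.mem_coe, Ideal.mem_comap, ← hπ, RingHom.map_det]
    exact hvan fg.1 fg.2
  intro q hq
  have hq' := hle hq
  rw [Ideal.mem_comap] at hq'
  obtain ⟨w, ⟨N, rfl⟩, hw⟩ :=
    (IsLocalization.algebraMap_mem_map_algebraMap_iff (Submonoid.powers δ) Rδ H q).mp hq'
  exact ⟨δ ^ N, fun h => hδ (Ideal.IsPrime.mem_of_pow_mem inferInstance N h), hw⟩

theorem main (k : Type u) [Field k] (n m r : ℕ) (_hr0 : 0 < r) (hr : r < min n m)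
    (P : PrimeSpectrum (MvPolynomial (Fin n × Fin m) k ⧸
      CAlgX.minorIdeal (Xm k n m) (r + 1))) :
    P ∈ Algebra.smoothLocus k (MvPolynomial (Fin n × Fin m) k ⧸
        CAlgX.minorIdeal (Xm k n m) (r + 1)) ↔
      ¬ (CAlgX.minorIdeal (Xm k n m) r).map
          (Ideal.Quotient.mk (CAlgX.minorIdeal (Xm k n m) (r + 1))) ≤ P.asIdeal := by
  classical
  have hrn : r + 1 ≤ n := lt_of_lt_of_le hr (min_le_left _ _)
  have hrm : r + 1 ≤ m := lt_of_lt_of_le hr (min_le_right _ _)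
  change Algebra.FormallySmooth k (Localization.AtPrime P.asIdeal) ↔ _
  constructor
  · intro hsm hle
    have hJ : CAlgX.minorIdeal (Xm k n m) r ≤
        P.asIdeal.comap (Ideal.Quotient.mk (CAlgX.minorIdeal (Xm k n m) (r + 1))) :=
      Ideal.map_le_iff_le_comap.mp hle
    have hq0 : ((Xm k n m).submatrix (Fin.castLE hrn) (Fin.castLE hrm)).det ∈
        CAlgX.minorIdeal (Xm k n m) (r + 1) :=
      Ideal.subset_span ⟨(_, _), rfl⟩
    obtain ⟨w, hw, hwq⟩ := JacPoint.not_smooth (CAlgX.minorIdeal (Xm k n m) (r + 1)) P.asIdeal hsm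
      (Set.range fun fg : (Fin (r + 1) → Fin n) × (Fin (r + 1) → Fin m) =>
        Matrix.det ((Xm k n m).submatrix fg.1 fg.2)) rfl
      (by
        rintro _ ⟨fg, rfl⟩ v
        exact hJ (pderiv_minor_mem fg.1 fg.2 v)) _ hq0
    rcases mul_eq_zero.mp hwq with h | h
    · exact hw (h ▸ Ideal.zero_mem _)
    · exact minor_castLE_ne_zero hrn hrm h
  · intro hnle
    have hex : ∃ fg : (Fin r → Fin n) × (Fin r → Fin m),
        Ideal.Quotient.mk (CAlgX.minorIdeal (Xm k n m) (r + 1))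
          (Matrix.det ((Xm k n m).submatrix fg.1 fg.2)) ∉ P.asIdeal := by
      by_contra hcon
      push Not at hcon
      apply hnle
      unfold CAlgX.minorIdeal
      rw [Ideal.map_span, Ideal.span_le]
      rintro _ ⟨_, ⟨fg, rfl⟩, rfl⟩
      exact hcon fg
    obtain ⟨⟨f, g⟩, hδ⟩ := hex
    have hδ' : ((Xm k n m).submatrix f g).det ∉
        P.asIdeal.comap (Ideal.Quotient.mk (CAlgX.minorIdeal (Xm k n m) (r + 1))) := hδ
    refine JacPoint.smooth_of_jac (CAlgX.minorIdeal (Xm k n m) (r + 1)) P.asIdeal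
      (τ := {t : Fin n × Fin m // t.1 ∉ Set.range f ∧ t.2 ∉ Set.range g})
      (fun t => bmin (Xm k n m) f g t.1.1 t.1.2) (fun t => t.1)
      ((Xm k n m).submatrix f g).det ?_ hδ' ?_ ?_
    · intro t
      exact bmin_mem _ _ _ _ _
    · exact gen_of_minor f g _ hδ'
    · rintro ⟨⟨i, j⟩, hi, hj⟩ ⟨⟨i', j'⟩, hi', hj'⟩
      rw [pderiv_bmin f g i i' j j' hi' hj']
      by_cases hh : (i, j) = (i', j')
      · simp [hh]
      · simp [hh]

end Groth.Agent.Lib.Helper9.DetSmooth
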