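import Mathlib

set_option autoImplicit false

namespace Groth.Agent.Lib.Helper9.DieudHom

open Module

universe u v w

section general

variable {R : Type u} [CommRing R] [IsDomain R] [IsPrincipalIdealRing R]
  {M : Type v} [AddCommGroup M] [Module R M] [Module.Free R M] [Module.Finite R M]
  {N : Type w} [AddCommGroup N] [Module R N]

/-- adapted basis for a submodule `M'` with `π M ≤ M' ≤ M`, `π` irreducible. -/
theorem exists_adapted_basis (π : R) (hπ : Irreducible π) (M' : Submodule R M)
    (hM' : ∀ m : M, π • m ∈ M') :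
    ∃ (ι : Type v) (_ : Fintype ι) (b : Basis ι R M) (S : Finset ι),
      (∀ i ∈ S, b i ∈ M') ∧ (∀ m : M, m ∈ M' ↔ ∀ i, i ∉ S → π ∣ b.repr m i) := by
  classical
  let ι := Module.Free.ChooseBasisIndex R M
  let b₀ : Basis ι R M := Module.Free.chooseBasis R M
  have hrank : Module.finrank R M' = Module.finrank R M := by
    apply le_antisymm (Submodule.finrank_le M')
    let φ : M →ₗ[R] M' := (LinearMap.lsmul R M π).codRestrict M' hM'
    have hφ : Function.Injective φ := by
      intro x y hxy
      have h1 : π • x = π • y := congrArg Subtype.val hxy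
      have h2 : ∀ i, b₀.repr x i = b₀.repr y i := by
        intro i
        have h3 := congrArg (fun z => b₀.repr z i) h1
        simp only [map_smul, Finsupp.smul_apply, smul_eq_mul] at h3
        exact mul_left_cancel₀ hπ.ne_zero h3
      apply b₀.repr.injective
      ext i
      exact h2 i
    exact LinearMap.finrank_le_finrank_of_injective hφ
  obtain ⟨b, a, ab, hab⟩ := Submodule.exists_smith_normal_form_of_rank_eq b₀ hrank
  have repr_coe : ∀ (x : M') (i : ι), b.repr (x : M) i = a i * ab.repr x i := by
    intro x i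
    conv_lhs => rw [← ab.sum_repr x]
    rw [Submodule.coe_sum, map_sum, Finsupp.coe_finset_sum, Finset.sum_apply,
      Finset.sum_eq_single i]
    · rw [Submodule.coe_smul, hab, map_smul, map_smul, Basis.repr_self]
      simp [mul_comm]
    · intro j _ hji
      rw [Submodule.coe_smul, hab, map_smul, map_smul, Basis.repr_self]
      simp [Finsupp.single_apply, hji]
    · intro h; exact absurd (Finset.mem_univ i) h
  have ha : ∀ i, a i ∣ π := by
    intro i
    have h1 := repr_coe ⟨π • b i, hM' _⟩ i
    simp only [map_smul, Basis.repr_self, Finsupp.smul_apply, Finsupp.single_eq_same,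
      smul_eq_mul, mul_one] at h1
    exact ⟨_, h1⟩
  have ha' : ∀ i, ¬ IsUnit (a i) → π ∣ a i := by
    intro i hi
    obtain ⟨c, hc⟩ := ha i
    rcases hπ.isUnit_or_isUnit hc with h | h
    · exact absurd h hi
    · obtain ⟨u, rfl⟩ := h
      exact ⟨(↑u⁻¹ : R), by rw [hc, mul_assoc, Units.mul_inv, mul_one]⟩
  have hbS : ∀ i, IsUnit (a i) → b i ∈ M' := by
    intro i hi
    obtain ⟨u, hu⟩ := hi
    have h1 : b i = (↑u⁻¹ : R) • (ab i : M) := by
      rw [hab, ← hu, smul_smul, Units.inv_mul, one_smul]
    rw [h1]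
    exact M'.smul_mem _ (ab i).2
  refine ⟨ι, inferInstance, b, Finset.univ.filter (fun i => IsUnit (a i)), ?_, ?_⟩
  · intro i hi
    exact hbS i (Finset.mem_filter.mp hi).2
  · intro m
    constructor
    · intro hm i hi
      have hi' : ¬ IsUnit (a i) := by
        intro h; exact hi (Finset.mem_filter.mpr ⟨Finset.mem_univ _, h⟩)
      have h1 := repr_coe ⟨m, hm⟩ i
      simp only at h1
      rw [h1]
      exact Dvd.dvd.mul_right (ha' i hi') _
    · intro hm
      rw [← b.sum_repr m]
      apply Submodule.sum_mem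
      intro i _
      by_cases hi : IsUnit (a i)
      · exact M'.smul_mem _ (hbS i hi)
      · have hi' : i ∉ Finset.univ.filter (fun i => IsUnit (a i)) := by
          intro h; exact hi (Finset.mem_filter.mp h).2
        obtain ⟨c, hc⟩ := hm i hi'
        rw [hc, mul_smul]
        exact hM' _

/-- Decomposition of elements of `M'` in an adapted basis. -/
theorem exists_decomp {ι : Type*} [Fintype ι] (π : R) (M' : Submodule R M) (b : Basis ι R M)
    (S : Finset ι) (hmem : ∀ m : M, m ∈ M' ↔ ∀ i, i ∉ S → π ∣ b.repr m i) (x : M)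
    (hx : x ∈ M') :
    ∃ (m : M), x = (∑ i ∈ S, b.repr x i • b i) + π • m := by
  classical
  have h1 := (hmem x).mp hx
  choose! c hc using h1
  refine ⟨∑ i ∈ Sᶜ, c i • b i, ?_⟩
  conv_lhs => rw [← b.sum_repr x, ← Finset.sum_add_sum_compl S]
  congr 1
  rw [Finset.smul_sum]
  apply Finset.sum_congr rfl
  intro i hi
  rw [hc i (Finset.mem_compl.mp hi), mul_smul]

theorem exists_lift (π : R) (hπ : Irreducible π) (M' : Submodule R M)
    (hM' : ∀ m : M, π • m ∈ M')
    (N' : Submodule R N) (hN' : ∀ n : N, π • n ∈ N')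
    (g : M' →ₗ[R] N ⧸ N') (hg : ∀ m : M, g ⟨π • m, hM' m⟩ = 0) :
    ∃ h : M →ₗ[R] N, ∀ x : M', N'.mkQ (h x) = g x := by
  classical
  obtain ⟨ι, _, b, S, hS, hmem⟩ := exists_adapted_basis π hπ M' hM'
  let t : ι → N := fun i =>
    if hi : i ∈ S then (N'.mkQ_surjective (g ⟨b i, hS i hi⟩)).choose else 0
  have ht : ∀ i (hi : i ∈ S), N'.mkQ (t i) = g ⟨b i, hS i hi⟩ := by
    intro i hi
    simp only [t, dif_pos hi]
    exact (N'.mkQ_surjective _).choose_spec
  refine ⟨b.constr R t, ?_⟩
  intro x
  obtain ⟨m, hm⟩ := exists_decomp π M' b S hmem x.1 x.2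
  -- the element `y`
  let y : M' := ∑ i ∈ S.attach, b.repr x.1 i.1 • ⟨b i.1, hS i.1 i.2⟩
  have hy : (y : M) = ∑ i ∈ S, b.repr x.1 i • b i := by
    simp only [y, Submodule.coe_sum, Submodule.coe_smul]
    exact Finset.sum_attach S (fun i => b.repr x.1 i • b i)
  have hxy : x = y + ⟨π • m, hM' m⟩ := by
    apply Subtype.ext
    rw [Submodule.coe_add, hy]
    exact hm
  have hkill : ∀ z : N ⧸ N', π • z = 0 := by
    intro z
    obtain ⟨n, rfl⟩ := N'.mkQ_surjective z
    rw [← map_smul]
    exact (Submodule.Quotient.mk_eq_zero N').mpr (hN' n)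
  rw [hxy, map_add, hg, add_zero, Submodule.coe_add, map_add, map_add]
  have h2 : N'.mkQ ((b.constr R t) (π • m)) = 0 := by
    rw [map_smul, map_smul]; exact hkill _
  rw [h2, add_zero, hy]
  simp only [y, map_sum, map_smul, Basis.constr_basis]
  rw [← Finset.sum_attach S]
  apply Finset.sum_congr rfl
  intro i _
  rw [ht i.1 i.2]

theorem length_hom_quot (π : R) (hπ : Irreducible π) (M' : Submodule R M)
    (hM' : ∀ m : M, π • m ∈ M')
    (N' : Submodule R N) (hN' : ∀ n : N, π • n ∈ N') (s : ℕ)
    (hs : (Module.finrank R M : ℕ∞) = Module.length R (M ⧸ M') + s)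
    (K : Submodule R (M →ₗ[R] N)) (hK : ∀ h, h ∈ K ↔ ∀ x ∈ M', h x ∈ N') :
    Module.length R ((M →ₗ[R] N) ⧸ K) = s * Module.length R (N ⧸ N') := by
  classical
  obtain ⟨ι, _, b, S, hS, hmem⟩ := exists_adapted_basis π hπ M' hM'
  -- the evaluation map
  let Φ : (M →ₗ[R] N) →ₗ[R] (S → N ⧸ N') :=
    LinearMap.pi (fun i => N'.mkQ ∘ₗ LinearMap.applyₗ (b i.1))
  have hΦ : ∀ h i, Φ h i = N'.mkQ (h (b i.1)) := fun h i => rfl
  have hΦsurj : Function.Surjective Φ := by
    intro t
    let c : ι → N := fun i =>
      if hi : i ∈ S then (N'.mkQ_surjective (t ⟨i, hi⟩)).choose else 0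
    refine ⟨b.constr R c, ?_⟩
    funext i
    rw [hΦ, Basis.constr_basis]
    simp only [c, dif_pos i.2]
    exact (N'.mkQ_surjective _).choose_spec
  have hΦker : LinearMap.ker Φ = K := by
    ext h
    rw [LinearMap.mem_ker, hK]
    constructor
    · intro h0 x hx
      obtain ⟨m, hm⟩ := exists_decomp π M' b S hmem x hx
      rw [hm, map_add, map_sum, map_smul]
      refine N'.add_mem (N'.sum_mem ?_) (hN' _)
      intro i hi
      rw [map_smul]
      apply N'.smul_mem
      have h1 := congrFun h0 ⟨i, hi⟩
      rw [hΦ] at h1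
      exact (Submodule.Quotient.mk_eq_zero N').mp h1
    · intro h0
      funext i
      rw [hΦ]
      exact (Submodule.Quotient.mk_eq_zero N').mpr (h0 _ (hS i.1 i.2))
  let e : ((M →ₗ[R] N) ⧸ K) ≃ₗ[R] (S → N ⧸ N') :=
    (Submodule.quotEquivOfEq _ _ hΦker.symm).trans (Φ.quotKerEquivOfSurjective hΦsurj)
  rw [e.length_eq, Module.length_pi]
  -- now compute `s`
  let Ψ : M →ₗ[R] ({i // i ∉ S} → R ⧸ (Ideal.span {π} : Submodule R R)) :=
    LinearMap.pi (fun i => (Submodule.mkQ (Ideal.span {π} : Submodule R R)) ∘ₗ b.coord i.1)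
  have hΨ : ∀ m i, Ψ m i = Submodule.mkQ (Ideal.span {π} : Submodule R R) (b.repr m i.1) :=
    fun m i => rfl
  have hΨsurj : Function.Surjective Ψ := by
    intro t
    let c : ι → R := fun i =>
      if hi : i ∉ S then ((Ideal.span {π} : Submodule R R).mkQ_surjective (t ⟨i, hi⟩)).choose
      else 0
    refine ⟨b.equivFun.symm c, ?_⟩
    funext i
    rw [hΨ]
    have h1 : b.repr (b.equivFun.symm c) i.1 = c i.1 :=
      congrFun (b.equivFun.apply_symm_apply c) i.1
    rw [h1]
    simp only [c, dif_pos i.2]
    exact ((Ideal.span {π} : Submodule R R).mkQ_surjective _).choose_spec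
  have hΨker : LinearMap.ker Ψ = M' := by
    ext m
    rw [LinearMap.mem_ker, hmem]
    constructor
    · intro h0 i hi
      have h1 := congrFun h0 ⟨i, hi⟩
      rw [hΨ] at h1
      have h2 := (Submodule.Quotient.mk_eq_zero _).mp h1
      exact Ideal.mem_span_singleton.mp h2
    · intro h0
      funext i
      rw [hΨ]
      exact (Submodule.Quotient.mk_eq_zero _).mpr (Ideal.mem_span_singleton.mpr (h0 i.1 i.2))
  let e' : (M ⧸ M') ≃ₗ[R] ({i // i ∉ S} → R ⧸ (Ideal.span {π} : Submodule R R)) :=
    (Submodule.quotEquivOfEq _ _ hΨker.symm).trans (Ψ.quotKerEquivOfSurjective hΨsurj)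
  have hsimple : IsSimpleModule R (R ⧸ (Ideal.span {π} : Submodule R R)) := by
    rw [isSimpleModule_iff_isCoatom]
    exact Ideal.isMaximal_def.mp (PrincipalIdealRing.isMaximal_of_irreducible hπ)
  have hlen : Module.length R (M ⧸ M') = (Fintype.card {i // i ∉ S} : ℕ∞) := by
    rw [e'.length_eq, Module.length_pi, Module.length_eq_one, mul_one, ENat.card_eq_coe_fintype_card]
  have hcard1 : Fintype.card {i // i ∉ S} = (Sᶜ).card :=
    Fintype.card_of_subtype Sᶜ (by intro i; simp)
  have hcard2 : S.card + (Sᶜ).card = Fintype.card ι := Finset.card_add_card_compl S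
  have hfr : Module.finrank R M = Fintype.card ι := Module.finrank_eq_card_basis b
  rw [hlen, hfr, hcard1, ← hcard2] at hs
  have hs' : S.card + (Sᶜ).card = (Sᶜ).card + s := by exact_mod_cast hs
  have hs'' : s = S.card := by omega
  rw [ENat.card_eq_coe_fintype_card, Fintype.card_coe, hs'']

end general

end Groth.Agent.Lib.Helper9.DieudHom

namespace Groth.Agent.Lib.Helper9.DieudHom

universe u v w

theorem main
    (p : ℕ) [Fact p.Prime] (k : Type u) [Field k] [CharP k p] [PerfectRing k p]
    (M : Type v) [AddCommGroup M] [Module (WittVector p k) M]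
    [Module.Free (WittVector p k) M] [Module.Finite (WittVector p k) M]
    (N : Type w) [AddCommGroup N] [Module (WittVector p k) N]
    [Module.Free (WittVector p k) N] [Module.Finite (WittVector p k) N]
    (FM VM : M →+ M) (FN VN : N →+ N)
    (hFM : ∀ (a : WittVector p k) (m : M), FM (a • m) = WittVector.frobenius a • FM m)
    (hVM : ∀ (a : WittVector p k) (m : M), VM (WittVector.frobenius a • m) = a • VM m)
    (hFVM : ∀ m : M, FM (VM m) = (p : WittVector p k) • m)
    (hVFM : ∀ m : M, VM (FM m) = (p : WittVector p k) • m)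
    (hFN : ∀ (a : WittVector p k) (n : N), FN (a • n) = WittVector.frobenius a • FN n)
    (hVN : ∀ (a : WittVector p k) (n : N), VN (WittVector.frobenius a • n) = a • VN n)
    (hFVN : ∀ n : N, FN (VN n) = (p : WittVector p k) • n)
    (hVFN : ∀ n : N, VN (FN n) = (p : WittVector p k) • n)
    (r₂ s₁ : ℕ)
    (hr₂ : Module.length (WittVector p k) (N ⧸ Submodule.span (WittVector p k) (Set.range VN)) = r₂)
    (hs₁ : (Module.finrank (WittVector p k) M : ℕ∞) =
      Module.length (WittVector p k) (M ⧸ Submodule.span (WittVector p k) (Set.range VM)) + s₁) :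
    (∀ h : M →ₗ[WittVector p k] N,
      (∀ m : M, h (VM m) ∈ Submodule.span (WittVector p k) (Set.range VN)) ↔
        ∃ h' : M →ₗ[WittVector p k] N, ∀ m : M, h (VM m) = VN (h' m)) ∧
    (∀ g : Submodule.span (WittVector p k) (Set.range VM) →ₗ[WittVector p k]
        N ⧸ Submodule.span (WittVector p k) (Set.range VN),
      (∀ m : M, g ⟨VM (FM m), Submodule.subset_span ⟨FM m, rfl⟩⟩ = 0) →
      ∃ h : M →ₗ[WittVector p k] N, ∀ x : Submodule.span (WittVector p k) (Set.range VM),
        (Submodule.span (WittVector p k) (Set.range VN)).mkQ (h x) = g x) ∧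
    Module.length (WittVector p k) ((M →ₗ[WittVector p k] N) ⧸
      ⨅ m : M, (Submodule.span (WittVector p k) (Set.range VN)).comap
        (LinearMap.applyₗ (VM m) : (M →ₗ[WittVector p k] N) →ₗ[WittVector p k] N)) = (r₂ * s₁ : ℕ) := by
  classical
  have hπ : Irreducible (p : WittVector p k) := WittVector.irreducible p
  have hp0 : (p : WittVector p k) ≠ 0 := hπ.ne_zero
  have hσ : Function.Surjective (WittVector.frobenius : WittVector p k → WittVector p k) :=
    (WittVector.frobenius_bijective p k).surjective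
  -- torsion-freeness of `N`
  have hNtf : ∀ x y : N, (p : WittVector p k) • x = (p : WittVector p k) • y → x = y := by
    intro x y hxy
    let b₀ := Module.Free.chooseBasis (WittVector p k) N
    apply b₀.repr.injective
    refine Finsupp.ext fun i => ?_
    have h3 := congrArg (fun z => b₀.repr z i) hxy
    simp only [map_smul, Finsupp.smul_apply, smul_eq_mul] at h3
    exact mul_left_cancel₀ hp0 h3
  have hVNinj : Function.Injective VN := by
    intro x y hxy
    apply hNtf
    rw [← hFVN, ← hFVN, hxy]
  -- the span of the range of `VN` is the range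
  have hrangeN : ∀ x ∈ Submodule.span (WittVector p k) (Set.range VN), ∃ n, VN n = x := by
    intro x hx
    induction hx using Submodule.span_induction with
    | mem x hx => exact hx
    | zero => exact ⟨0, map_zero _⟩
    | add x y _ _ hx hy =>
      obtain ⟨a, rfl⟩ := hx
      obtain ⟨b, rfl⟩ := hy
      exact ⟨a + b, map_add _ _ _⟩
    | smul a x _ hx =>
      obtain ⟨n, rfl⟩ := hx
      exact ⟨WittVector.frobenius a • n, hVN a n⟩
  have hM' : ∀ m : M, (p : WittVector p k) • m ∈
      Submodule.span (WittVector p k) (Set.range VM) := by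
    intro m
    rw [← hVFM]
    exact Submodule.subset_span ⟨FM m, rfl⟩
  have hN' : ∀ n : N, (p : WittVector p k) • n ∈
      Submodule.span (WittVector p k) (Set.range VN) := by
    intro n
    rw [← hVFN]
    exact Submodule.subset_span ⟨FN n, rfl⟩
  refine ⟨?_, ?_, ?_⟩
  · intro h
    constructor
    · intro hh
      have hex : ∀ m, ∃ n, VN n = h (VM m) := fun m => hrangeN _ (hh m)
      choose h' hh' using hex
      refine ⟨{ toFun := h', map_add' := ?_, map_smul' := ?_ }, ?_⟩
      · intro x y
        apply hVNinj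
        rw [hh', map_add, map_add, map_add, hh', hh']
      · intro a x
        apply hVNinj
        obtain ⟨c, rfl⟩ := hσ a
        rw [RingHom.id_apply, hVN, hh', hh', hVM, map_smul]
      · intro m
        exact (hh' m).symm
    · rintro ⟨h', hh'⟩ m
      rw [hh']
      exact Submodule.subset_span ⟨_, rfl⟩
  · intro g hg
    refine exists_lift (p : WittVector p k) hπ _ hM' _ hN' g ?_
    intro m
    have h1 : (⟨(p : WittVector p k) • m, hM' m⟩ :
        Submodule.span (WittVector p k) (Set.range VM)) =
        ⟨VM (FM m), Submodule.subset_span ⟨FM m, rfl⟩⟩ := by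
      apply Subtype.ext
      exact (hVFM m).symm
    rw [h1]
    exact hg m
  · rw [length_hom_quot (p : WittVector p k) hπ _ hM' _ hN' s₁ hs₁ _ ?_, hr₂]
    · push_cast; ring
    · intro h
      simp only [Submodule.mem_iInf, Submodule.mem_comap, LinearMap.applyₗ_apply_apply]
      constructor
      · intro hh x hx
        have : Submodule.span (WittVector p k) (Set.range VM) ≤
            (Submodule.span (WittVector p k) (Set.range VN)).comap h := by
          rw [Submodule.span_le]
          rintro _ ⟨m, rfl⟩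
          exact hh m
        exact this hx
      · intro hh m
        exact hh _ (Submodule.subset_span ⟨m, rfl⟩)

end Groth.Agent.Lib.Helper9.DieudHom
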