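import Mathlib

/-!
# Good leaves in Dynkin diagrams and solving `a_ij x_i - a_ji x_j = e_ij` (S19008)
-/

namespace Groth.Agent.Lib.Helper9.DynkinLeaf

open Finset

section Combinatorics

variable {ι : Type*} [DecidableEq ι]

/-- `j` has two distinct neighbours in `J`. -/
def TwoNbrs (J : Finset ι) (a : ι → ι → ℤ) (j : ι) : Prop :=
  ∃ i ∈ J, ∃ i' ∈ J, i ≠ j ∧ i' ≠ j ∧ i ≠ i' ∧ a j i ≠ 0 ∧ a j i' ≠ 0

/-- `j` is a good leaf of `J`. -/
def Good (J : Finset ι) (a : ι → ι → ℤ) (j : ι) : Prop :=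
  ∀ i ∈ J, i ≠ j → a j i ≠ 0 → (a j i = -1 ∧ ∀ i' ∈ J, i' ≠ j → a j i' ≠ 0 → i' = i)

variable (J : Finset ι) (a : ι → ι → ℤ) (L : ι → ℤ)

theorem ne_zero_symm (hL : ∀ i ∈ J, 0 < L i)
    (hsym : ∀ i ∈ J, ∀ j ∈ J, a i j * L j = a j i * L i)
    {i j : ι} (hi : i ∈ J) (hj : j ∈ J) (h : a i j ≠ 0) : a j i ≠ 0 := by
  intro h0
  have := hsym i hi j hj
  rw [h0, zero_mul] at this
  rcases mul_eq_zero.1 this with h1 | h1
  · exact h h1
  · exact (hL j hj).ne' h1

/-- not good and not two neighbours: the unique neighbour has `a j i ≤ -2`. -/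
theorem bad_leaf (hneg : ∀ i ∈ J, ∀ j ∈ J, i ≠ j → a i j ≤ 0)
    {j : ι} (hj : j ∈ J) (hng : ¬ Good J a j) (h2 : ¬ TwoNbrs J a j) :
    ∃ i ∈ J, i ≠ j ∧ a j i ≠ 0 ∧ a j i ≤ -2 ∧ ∀ i' ∈ J, i' ≠ j → a j i' ≠ 0 → i' = i := by
  unfold Good at hng
  push Not at hng
  obtain ⟨i, hi, hij, hne, h⟩ := hng
  have huniq : ∀ i' ∈ J, i' ≠ j → a j i' ≠ 0 → i' = i := by
    intro i' hi' hi'j hne'
    by_contra hcon
    exact h2 ⟨i, hi, i', hi', hij, hi'j, fun h => hcon h.symm, hne, hne'⟩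
  refine ⟨i, hi, hij, hne, ?_, huniq⟩
  by_contra hcon
  push Not at hcon
  have hle := hneg j hj i hi (Ne.symm hij)
  have h1 : a j i = -1 := by omega
  obtain ⟨i', hi', hi'j, hne', hne''⟩ := h h1
  exact hne'' (huniq i' hi' hi'j hne')

/-- weights -/
noncomputable def cw (j : ι) : ℤ := by
  classical exact if TwoNbrs J a j then 2 else 1

theorem cw_pos (j : ι) : 0 < cw J a j := by
  unfold cw; split_ifs <;> norm_num

theorem nbr_bound (hL : ∀ i ∈ J, 0 < L i)
    (hneg : ∀ i ∈ J, ∀ j ∈ J, i ≠ j → a i j ≤ 0)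
    (hsym : ∀ i ∈ J, ∀ j ∈ J, a i j * L j = a j i * L i)
    (hnogood : ∀ j ∈ J, ¬ Good J a j) {i j : ι} (hi : i ∈ J) (hj : j ∈ J) (hji : j ≠ i)
    (hne : a i j ≠ 0) :
    cw J a j * (a i j * L j) ≤ -2 * L i := by
  have h1 : a i j * L j = a j i * L i := hsym i hi j hj
  have hne' : a j i ≠ 0 := ne_zero_symm J a L hL hsym hi hj hne
  have hle : a j i ≤ 0 := hneg j hj i hi hji
  have hLi := hL i hi
  rw [h1]
  unfold cw
  split_ifs with h2
  · have : a j i ≤ -1 := by omega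
    nlinarith
  · obtain ⟨i', hi', hi'j, hne'', hle2, huniq⟩ := bad_leaf J a hneg hj (hnogood j hj) h2
    have : i = i' := huniq i hi (Ne.symm hji) hne'
    subst this
    nlinarith

theorem row_nonpos (hL : ∀ i ∈ J, 0 < L i)
    (hneg : ∀ i ∈ J, ∀ j ∈ J, i ≠ j → a i j ≤ 0)
    (hsym : ∀ i ∈ J, ∀ j ∈ J, a i j * L j = a j i * L i)
    (h3 : ∀ i ∈ J, ∀ j ∈ J, i ≠ j → a i j * a j i ≤ 3)
    (hdiag : ∀ i ∈ J, a i i = 2)
    (hnogood : ∀ j ∈ J, ¬ Good J a j) {i : ι} (hi : i ∈ J) :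
    ∑ j ∈ J, cw J a j * (a i j * L j) ≤ 0 := by
  have hLi := hL i hi
  have hterm : ∀ j ∈ J.erase i, cw J a j * (a i j * L j) ≤ 0 := by
    intro j hj
    have hjJ := Finset.mem_of_mem_erase hj
    have hji := Finset.ne_of_mem_erase hj
    have h1 : a i j ≤ 0 := hneg i hi j hjJ (Ne.symm hji)
    have h2 : 0 < L j := hL j hjJ
    have h3 : 0 < cw J a j := cw_pos J a j
    have : a i j * L j ≤ 0 := mul_nonpos_of_nonpos_of_nonneg h1 h2.le
    exact mul_nonpos_of_nonneg_of_nonpos h3.le this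
  rw [← Finset.add_sum_erase J _ hi, hdiag i hi]
  by_cases h2 : TwoNbrs J a i
  · obtain ⟨j1, hj1, j2, hj2, hj1i, hj2i, hj12, hne1, hne2⟩ := h2
    have hc : cw J a i = 2 := by
      unfold cw; rw [if_pos ⟨j1, hj1, j2, hj2, hj1i, hj2i, hj12, hne1, hne2⟩]
    have hm1 : j1 ∈ J.erase i := Finset.mem_erase.2 ⟨hj1i, hj1⟩
    have hm2 : j2 ∈ (J.erase i).erase j1 :=
      Finset.mem_erase.2 ⟨Ne.symm hj12, Finset.mem_erase.2 ⟨hj2i, hj2⟩⟩
    rw [← Finset.add_sum_erase _ _ hm1, ← Finset.add_sum_erase _ _ hm2]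
    have hb1 := nbr_bound J a L hL hneg hsym hnogood hi hj1 hj1i hne1
    have hb2 := nbr_bound J a L hL hneg hsym hnogood hi hj2 hj2i hne2
    have hrest : ∑ j ∈ ((J.erase i).erase j1).erase j2, cw J a j * (a i j * L j) ≤ 0 :=
      Finset.sum_nonpos fun j hj =>
        hterm j (Finset.mem_of_mem_erase (Finset.mem_of_mem_erase hj))
    rw [hc]; linarith
  · obtain ⟨j, hj, hji, hne, hle2, huniq⟩ := bad_leaf J a hneg hi (hnogood i hi) h2
    have hc : cw J a i = 1 := by unfold cw; rw [if_neg h2]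
    have hmj : j ∈ J.erase i := Finset.mem_erase.2 ⟨hji, hj⟩
    rw [← Finset.add_sum_erase _ _ hmj]
    have hrest : ∑ j' ∈ (J.erase i).erase j, cw J a j' * (a i j' * L j') ≤ 0 :=
      Finset.sum_nonpos fun j' hj' => hterm j' (Finset.mem_of_mem_erase hj')
    have hne' : a j i ≠ 0 := ne_zero_symm J a L hL hsym hi hj hne
    have hle' : a j i ≤ 0 := hneg j hj i hi hji
    have h3' := h3 i hi j hj (Ne.symm hji)
    have haji : a j i = -1 := by
      by_contra hcon
      have : a j i ≤ -2 := by omega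
      nlinarith
    have hcj : cw J a j = 2 := by
      unfold cw
      rw [if_pos]
      by_contra h2j
      obtain ⟨i', hi', hi'j, hne'', hle2', huniq'⟩ := bad_leaf J a hneg hj (hnogood j hj) h2j
      have : i = i' := huniq' i hi (Ne.symm hji) hne'
      subst this
      omega
    have h1 : a i j * L j = a j i * L i := hsym i hi j hj
    rw [hc, hcj, h1, haji]
    linarith

theorem exists_good (hJ : J.Nonempty) (hL : ∀ i ∈ J, 0 < L i)
    (hneg : ∀ i ∈ J, ∀ j ∈ J, i ≠ j → a i j ≤ 0)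
    (hsym : ∀ i ∈ J, ∀ j ∈ J, a i j * L j = a j i * L i)
    (h3 : ∀ i ∈ J, ∀ j ∈ J, i ≠ j → a i j * a j i ≤ 3)
    (hdiag : ∀ i ∈ J, a i i = 2)
    (hpos : ∀ c : ι → ℤ, (∀ j ∈ J, 0 < c j) →
      0 < ∑ i ∈ J, ∑ j ∈ J, c i * c j * (a i j * L j)) :
    ∃ j ∈ J, Good J a j := by
  by_contra hcon
  push Not at hcon
  have hc : ∀ j ∈ J, 0 < cw J a j := fun j _ => cw_pos J a j
  have := hpos (cw J a) hc
  have hle : ∑ i ∈ J, ∑ j ∈ J, cw J a i * cw J a j * (a i j * L j) ≤ 0 := by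
    refine Finset.sum_nonpos fun i hi => ?_
    have h1 : ∑ j ∈ J, cw J a i * cw J a j * (a i j * L j) =
        cw J a i * ∑ j ∈ J, cw J a j * (a i j * L j) := by
      rw [Finset.mul_sum]; exact Finset.sum_congr rfl fun j _ => by ring
    rw [h1]
    exact mul_nonpos_of_nonneg_of_nonpos (le_of_lt (hc i hi))
      (row_nonpos J a L hL hneg hsym h3 hdiag hcon hi)
  linarith

theorem solve_diag (a : ι → ι → ℤ) (e : ι → ι → ℤ) :
    ∀ (J : Finset ι), (∀ J' ⊆ J, J'.Nonempty → ∃ j ∈ J', Good J' a j) →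
      (∀ i ∈ J, ∀ j ∈ J, a i j = 0 → a j i = 0) →
      (∀ i ∈ J, ∀ j ∈ J, e j i = - e i j) →
      (∀ i ∈ J, ∀ j ∈ J, i ≠ j → a i j = 0 → e i j = 0) →
      ∃ x : ι → ℤ, ∀ i ∈ J, ∀ j ∈ J, i ≠ j → a i j * x i - a j i * x j = e i j := by
  intro J
  induction J using Finset.strongInduction with
  | H J ih =>
    intro hgood hzero hanti he0
    rcases J.eq_empty_or_nonempty with rfl | hne
    · exact ⟨fun _ => 0, by simp⟩
    obtain ⟨j, hj, hg⟩ := hgood J (Finset.Subset.refl _) hne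
    have hJ' : J.erase j ⊂ J := Finset.erase_ssubset hj
    obtain ⟨x, hx⟩ := ih (J.erase j) hJ'
      (fun J' hJ'' => hgood J' (hJ''.trans (Finset.erase_subset _ _)))
      (fun i hi k hk => hzero i (Finset.mem_of_mem_erase hi) k (Finset.mem_of_mem_erase hk))
      (fun i hi k hk => hanti i (Finset.mem_of_mem_erase hi) k (Finset.mem_of_mem_erase hk))
      (fun i hi k hk => he0 i (Finset.mem_of_mem_erase hi) k (Finset.mem_of_mem_erase hk))
    by_cases hnb : ∃ i ∈ J, i ≠ j ∧ a j i ≠ 0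
    · obtain ⟨i, hi, hij, hne'⟩ := hnb
      obtain ⟨haji, huniq⟩ := hg i hi hij hne'
      refine ⟨Function.update x j (e i j - a i j * x i), ?_⟩
      intro p hp q hq hpq
      by_cases hpj : p = j
      · have hqj : q ≠ j := fun h => hpq (hpj.trans h.symm)
        rw [hpj, Function.update_self, Function.update_of_ne hqj]
        by_cases hqi : q = i
        · rw [hqi, haji, hanti i hi j hj]; ring
        · have h0 : a j q = 0 := by
            by_contra hcon
            exact hqi (huniq q hq hqj hcon)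
          have h0' : a q j = 0 := hzero j hj q hq h0
          rw [h0, h0', he0 j hj q hq (Ne.symm hqj) h0]; ring
      · by_cases hqj : q = j
        · rw [hqj, Function.update_self, Function.update_of_ne hpj]
          by_cases hpi : p = i
          · rw [hpi, haji]; ring
          · have h0 : a j p = 0 := by
              by_contra hcon
              exact hpi (huniq p hp hpj hcon)
            have h0' : a p j = 0 := hzero j hj p hp h0
            rw [h0, h0', he0 p hp j hj hpj h0']; ring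
        · rw [Function.update_of_ne hpj, Function.update_of_ne hqj]
          exact hx p (Finset.mem_erase.2 ⟨hpj, hp⟩) q (Finset.mem_erase.2 ⟨hqj, hq⟩) hpq
    · push Not at hnb
      refine ⟨x, ?_⟩
      intro p hp q hq hpq
      by_cases hpj : p = j
      · have hqj : q ≠ j := fun h => hpq (hpj.trans h.symm)
        have h0 : a j q = 0 := hnb q hq hqj
        have h0' : a q j = 0 := hzero j hj q hq h0
        rw [hpj, h0, h0', he0 j hj q hq (Ne.symm hqj) h0]; ring
      · by_cases hqj : q = j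
        · have h0 : a j p = 0 := hnb p hp hpj
          have h0' : a p j = 0 := hzero j hj p hp h0
          rw [hqj, h0, h0', he0 p hp j hj hpj h0']; ring
        · exact hx p (Finset.mem_erase.2 ⟨hpj, hp⟩) q (Finset.mem_erase.2 ⟨hqj, hq⟩) hpq

theorem solve_full (J : Finset ι) (a d : ι → ι → ℤ)
    (hgood : ∀ J' ⊆ J, J'.Nonempty → ∃ j ∈ J', Good J' a j)
    (hzero : ∀ i ∈ J, ∀ j ∈ J, a i j = 0 → a j i = 0)
    (hd : ∀ i ∈ J, ∀ j ∈ J, i ≠ j → a i j = 0 → d i j = d j i) :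
    ∃ C : ι → ι → ℤ, ∀ i ∈ J, ∀ j ∈ J, i ≠ j → C i j + C j i - a j i * C j j = d i j := by
  classical
  obtain ⟨x, hx⟩ := solve_diag a (fun i j => d i j - d j i) J hgood hzero
    (by intros; ring) (by intro i hi j hj hij h0; simp [hd i hi j hj hij h0])
  obtain ⟨_, _⟩ := exists_wellFoundedLT ι
  refine ⟨fun i j => if i = j then x i else if i < j then d i j + a j i * x j else 0, ?_⟩
  intro i hi j hj hij
  have hji : j ≠ i := Ne.symm hij
  have hx' := hx i hi j hj hij
  simp only [if_neg hij, if_neg hji, if_true]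
  rcases lt_or_gt_of_ne hij with h | h
  · rw [if_pos h, if_neg (not_lt.2 h.le)]; ring
  · rw [if_neg (not_lt.2 h.le), if_pos h]
    linarith

end Combinatorics

section RootPairingPart

open RootPairing

variable {ι R M N : Type*} [CommRing R] [IsDomain R] [CharZero R]
  [AddCommGroup M] [Module R M] [AddCommGroup N] [Module R N]
  (P : RootPairing ι R M N) [Finite ι] [P.IsCrystallographic] [P.IsReduced] (b : P.Base)

theorem main (d : ι → ι → ℤ)
    (hd : ∀ i ∈ b.support, ∀ j ∈ b.support, i ≠ j → P.pairingIn ℤ i j = 0 → d i j = d j i) :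
    ∃ C : ι → ι → ℤ, ∀ i ∈ b.support, ∀ j ∈ b.support, i ≠ j →
      C i j + C j i - P.pairingIn ℤ j i * C j j = d i j := by
  classical
  have : Fintype ι := Fintype.ofFinite ι
  let B := P.posRootForm ℤ
  let a : ι → ι → ℤ := fun i j => P.pairingIn ℤ i j
  let L : ι → ℤ := fun i => B.rootLength i
  have hL : ∀ i ∈ b.support, 0 < L i := fun i _ => B.rootLength_pos i
  have hneg : ∀ i ∈ b.support, ∀ j ∈ b.support, i ≠ j → a i j ≤ 0 :=
    fun i hi j hj hij => b.pairingIn_le_zero_of_ne hij hi hj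
  have hsym : ∀ i ∈ b.support, ∀ j ∈ b.support, a i j * L j = a j i * L i :=
    fun i _ j _ => (B.pairingIn_mul_eq_pairingIn_mul_swap i j).symm
  have h3 : ∀ i ∈ b.support, ∀ j ∈ b.support, i ≠ j → a i j * a j i ≤ 3 := by
    intro i hi j hj hij
    have h1 : P.root i ≠ P.root j := fun h => hij (P.root.injective h)
    have h2 : P.root i ≠ -P.root j := b.root_ne_neg_of_ne hi hj hij
    have := P.pairingIn_pairingIn_mem_set_of_isCrystal_of_isRed' i j h1 h2
    simp only [Set.mem_insert_iff, Set.mem_singleton_iff, Prod.mk.injEq] at this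
    show P.pairingIn ℤ i j * P.pairingIn ℤ j i ≤ 3
    rcases this with ⟨h, h'⟩ | ⟨h, h'⟩ | ⟨h, h'⟩ | ⟨h, h'⟩ | ⟨h, h'⟩ | ⟨h, h'⟩ | ⟨h, h'⟩ |
      ⟨h, h'⟩ | ⟨h, h'⟩ | ⟨h, h'⟩ | ⟨h, h'⟩ <;> rw [h, h'] <;> norm_num
  have hdiag : ∀ i, a i i = 2 := fun i => P.pairingIn_same ℤ i
  have key : ∀ i j, 2 * B.posForm (P.rootSpanMem ℤ i) (P.rootSpanMem ℤ j) = a i j * L j := by
    intro i j
    apply FaithfulSMul.algebraMap_injective ℤ R
    rw [map_mul, map_mul, map_ofNat, B.algebraMap_posForm, P.algebraMap_pairingIn ℤ,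
      B.algebraMap_rootLength]
    exact B.toInvariantForm.two_mul_apply_root_root i j
  have hpos : ∀ J' ⊆ b.support, J'.Nonempty → ∀ c : ι → ℤ, (∀ j ∈ J', 0 < c j) →
      0 < ∑ i ∈ J', ∑ j ∈ J', c i * c j * (a i j * L j) := by
    intro J' hJ' hne c hc
    let x : P.rootSpan ℤ := ∑ j ∈ J', c j • P.rootSpanMem ℤ j
    have hx : x ≠ 0 := by
      intro h0
      have h1 : ((x : P.rootSpan ℤ) : M) = ∑ j ∈ J', (c j : R) • P.root j := by
        simp only [x, Submodule.coe_sum, Submodule.coe_smul]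
        refine Finset.sum_congr rfl fun j _ => ?_
        rw [Int.cast_smul_eq_zsmul]
      rw [h0] at h1
      have h2 := linearIndepOn_iff'.mp b.linearIndepOn_root J' (fun j => (c j : R))
        (by exact_mod_cast hJ') h1.symm
      obtain ⟨j, hj⟩ := hne
      have h3 := h2 j hj
      have h4 : c j = 0 := by exact_mod_cast h3
      exact (hc j hj).ne' h4
    have h2 := P.posRootForm_posForm_pos_of_ne_zero ℤ hx
    have h3 : 2 * B.posForm x x = ∑ i ∈ J', ∑ j ∈ J', c i * c j * (a i j * L j) := by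
      simp only [x, map_sum, LinearMap.sum_apply, map_smul, LinearMap.smul_apply, smul_eq_mul,
        Finset.mul_sum]
      refine Finset.sum_congr rfl fun i _ => Finset.sum_congr rfl fun j _ => ?_
      have hs : B.posForm (P.rootSpanMem ℤ j) (P.rootSpanMem ℤ i) =
          B.posForm (P.rootSpanMem ℤ i) (P.rootSpanMem ℤ j) := by
        simpa using B.isSymm_posForm.eq (P.rootSpanMem ℤ j) (P.rootSpanMem ℤ i)
      rw [← key i j, hs]; ring
    have h4 : 0 < B.posForm x x := h2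
    linarith
  have hgood : ∀ J' ⊆ b.support, J'.Nonempty → ∃ j ∈ J', Good J' a j := by
    intro J' hJ' hne
    exact exists_good J' a L hne (fun i hi => hL i (hJ' hi))
      (fun i hi j hj => hneg i (hJ' hi) j (hJ' hj))
      (fun i hi j hj => hsym i (hJ' hi) j (hJ' hj))
      (fun i hi j hj => h3 i (hJ' hi) j (hJ' hj)) (fun i _ => hdiag i) (hpos J' hJ' hne)
  have hzero : ∀ i ∈ b.support, ∀ j ∈ b.support, a i j = 0 → a j i = 0 := by
    intro i hi j hj h
    by_contra hcon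
    exact ne_zero_symm b.support a L hL hsym hj hi hcon h
  exact solve_full b.support a d hgood hzero hd

end RootPairingPart

end Groth.Agent.Lib.Helper9.DynkinLeaf
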