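import Mathlib
import Groth.Agent.Lib.Helper18.EmbK
import Groth.Agent.Lib.Helper18.EmbI
import Groth.Agent.Lib.Helper13.EmbR3F1
import Groth.Agent.Lib.Helper11.EmbR3F2

/-!
# R3 for helper18 (S12274 / S12272): the first-order embedded deformation `V(J)` is flat over `k[ε]`
-/

set_option autoImplicit false
set_option linter.style.haveILetI false
set_option backward.isDefEq.respectTransparency.types false
universe u
open CategoryTheory CategoryTheory.Limits AlgebraicGeometry
open ArtFun ArtFun.Art Groth.Agent.Lib.Helper18 Groth.Agent.Lib.Helper18.EmbK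
open Groth.Agent.Lib.Helper20.DualSect Groth.Agent.Lib.Helper3
open Groth.Agent.Lib.Helper18.EmbA

namespace Groth.Agent.Lib.Helper9.EmbR3

variable {k : Type u} [Field k] {X : Scheme.{u}} {x : X ⟶ specPt k} (I₀ : X.IdealSheafData)
  (φ : ClSub.idealMod I₀ ⟶ ClSub.quotMod I₀)

instance flat_x : Flat x := inferInstance

instance flat_XApr (A : Art k k) : Flat (XApr x A) :=
  MorphismProperty.pullback_snd (P := @Flat) _ _ inferInstance

lemma flat_aW {W : (XA x (dual k k)).Opens} (hW : IsAffineOpen W) : (aW (x := x) W).hom.Flat :=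
  HullR.flat_alg (XApr x (dual k k)) hW

/-- (i) `c^♯ (π^♯ f) = f` -/
lemma incl_PW (W : (XA x (dual k k)).Opens) (f : Γ(X, trU W)) :
    ((XAincl x (dual k k)).app W).hom ((PW W).hom f) = f := by
  have key : ∀ (g : X ⟶ X) (hg : g = 𝟙 X) (e : trU W ≤ g ⁻¹ᵁ trU W),
      g.appLE (trU W) (trU W) e = 𝟙 _ := by
    rintro g rfl e
    rw [Scheme.Hom.appLE, Scheme.Hom.id_app]
    exact (X.presheaf.map_id _)
  have h1 : PW W ≫ (XAincl x (dual k k)).app W = 𝟙 _ := by
    unfold PW
    rw [Scheme.Hom.app_eq_appLE, Scheme.Hom.appLE_comp_appLE]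
    exact key _ (XAincl_fst x _) _
  exact ConcreteCategory.congr_hom h1 f


/-- (ii) `c^♯ ε = 0` -/
lemma incl_epsW (W : (XA x (dual k k)).Opens) :
    ((XAincl x (dual k k)).app W).hom (epsW W) = 0 := by
  have key : ∀ (g : X ⟶ spec (dual k k)) (hg : g = x ≫ specRes (dual k k))
      (e : trU W ≤ g ⁻¹ᵁ ⊤),
      ((Scheme.ΓSpecIso (CommRingCat.of (dual k k))).inv ≫ g.appLE ⊤ (trU W) e).hom
        (epsD (k := k)) = 0 := by
    rintro g rfl e
    have h2 : (Scheme.ΓSpecIso (CommRingCat.of (dual k k))).inv ≫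
        (specRes (dual k k)).app ⊤ =
        CommRingCat.ofHom (dual k k).res.toRingHom ≫ (Scheme.ΓSpecIso (CommRingCat.of k)).inv :=
      (Scheme.ΓSpecIso_inv_naturality _).symm
    have h3 : (dual k k).res.toRingHom (epsD (k := k)) = 0 := by
      show TrivSqZeroExt.fst (DualNumber.eps : DualNumber k) = 0
      exact DualNumber.fst_eps
    have h5 : (Scheme.ΓSpecIso (CommRingCat.of (dual k k))).inv ≫
        (x ≫ specRes (dual k k)).appLE ⊤ (trU W) e =
        CommRingCat.ofHom (dual k k).res.toRingHom ≫ ((Scheme.ΓSpecIso (CommRingCat.of k)).inv ≫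
          x.appLE ((specRes (dual k k)) ⁻¹ᵁ ⊤) (trU W) e) := by
      rw [Scheme.Hom.comp_appLE, ← Category.assoc, h2]
      exact Category.assoc _ _ _
    rw [h5]
    show (((Scheme.ΓSpecIso (CommRingCat.of k)).inv ≫
      x.appLE ((specRes (dual k k)) ⁻¹ᵁ ⊤) (trU W) e).hom)
      ((dual k k).res.toRingHom epsD) = 0
    rw [h3, map_zero]
  have h1 : aW W ≫ (XAincl x (dual k k)).app W =
      (Scheme.ΓSpecIso (CommRingCat.of (dual k k))).inv ≫
        (XAincl x (dual k k) ≫ XApr x (dual k k)).appLE ⊤ (trU W) le_top := by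
    unfold aW
    rw [Category.assoc, Scheme.Hom.app_eq_appLE, Scheme.Hom.appLE_comp_appLE]
  have h2 := ConcreteCategory.congr_hom h1 (epsD (k := k))
  rw [key _ (XAincl_snd x _) _] at h2
  exact h2

lemma eq_zero_of_epsW_mul_PW {W : (XA x (dual k k)).Opens} (hW : IsAffineOpen W)
    (h : Γ(X, trU W)) (hh : epsW W * (PW W).hom h = 0) : h = 0 := by
  have h1 := Groth.Agent.Lib.Helper26.DualNumFlat.mem_span_eps_of_eps_mul_eq_zero (k := k)
    (aW W).hom (flat_aW hW) ((PW W).hom h) hh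
  rw [Ideal.mem_span_singleton'] at h1
  obtain ⟨b, hb⟩ := h1
  have h2 := congrArg ((XAincl x (dual k k)).app W).hom hb
  rw [map_mul, incl_PW] at h2
  have h3 : ((XAincl x (dual k k)).app W).hom ((aW W).hom DualNumber.eps) = 0 := incl_epsW W
  exact (h2.symm.trans ((congrArg (fun t => ((XAincl x (dual k k)).app W).hom b * t) h3).trans
    (mul_zero _)))

lemma val_zero' (U : X.Opens) : IdealMod.val I₀ (0 : Γ(ClSub.idealMod I₀, U)) = 0 := by
  have h := IdealMod.val_add I₀ (0 : Γ(ClSub.idealMod I₀, U)) 0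
  rw [add_zero] at h
  exact left_eq_add.mp h

/-- the `k[ε]`-flatness criterion for `Γ(X[ε], W) ⧸ J(W)` -/
theorem J_cond {W : (XA x (dual k k)).Opens} (hW : IsAffineOpen W) (b : Γ(XA x (dual k k), W))
    (hb : epsW W * b ∈ J I₀ φ hW) : ∃ j ∈ J I₀ φ hW, ∃ c, b = j + epsW W * c := by
  obtain ⟨f, g', rfl⟩ := exists_decompW hW b
  obtain ⟨s, g, hsg, hrel⟩ := hb
  have hsg' : epsW W * (PW W).hom f =
      (PW W).hom (IdealMod.val I₀ s) + epsW W * (PW W).hom g := by
    rw [← hsg]
    linear_combination (-(PW W).hom g') * epsW_mul_self W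
  have e1 := congrArg ((XAincl x (dual k k)).app W).hom hsg'
  rw [map_mul, map_add, map_mul, incl_epsW, zero_mul, zero_mul, add_zero, incl_PW] at e1
  have hs : s = 0 := IdealMod.val_injective I₀ _ (by rw [← e1, val_zero'])
  subst hs
  have hg0 : (I₀.subschemeι.app (trU W)).hom g = 0 := by
    have := hrel
    rw [map_zero, fromQ_zero, add_zero] at this
    exact this
  have hfg : f = g := by
    have h0 : epsW W * (PW W).hom (f - g) = 0 := by
      rw [map_sub, mul_sub, hsg', val_zero', map_zero, zero_add, sub_self]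
    exact sub_eq_zero.mp (eq_zero_of_epsW_mul_PW hW _ h0)
  subst hfg
  obtain ⟨s', hs'⟩ := IdealMod.exists_val_eq I₀ f hg0
  obtain ⟨g'', hg''⟩ := I₀.subschemeι_app_surjective ⟨trU W, isAffineOpen_trU hW⟩
    (-(fromQ (trU W) (φ.app (trU W) s')))
  refine ⟨(PW W).hom (IdealMod.val I₀ s') + epsW W * (PW W).hom g'', ⟨s', g'', rfl, ?_⟩,
    (PW W).hom (g' - g''), ?_⟩
  · have : (I₀.subschemeι.app (trU W)).hom g'' = -(fromQ (trU W) (φ.app (trU W) s')) := hg''
    rw [this, neg_add_cancel]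
  · rw [hs', map_sub]
    ring

/-- **R3**: the closed subscheme cut out by the `J W` is flat over `Spec k[ε]`. -/
theorem flatOver_of_ideal_eq (I : (XA x (dual k k)).IdealSheafData)
    (hI : ∀ W : (XA x (dual k k)).affineOpens, I.ideal W = J I₀ φ W.2) :
    FlatOver X x (dual k k) I := by
  unfold FlatOver
  refine Groth.Agent.Lib.Helper11.EmbR3F2.flat_subschemeι_comp (XApr x (dual k k)) I (fun W => ?_)
  rw [hI W]
  exact Groth.Agent.Lib.Helper13.EmbR3F1.flat_quotient_dualNumber (aW W.1).hom (J I₀ φ W.2)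
    (fun b hb => J_cond I₀ φ W.2 b hb)

end Groth.Agent.Lib.Helper9.EmbR3
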