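import Mathlib

set_option autoImplicit false

/-!
# The equaliser of two ring maps out of an integrally closed domain (helper9)

If `A` is an integrally closed domain and `φ₁ φ₂ : A →+* C` are ring maps such that `φ₂` carries
nonzero elements to nonzerodivisors, then the equaliser subring of `φ₁` and `φ₂` is integrally
closed.
-/

namespace Helper9.EqLocusIC

theorem isIntegrallyClosed_eqLocus {A C : Type*} [CommRing A] [IsDomain A] [IsIntegrallyClosed A]
    [CommRing C] (φ₁ φ₂ : A →+* C)
    (hnzd : ∀ b : A, b ≠ 0 → ∀ c : C, φ₂ b * c = 0 → c = 0) :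
    IsIntegrallyClosed ↥(RingHom.eqLocus φ₁ φ₂) := by
  obtain ⟨S, hS⟩ : ∃ S : Subring A, S = RingHom.eqLocus φ₁ φ₂ := ⟨_, rfl⟩
  rw [← hS]
  have hmem : ∀ x : A, x ∈ S ↔ φ₁ x = φ₂ x := fun x => by rw [hS]; exact Iff.rfl
  rw [isIntegrallyClosed_iff (FractionRing S)]
  intro x hx
  obtain ⟨a, b, hb, rfl⟩ := IsFractionRing.div_surjective (A := S) x
  have hb0 : (b : A) ≠ 0 := by
    have := nonZeroDivisors.ne_zero hb
    intro h0
    apply this
    exact Subtype.ext h0
  let g : S →+* FractionRing A := (algebraMap A (FractionRing A)).comp S.subtype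
  have hg : Function.Injective g :=
    (IsFractionRing.injective A (FractionRing A)).comp Subtype.val_injective
  let ψ : FractionRing S →+* FractionRing A := IsFractionRing.lift hg
  have hψ : IsIntegral A
      (ψ (algebraMap S (FractionRing S) a / algebraMap S (FractionRing S) b)) := by
    refine IsIntegral.map_of_comp_eq S.subtype ψ ?_ hx
    ext s
    simp only [RingHom.comp_apply]
    exact (IsFractionRing.lift_algebraMap hg s).symm
  obtain ⟨c, hc⟩ := IsIntegrallyClosed.algebraMap_eq_of_integral hψ
  have hgb : g b ≠ 0 := by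
    intro h0
    apply hb0
    have := hg (h0.trans (map_zero g).symm)
    exact congrArg Subtype.val this
  have hcb : c * (b : A) = (a : A) := by
    apply IsFractionRing.injective A (FractionRing A)
    rw [map_mul, hc, map_div₀]
    have e1 : ψ (algebraMap S (FractionRing S) a) = g a := IsFractionRing.lift_algebraMap hg a
    have e2 : ψ (algebraMap S (FractionRing S) b) = g b := IsFractionRing.lift_algebraMap hg b
    rw [e1, e2]
    exact div_mul_cancel₀ _ hgb
  have hcS : c ∈ S := by
    rw [hmem]
    have ha := (hmem _).1 a.2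
    have hbb := (hmem _).1 b.2
    have h1 : φ₁ c * φ₁ (b : A) = φ₁ (a : A) := by rw [← map_mul, hcb]
    have h2 : φ₂ c * φ₂ (b : A) = φ₂ (a : A) := by rw [← map_mul, hcb]
    have h3 : φ₂ (b : A) * (φ₁ c - φ₂ c) = 0 := by
      rw [mul_sub, mul_comm, mul_comm (φ₂ (b : A)) (φ₂ c), h2, ← hbb, h1, ha, sub_self]
    exact sub_eq_zero.mp (hnzd _ hb0 _ h3)
  refine ⟨⟨c, hcS⟩, ?_⟩
  rw [eq_div_iff (map_ne_zero_of_mem_nonZeroDivisors _
    (IsFractionRing.injective S (FractionRing S)) hb), ← map_mul]
  congr 1
  exact Subtype.ext hcb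

end Helper9.EqLocusIC
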