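import Groth.Agent.Lib.Helper9.ExalLib2
import Groth.Agent.Lib.Helper9.CharHomLib

/-!
# The extension `C ⊕ L` with `A`-structure twisted by a derivation-like map `A → L`
(any universe for `A`, no `A`-module structure on `L` needed)
-/

set_option autoImplicit false
universe u u' v

namespace Groth.Agent.Lib.Helper9.ExalDer

open Groth.Agent.Lib.Helper9.ExalLib
attribute [local instance] Exal.opModule Exal.isCentralScalar_opModule

variable {A : Type u} {C L : Type v} [CommRing A] [CommRing C] [Algebra A C] [AddCommGroup L]
  [Module C L]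

/-- A map `A → L` which is a derivation for the action of `A` on `L` through `A → C`. -/
structure DerData (A : Type u) (C L : Type v) [CommRing A] [CommRing C] [Algebra A C]
    [AddCommGroup L] [Module C L] where
  /-- the map -/
  d : A → L
  map_add : ∀ a a', d (a + a') = d a + d a'
  map_mul : ∀ a a', d (a * a') = algebraMap A C a • d a' + algebraMap A C a' • d a

namespace DerData

variable (D : DerData A C L)

lemma map_one : D.d 1 = 0 := by
  have h := D.map_mul 1 1
  rw [mul_one, _root_.map_one, one_smul] at h
  simpa using h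

lemma map_zero : D.d 0 = 0 := by
  have h := D.map_add 0 0
  rw [add_zero] at h
  simpa using h

/-- The ring map `a ↦ (ā, d a)`. -/
noncomputable def hom : A →+* TrivSqZeroExt C L where
  toFun a := TrivSqZeroExt.inl (algebraMap A C a) + TrivSqZeroExt.inr (D.d a)
  map_one' := by
    rw [_root_.map_one, D.map_one, TrivSqZeroExt.inr_zero, add_zero, TrivSqZeroExt.inl_one]
  map_mul' x y := by
    apply TrivSqZeroExt.ext
    · simp
    · simp only [TrivSqZeroExt.snd_add, TrivSqZeroExt.snd_inl, TrivSqZeroExt.snd_inr, zero_add,
        TrivSqZeroExt.snd_mul, TrivSqZeroExt.fst_add, TrivSqZeroExt.fst_inl, TrivSqZeroExt.fst_inr,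
        add_zero, op_smul_eq_smul, D.map_mul]
  map_zero' := by
    rw [_root_.map_zero, D.map_zero, TrivSqZeroExt.inl_zero, TrivSqZeroExt.inr_zero, add_zero]
  map_add' x y := by
    rw [_root_.map_add, D.map_add, TrivSqZeroExt.inl_add, TrivSqZeroExt.inr_add]
    abel

lemma hom_apply (a : A) :
    D.hom a = TrivSqZeroExt.inl (algebraMap A C a) + TrivSqZeroExt.inr (D.d a) := rfl

/-- The `A`-extension of `C` by `L` on `C ⊕ L` with structure map `a ↦ (ā, d a)`. -/
noncomputable def ext : Exal.Ext A C L :=
  letI : Algebra A (TrivSqZeroExt C L) := D.hom.toAlgebra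
  { E := TrivSqZeroExt C L
    proj :=
      { toFun := fun x => TrivSqZeroExt.fst x
        map_one' := TrivSqZeroExt.fst_one
        map_mul' := TrivSqZeroExt.fst_mul
        map_zero' := TrivSqZeroExt.fst_zero
        map_add' := TrivSqZeroExt.fst_add
        commutes' := fun x => by
          change TrivSqZeroExt.fst (TrivSqZeroExt.inl (algebraMap A C x) +
            TrivSqZeroExt.inr (D.d x)) = _
          rw [TrivSqZeroExt.fst_add, TrivSqZeroExt.fst_inl, TrivSqZeroExt.fst_inr, add_zero] }
    incl := (TrivSqZeroExt.inrHom C L).toAddMonoidHom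
    isExtension :=
      { proj_surjective := fun c => ⟨TrivSqZeroExt.inl c, rfl⟩
        incl_injective := TrivSqZeroExt.inr_injective
        exact := fun x => by
          constructor
          · intro hx
            exact ⟨TrivSqZeroExt.snd x, TrivSqZeroExt.ext hx.symm rfl⟩
          · rintro ⟨z, rfl⟩
            rfl
        mul_incl := fun x z => by
          refine TrivSqZeroExt.ext ?_ ?_
          · change TrivSqZeroExt.fst x * 0 = 0
            exact mul_zero _
          · change TrivSqZeroExt.fst x • z + MulOpposite.op (0 : C) • TrivSqZeroExt.snd x =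
              TrivSqZeroExt.fst x • z
            rw [MulOpposite.op_zero, zero_smul, add_zero] } }

lemma ext_algebraMap (a : A) :
    algebraMap A D.ext.E a =
      (TrivSqZeroExt.inl (algebraMap A C a) + TrivSqZeroExt.inr (D.d a) : TrivSqZeroExt C L) :=
  rfl

lemma ext_proj (x : D.ext.E) : D.ext.proj x = TrivSqZeroExt.fst (x : TrivSqZeroExt C L) := rfl

lemma ext_incl (z : L) : D.ext.incl z = (TrivSqZeroExt.inr z : TrivSqZeroExt C L) := rfl

end DerData

end Groth.Agent.Lib.Helper9.ExalDer
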