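import Groth.Agent.Lib.Helper9.ExalLib

/-!
# The extension of `B ⧸ J` by `M` attached to a linear map `J/J² → M`
-/

set_option autoImplicit false
universe u

namespace Groth.Agent.Lib.Helper9.ExalLib

attribute [local instance] Exal.opModule Exal.isCentralScalar_opModule

section surj

variable {B : Type u} [CommRing B] (J : Ideal B) {M : Type u} [AddCommGroup M]
  [Module (B ⧸ J) M] [Module B M] [IsScalarTower B (B ⧸ J) M] (w : J.Cotangent →ₗ[B] M)

omit [AddCommGroup M] [Module (B ⧸ J) M] [Module B M] [IsScalarTower B (B ⧸ J) M] in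
lemma mk_smul_eq {M : Type u} [AddCommGroup M]
    [Module (B ⧸ J) M] [Module B M] [IsScalarTower B (B ⧸ J) M] (b : B) (z : M) :
    (Ideal.Quotient.mk J b) • z = b • z := by
  rw [← Ideal.Quotient.algebraMap_eq, algebraMap_smul]

lemma smul_eq_zero_of_mem_ideal {j : B} (hj : j ∈ J) (z : M) : j • z = 0 := by
  rw [← mk_smul_eq J j z, Ideal.Quotient.eq_zero_iff_mem.2 hj, zero_smul]

/-- The element `(j, -w j)`. -/
def graphElt (j : J) : TrivSqZeroExt B M :=
  TrivSqZeroExt.inl (j : B) - TrivSqZeroExt.inr (w (J.toCotangent j))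

lemma graphElt_add (j j' : J) : graphElt J w (j + j') = graphElt J w j + graphElt J w j' := by
  unfold graphElt
  rw [map_add, map_add, Submodule.coe_add, TrivSqZeroExt.inl_add, TrivSqZeroExt.inr_add]; abel

lemma fst_graphElt (j : J) : TrivSqZeroExt.fst (graphElt J w j) = (j : B) := by
  unfold graphElt
  rw [TrivSqZeroExt.fst_sub, TrivSqZeroExt.fst_inl, TrivSqZeroExt.fst_inr, sub_zero]

lemma snd_graphElt (j : J) : TrivSqZeroExt.snd (graphElt J w j) = - w (J.toCotangent j) := by
  unfold graphElt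
  rw [TrivSqZeroExt.snd_sub, TrivSqZeroExt.snd_inl, TrivSqZeroExt.snd_inr, zero_sub]

lemma mul_graphElt (t : TrivSqZeroExt B M) (j : J) :
    t * graphElt J w j = graphElt J w (t.fst • j) := by
  apply TrivSqZeroExt.ext
  · rw [TrivSqZeroExt.fst_mul, fst_graphElt, fst_graphElt, Submodule.coe_smul, smul_eq_mul]
  · rw [TrivSqZeroExt.snd_mul, fst_graphElt, snd_graphElt, snd_graphElt, op_smul_eq_smul,
      smul_eq_zero_of_mem_ideal J j.2, add_zero, map_smul, map_smul, smul_neg]

/-- The ideal `{(j, -w j) | j ∈ J}` of `B ⊕ M`. -/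
def graphIdeal : Ideal (TrivSqZeroExt B M) where
  carrier := Set.range (graphElt J w)
  add_mem' := by
    rintro _ _ ⟨j, rfl⟩ ⟨j', rfl⟩
    exact ⟨j + j', graphElt_add J w j j'⟩
  zero_mem' := ⟨0, by
    apply TrivSqZeroExt.ext
    · rw [fst_graphElt]; rfl
    · rw [snd_graphElt, map_zero, map_zero, neg_zero]; rfl⟩
  smul_mem' := by
    rintro t _ ⟨j, rfl⟩
    exact ⟨t.fst • j, (mul_graphElt J w t j).symm⟩

lemma mem_graphIdeal {t : TrivSqZeroExt B M} :
    t ∈ graphIdeal J w ↔ ∃ j : J, graphElt J w j = t := Iff.rfl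

/-- The first projection as a ring homomorphism. -/
def fstRingHom : TrivSqZeroExt B M →+* B where
  toFun := TrivSqZeroExt.fst
  map_one' := TrivSqZeroExt.fst_one
  map_mul' := TrivSqZeroExt.fst_mul
  map_zero' := TrivSqZeroExt.fst_zero
  map_add' := TrivSqZeroExt.fst_add

lemma algebraMap_graph (b : B) :
    algebraMap B (TrivSqZeroExt B M ⧸ graphIdeal J w) b =
      Ideal.Quotient.mk (graphIdeal J w) (TrivSqZeroExt.inl b) := by
  rw [← Ideal.Quotient.mk_algebraMap, TrivSqZeroExt.algebraMap_eq_inl']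
  rfl

lemma mul_inr_eq (t : TrivSqZeroExt B M) (z : M) :
    t * TrivSqZeroExt.inr z = TrivSqZeroExt.inr (t.fst • z) := by
  apply TrivSqZeroExt.ext
  · rw [TrivSqZeroExt.fst_mul, TrivSqZeroExt.fst_inr, TrivSqZeroExt.fst_inr, mul_zero]
  · rw [TrivSqZeroExt.snd_mul, TrivSqZeroExt.snd_inr, TrivSqZeroExt.fst_inr, TrivSqZeroExt.snd_inr,
      MulOpposite.op_zero, zero_smul, add_zero]

/-- The extension of `B ⧸ J` by `M` with conormal map `w`. -/
noncomputable def graphExt : Exal.Ext B (B ⧸ J) M :=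
  @Exal.Ext.mk B (B ⧸ J) M _ _ _ _ _ (TrivSqZeroExt B M ⧸ graphIdeal J w) inferInstance
    inferInstance
    { toRingHom := Ideal.Quotient.lift (graphIdeal J w)
        ((Ideal.Quotient.mk J).comp (fstRingHom (M := M)))
        (by
          rintro t ⟨j, rfl⟩
          show Ideal.Quotient.mk J (TrivSqZeroExt.fst (graphElt J w j)) = 0
          rw [fst_graphElt]
          exact Ideal.Quotient.eq_zero_iff_mem.2 j.2)
      commutes' := fun b => by
        rw [algebraMap_graph]
        show Ideal.Quotient.mk J (TrivSqZeroExt.fst (TrivSqZeroExt.inl b : TrivSqZeroExt B M)) = _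
        rw [TrivSqZeroExt.fst_inl]; rfl }
    ((Ideal.Quotient.mk (graphIdeal J w)).toAddMonoidHom.comp
      (TrivSqZeroExt.inrHom B M).toAddMonoidHom)
    { proj_surjective := fun c => by
        obtain ⟨b, rfl⟩ := Ideal.Quotient.mk_surjective c
        refine ⟨Ideal.Quotient.mk _ (TrivSqZeroExt.inl b), ?_⟩
        show Ideal.Quotient.mk J (TrivSqZeroExt.fst (TrivSqZeroExt.inl b : TrivSqZeroExt B M)) = _
        rw [TrivSqZeroExt.fst_inl]
      incl_injective := fun z z' h => by
        have h' : Ideal.Quotient.mk (graphIdeal J w) (TrivSqZeroExt.inr z) =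
            Ideal.Quotient.mk (graphIdeal J w) (TrivSqZeroExt.inr z') := h
        rw [Ideal.Quotient.eq] at h'
        obtain ⟨j, hj⟩ := h'
        have h1 := congrArg TrivSqZeroExt.fst hj
        rw [fst_graphElt, TrivSqZeroExt.fst_sub, TrivSqZeroExt.fst_inr, TrivSqZeroExt.fst_inr,
          sub_zero] at h1
        have hj0 : j = 0 := Subtype.ext h1
        subst hj0
        have h2 := congrArg TrivSqZeroExt.snd hj
        rw [snd_graphElt, map_zero, map_zero, neg_zero, TrivSqZeroExt.snd_sub,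
          TrivSqZeroExt.snd_inr, TrivSqZeroExt.snd_inr] at h2
        exact sub_eq_zero.mp h2.symm
      exact := fun x => by
        obtain ⟨t, rfl⟩ := Ideal.Quotient.mk_surjective x
        constructor
        · intro hx
          have hx' : Ideal.Quotient.mk J (TrivSqZeroExt.fst t) = 0 := hx
          rw [Ideal.Quotient.eq_zero_iff_mem] at hx'
          refine ⟨TrivSqZeroExt.snd t + w (J.toCotangent ⟨TrivSqZeroExt.fst t, hx'⟩), ?_⟩
          symm
          show Ideal.Quotient.mk (graphIdeal J w) t = Ideal.Quotient.mk (graphIdeal J w)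
            (TrivSqZeroExt.inr (TrivSqZeroExt.snd t + w (J.toCotangent ⟨TrivSqZeroExt.fst t, hx'⟩)))
          rw [Ideal.Quotient.eq]
          refine ⟨⟨TrivSqZeroExt.fst t, hx'⟩, ?_⟩
          apply TrivSqZeroExt.ext
          · rw [fst_graphElt, TrivSqZeroExt.fst_sub, TrivSqZeroExt.fst_inr, sub_zero]
          · rw [snd_graphElt, TrivSqZeroExt.snd_sub, TrivSqZeroExt.snd_inr]; abel
        · rintro ⟨z, hz⟩
          rw [← hz]
          show Ideal.Quotient.mk J (TrivSqZeroExt.fst (TrivSqZeroExt.inr z : TrivSqZeroExt B M)) = 0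
          rw [TrivSqZeroExt.fst_inr, map_zero]
      mul_incl := fun x z => by
        obtain ⟨t, rfl⟩ := Ideal.Quotient.mk_surjective x
        show Ideal.Quotient.mk (graphIdeal J w) t *
            Ideal.Quotient.mk (graphIdeal J w) (TrivSqZeroExt.inr z) =
          Ideal.Quotient.mk (graphIdeal J w)
            (TrivSqZeroExt.inr ((Ideal.Quotient.mk J (TrivSqZeroExt.fst t)) • z))
        rw [← map_mul, mul_inr_eq, mk_smul_eq] }

lemma graphExt_conormalMap : (graphExt J w).conormalMap J = w := by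
  apply LinearMap.ext
  intro c
  obtain ⟨j, rfl⟩ := J.toCotangent_surjective c
  apply (graphExt J w).isExtension.incl_injective
  rw [incl_conormalMap]
  show algebraMap B (TrivSqZeroExt B M ⧸ graphIdeal J w) (j : B) =
    Ideal.Quotient.mk (graphIdeal J w) (TrivSqZeroExt.inr (w (J.toCotangent j)))
  rw [algebraMap_graph, Ideal.Quotient.eq]
  exact ⟨j, rfl⟩

end surj

end Groth.Agent.Lib.Helper9.ExalLib
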