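import Mathlib
import Groth.Agent.Lib.Helper10.DeRhamQuot

/-!
# Exterior powers of flat modules are flat (helper9)

* `factor_free`: for a flat module `M`, a linear map `φ` from a free module `ι →₀ R` to `M` and a
  finite set `T` of elements of `ker φ`, the map `φ` factors through a free module by a map
  killing `T`.
* `flat_exteriorPower`: `⋀^n M` is flat when `M` is flat.
-/

set_option autoImplicit false
set_option linter.style.haveILetI false
set_option linter.unusedSectionVars false
universe u v w w'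

namespace Groth.Agent.Lib.Helper9.ExtFlat

open exteriorPower

variable {R : Type u} [CommRing R] {M : Type v} [AddCommGroup M] [Module R M]

/-- Abstract form: `FS` a finite free retract-like piece of `F` containing `T`. -/
theorem factor_split [Module.Flat R M] {F : Type w} [AddCommGroup F] [Module R F]
    {FS : Type w'} [AddCommGroup FS] [Module R FS] [Module.Free R FS] [Module.Finite R FS]
    (incl : FS →ₗ[R] F) (r : F →ₗ[R] FS) (φ : F →ₗ[R] M)
    (T : Finset F) (hT : ∀ κ ∈ T, φ κ = 0) (hri : ∀ κ ∈ T, incl (r κ) = κ) :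
    ∃ (k : ℕ) (a : F →ₗ[R] ((Fin k →₀ R) × F))
      (y : ((Fin k →₀ R) × F) →ₗ[R] M), φ = y ∘ₗ a ∧ ∀ κ ∈ T, a κ = 0 := by
  classical
  obtain ⟨KS, hKS⟩ : ∃ KS : Submodule R FS,
      KS = Submodule.span R ((fun κ => r κ) '' (T : Set F)) := ⟨_, rfl⟩
  haveI : Module.Finite R KS := by
    rw [hKS]
    exact Module.Finite.of_fg (Submodule.fg_span ((Finset.finite_toSet T).image _))
  have hx : (φ ∘ₗ incl) ∘ₗ KS.subtype = 0 := by
    apply LinearMap.ext
    intro u
    have hle : KS ≤ LinearMap.ker (φ ∘ₗ incl) := by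
      rw [hKS, Submodule.span_le]
      rintro _ ⟨κ, hκ, rfl⟩
      show (φ ∘ₗ incl) (r κ) = 0
      rw [LinearMap.comp_apply, hri κ hκ, hT κ hκ]
    exact hle u.2
  obtain ⟨k, a, y, hya, haf⟩ := Module.Flat.exists_factorization_of_comp_eq_zero_of_free hx
  refine ⟨k, (a ∘ₗ r).prod (LinearMap.id - incl ∘ₗ r), y.coprod φ, ?_, ?_⟩
  · apply LinearMap.ext
    intro v
    have h1 : φ (incl (r v)) = y (a (r v)) := by
      have := LinearMap.congr_fun hya (r v)
      simpa using this
    show φ v = (y.coprod φ) ((a (r v)), (v - incl (r v)))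
    rw [LinearMap.coprod_apply, map_sub, ← h1]
    abel
  · intro κ hκ
    have h1 : a (r κ) = 0 := by
      have hm : r κ ∈ KS := by
        rw [hKS]
        exact Submodule.subset_span ⟨κ, hκ, rfl⟩
      have := LinearMap.congr_fun haf ⟨r κ, hm⟩
      simpa using this
    show ((a (r κ)), (κ - incl (r κ))) = (0 : (Fin k →₀ R) × F)
    rw [h1, hri κ hκ, sub_self]
    rfl

/-- Factoring a map from a free module to a flat module through a free module killing finitely
many prescribed elements of the kernel. -/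
theorem factor_free [Module.Flat R M] {ι : Type w} (φ : (ι →₀ R) →ₗ[R] M)
    (T : Finset (ι →₀ R)) (hT : ∀ κ ∈ T, φ κ = 0) :
    ∃ (k : ℕ) (a : (ι →₀ R) →ₗ[R] ((Fin k →₀ R) × (ι →₀ R)))
      (y : ((Fin k →₀ R) × (ι →₀ R)) →ₗ[R] M), φ = y ∘ₗ a ∧ ∀ κ ∈ T, a κ = 0 := by
  classical
  obtain ⟨S, hS⟩ : ∃ S : Finset ι, S = T.biUnion (fun κ => κ.support) := ⟨_, rfl⟩
  haveI : Module.Free R (Finsupp.supported R R (S : Set ι)) :=
    Module.Free.of_equiv (Finsupp.supportedEquivFinsupp (M := R) (R := R) (S : Set ι)).symm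
  haveI : Module.Finite R (Finsupp.supported R R (S : Set ι)) :=
    Module.Finite.equiv (Finsupp.supportedEquivFinsupp (M := R) (R := R) (S : Set ι)).symm
  refine factor_split (F := ι →₀ R) (FS := ↥(Finsupp.supported R R (S : Set ι)))
    (Finsupp.supported R R (S : Set ι)).subtype
    (Finsupp.restrictDom R R (S : Set ι)) φ T hT ?_
  intro κ hκ
  show ((Finsupp.restrictDom R R (S : Set ι) κ : Finsupp.supported R R (S : Set ι)) : ι →₀ R) = κ
  rw [Finsupp.restrictDom_apply]
  apply (Finsupp.filter_eq_self_iff _ _).mpr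
  intro i hi
  have : i ∈ κ.support := Finsupp.mem_support_iff.mpr hi
  rw [hS]
  exact Finset.mem_coe.mpr (Finset.mem_biUnion.mpr ⟨κ, hκ, this⟩)

/-- **Exterior powers of a flat module are flat.** -/
theorem flat_exteriorPower [Module.Flat R M] (n : ℕ) : Module.Flat R (⋀[R]^n M) := by
  classical
  apply Module.Flat.of_forall_isTrivialRelation
  intro l f x hfx
  let π : (M →₀ R) →ₗ[R] M := Finsupp.linearCombination R id
  have hπ : Function.Surjective π := Finsupp.linearCombination_id_surjective R M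
  have hΛ : Function.Surjective (exteriorPower.map n π) := exteriorPower.map_surjective hπ
  choose xt hxt using fun j => hΛ (x j)
  set z : ⋀[R]^n (M →₀ R) := ∑ j, f j • xt j with hz
  have hzk : z ∈ LinearMap.ker (exteriorPower.map n π) := by
    rw [LinearMap.mem_ker, hz, map_sum]
    simp only [map_smul, hxt]
    exact hfx
  have hzK := H10DQ.ker_map_le π hπ n hzk
  rw [H10DQ.KK, Submodule.mem_span_iff_exists_finset_subset] at hzK
  obtain ⟨c, t, ht, -, hsum⟩ := hzK
  -- choose witnesses
  have hw : ∀ w : ↥(⋀[R]^n (M →₀ R)), w ∈ t → ∃ (v : Fin n → (M →₀ R)) (i : Fin n),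
      π (v i) = 0 ∧ ιMulti R n v = w := by
    intro w hwt
    obtain ⟨v, ⟨i, hi⟩, hv⟩ := ht hwt
    exact ⟨v, i, hi, hv⟩
  choose v iw hv0 hvw using hw
  have hTker : ∀ κ ∈ t.attach.image (fun w : {x // x ∈ t} => v w.1 w.2 (iw w.1 w.2)),
      π κ = 0 := by
    intro κ hκ
    obtain ⟨w, -, hw⟩ := Finset.mem_image.mp hκ
    rw [← hw]
    exact hv0 w.1 w.2
  obtain ⟨k, a, y, hya, haT⟩ := factor_free π _ hTker
  -- the relation in the free module
  set u : Fin l → ⋀[R]^n ((Fin k →₀ R) × (M →₀ R)) := fun j => exteriorPower.map n a (xt j)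
    with hu
  have hrel : ∑ j, f j • u j = 0 := by
    have h1 : ∑ j, f j • u j = exteriorPower.map n a z := by
      rw [hz, map_sum]
      simp only [map_smul, hu]
    rw [h1, ← hsum, map_sum]
    apply Finset.sum_eq_zero
    intro w hwt
    rw [map_smul, ← hvw w hwt, exteriorPower.map_apply_ιMulti]
    have h0 : (a ∘ v w hwt) (iw w hwt) = 0 :=
      haT _ (Finset.mem_image.mpr ⟨⟨w, hwt⟩, Finset.mem_attach _ _, rfl⟩)
    rw [(ιMulti R n).map_coord_zero (iw w hwt) h0, smul_zero]
  obtain ⟨k', a', y', hxy, hfa⟩ := Module.Flat.isTrivialRelation_of_sum_smul_eq_zero hrel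
  refine ⟨k', a', fun t => exteriorPower.map n y (y' t), ?_, hfa⟩
  intro j
  have h2 : x j = exteriorPower.map n y (u j) := by
    rw [hu]
    show x j = (exteriorPower.map n y ∘ₗ exteriorPower.map n a) (xt j)
    rw [← exteriorPower.map_comp, ← hya, hxt]
  rw [h2, hxy j, map_sum]
  simp only [map_smul]

end Groth.Agent.Lib.Helper9.ExtFlat
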