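import Mathlib.RingTheory.Regular.Category
import Mathlib.RingTheory.Regular.RegularSequence
import Mathlib.Algebra.Category.ModuleCat.Ext.HasExt
import Mathlib.Algebra.Homology.DerivedCategory.Ext.ExactSequences
import Mathlib.Algebra.Homology.DerivedCategory.Ext.Linear

/-!
# `Ext` and regular sequences killing the source: `Hom(K, M/xsM) ≃ Ext^n(K, M)`
-/

set_option autoImplicit false
universe u v w
open CategoryTheory

namespace Groth.Agent.Lib.Helper9

/-- Postcomposition with an isomorphism, as an additive equivalence. -/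
def homPostcompAddEquiv {C : Type u} [Category.{v} C] [Preadditive C] (X : C) {Y Y' : C}
    (e : Y ≅ Y') : (X ⟶ Y) ≃+ (X ⟶ Y') where
  toFun f := f ≫ e.hom
  invFun g := g ≫ e.inv
  left_inv f := by simp
  right_inv g := by simp
  map_add' f g := by simp [Preadditive.add_comp]

variable {A : Type u} [CommRing A]

/-- If `x` kills `K`, postcomposition with `x` on `Ext(K, M)` is zero. -/
lemma ext_comp_smul_id_eq_zero {K M : ModuleCat.{u} A} (x : A) (hK : x • 𝟙 K = 0) {i : ℕ}
    (y : Abelian.Ext K M i) :
    y.comp (Abelian.Ext.mk₀ (x • 𝟙 M)) (add_zero i) = 0 := by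
  rw [← Abelian.Ext.smul_eq_comp_mk₀]
  have h1 : x • y = (Abelian.Ext.mk₀ (x • 𝟙 K)).comp y (zero_add i) := by
    rw [Abelian.Ext.mk₀_smul, Abelian.Ext.smul_comp, Abelian.Ext.mk₀_id_comp]
  rw [h1, hK, Abelian.Ext.mk₀_zero, Abelian.Ext.zero_comp]

lemma ext_connecting_surjective {K M : ModuleCat.{u} A} (x : A) (hK : x • 𝟙 K = 0)
    (hx : IsSMulRegular M x) (i : ℕ) (y : Abelian.Ext K M (i + 1)) :
    ∃ z : Abelian.Ext K (ModuleCat.of A (QuotSMulTop x M)) i,
      z.comp hx.smulShortComplex_shortExact.extClass rfl = y :=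
  Abelian.Ext.covariant_sequence_exact₁ K hx.smulShortComplex_shortExact y
    (ext_comp_smul_id_eq_zero x hK y) rfl

lemma ext_connecting_injective {K M : ModuleCat.{u} A} (x : A) (hx : IsSMulRegular M x) (i : ℕ)
    (hvan : Subsingleton (Abelian.Ext K M i))
    (z : Abelian.Ext K (ModuleCat.of A (QuotSMulTop x M)) i)
    (hz : z.comp hx.smulShortComplex_shortExact.extClass rfl = 0) : z = 0 := by
  obtain ⟨x₂, rfl⟩ := Abelian.Ext.covariant_sequence_exact₃ K hx.smulShortComplex_shortExact z rfl hz
  have hx₂ : x₂ = (0 : Abelian.Ext K (M.smulShortComplex x).X₂ i) := hvan.elim _ _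
  rw [hx₂]
  exact Abelian.Ext.zero_comp K i _ _ _

/-- If `xs` is a weakly `M`-regular sequence of elements killing `K`, then `Ext^i(K, M) = 0` for
`i < xs.length`. -/
lemma ext_subsingleton_of_isWeaklyRegular (K : ModuleCat.{u} A) (xs : List A) :
    ∀ (M : ModuleCat.{u} A), (∀ x ∈ xs, x • 𝟙 K = 0) →
      RingTheory.Sequence.IsWeaklyRegular M xs →
      ∀ i < xs.length, Subsingleton (Abelian.Ext K M i) := by
  induction xs with
  | nil => intro M _ _ i hi; simp at hi
  | cons x xs ih =>
    intro M hK hreg i hi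
    rw [RingTheory.Sequence.isWeaklyRegular_cons_iff] at hreg
    obtain ⟨hx, hreg'⟩ := hreg
    have hKx : x • 𝟙 K = 0 := hK x List.mem_cons_self
    cases i with
    | zero =>
      suffices h : ∀ y : Abelian.Ext K M 0, y = 0 from ⟨fun a b => by rw [h a, h b]⟩
      intro y
      obtain ⟨f, rfl⟩ := Abelian.Ext.homEquiv₀.symm.surjective y
      have hf : f = 0 := by
        apply ModuleCat.hom_ext
        apply LinearMap.ext
        intro k
        have h1 : x • k = 0 := by
          have h2 := congrArg (fun g : K ⟶ K => g.hom k) hKx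
          simpa using h2
        apply hx
        show x • f.hom k = x • (0 : K ⟶ M).hom k
        rw [← map_smul, h1, map_zero]
        simp
      rw [hf]
      simp
    | succ i =>
      suffices h : ∀ y : Abelian.Ext K M (i + 1), y = 0 from ⟨fun a b => by rw [h a, h b]⟩
      intro y
      obtain ⟨z, rfl⟩ := ext_connecting_surjective x hKx hx i y
      have h3 := ih (ModuleCat.of A (QuotSMulTop x M))
        (fun x' hx' => hK x' (List.mem_cons_of_mem _ hx')) hreg' i (by simpa using hi)
      rw [h3.elim z 0]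
      exact Abelian.Ext.zero_comp K i _ _ _

/-- `Hom(K, M/xsM) ≃+ Ext^n(K, M)` for a weakly `M`-regular sequence `xs` of length `n` of
elements killing `K`. -/
theorem nonempty_hom_addEquiv_ext (K : ModuleCat.{u} A) (xs : List A) :
    ∀ (M : ModuleCat.{u} A), (∀ x ∈ xs, x • 𝟙 K = 0) →
      RingTheory.Sequence.IsWeaklyRegular M xs →
      Nonempty ((K ⟶ ModuleCat.of A (M ⧸ (Ideal.ofList xs • ⊤ : Submodule A M))) ≃+
        Abelian.Ext K M xs.length) := by
  induction xs with
  | nil =>
    intro M _ _
    let e : (M ⧸ (Ideal.ofList ([] : List A) • ⊤ : Submodule A M)) ≃ₗ[A] M :=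
      Submodule.quotEquivOfEqBot _ (by rw [Ideal.ofList_nil, Submodule.bot_smul])
    exact ⟨(homPostcompAddEquiv K e.toModuleIso).trans Abelian.Ext.addEquiv₀.symm⟩
  | cons x xs ih =>
    intro M hK hreg
    have hreg0 := hreg
    rw [RingTheory.Sequence.isWeaklyRegular_cons_iff] at hreg
    obtain ⟨hx, hreg'⟩ := hreg
    have hKx : x • 𝟙 K = 0 := hK x List.mem_cons_self
    have hK' : ∀ x' ∈ xs, x' • 𝟙 K = 0 := fun x' hx' => hK x' (List.mem_cons_of_mem _ hx')
    obtain ⟨e₁⟩ := ih (ModuleCat.of A (QuotSMulTop x M)) hK' hreg'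
    let e₀ := homPostcompAddEquiv K
      (Submodule.quotOfListConsSMulTopEquivQuotSMulTopInner M x xs).toModuleIso
    let δ : Abelian.Ext K (ModuleCat.of A (QuotSMulTop x M)) xs.length →+
        Abelian.Ext K M (xs.length + 1) :=
      hx.smulShortComplex_shortExact.extClass.postcomp K rfl
    have hvan : Subsingleton (Abelian.Ext K M xs.length) :=
      ext_subsingleton_of_isWeaklyRegular K (x :: xs) M hK hreg0 xs.length (by simp)
    have hδ : Function.Bijective δ := by
      constructor
      · rw [injective_iff_map_eq_zero]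
        intro z hz
        exact ext_connecting_injective x hx _ hvan z hz
      · intro y
        exact ext_connecting_surjective x hKx hx _ y
    exact ⟨(e₀.trans e₁).trans (AddEquiv.ofBijective δ hδ)⟩

end Groth.Agent.Lib.Helper9
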