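import Mathlib.RingTheory.LocalRing.ResidueField.Fiber
import Mathlib.RingTheory.Spectrum.Prime.Chevalley
import Mathlib.RingTheory.TensorProduct.Maps

/-!
# Fibres of `Spec (R ⊗[k] S) → Spec R` over a field `k`
-/

namespace Groth.Agent.Lib.Helper9.FiberLib

open TensorProduct

universe u
variable {k R S : Type u} [Field k] [CommRing R] [CommRing S] [Algebra k R] [Algebra k S]

/-- The fibre of `Spec (R ⊗[k] S) → Spec R` over `p` is `Spec (κ(p) ⊗[k] S)`. -/
noncomputable def fiberHomeo (p : PrimeSpectrum R) :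
    PrimeSpectrum.comap (algebraMap R (R ⊗[k] S)) ⁻¹' {p} ≃ₜ
      PrimeSpectrum (p.asIdeal.ResidueField ⊗[k] S) :=
  (PrimeSpectrum.preimageHomeomorphFiber R (R ⊗[k] S) p).trans
    (PrimeSpectrum.homeomorphOfRingEquiv
      (Algebra.TensorProduct.cancelBaseChange k R R p.asIdeal.ResidueField S).toRingEquiv)

theorem isOpenMap_comap :
    IsOpenMap (PrimeSpectrum.comap (algebraMap R (R ⊗[k] S))) :=
  PrimeSpectrum.isOpenMap_comap_algebraMap_tensorProduct_of_field

theorem isConnected_fiber
    (hS : ∀ (k' : Type u) [Field k'] [Algebra k k'], ConnectedSpace (PrimeSpectrum (k' ⊗[k] S)))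
    (p : PrimeSpectrum R) :
    IsConnected (PrimeSpectrum.comap (algebraMap R (R ⊗[k] S)) ⁻¹' {p}) := by
  rw [isConnected_iff_connectedSpace]
  haveI := hS p.asIdeal.ResidueField
  exact (fiberHomeo (k := k) (S := S) p).connectedSpace_iff.mpr inferInstance

theorem isIrreducible_fiber
    (hS : ∀ (k' : Type u) [Field k'] [Algebra k k'], IrreducibleSpace (PrimeSpectrum (k' ⊗[k] S)))
    (p : PrimeSpectrum R) :
    IsIrreducible (PrimeSpectrum.comap (algebraMap R (R ⊗[k] S)) ⁻¹' {p}) := by
  rw [isIrreducible_iff_irreducibleSpace]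
  haveI := hS p.asIdeal.ResidueField
  exact (fiberHomeo (k := k) (S := S) p).irreducibleSpace_iff.mpr inferInstance

theorem comap_surjective_of_irreducible
    (hS : ∀ (k' : Type u) [Field k'] [Algebra k k'], IrreducibleSpace (PrimeSpectrum (k' ⊗[k] S))) :
    Function.Surjective (PrimeSpectrum.comap (algebraMap R (R ⊗[k] S))) := fun p => by
  obtain ⟨q, hq⟩ := (isIrreducible_fiber (R := R) hS p).nonempty
  exact ⟨q, hq⟩

theorem comap_surjective_of_connected
    (hS : ∀ (k' : Type u) [Field k'] [Algebra k k'], ConnectedSpace (PrimeSpectrum (k' ⊗[k] S))) :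
    Function.Surjective (PrimeSpectrum.comap (algebraMap R (R ⊗[k] S))) := fun p => by
  obtain ⟨q, hq⟩ := (isConnected_fiber (R := R) hS p).nonempty
  exact ⟨q, hq⟩

theorem irreducibleSpace_tensor
    (hS : ∀ (k' : Type u) [Field k'] [Algebra k k'], IrreducibleSpace (PrimeSpectrum (k' ⊗[k] S)))
    [IrreducibleSpace (PrimeSpectrum R)] : IrreducibleSpace (PrimeSpectrum (R ⊗[k] S)) := by
  rw [irreducibleSpace_def]
  have : (⊤ : Set (PrimeSpectrum (R ⊗[k] S))) =
      PrimeSpectrum.comap (algebraMap R (R ⊗[k] S)) ⁻¹' Set.univ := rfl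
  rw [this]
  refine (IrreducibleSpace.isIrreducible_univ _).preimage_of_isPreirreducible_fiber _
    isOpenMap_comap (fun p => (isIrreducible_fiber hS p).isPreirreducible) ?_
  rw [Set.univ_inter]
  exact Set.range_nonempty_iff_nonempty.mpr
    ((comap_surjective_of_irreducible (R := R) hS).nonempty)

end Groth.Agent.Lib.Helper9.FiberLib
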