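import Mathlib
import Groth.Prelude.Def_Fitting
import Groth.Agent.Lib.Helper18.FittLib5

/-!
# Structure of a finite module with `Fit_k = (f)` (nonzerodivisor) and `Fit_{k-1} = 0` (helper9)

Global (localization-free) proof: partition of unity by cofactors of the maximal minors, explicit
retractions onto the relation modules.
-/

set_option autoImplicit false
universe u v

namespace Groth.Agent.Lib.Helper9.FittStruct

open Matrix CategoryTheory
open Groth.Agent.Lib.Helper18.FittLib

noncomputable section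

section Basic
variable {R : Type u} [CommRing R]

lemma nzd_zero {f : R} (hf : f ∈ nonZeroDivisors R) {x : R} (h : f * x = 0) : x = 0 :=
  (mul_left_mem_nonZeroDivisors_eq_zero_iff hf).1 h

lemma nzd_cancel {f : R} (hf : f ∈ nonZeroDivisors R) {x y : R} (h : f * x = f * y) : x = y := by
  have h0 : f * (x - y) = 0 := by rw [mul_sub, h, sub_self]
  exact sub_eq_zero.1 (nzd_zero hf h0)

lemma nzd_smul_pi {f : R} (hf : f ∈ nonZeroDivisors R) {ι : Type*} {x : ι → R}
    (h : f • x = 0) : x = 0 := by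
  funext i
  have := congrFun h i
  simp only [Pi.smul_apply, smul_eq_mul, Pi.zero_apply] at this
  exact nzd_zero hf this

lemma exists_div_linear {P : Type*} [AddCommGroup P] [Module R P] {ι : Type*}
    {f : R} (hf : f ∈ nonZeroDivisors R) (L : P →ₗ[R] (ι → R))
    (h : ∀ z i, ∃ w : R, f * w = L z i) :
    ∃ ψ : P →ₗ[R] (ι → R), ∀ z, f • ψ z = L z := by
  choose ψ0 hψ0 using h
  refine ⟨{ toFun := fun z i => ψ0 z i, map_add' := ?_, map_smul' := ?_ }, ?_⟩
  · intro x y
    funext i
    refine nzd_cancel hf ?_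
    show f * ψ0 (x + y) i = f * (ψ0 x i + ψ0 y i)
    rw [mul_add, hψ0, hψ0, hψ0, map_add, Pi.add_apply]
  · intro r x
    funext i
    refine nzd_cancel hf ?_
    show f * ψ0 (r • x) i = f * (r * ψ0 x i)
    rw [hψ0, mul_left_comm, hψ0, map_smul, Pi.smul_apply, smul_eq_mul]
  · intro z
    funext i
    show f * ψ0 z i = L z i
    exact hψ0 z i

lemma pdLT_two_of_ker {M P : Type u} [AddCommGroup M] [Module R M]
    [AddCommGroup P] [Module R P] [Module.Projective R P] (π : P →ₗ[R] M)
    (hπ : Function.Surjective π) (hK : Module.Projective R (LinearMap.ker π)) :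
    HasProjectiveDimensionLT (ModuleCat.of R M) 2 := by
  let S : ShortComplex (ModuleCat.{u} R) :=
    ModuleCat.shortComplexOfCompEqZero (LinearMap.ker π).subtype π
      (LinearMap.exact_subtype_ker_map π).linearMap_comp_eq_zero
  have hS : S.ShortExact := ModuleCat.shortComplex_shortExact S
    (LinearMap.exact_subtype_ker_map π) (LinearMap.ker π).injective_subtype hπ
  have h1 : Projective S.X₁ := (IsProjective.iff_projective (R := R) (LinearMap.ker π)).mp hK
  have h2 : Projective S.X₂ := (IsProjective.iff_projective (R := R) P).mp inferInstance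
  have h1' : HasProjectiveDimensionLT S.X₁ 1 := projective_iff_hasProjectiveDimensionLT_one.1 h1
  have h2'' : HasProjectiveDimensionLT S.X₂ 1 := projective_iff_hasProjectiveDimensionLT_one.1 h2
  have h2' : HasProjectiveDimensionLT S.X₂ 2 :=
    hasProjectiveDimensionLT_of_ge (X := S.X₂) (n := 1) 2 (by omega)
  exact hS.hasProjectiveDimensionLT_X₃ 1 h1' h2'

lemma minorIdeal_eq_bot_of_lt {n t : ℕ} (Z : Set (Fin n → R)) (h : n < t) :
    minorIdeal Z t = ⊥ := by
  rw [eq_bot_iff]
  refine Ideal.span_le.2 ?_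
  rintro d ⟨z, e, -, rfl⟩
  obtain ⟨a, a', hne, hee⟩ := Fintype.exists_ne_map_eq_of_card_lt e (by simpa using h)
  have : (Matrix.of fun a b => z b (e a)).det = 0 :=
    Matrix.det_zero_of_row_eq hne (by
      funext b
      show z b (e a) = z b (e a')
      rw [hee])
  simp [this]

/-- The bordered determinant identity (weak form): if the bordered matrix has determinant zero
then `det B * (d * det B - w · adj(B) u) = 0`. -/
lemma bordered_identity {q : ℕ} (B : Matrix (Fin q) (Fin q) R) (U : Matrix (Fin q) (Fin 1) R)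
    (W : Matrix (Fin 1) (Fin q) R) (Dd : Matrix (Fin 1) (Fin 1) R)
    (h0 : (Matrix.fromBlocks B U W Dd).det = 0) :
    B.det * (Dd 0 0 * B.det - ∑ b, W 0 b * Matrix.cramer B (fun a => U a 0) b) = 0 := by
  classical
  have hv : (Matrix.fromBlocks B U W Dd) *ᵥ
        (Sum.elim (Matrix.cramer B (fun a => U a 0)) (fun _ => - B.det))
      = Sum.elim (0 : Fin q → R) (fun _ : Fin 1 =>
          -(Dd 0 0 * B.det - ∑ b, W 0 b * Matrix.cramer B (fun a => U a 0) b)) := by
    rw [Matrix.fromBlocks_mulVec, Sum.elim_comp_inl, Sum.elim_comp_inr, Matrix.mulVec_cramer]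
    congr 1
    · funext a
      simp only [Pi.add_apply, Pi.smul_apply, smul_eq_mul, Matrix.mulVec, dotProduct,
        Fin.sum_univ_one, Pi.zero_apply]
      ring
    · funext i
      have hi : i = 0 := Subsingleton.elim _ _
      subst hi
      simp only [Pi.add_apply, Matrix.mulVec, dotProduct, Fin.sum_univ_one]
      ring
  have h3 : (Matrix.fromBlocks B U W Dd).adjugate *ᵥ ((Matrix.fromBlocks B U W Dd) *ᵥ
        (Sum.elim (Matrix.cramer B (fun a => U a 0)) (fun _ => - B.det))) = 0 := by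
    rw [Matrix.mulVec_mulVec, Matrix.adjugate_mul, h0, zero_smul, Matrix.zero_mulVec]
  rw [hv] at h3
  have hadj : (Matrix.fromBlocks B U W Dd).adjugate (Sum.inr 0) (Sum.inr 0) = B.det := by
    rw [Matrix.adjugate_apply]
    have : (Matrix.fromBlocks B U W Dd).updateRow (Sum.inr 0) (Pi.single (Sum.inr 0) 1)
        = Matrix.fromBlocks B U 0 1 := by
      ext i j
      rcases i with i | i <;> rcases j with j | j
      · simp [Matrix.updateRow_apply]
      · simp [Matrix.updateRow_apply]
      · have hi : i = 0 := Subsingleton.elim _ _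
        subst hi
        simp [Matrix.updateRow_apply]
      · have hi : i = 0 := Subsingleton.elim _ _
        have hj : j = 0 := Subsingleton.elim _ _
        subst hi hj
        simp [Matrix.updateRow_apply]
    rw [this, Matrix.det_fromBlocks_zero₂₁, Matrix.det_one, mul_one]
  have h4 := congrFun h3 (Sum.inr 0)
  simp only [Matrix.mulVec, dotProduct, Fintype.sum_sum_type, Sum.elim_inl, Sum.elim_inr,
    Pi.zero_apply, mul_zero, Finset.sum_const_zero, zero_add, Fin.sum_univ_one, hadj] at h4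
  have hneg : B.det * (Dd 0 0 * B.det - ∑ b, W 0 b * Matrix.cramer B (fun a => U a 0) b)
      = -(B.det * -(Dd 0 0 * B.det - ∑ b, W 0 b * Matrix.cramer B (fun a => U a 0) b)) := by
    ring
  rw [hneg, h4, neg_zero]

end Basic

section Minor
variable {R : Type u} [CommRing R] {n q : ℕ}

/-- rows: coordinates `σ a`; columns: relations `ρ b`. -/
def minorMat (ρ : Fin q → Fin n → R) (σ : Fin q → Fin n) : Matrix (Fin q) (Fin q) R :=
  Matrix.of fun a b => ρ b (σ a)

@[simp] lemma minorMat_apply (ρ : Fin q → Fin n → R) (σ : Fin q → Fin n) (a b : Fin q) :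
    minorMat ρ σ a b = ρ b (σ a) := rfl

lemma det_minorMat_mem {Z : Set (Fin n → R)} (ρ : Fin q → Fin n → R) (σ : Fin q → Fin n)
    (hρ : ∀ b, ρ b ∈ Z) : (minorMat ρ σ).det ∈ minorIdeal Z q :=
  Ideal.subset_span ⟨ρ, σ, hρ, rfl⟩

lemma minorMat_updateRow (ρ : Fin q → Fin n → R) (σ : Fin q → Fin n) (c : Fin q) (t : Fin n) :
    (minorMat ρ σ).updateRow c (fun b => ρ b t) = minorMat ρ (Function.update σ c t) := by
  ext a b
  simp only [Matrix.updateRow_apply, minorMat_apply, Function.update_apply]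
  split_ifs <;> rfl

lemma minorMat_updateCol (ρ : Fin q → Fin n → R) (σ : Fin q → Fin n) (b : Fin q)
    (z : Fin n → R) :
    (minorMat ρ σ).updateCol b (fun a => z (σ a)) = minorMat (Function.update ρ b z) σ := by
  ext a b'
  simp only [Matrix.updateCol_apply, minorMat_apply, Function.update_apply]
  split_ifs <;> rfl

/-- A maximal minor of the relation module `Z` together with its cofactor `a` (minor `= a * f`)
and the divided Cramer coefficients `C`. -/
structure MinorDatum (Z : Submodule R (Fin n → R)) (f : R) (q : ℕ) where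
  ρ : Fin q → Fin n → R
  σ : Fin q → Fin n
  a : R
  hρ : ∀ b, ρ b ∈ Z
  hdet : (minorMat ρ σ).det = a * f
  C : Fin q → Fin n → R
  hC : ∀ c t, f * C c t = ((minorMat ρ σ).updateRow c (fun b => ρ b t)).det

namespace MinorDatum

variable {Z : Submodule R (Fin n → R)} {f : R}

lemma exists_of (hmin : minorIdeal (Z : Set (Fin n → R)) q ≤ Ideal.span {f})
    (ρ : Fin q → Fin n → R) (σ : Fin q → Fin n) (hρ : ∀ b, ρ b ∈ Z) :
    ∃ D : MinorDatum Z f q, D.ρ = ρ ∧ D.σ = σ := by
  have h1 : ∀ (σ' : Fin q → Fin n), ∃ w, f * w = (minorMat ρ σ').det := by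
    intro σ'
    have := hmin (det_minorMat_mem (Z := (Z : Set (Fin n → R))) ρ σ' hρ)
    obtain ⟨w, hw⟩ := Ideal.mem_span_singleton'.1 this
    exact ⟨w, by rw [mul_comm, hw]⟩
  obtain ⟨a, ha⟩ := h1 σ
  choose C hC using fun (c : Fin q) (t : Fin n) => h1 (Function.update σ c t)
  exact ⟨⟨ρ, σ, a, hρ, by rw [← ha, mul_comm], C,
    fun c t => by rw [hC, minorMat_updateRow]⟩, rfl, rfl⟩

variable (D : MinorDatum Z f q)

lemma hC' (c : Fin q) (t : Fin n) :
    f * D.C c t = ∑ b, (minorMat D.ρ D.σ).adjugate b c * D.ρ b t := by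
  rw [D.hC, ← Matrix.cramer_transpose_apply, Matrix.cramer_eq_adjugate_mulVec,
    ← Matrix.adjugate_transpose]
  simp only [Matrix.mulVec, dotProduct, Matrix.transpose_apply]

lemma smul_C_mem (c : Fin q) : f • D.C c ∈ Z := by
  have : f • D.C c = ∑ b, (minorMat D.ρ D.σ).adjugate b c • D.ρ b := by
    funext t
    simp only [Pi.smul_apply, smul_eq_mul, Finset.sum_apply]
    exact D.hC' c t
  rw [this]
  exact Z.sum_mem fun b _ => Z.smul_mem _ (D.hρ b)

lemma C_sigma (hf : f ∈ nonZeroDivisors R) (c a' : Fin q) :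
    D.C c (D.σ a') = if c = a' then D.a else 0 := by
  apply nzd_cancel hf
  rw [D.hC]
  have hrow : (fun b => D.ρ b (D.σ a')) = (minorMat D.ρ D.σ) a' := rfl
  rw [hrow]
  split_ifs with h
  · subst h
    rw [Matrix.updateRow_eq_self, D.hdet, mul_comm]
  · rw [mul_zero]
    refine Matrix.det_zero_of_row_eq h ?_
    rw [Matrix.updateRow_self, Matrix.updateRow_ne (Ne.symm h)]

/-- The approximate projector attached to a minor. -/
def e : (Fin n → R) →ₗ[R] (Fin n → R) :=
  ∑ c, (LinearMap.proj (D.σ c) : (Fin n → R) →ₗ[R] R).smulRight (D.C c)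

lemma e_apply (z : Fin n → R) (t : Fin n) : D.e z t = ∑ c, z (D.σ c) * D.C c t := by
  simp [e, LinearMap.sum_apply, Finset.sum_apply]

lemma smul_e_mem (z : Fin n → R) : f • D.e z ∈ Z := by
  have : f • D.e z = ∑ c, z (D.σ c) • (f • D.C c) := by
    funext t
    simp only [Pi.smul_apply, smul_eq_mul, Finset.sum_apply, D.e_apply, Finset.mul_sum]
    refine Finset.sum_congr rfl fun c _ => ?_
    ring
  rw [this]
  exact Z.sum_mem fun c _ => Z.smul_mem _ (D.smul_C_mem c)

lemma sum_rho_cramer (z : Fin n → R) (t : Fin n) :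
    ∑ b, D.ρ b t * Matrix.cramer (minorMat D.ρ D.σ) (fun a => z (D.σ a)) b
      = f * D.e z t := by
  rw [D.e_apply, Finset.mul_sum]
  simp only [Matrix.cramer_eq_adjugate_mulVec, Matrix.mulVec, dotProduct, Finset.mul_sum]
  rw [Finset.sum_comm]
  refine Finset.sum_congr rfl fun c _ => ?_
  rw [show f * (z (D.σ c) * D.C c t) = z (D.σ c) * (f * D.C c t) by ring, D.hC',
    Finset.mul_sum]
  refine Finset.sum_congr rfl fun b _ => ?_
  ring

lemma key (hf : f ∈ nonZeroDivisors R)
    (hmin1 : minorIdeal (Z : Set (Fin n → R)) (q + 1) = ⊥)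
    {z : Fin n → R} (hz : z ∈ Z) (t : Fin n) :
    D.a * (D.a * z t - D.e z t) = 0 := by
  classical
  have h0 : (Matrix.fromBlocks (minorMat D.ρ D.σ) (Matrix.of fun a (_ : Fin 1) => z (D.σ a))
      (Matrix.of fun (_ : Fin 1) b => D.ρ b t)
      (Matrix.of fun (_ : Fin 1) (_ : Fin 1) => z t)).det = 0 := by
    let ρ' : Fin q ⊕ Fin 1 → Fin n → R := Sum.elim D.ρ (fun _ => z)
    let σ' : Fin q ⊕ Fin 1 → Fin n := Sum.elim D.σ (fun _ => t)
    have hGeq : Matrix.fromBlocks (minorMat D.ρ D.σ) (Matrix.of fun a (_ : Fin 1) => z (D.σ a))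
        (Matrix.of fun (_ : Fin 1) b => D.ρ b t)
        (Matrix.of fun (_ : Fin 1) (_ : Fin 1) => z t) = Matrix.of fun a b => ρ' b (σ' a) := by
      ext a b
      rcases a with a | a <;> rcases b with b | b <;> rfl
    let ε : Fin (q + 1) ≃ Fin q ⊕ Fin 1 := finSumFinEquiv.symm
    have hmem : (Matrix.of fun (a b : Fin (q + 1)) => ρ' (ε b) (σ' (ε a))).det
        ∈ minorIdeal (Z : Set (Fin n → R)) (q + 1) := by
      refine Ideal.subset_span ⟨fun b => ρ' (ε b), fun a => σ' (ε a), fun j => ?_, rfl⟩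
      show ρ' (ε j) ∈ Z
      rcases ε j with b | b
      · exact D.hρ b
      · exact hz
    rw [hmin1, Ideal.mem_bot] at hmem
    have hsub : (Matrix.of fun (a b : Fin (q + 1)) => ρ' (ε b) (σ' (ε a)))
        = (Matrix.of fun a b => ρ' b (σ' a)).submatrix ε ε := by
      ext a b; rfl
    rw [hsub, Matrix.det_submatrix_equiv_self] at hmem
    rw [hGeq]; exact hmem
  have h1 := bordered_identity _ _ _ _ h0
  simp only [Matrix.of_apply] at h1
  rw [D.sum_rho_cramer z t, D.hdet] at h1
  have h5 : f * (f * (D.a * (D.a * z t - D.e z t))) = 0 := by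
    rw [← h1]; ring
  exact nzd_zero hf (nzd_zero hf h5)

lemma key' (hf : f ∈ nonZeroDivisors R)
    (hmin1 : minorIdeal (Z : Set (Fin n → R)) (q + 1) = ⊥)
    {z : Fin n → R} (hz : f • z ∈ Z) (t : Fin n) :
    D.a * (D.a * z t - D.e z t) = 0 := by
  have h := D.key hf hmin1 hz t
  rw [map_smul] at h
  simp only [Pi.smul_apply, smul_eq_mul] at h
  apply nzd_zero hf
  have : f * (D.a * (D.a * z t - D.e z t)) = D.a * (D.a * (f * z t) - f * D.e z t) := by ring
  rw [this, h]

lemma exists_psi (hf : f ∈ nonZeroDivisors R)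
    (hmin : minorIdeal (Z : Set (Fin n → R)) q ≤ Ideal.span {f}) :
    ∃ ψ : Z →ₗ[R] (Fin q → R), ∀ z : Z, ∑ b, ψ z b • D.ρ b = D.e z := by
  classical
  let L : Z →ₗ[R] (Fin q → R) :=
    (Matrix.cramer (minorMat D.ρ D.σ)) ∘ₗ (LinearMap.funLeft R R D.σ) ∘ₗ Z.subtype
  have hL : ∀ z : Z, L z
      = Matrix.cramer (minorMat D.ρ D.σ) (fun a => (z : Fin n → R) (D.σ a)) := fun z => rfl
  obtain ⟨ψ, hψ⟩ := exists_div_linear hf L (fun z b => by
    rw [hL, Matrix.cramer_apply, minorMat_updateCol]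
    have hmem := hmin (det_minorMat_mem (Z := (Z : Set (Fin n → R)))
      (Function.update D.ρ b (z : Fin n → R)) D.σ (fun b' => by
        rw [Function.update_apply]
        split_ifs
        · exact z.2
        · exact D.hρ b'))
    obtain ⟨w, hw⟩ := Ideal.mem_span_singleton'.1 hmem
    exact ⟨w, by rw [mul_comm, hw]⟩)
  refine ⟨ψ, fun z => ?_⟩
  funext t
  apply nzd_cancel hf
  rw [← D.sum_rho_cramer (z : Fin n → R) t]
  simp only [Finset.sum_apply, Pi.smul_apply, smul_eq_mul, Finset.mul_sum]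
  refine Finset.sum_congr rfl fun b _ => ?_
  have := congrFun (hψ z) b
  simp only [Pi.smul_apply, smul_eq_mul] at this
  rw [← hL, ← this]; ring

end MinorDatum

section Family
variable {Z : Submodule R (Fin n → R)} {f : R}

lemma exists_family (hf : f ∈ nonZeroDivisors R)
    (hmin : minorIdeal (Z : Set (Fin n → R)) q = Ideal.span {f}) :
    ∃ (m : ℕ) (D : Fin m → MinorDatum Z f q) (β : Fin m → R),
      ∑ i, β i * (D i).a ^ 2 = 1 := by
  have hfmem : f ∈ minorIdeal (Z : Set (Fin n → R)) q := by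
    rw [hmin]; exact Ideal.mem_span_singleton_self f
  have hfmem' : f ∈ Submodule.span R {d | ∃ (z : Fin q → (Fin n → R)) (e : Fin q → Fin n),
      (∀ j, z j ∈ (Z : Set (Fin n → R))) ∧ d = (Matrix.of fun a b => z b (e a)).det} := hfmem
  obtain ⟨m, c, g, hsum⟩ := Submodule.mem_span_set'.1 hfmem'
  have hg : ∀ i, ∃ D : MinorDatum Z f q, (minorMat D.ρ D.σ).det = (g i : R) := by
    intro i
    obtain ⟨ρ, σ, hρ, hd⟩ := (g i).2
    obtain ⟨D, h1, h2⟩ := MinorDatum.exists_of hmin.le ρ σ hρ
    exact ⟨D, by rw [h1, h2, hd]; rfl⟩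
  choose D hD using hg
  have h1 : ∑ i, c i * (D i).a = 1 := by
    apply nzd_cancel hf
    rw [mul_one, Finset.mul_sum]
    conv_rhs => rw [← hsum]
    refine Finset.sum_congr rfl fun i _ => ?_
    rw [smul_eq_mul, ← hD i, (D i).hdet]; ring
  have hspan : Ideal.span (Set.range fun i => (D i).a) = ⊤ := by
    rw [Ideal.eq_top_iff_one, ← h1]
    exact Ideal.sum_mem _ fun i _ => Ideal.mul_mem_left _ _ (Ideal.subset_span ⟨i, rfl⟩)
  have hspan2 := Ideal.span_pow_eq_top _ hspan 2
  rw [← Set.range_comp] at hspan2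
  have h1mem : (1 : R) ∈ Ideal.span (Set.range ((fun x => x ^ 2) ∘ fun i => (D i).a)) := by
    rw [hspan2]; trivial
  obtain ⟨β, hβ⟩ := Ideal.mem_span_range_iff_exists_fun.1 h1mem
  exact ⟨m, D, β, hβ⟩

variable {m : ℕ} (D : Fin m → MinorDatum Z f q) (β : Fin m → R)

/-- The global projector onto `{z | f • z ∈ Z}`. -/
def E : (Fin n → R) →ₗ[R] (Fin n → R) := ∑ i, (β i * (D i).a) • (D i).e

lemma E_apply (z : Fin n → R) : E D β z = ∑ i, (β i * (D i).a) • (D i).e z := by
  simp [E, LinearMap.sum_apply]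

lemma smul_E_mem (z : Fin n → R) : f • E D β z ∈ Z := by
  have : f • E D β z = ∑ i, (β i * (D i).a) • (f • (D i).e z) := by
    rw [E_apply, Finset.smul_sum]
    refine Finset.sum_congr rfl fun i _ => smul_comm _ _ _
  rw [this]
  exact Z.sum_mem fun i _ => Z.smul_mem _ ((D i).smul_e_mem z)

lemma E_eq_self (hf : f ∈ nonZeroDivisors R)
    (hmin1 : minorIdeal (Z : Set (Fin n → R)) (q + 1) = ⊥)
    (hβ : ∑ i, β i * (D i).a ^ 2 = 1) {z : Fin n → R} (hz : f • z ∈ Z) :
    E D β z = z := by
  funext t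
  have h : ∀ i, (D i).a * (D i).e z t = (D i).a ^ 2 * z t := fun i => by
    have := (D i).key' hf hmin1 hz t
    linear_combination (-1 : R) * this
  calc E D β z t = ∑ i, β i * ((D i).a * (D i).e z t) := by
        rw [E_apply]
        simp only [Finset.sum_apply, Pi.smul_apply, smul_eq_mul, mul_assoc]
    _ = ∑ i, (β i * (D i).a ^ 2) * z t := by
        refine Finset.sum_congr rfl fun i _ => ?_
        rw [h i]; ring
    _ = z t := by rw [← Finset.sum_mul, hβ, one_mul]

lemma projective_Z (hf : f ∈ nonZeroDivisors R)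
    (hmin : minorIdeal (Z : Set (Fin n → R)) q ≤ Ideal.span {f})
    (hmin1 : minorIdeal (Z : Set (Fin n → R)) (q + 1) = ⊥)
    (hβ : ∑ i, β i * (D i).a ^ 2 = 1) : Module.Projective R Z := by
  classical
  choose ψ hψ using fun i => (D i).exists_psi hf hmin
  let s : Z →ₗ[R] (Fin m → Fin q → R) := LinearMap.pi fun i => (β i * (D i).a) • ψ i
  let p : (Fin m → Fin q → R) →ₗ[R] Z :=
    ∑ i, ∑ b, ((LinearMap.proj b : (Fin q → R) →ₗ[R] R) ∘ₗ
      (LinearMap.proj i : (Fin m → Fin q → R) →ₗ[R] (Fin q → R))).smulRight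
        (⟨(D i).ρ b, (D i).hρ b⟩ : Z)
  refine Module.Projective.of_split s p ?_
  apply LinearMap.ext
  intro z
  apply Subtype.ext
  have hz : f • (z : Fin n → R) ∈ Z := Z.smul_mem _ z.2
  have h1 := E_eq_self D β hf hmin1 hβ hz
  have h2 : ((p (s z) : Z) : Fin n → R) = E D β z := by
    rw [E_apply]
    simp only [p, s, LinearMap.sum_apply, LinearMap.smulRight_apply, LinearMap.comp_apply,
      LinearMap.proj_apply, LinearMap.pi_apply, LinearMap.smul_apply, Pi.smul_apply,
      smul_eq_mul, Submodule.coe_sum, Submodule.coe_smul]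
    refine Finset.sum_congr rfl fun i _ => ?_
    rw [← hψ i z, Finset.smul_sum]
    refine Finset.sum_congr rfl fun b _ => ?_
    rw [smul_smul]
  rw [LinearMap.comp_apply, LinearMap.id_apply, h2, h1]

end Family

end Minor

section Main
variable {R : Type u} [CommRing R]

theorem structure_thm (M : Type u) [AddCommGroup M] [Module R M] [Module.Finite R M]
    (k : ℕ) (f : R) (hf0 : f ∈ nonZeroDivisors R)
    (hf : Fitt.ideal R M k = Ideal.span {f}) (hk : k = 0 ∨ Fitt.ideal R M (k - 1) = ⊥) :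
    HasProjectiveDimensionLT (ModuleCat.of R M) 2 ∧
    (∀ x : M, (∃ n : ℕ, f ^ n • x = 0) ↔ f • x = 0) ∧
    HasProjectiveDimensionLT
      (ModuleCat.of R ↥(LinearMap.ker (f • (LinearMap.id : M →ₗ[R] M)))) 2 ∧
    (∀ (p : Ideal R) [p.IsPrime], ∃ g : R, g ∉ p ∧
      Module.Free (Localization.Away g)
          (LocalizedModule (Submonoid.powers g)
            (M ⧸ LinearMap.ker (f • (LinearMap.id : M →ₗ[R] M)))) ∧
        Module.finrank (Localization.Away g)
          (LocalizedModule (Submonoid.powers g)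
            (M ⧸ LinearMap.ker (f • (LinearMap.id : M →ₗ[R] M)))) = k) ∧
    Nonempty (M ≃ₗ[R] (M ⧸ LinearMap.ker (f • (LinearMap.id : M →ₗ[R] M))) ×
      ↥(LinearMap.ker (f • (LinearMap.id : M →ₗ[R] M)))) := by
  classical
  obtain ⟨n₀, x₀, hx₀⟩ := Module.Finite.exists_fin (R := R) (M := M)
  let x : Fin (n₀ + k) → M := Fin.append x₀ (fun _ => 0)
  have hx : Submodule.span R (Set.range x) = ⊤ := by
    rw [eq_top_iff, ← hx₀]
    refine Submodule.span_mono ?_
    rintro _ ⟨i, rfl⟩
    exact ⟨Fin.castAdd k i, Fin.append_left _ _ i⟩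
  let π : (Fin (n₀ + k) → R) →ₗ[R] M := Fintype.linearCombination R x
  have hπ : Function.Surjective π := by
    rw [← LinearMap.range_eq_top, Fintype.range_linearCombination, hx]
  have hπ_apply : ∀ z, π z = ∑ i, z i • x i := fun z => rfl
  let Z : Submodule R (Fin (n₀ + k) → R) := LinearMap.ker π
  have hset : {z : Fin (n₀ + k) → R | ∑ i, z i • x i = 0} = (Z : Set (Fin (n₀ + k) → R)) := by
    ext z
    simp only [Set.mem_ofPred_eq, SetLike.mem_coe, Z, LinearMap.mem_ker, hπ_apply]
  have hmin : minorIdeal (Z : Set (Fin (n₀ + k) → R)) n₀ = Ideal.span {f} := by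
    have := fitt_eq_minorIdeal x hx k
    rw [hset, Nat.add_sub_cancel, hf] at this
    exact this.symm
  have hmin1 : minorIdeal (Z : Set (Fin (n₀ + k) → R)) (n₀ + 1) = ⊥ := by
    rcases Nat.eq_zero_or_pos k with hk0 | hkpos
    · exact minorIdeal_eq_bot_of_lt _ (by omega)
    · have hk1 : Fitt.ideal R M (k - 1) = ⊥ := hk.resolve_left (by omega)
      have := fitt_eq_minorIdeal x hx (k - 1)
      rw [hset, hk1, show n₀ + k - (k - 1) = n₀ + 1 by omega] at this
      exact this.symm
  obtain ⟨m, D, β, hβ⟩ := exists_family hf0 hmin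
  -- projective dimension of `M`
  have hZproj : Module.Projective R Z := projective_Z D β hf0 hmin.le hmin1 hβ
  have hpdM : HasProjectiveDimensionLT (ModuleCat.of R M) 2 := pdLT_two_of_ker π hπ hZproj
  -- the torsion submodule and the quotient
  set M' : Submodule R M := LinearMap.ker (f • (LinearMap.id : M →ₗ[R] M)) with hM'
  have hM'mem : ∀ y : M, y ∈ M' ↔ f • y = 0 := fun y => by
    rw [hM', LinearMap.mem_ker, LinearMap.smul_apply, LinearMap.id_apply]
  let πb : (Fin (n₀ + k) → R) →ₗ[R] (M ⧸ M') := M'.mkQ ∘ₗ π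
  have hπb : Function.Surjective πb := (Submodule.mkQ_surjective M').comp hπ
  let Zt : Submodule R (Fin (n₀ + k) → R) := LinearMap.ker πb
  have hZt : ∀ z, z ∈ Zt ↔ f • z ∈ Z := by
    intro z
    simp only [Zt, πb, Z, LinearMap.mem_ker, LinearMap.comp_apply, Submodule.mkQ_apply,
      Submodule.Quotient.mk_eq_zero, hM'mem, map_smul]
  have hE_mem : ∀ z, E D β z ∈ Zt := fun z => (hZt _).2 (smul_E_mem D β z)
  have hE_id : ∀ z ∈ Zt, E D β z = z := fun z hz =>
    E_eq_self D β hf0 hmin1 hβ ((hZt z).1 hz)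
  -- `M ⧸ M'` is projective
  have hle : LinearMap.ker πb ≤ LinearMap.ker (LinearMap.id - E D β) := by
    intro z hz
    rw [LinearMap.mem_ker, LinearMap.sub_apply, LinearMap.id_apply, hE_id z hz, sub_self]
  let ι : (M ⧸ M') →ₗ[R] (Fin (n₀ + k) → R) :=
    (LinearMap.ker πb).liftQ (LinearMap.id - E D β) hle ∘ₗ
      (πb.quotKerEquivOfSurjective hπb).symm.toLinearMap
  have hι : ∀ z, ι (πb z) = z - E D β z := by
    intro z
    simp only [ι, LinearMap.comp_apply, LinearEquiv.coe_coe,
      LinearMap.quotKerEquivOfSurjective_symm_apply, Submodule.liftQ_apply,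
      LinearMap.sub_apply, LinearMap.id_apply]
  have hNproj : Module.Projective R (M ⧸ M') := by
    refine Module.Projective.of_split ι πb ?_
    apply LinearMap.ext
    intro y
    obtain ⟨z, rfl⟩ := hπb y
    rw [LinearMap.comp_apply, hι, map_sub, LinearMap.id_apply]
    have : πb (E D β z) = 0 := hE_mem z
    rw [this, sub_zero]
  -- torsion-freeness
  have htf : ∀ w : Fin (n₀ + k) → R, f • w ∈ Zt → w ∈ Zt := by
    intro w hw
    have h1 := hE_id _ hw
    rw [map_smul] at h1
    have h2 : f • (w - E D β w) = 0 := by rw [smul_sub, h1, sub_self]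
    have h3 : w = E D β w := sub_eq_zero.1 (nzd_smul_pi hf0 h2)
    rw [h3]
    exact hE_mem w
  have hpart2 : ∀ y : M, (∃ e : ℕ, f ^ e • y = 0) ↔ f • y = 0 := by
    intro y
    refine ⟨?_, fun h => ⟨1, by rwa [pow_one]⟩⟩
    rintro ⟨e, he⟩
    obtain ⟨z, rfl⟩ := hπ y
    have hz : f ^ e • z ∈ Zt := by
      rw [hZt]
      show f • f ^ e • z ∈ LinearMap.ker π
      rw [LinearMap.mem_ker, map_smul, map_smul, he, smul_zero]
    have hpow : ∀ e : ℕ, f ^ e • z ∈ Zt → z ∈ Zt := by
      intro e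
      induction e with
      | zero => intro h; simpa using h
      | succ e ih =>
        intro h
        exact ih (htf _ (by rwa [pow_succ', mul_smul] at h))
    have hz' : f • z ∈ LinearMap.ker π := (hZt z).1 (hpow e hz)
    rwa [LinearMap.mem_ker, map_smul] at hz'
  -- splitting
  obtain ⟨j, hj⟩ := Module.projective_lifting_property M'.mkQ
    (LinearMap.id : (M ⧸ M') →ₗ[R] (M ⧸ M')) (Submodule.mkQ_surjective M')
  have hjx : ∀ y, M'.mkQ (j y) = y := fun y => LinearMap.congr_fun hj y
  let r : M →ₗ[R] M' := LinearMap.codRestrict M' (LinearMap.id - j ∘ₗ M'.mkQ) (fun y => by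
    refine (Submodule.Quotient.mk_eq_zero M').1 ?_
    show M'.mkQ (((LinearMap.id : M →ₗ[R] M) - j ∘ₗ M'.mkQ) y) = 0
    rw [LinearMap.sub_apply, map_sub, LinearMap.id_apply, LinearMap.comp_apply, hjx, sub_self])
  have hr_coe : ∀ y : M, ((r y : M') : M) = y - j (M'.mkQ y) := fun y => rfl
  have hmkQ0 : ∀ w : M', M'.mkQ (w : M) = 0 := fun w =>
    (Submodule.Quotient.mk_eq_zero M').2 w.2
  have hr_sub : ∀ y : M', r y = y := by
    intro y
    apply Subtype.ext
    rw [hr_coe, hmkQ0, map_zero, sub_zero]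
  have hr_j : ∀ y : M ⧸ M', r (j y) = 0 := by
    intro y
    apply Subtype.ext
    rw [hr_coe, hjx, sub_self]
    rfl
  have e5 : M ≃ₗ[R] (M ⧸ M') × M' := by
    refine LinearEquiv.ofLinearMap (M'.mkQ.prod r) (j.coprod M'.subtype) ?_ ?_
    · apply LinearMap.ext
      rintro ⟨y, w⟩
      show (M'.mkQ (j y + (w : M)), r (j y + (w : M))) = (y, w)
      rw [map_add, map_add, hjx, hr_j, hr_sub, hmkQ0, add_zero, zero_add]
    · apply LinearMap.ext
      intro y
      show j (M'.mkQ y) + ((r y : M') : M) = y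
      rw [hr_coe]; abel
  have hpdM' : HasProjectiveDimensionLT (ModuleCat.of R M') 2 := by
    let ret : Retract (ModuleCat.of R M') (ModuleCat.of R M) :=
      { i := ModuleCat.ofHom M'.subtype
        r := ModuleCat.ofHom r
        retract := by
          rw [← ModuleCat.ofHom_comp, ← ModuleCat.ofHom_id]
          congr 1
          exact LinearMap.ext hr_sub }
    have := hpdM
    exact ret.hasProjectiveDimensionLT 2
  -- Fitting ideals of the quotient
  let xb : Fin (n₀ + k) → (M ⧸ M') := fun i => M'.mkQ (x i)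
  have hxb : Submodule.span R (Set.range xb) = ⊤ := by
    have : Set.range xb = M'.mkQ '' Set.range x := by
      rw [← Set.range_comp]; rfl
    rw [this, ← Submodule.map_span, hx, Submodule.map_top,
      LinearMap.range_eq_top.2 (Submodule.mkQ_surjective M')]
  have hπb_apply : ∀ z, πb z = ∑ i, z i • xb i := by
    intro z
    show M'.mkQ (π z) = _
    rw [hπ_apply, map_sum]
    simp only [map_smul, xb]
  have hset' : {z : Fin (n₀ + k) → R | ∑ i, z i • xb i = 0}
      = (Zt : Set (Fin (n₀ + k) → R)) := by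
    ext z
    simp only [Set.mem_ofPred_eq, SetLike.mem_coe, Zt, LinearMap.mem_ker, hπb_apply]
  have hspan : Ideal.span (Set.range fun i => (D i).a) = ⊤ := by
    rw [Ideal.eq_top_iff_one, ← hβ]
    exact Ideal.sum_mem _ fun i _ => by
      rw [pow_two, ← mul_assoc]
      exact Ideal.mul_mem_left _ _ (Ideal.subset_span ⟨i, rfl⟩)
  have hFk : Fitt.ideal R (M ⧸ M') k = ⊤ := by
    rw [fitt_eq_minorIdeal xb hxb k, hset', Nat.add_sub_cancel, eq_top_iff,
      ← Ideal.span_pow_eq_top _ hspan n₀]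
    refine Ideal.span_le.2 ?_
    rintro _ ⟨_, ⟨i, rfl⟩, rfl⟩
    have hdet : (minorMat (D i).C (D i).σ).det = (D i).a ^ n₀ := by
      have : minorMat (D i).C (D i).σ = Matrix.diagonal (fun _ => (D i).a) := by
        ext a b
        rw [minorMat_apply, (D i).C_sigma hf0, Matrix.diagonal_apply]
        by_cases h : a = b
        · subst h; simp
        · simp [h, Ne.symm h]
      rw [this, Matrix.det_diagonal, Finset.prod_const, Finset.card_univ, Fintype.card_fin]
    show (D i).a ^ n₀ ∈ minorIdeal (Zt : Set (Fin (n₀ + k) → R)) n₀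
    rw [← hdet]
    exact det_minorMat_mem _ _ (fun b => (hZt _).2 ((D i).smul_C_mem b))
  have htop : ∀ l, k ≤ l → Fitt.ideal R (M ⧸ M') l = ⊤ := by
    intro l hl
    have := fitt_mono (R := R) (M := M ⧸ M') hl
    rw [hFk] at this
    exact top_le_iff.1 this
  have hFk1 : 0 < k → Fitt.ideal R (M ⧸ M') (k - 1) = ⊥ := by
    intro hkpos
    have hk1 : Fitt.ideal R M (k - 1) = ⊥ := hk.resolve_left (by omega)
    rw [eq_bot_iff, fitt_eq_F xb hxb (k - 1)]
    refine Ideal.span_le.2 ?_
    rintro d ⟨a, ha, rfl⟩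
    have hv : ∏ i : Fin (n₀ + k), (if (i : ℕ) < n₀ + k - (k - 1) then f else 1)
        ∈ nonZeroDivisors R := Submonoid.prod_mem _ fun i _ => by
      split_ifs
      · exact hf0
      · exact Submonoid.one_mem _
    have hdet : (Matrix.of fun (i l : Fin (n₀ + k)) =>
        (if (i : ℕ) < n₀ + k - (k - 1) then f else 1) * a i l).det
          ∈ Fitt.ideal R M (k - 1) := by
      rw [fitt_eq_F x hx (k - 1)]
      refine det_mem_F _ fun i hi => ?_
      simp only [Matrix.of_apply, if_pos hi]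
      have h0 : M'.mkQ (∑ l, a i l • x l) = 0 := by
        rw [map_sum]
        simp only [map_smul]
        exact ha i hi
      have h1 : ∑ l, a i l • x l ∈ M' := (Submodule.Quotient.mk_eq_zero M').1 h0
      have h2 : f • ∑ l, a i l • x l = 0 := (hM'mem _).1 h1
      rw [← h2, Finset.smul_sum]
      refine Finset.sum_congr rfl fun l _ => ?_
      rw [mul_smul]
    rw [hk1, Ideal.mem_bot, Matrix.det_mul_column] at hdet
    exact (Ideal.mem_bot).2 ((mul_left_mem_nonZeroDivisors_eq_zero_iff hv).1 hdet)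
  have hbot : ∀ l, l < k → Fitt.ideal R (M ⧸ M') l = ⊥ := by
    intro l hl
    have h1 := fitt_mono (R := R) (M := M ⧸ M') (show l ≤ k - 1 by omega)
    rw [hFk1 (by omega)] at h1
    exact le_bot_iff.1 h1
  have h4 := (locFree_iff_fitt (R := R) (M := M ⧸ M') k).2 ⟨hbot, htop⟩
  exact ⟨hpdM, hpart2, hpdM', h4, ⟨e5⟩⟩

end Main

end

end Groth.Agent.Lib.Helper9.FittStruct
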