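import Mathlib
import Groth.Prelude.Def_Fitting
import Groth.Prelude.Def_BlowUp2
import Groth.Prelude.Def_FlatCA
import Groth.Agent.Lib.Helper18.FittLib7
import Groth.Agent.Lib.Helper9.FittStruct

/-!
# Strict transforms become locally free after blowing up (helper9)

`M` finite, `M_f` locally free of rank `r` on `D(f)`.  We choose a finitely presented cover
`M₁ → M` with `f^N ∈ Fit_r(M₁)` and blow up `I = (f) · Fit_r(M₁)`.
-/

set_option autoImplicit false
universe u v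

namespace Groth.Agent.Lib.Helper9.FittStruct

open Matrix TensorProduct
open Groth.Agent.Lib.Helper18.FittLib

noncomputable section

section Quot
variable {R : Type u} [CommRing R]

/-- If `Fit_k(M) = (f)` with `f` a nonzerodivisor and `T` contains the `f`-torsion, then
`Fit_k(M/T) = R`. -/
theorem fitt_quot_eq_top (M : Type v) [AddCommGroup M] [Module R M] [Module.Finite R M]
    (k : ℕ) (f : R) (hf0 : f ∈ nonZeroDivisors R)
    (hf : Fitt.ideal R M k = Ideal.span {f}) (T : Submodule R M)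
    (hT : ∀ y : M, f • y = 0 → y ∈ T) : Fitt.ideal R (M ⧸ T) k = ⊤ := by
  classical
  obtain ⟨n₀, x₀, hx₀⟩ := Module.Finite.exists_fin (R := R) (M := M)
  let x : Fin (n₀ + k) → M := Fin.append x₀ (fun _ => 0)
  have hx : Submodule.span R (Set.range x) = ⊤ := by
    rw [eq_top_iff, ← hx₀]
    refine Submodule.span_mono ?_
    rintro _ ⟨i, rfl⟩
    exact ⟨Fin.castAdd k i, Fin.append_left _ _ i⟩
  let π : (Fin (n₀ + k) → R) →ₗ[R] M := Fintype.linearCombination R x
  have hπ_apply : ∀ z, π z = ∑ i, z i • x i := fun z => rfl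
  let Z : Submodule R (Fin (n₀ + k) → R) := LinearMap.ker π
  have hset : {z : Fin (n₀ + k) → R | ∑ i, z i • x i = 0} = (Z : Set (Fin (n₀ + k) → R)) := by
    ext z
    simp only [Set.mem_ofPred_eq, SetLike.mem_coe, Z, LinearMap.mem_ker, hπ_apply]
  have hmin : minorIdeal (Z : Set (Fin (n₀ + k) → R)) n₀ = Ideal.span {f} := by
    have := fitt_eq_minorIdeal x hx k
    rw [hset, Nat.add_sub_cancel, hf] at this
    exact this.symm
  obtain ⟨m, D, β, hβ⟩ := exists_family hf0 hmin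
  let πb : (Fin (n₀ + k) → R) →ₗ[R] (M ⧸ T) := T.mkQ ∘ₗ π
  let Zt : Submodule R (Fin (n₀ + k) → R) := LinearMap.ker πb
  have hZt : ∀ z, f • z ∈ Z → z ∈ Zt := by
    intro z hz
    show T.mkQ (π z) = 0
    rw [Submodule.mkQ_apply, Submodule.Quotient.mk_eq_zero]
    apply hT
    rw [← map_smul]
    exact LinearMap.mem_ker.1 hz
  let xb : Fin (n₀ + k) → (M ⧸ T) := fun i => T.mkQ (x i)
  have hxb : Submodule.span R (Set.range xb) = ⊤ := by
    have : Set.range xb = T.mkQ '' Set.range x := by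
      rw [← Set.range_comp]; rfl
    rw [this, ← Submodule.map_span, hx, Submodule.map_top,
      LinearMap.range_eq_top.2 (Submodule.mkQ_surjective T)]
  have hπb_apply : ∀ z, πb z = ∑ i, z i • xb i := by
    intro z
    show T.mkQ (π z) = _
    rw [hπ_apply, map_sum]
    simp only [map_smul, xb]
  have hset' : {z : Fin (n₀ + k) → R | ∑ i, z i • xb i = 0}
      = (Zt : Set (Fin (n₀ + k) → R)) := by
    ext z
    simp only [Set.mem_ofPred_eq, SetLike.mem_coe, Zt, LinearMap.mem_ker, hπb_apply]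
  have hspan : Ideal.span (Set.range fun i => (D i).a) = ⊤ := by
    rw [Ideal.eq_top_iff_one, ← hβ]
    exact Ideal.sum_mem _ fun i _ => by
      rw [pow_two, ← mul_assoc]
      exact Ideal.mul_mem_left _ _ (Ideal.subset_span ⟨i, rfl⟩)
  rw [fitt_eq_minorIdeal xb hxb k, hset', Nat.add_sub_cancel, eq_top_iff,
    ← Ideal.span_pow_eq_top _ hspan n₀]
  refine Ideal.span_le.2 ?_
  rintro _ ⟨_, ⟨i, rfl⟩, rfl⟩
  have hdet : (minorMat (D i).C (D i).σ).det = (D i).a ^ n₀ := by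
    have : minorMat (D i).C (D i).σ = Matrix.diagonal (fun _ => (D i).a) := by
      ext a b
      rw [minorMat_apply, (D i).C_sigma hf0, Matrix.diagonal_apply]
      by_cases h : a = b
      · subst h; simp
      · simp [h, Ne.symm h]
    rw [this, Matrix.det_diagonal, Finset.prod_const, Finset.card_univ, Fintype.card_fin]
  show (D i).a ^ n₀ ∈ minorIdeal (Zt : Set (Fin (n₀ + k) → R)) n₀
  rw [← hdet]
  exact det_minorMat_mem _ _ (fun b => hZt _ ((D i).smul_C_mem b))

/-- If `Fit_j(M) = 0` and every element of `T` is killed by a nonzerodivisor, then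
`Fit_j(M/T) = 0`. -/
theorem fitt_quot_eq_bot (M : Type v) [AddCommGroup M] [Module R M] [Module.Finite R M]
    (j : ℕ) (hj : Fitt.ideal R M j = ⊥) (T : Submodule R M)
    (hT : ∀ y ∈ T, ∃ s ∈ nonZeroDivisors R, s • y = 0) : Fitt.ideal R (M ⧸ T) j = ⊥ := by
  classical
  obtain ⟨n, x, hx⟩ := Module.Finite.exists_fin (R := R) (M := M)
  let xb : Fin n → (M ⧸ T) := fun i => T.mkQ (x i)
  have hxb : Submodule.span R (Set.range xb) = ⊤ := by
    have : Set.range xb = T.mkQ '' Set.range x := by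
      rw [← Set.range_comp]; rfl
    rw [this, ← Submodule.map_span, hx, Submodule.map_top,
      LinearMap.range_eq_top.2 (Submodule.mkQ_surjective T)]
  rw [eq_bot_iff, fitt_eq_F xb hxb j]
  refine Ideal.span_le.2 ?_
  rintro d ⟨a, ha, rfl⟩
  have hrow : ∀ i : Fin n, ∃ s : R, s ∈ nonZeroDivisors R ∧
      ((i : ℕ) < n - j → s • ∑ l, a i l • x l = 0) := by
    intro i
    by_cases hi : (i : ℕ) < n - j
    · have h0 : T.mkQ (∑ l, a i l • x l) = 0 := by
        rw [map_sum]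
        simp only [map_smul]
        exact ha i hi
      have h1 : ∑ l, a i l • x l ∈ T := (Submodule.Quotient.mk_eq_zero T).1 h0
      obtain ⟨s, hs, hs0⟩ := hT _ h1
      exact ⟨s, hs, fun _ => hs0⟩
    · exact ⟨1, Submonoid.one_mem _, fun h => absurd h hi⟩
  choose v hv hv0 using hrow
  have hprod : ∏ i : Fin n, v i ∈ nonZeroDivisors R :=
    Submonoid.prod_mem _ fun i _ => hv i
  have hdet : (Matrix.of fun (i l : Fin n) => v i * a i l).det ∈ Fitt.ideal R M j := by
    rw [fitt_eq_F x hx j]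
    refine det_mem_F _ fun i hi => ?_
    simp only [Matrix.of_apply]
    rw [← hv0 i hi, Finset.smul_sum]
    refine Finset.sum_congr rfl fun l _ => ?_
    rw [mul_smul]
  rw [hj, Ideal.mem_bot, Matrix.det_mul_column] at hdet
  exact (Ideal.mem_bot).2 ((mul_left_mem_nonZeroDivisors_eq_zero_iff hprod).1 hdet)

end Quot

section Cover
variable {R : Type u} [CommRing R]

/-- A finitely presented cover of `M` whose `r`-th Fitting ideal is finitely generated and
still contains a prescribed element of `Fit_r(M)`. -/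
theorem exists_fp_cover (M : Type u) [AddCommGroup M] [Module R M]
    [Module.Finite R M] (r : ℕ) (d : R) (hd : d ∈ Fitt.ideal R M r) :
    ∃ (n : ℕ) (K₁ : Submodule R (Fin n → R)) (φ : ((Fin n → R) ⧸ K₁) →ₗ[R] M),
      Function.Surjective φ ∧ (Fitt.ideal R ((Fin n → R) ⧸ K₁) r).FG ∧
        d ∈ Fitt.ideal R ((Fin n → R) ⧸ K₁) r := by
  classical
  obtain ⟨n₀, x₀, hx₀⟩ := Module.Finite.exists_fin (R := R) (M := M)
  let x : Fin (n₀ + r) → M := Fin.append x₀ (fun _ => 0)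
  have hx : Submodule.span R (Set.range x) = ⊤ := by
    rw [eq_top_iff, ← hx₀]
    refine Submodule.span_mono ?_
    rintro _ ⟨i, rfl⟩
    exact ⟨Fin.castAdd r i, Fin.append_left _ _ i⟩
  let π : (Fin (n₀ + r) → R) →ₗ[R] M := Fintype.linearCombination R x
  have hπ : Function.Surjective π := by
    rw [← LinearMap.range_eq_top, Fintype.range_linearCombination, hx]
  have hπ_apply : ∀ z, π z = ∑ i, z i • x i := fun z => rfl
  have hd' : d ∈ Submodule.span R {d | ∃ (z : Fin n₀ → (Fin (n₀ + r) → R))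
      (e : Fin n₀ → Fin (n₀ + r)),
      (∀ j, z j ∈ {z : Fin (n₀ + r) → R | ∑ i, z i • x i = 0}) ∧
        d = (Matrix.of fun a b => z b (e a)).det} := by
    have := hd
    rw [fitt_eq_minorIdeal x hx r, Nat.add_sub_cancel] at this
    exact this
  obtain ⟨m, c, g, hsum⟩ := Submodule.mem_span_set'.1 hd'
  have hg : ∀ i, ∃ (z : Fin n₀ → (Fin (n₀ + r) → R)) (e : Fin n₀ → Fin (n₀ + r)),
      (∀ j, ∑ l, z j l • x l = 0) ∧ (g i : R) = (Matrix.of fun a b => z b (e a)).det :=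
    fun i => (g i).2
  choose ρ σ hρ hdet using hg
  let A : Matrix (Fin m × Fin n₀) (Fin (n₀ + r)) R := Matrix.of fun p l => ρ p.1 p.2 l
  obtain ⟨K₁, hK₁⟩ : ∃ K₁ : Submodule R (Fin (n₀ + r) → R),
      K₁ = Submodule.span R (Set.range fun p => A p) := ⟨_, rfl⟩
  have hK₁π : K₁ ≤ LinearMap.ker π := by
    rw [hK₁]
    refine Submodule.span_le.2 ?_
    rintro _ ⟨p, rfl⟩
    show π (A p) = 0
    rw [hπ_apply]
    exact hρ p.1 p.2
  let y : Fin (n₀ + r) → ((Fin (n₀ + r) → R) ⧸ K₁) := fun i => K₁.mkQ (Pi.single i (1 : R))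
  have hlc : Fintype.linearCombination R y = K₁.mkQ := by
    apply LinearMap.ext
    intro z
    rw [Fintype.linearCombination_apply]
    have h := congrArg K₁.mkQ (sum_smul_single z)
    rw [map_sum] at h
    simp only [map_smul] at h
    exact h
  have hy : Submodule.span R (Set.range y) = ⊤ := by
    rw [← Fintype.range_linearCombination, hlc, LinearMap.range_eq_top]
    exact Submodule.mkQ_surjective K₁
  have hker : Submodule.span R (Set.range fun p => A p)
      = LinearMap.ker (Fintype.linearCombination R y) := by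
    rw [hlc, Submodule.ker_mkQ, hK₁]
  have hJ : Fitt.ideal R ((Fin (n₀ + r) → R) ⧸ K₁) r = matMinorIdeal A n₀ := by
    have := fitt_eq_matMinorIdeal y hy A hker r
    rwa [Nat.add_sub_cancel] at this
  have hFG : (matMinorIdeal A n₀).FG := by
    have hfin : {d | ∃ (f : Fin n₀ → Fin m × Fin n₀) (g : Fin n₀ → Fin (n₀ + r)),
        d = (A.submatrix f g).det}.Finite := by
      refine Set.Finite.subset (Set.finite_range
        (fun q : (Fin n₀ → Fin m × Fin n₀) × (Fin n₀ → Fin (n₀ + r)) =>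
          (A.submatrix q.1 q.2).det)) ?_
      rintro d ⟨f, g, rfl⟩
      exact ⟨(f, g), rfl⟩
    exact Submodule.fg_span hfin
  have hdJ : d ∈ matMinorIdeal A n₀ := by
    rw [← minorIdeal_range_rows, ← hsum]
    refine Submodule.sum_mem _ fun i _ => Submodule.smul_mem _ _ ?_
    exact Ideal.subset_span ⟨ρ i, σ i, fun j => ⟨(i, j), rfl⟩, hdet i⟩
  refine ⟨n₀ + r, K₁, K₁.liftQ π hK₁π, ?_, ?_, ?_⟩
  · intro w
    obtain ⟨z, rfl⟩ := hπ w
    exact ⟨K₁.mkQ z, by rw [Submodule.mkQ_apply, Submodule.liftQ_apply]⟩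
  · rw [hJ]; exact hFG
  · rw [hJ]; exact hdJ

end Cover

section Core
variable {R : Type u} [CommRing R]

theorem strict_core (M : Type u) [AddCommGroup M] [Module R M]
    [Module.Finite R M] (M₁ : Type u) [AddCommGroup M₁] [Module R M₁] [Module.Finite R M₁]
    (φ : M₁ →ₗ[R] M) (hφ : Function.Surjective φ) (f : R) (r : ℕ)
    (hc2 : ∀ j, j < r → ∀ y ∈ Fitt.ideal R M j, ∃ e : ℕ, f ^ e * y = 0)
    (a : R) (ha : a ∈ Ideal.span {f} * Fitt.ideal R M₁ r)
    (R₁ : Type u) [CommRing R₁] [Algebra R R₁]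
    (e : R₁ ≃ₐ[R] ↥(BlowUp.affineAlgebra R (Ideal.span {f} * Fitt.ideal R M₁ r) a)) :
    (∀ k, k < r → Fitt.ideal R₁
      ((R₁ ⊗[R] M) ⧸ FlatCA.powTorsion R₁ (algebraMap R R₁ a) (R₁ ⊗[R] M)) k = ⊥) ∧
    (∀ k, r ≤ k → Fitt.ideal R₁
      ((R₁ ⊗[R] M) ⧸ FlatCA.powTorsion R₁ (algebraMap R R₁ a) (R₁ ⊗[R] M)) k = ⊤) := by
  classical
  obtain ⟨b, hbJ, hfb⟩ := Ideal.mem_span_singleton_mul.1 ha
  obtain ⟨a₁, ha₁⟩ : ∃ a₁ : R₁, a₁ = algebraMap R R₁ a := ⟨_, rfl⟩
  obtain ⟨f₁, hf₁⟩ : ∃ f₁ : R₁, f₁ = algebraMap R R₁ f := ⟨_, rfl⟩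
  obtain ⟨b₁, hb₁⟩ : ∃ b₁ : R₁, b₁ = algebraMap R R₁ b := ⟨_, rfl⟩
  have hab : a₁ = f₁ * b₁ := by rw [ha₁, hf₁, hb₁, ← map_mul, hfb]
  have ha₁nzd : ∀ t : R₁, a₁ * t = 0 → t = 0 := by
    rw [ha₁]; exact blowup_nzd _ a R₁ e
  have hf₁nzd : ∀ t : R₁, f₁ * t = 0 → t = 0 := by
    intro t ht
    apply ha₁nzd
    rw [hab, mul_assoc, mul_comm b₁ t, ← mul_assoc, ht, zero_mul]
  have hb₁nzd : ∀ t : R₁, b₁ * t = 0 → t = 0 := by
    intro t ht
    apply ha₁nzd
    rw [hab, mul_assoc, ht, mul_zero]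
  have hb₁mem : b₁ ∈ nonZeroDivisors R₁ := mem_nonZeroDivisors_iff_left.2 hb₁nzd
  have ha₁mem : a₁ ∈ nonZeroDivisors R₁ := mem_nonZeroDivisors_iff_left.2 ha₁nzd
  have hJmap : (Fitt.ideal R M₁ r).map (algebraMap R R₁) ≤ Ideal.span {b₁} := by
    rw [Ideal.map_le_iff_le_comap]
    intro y hy
    rw [Ideal.mem_comap]
    have h1 : algebraMap R R₁ (f * y) ∈ Ideal.span {algebraMap R R₁ a} :=
      blowup_map_le _ a R₁ e (Ideal.mem_map_of_mem _
        (Ideal.mul_mem_mul (Ideal.mem_span_singleton_self f) hy))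
    obtain ⟨c, hc⟩ := Ideal.mem_span_singleton'.1 h1
    rw [← ha₁, map_mul, ← hf₁, hab] at hc
    rw [Ideal.mem_span_singleton']
    refine ⟨c, ?_⟩
    have h2 : f₁ * (c * b₁ - algebraMap R R₁ y) = 0 := by
      linear_combination hc
    exact sub_eq_zero.1 (hf₁nzd _ h2)
  have hJ1 : Fitt.ideal R₁ (R₁ ⊗[R] M₁) r = Ideal.span {b₁} := by
    rw [fitt_baseChange R₁ r]
    refine le_antisymm hJmap ?_
    rw [Ideal.span_singleton_le_iff_mem, hb₁]
    exact Ideal.mem_map_of_mem _ hbJ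
  have htop1 : Fitt.ideal R₁
      ((R₁ ⊗[R] M₁) ⧸ FlatCA.powTorsion R₁ a₁ (R₁ ⊗[R] M₁)) r = ⊤ := by
    refine fitt_quot_eq_top (R₁ ⊗[R] M₁) r b₁ hb₁mem hJ1 _ ?_
    intro y hy
    apply ker_le_powTorsion
    rw [hab, mul_smul, hy, smul_zero]
  have hbc : Function.Surjective (φ.baseChange R₁) := by
    rw [LinearMap.baseChange_eq_ltensor]
    exact LinearMap.lTensor_surjective _ hφ
  have hle : FlatCA.powTorsion R₁ a₁ (R₁ ⊗[R] M₁)
      ≤ (FlatCA.powTorsion R₁ a₁ (R₁ ⊗[R] M)).comap (φ.baseChange R₁) := by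
    intro y hy
    rw [Submodule.mem_comap, mem_powTorsion_iff]
    obtain ⟨N, hN⟩ := (mem_powTorsion_iff a₁ y).1 hy
    exact ⟨N, by rw [← map_smul, hN, map_zero]⟩
  have hsurj : Function.Surjective (Submodule.mapQ _ _ (φ.baseChange R₁) hle) := by
    intro q
    obtain ⟨y, rfl⟩ := Submodule.mkQ_surjective _ q
    obtain ⟨y', rfl⟩ := hbc y
    exact ⟨Submodule.mkQ _ y', rfl⟩
  have htop : Fitt.ideal R₁
      ((R₁ ⊗[R] M) ⧸ FlatCA.powTorsion R₁ a₁ (R₁ ⊗[R] M)) r = ⊤ := by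
    have := fitt_le_of_surjective _ hsurj r
    rw [htop1] at this
    exact top_le_iff.1 this
  have hpow_nzd : ∀ (N : ℕ) (t : R₁), f₁ ^ N * t = 0 → t = 0 := by
    intro N
    induction N with
    | zero => intro t ht; simpa using ht
    | succ N ih =>
      intro t ht
      apply ih
      apply hf₁nzd
      rw [← mul_assoc, ← pow_succ']
      exact ht
  have hbot0 : ∀ j, j < r → Fitt.ideal R₁ (R₁ ⊗[R] M) j = ⊥ := by
    intro j hj
    rw [fitt_baseChange R₁ j, Ideal.map_eq_bot_iff_le_ker]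
    intro y hy
    rw [RingHom.mem_ker]
    obtain ⟨N, hN⟩ := hc2 j hj y hy
    apply hpow_nzd N
    rw [hf₁, ← map_pow, ← map_mul, hN, map_zero]
  have hbot : ∀ j, j < r → Fitt.ideal R₁
      ((R₁ ⊗[R] M) ⧸ FlatCA.powTorsion R₁ a₁ (R₁ ⊗[R] M)) j = ⊥ := by
    intro j hj
    refine fitt_quot_eq_bot (R₁ ⊗[R] M) j (hbot0 j hj) _ ?_
    intro y hy
    obtain ⟨N, hN⟩ := (mem_powTorsion_iff a₁ y).1 hy
    exact ⟨a₁ ^ N, pow_mem ha₁mem N, hN⟩
  subst ha₁
  refine ⟨hbot, fun k hk => ?_⟩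
  have := fitt_mono (R := R₁)
    (M := (R₁ ⊗[R] M) ⧸ FlatCA.powTorsion R₁ (algebraMap R R₁ a) (R₁ ⊗[R] M)) hk
  rw [htop] at this
  exact top_le_iff.1 this

end Core

section Main
variable {R : Type u} [CommRing R]

theorem strict_locfree (M : Type u) [AddCommGroup M]
    [Module R M] [Module.Finite R M] (f : R) (r : ℕ)
    (hf : ∀ (p : Ideal R) [p.IsPrime], f ∉ p → ∃ g : R, g ∉ p ∧ g ∈ (Ideal.span {f}).radical ∧
      Module.Free (Localization.Away g) (LocalizedModule (Submonoid.powers g) M) ∧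
        Module.finrank (Localization.Away g) (LocalizedModule (Submonoid.powers g) M) = r) :
    ∃ I : Ideal R, I.FG ∧ I.radical = (Ideal.span {f}).radical ∧ ∀ a ∈ I, ∀ (R₁ : Type u)
      [CommRing R₁] [Algebra R R₁] (e : R₁ ≃ₐ[R] ↥(BlowUp.affineAlgebra R I a)),
      ∀ (p' : Ideal R₁) [p'.IsPrime], ∃ g : R₁, g ∉ p' ∧
        Module.Free (Localization.Away g) (LocalizedModule (Submonoid.powers g)
          ((R₁ ⊗[R] M) ⧸ FlatCA.powTorsion R₁ (algebraMap R R₁ a) (R₁ ⊗[R] M))) ∧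
        Module.finrank (Localization.Away g) (LocalizedModule (Submonoid.powers g)
          ((R₁ ⊗[R] M) ⧸ FlatCA.powTorsion R₁ (algebraMap R R₁ a) (R₁ ⊗[R] M))) = r := by
  classical
  have hloc : ∀ (p : Ideal R) [p.IsPrime], f ∉ p → ∃ g : R, g ∉ p ∧ ∀ k,
      (Fitt.ideal R M k).map (algebraMap R (Localization.Away g))
        = if r ≤ k then ⊤ else ⊥ := by
    intro p _ hfp
    obtain ⟨g, hg, -, hfree, hrank⟩ := hf p hfp
    refine ⟨g, hg, fun k => ?_⟩
    haveI := nontrivial_away hg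
    rw [← fitt_localizedModule (Submonoid.powers g) k]
    exact fitt_of_basis (Module.finBasisOfFinrankEq (Localization.Away g)
      (LocalizedModule (Submonoid.powers g) M) hrank) k
  have hc1 : f ∈ (Fitt.ideal R M r).radical := by
    rw [Ideal.radical_eq_sInf, Ideal.mem_sInf]
    rintro p ⟨hIp, hp⟩
    haveI := hp
    by_contra hfp
    obtain ⟨g, hg, hmap⟩ := hloc p hfp
    have h1 := hmap r
    rw [if_pos le_rfl] at h1
    have h2 : ¬ Disjoint ((Submonoid.powers g : Submonoid R) : Set R)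
        ((Fitt.ideal R M r : Ideal R) : Set R) := by
      rw [← IsLocalization.map_algebraMap_ne_top_iff_disjoint (Submonoid.powers g)
        (Localization.Away g)]
      exact fun h => h h1
    rw [Set.not_disjoint_iff] at h2
    obtain ⟨c, ⟨e, rfl⟩, hc⟩ := h2
    exact hg (Ideal.IsPrime.mem_of_pow_mem ‹_› e (hIp hc))
  have hc2 : ∀ j, j < r → ∀ y ∈ Fitt.ideal R M j, ∃ e : ℕ, f ^ e * y = 0 := by
    intro j hj y hy
    let A : Ideal R := LinearMap.ker (LinearMap.toSpanSingleton R R y)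
    have hA : ∀ c, c ∈ A ↔ c * y = 0 := fun c => by
      rw [LinearMap.mem_ker, LinearMap.toSpanSingleton_apply, smul_eq_mul]
    have hfA : f ∈ A.radical := by
      rw [Ideal.radical_eq_sInf, Ideal.mem_sInf]
      rintro p ⟨hAp, hp⟩
      haveI := hp
      by_contra hfp
      obtain ⟨g, hg, hmap⟩ := hloc p hfp
      have h1 := hmap j
      rw [if_neg (by omega)] at h1
      have h2 : algebraMap R (Localization.Away g) y = 0 := by
        have : algebraMap R (Localization.Away g) y ∈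
            (Fitt.ideal R M j).map (algebraMap R (Localization.Away g)) :=
          Ideal.mem_map_of_mem _ hy
        rw [h1] at this
        simpa using this
      obtain ⟨⟨c, e, rfl⟩, hc⟩ :=
        (IsLocalization.map_eq_zero_iff (Submonoid.powers g) _ y).1 h2
      have : g ^ e ∈ A := (hA _).2 hc
      exact hg (Ideal.IsPrime.mem_of_pow_mem ‹_› e (hAp this))
    obtain ⟨e, he⟩ := hfA
    exact ⟨e, (hA _).1 he⟩
  obtain ⟨N, hN⟩ := hc1
  obtain ⟨n, K₁, φ, hφ, hFG, hfN⟩ := exists_fp_cover M r (f ^ N) hN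
  refine ⟨Ideal.span {f} * Fitt.ideal R ((Fin n → R) ⧸ K₁) r, ?_, ?_, ?_⟩
  · exact Ideal.FG.mul ⟨{f}, by rw [Finset.coe_singleton]⟩ hFG
  · apply le_antisymm
    · exact Ideal.radical_mono Ideal.mul_le_left
    · rw [Ideal.radical_le_radical_iff, Ideal.span_singleton_le_iff_mem]
      refine ⟨N + 1, ?_⟩
      rw [pow_succ']
      exact Ideal.mul_mem_mul (Ideal.mem_span_singleton_self f) hfN
  · intro a ha R₁ _ _ e
    obtain ⟨hbot, htop⟩ := strict_core M ((Fin n → R) ⧸ K₁) φ hφ f r hc2 a ha R₁ e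
    exact (locFree_iff_fitt (R := R₁)
      (M := (R₁ ⊗[R] M) ⧸ FlatCA.powTorsion R₁ (algebraMap R R₁ a) (R₁ ⊗[R] M)) r).2
      ⟨hbot, htop⟩

end Main

end

end Groth.Agent.Lib.Helper9.FittStruct
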