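import Mathlib
import Groth.Agent.Lib.Helper9.FlatSqZero

/-!
# Flatness from a nilpotent ideal and a jointly injective finite family of base changes (helper9)

`flat_of_family`: `A → A'_i` a finite, jointly injective family of ring maps, `J ⊆ A` nilpotent,
`M/JM` flat over `A/J` and `A'_i ⊗ M` flat over `A'_i` for all `i`; then `M` is flat over `A`.
-/

set_option autoImplicit false
universe u

open TensorProduct

namespace Groth.Agent.Lib.Helper9.FlatFamily

open Groth.Agent.Lib.Helper9.FlatSqZero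

lemma flat_quot_congr {A : Type u} [CommRing A] {X Y : Ideal A} (h : X = Y) (M : Type u)
    [AddCommGroup M] [Module A M] (hX : Module.Flat (A ⧸ X) ((A ⧸ X) ⊗[A] M)) :
    Module.Flat (A ⧸ Y) ((A ⧸ Y) ⊗[A] M) := by
  subst h
  exact hX

section

variable {A : Type u} [CommRing A] {ι : Type*} [Fintype ι] (A' : ι → Type u)
  [∀ i, CommRing (A' i)] [∀ i, Algebra A (A' i)]

/-- One round of the square-zero step over the whole family. -/
def step (𝔠 : Ideal A) : Ideal A :=
  𝔠 ⊓ Finset.univ.inf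
    (fun i => ((𝔠.map (algebraMap A (A' i))) ^ 2).comap (algebraMap A (A' i)))

omit [Fintype ι] in
theorem flat_partial (M : Type u) [AddCommGroup M] [Module A M]
    (hflat : ∀ i, Module.Flat (A' i) (A' i ⊗[A] M)) (𝔠 : Ideal A)
    [Module.Flat (A ⧸ 𝔠) ((A ⧸ 𝔠) ⊗[A] M)] (s : Finset ι) :
    Module.Flat
      (A ⧸ (𝔠 ⊓ s.inf
        (fun i => ((𝔠.map (algebraMap A (A' i))) ^ 2).comap (algebraMap A (A' i)))))
      ((A ⧸ (𝔠 ⊓ s.inf
        (fun i => ((𝔠.map (algebraMap A (A' i))) ^ 2).comap (algebraMap A (A' i))))) ⊗[A] M) := by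
  classical
  induction s using Finset.induction_on with
  | empty =>
    refine flat_quot_congr ?_ M (inferInstance : Module.Flat (A ⧸ 𝔠) ((A ⧸ 𝔠) ⊗[A] M))
    rw [Finset.inf_empty, inf_top_eq]
  | insert a s ha ih =>
    haveI := ih
    haveI := hflat a
    have key := flat_quotient_inf_comap (A' := A' a) M
      (𝔠 ⊓ s.inf (fun i => ((𝔠.map (algebraMap A (A' i))) ^ 2).comap (algebraMap A (A' i))))
      ((𝔠.map (algebraMap A (A' a))) ^ 2)
      (Ideal.pow_right_mono (Ideal.map_mono inf_le_left) 2)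
    refine flat_quot_congr ?_ M key
    rw [Finset.inf_insert, inf_assoc]
    congr 1
    exact inf_comm _ _

theorem flat_step (M : Type u) [AddCommGroup M] [Module A M]
    (hflat : ∀ i, Module.Flat (A' i) (A' i ⊗[A] M)) (𝔠 : Ideal A)
    [Module.Flat (A ⧸ 𝔠) ((A ⧸ 𝔠) ⊗[A] M)] :
    Module.Flat (A ⧸ step A' 𝔠) ((A ⧸ step A' 𝔠) ⊗[A] M) :=
  flat_partial A' M hflat 𝔠 Finset.univ

/-- The iterated sequence of ideals. -/
def Cseq (J : Ideal A) : ℕ → Ideal A
  | 0 => J
  | n + 1 => step A' (Cseq J n)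

theorem flat_Cseq (M : Type u) [AddCommGroup M] [Module A M]
    (hflat : ∀ i, Module.Flat (A' i) (A' i ⊗[A] M)) (J : Ideal A)
    [Module.Flat (A ⧸ J) ((A ⧸ J) ⊗[A] M)] (n : ℕ) :
    Module.Flat (A ⧸ Cseq A' J n) ((A ⧸ Cseq A' J n) ⊗[A] M) := by
  induction n with
  | zero =>
    show Module.Flat (A ⧸ J) ((A ⧸ J) ⊗[A] M)
    infer_instance
  | succ n ih =>
    haveI := ih
    exact flat_step A' M hflat (Cseq A' J n)

theorem Cseq_map_le (J : Ideal A) (n : ℕ) (i : ι) :
    (Cseq A' J n).map (algebraMap A (A' i)) ≤ (J.map (algebraMap A (A' i))) ^ (2 ^ n) := by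
  induction n with
  | zero =>
    show J.map _ ≤ _
    rw [pow_zero, pow_one]
  | succ n ih =>
    show (step A' (Cseq A' J n)).map _ ≤ _
    calc (step A' (Cseq A' J n)).map (algebraMap A (A' i))
        ≤ ((((Cseq A' J n).map (algebraMap A (A' i))) ^ 2).comap (algebraMap A (A' i))).map
            (algebraMap A (A' i)) :=
          Ideal.map_mono (inf_le_right.trans (Finset.inf_le (Finset.mem_univ i)))
      _ ≤ ((Cseq A' J n).map (algebraMap A (A' i))) ^ 2 := Ideal.map_comap_le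
      _ ≤ ((J.map (algebraMap A (A' i))) ^ (2 ^ n)) ^ 2 := Ideal.pow_right_mono ih 2
      _ = (J.map (algebraMap A (A' i))) ^ (2 ^ (n + 1)) := by rw [← pow_mul, pow_succ]

/-- Flatness from a nilpotent ideal and a jointly injective finite family of base changes. -/
theorem flat_of_family (hinj : ∀ a : A, (∀ i, algebraMap A (A' i) a = 0) → a = 0)
    (J : Ideal A) (hJ : IsNilpotent J) (M : Type u) [AddCommGroup M] [Module A M]
    [Module.Flat (A ⧸ J) ((A ⧸ J) ⊗[A] M)]
    (hflat : ∀ i, Module.Flat (A' i) (A' i ⊗[A] M)) : Module.Flat A M := by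
  obtain ⟨k, hk⟩ := hJ
  have h0 : J ^ (2 ^ k) = ⊥ := by
    have h1 : k ≤ 2 ^ k := Nat.lt_two_pow_self.le
    have h2 := Ideal.pow_le_pow_right h1 (I := J)
    rw [hk, Ideal.zero_eq_bot] at h2
    exact le_bot_iff.mp h2
  have hbot : Cseq A' J k = ⊥ := by
    rw [eq_bot_iff]
    intro a ha
    rw [Ideal.mem_bot]
    apply hinj
    intro i
    have h1 : algebraMap A (A' i) a ∈ (Cseq A' J k).map (algebraMap A (A' i)) :=
      Ideal.mem_map_of_mem _ ha
    have h2 := Cseq_map_le A' J k i h1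
    rw [← Ideal.map_pow, h0, Ideal.map_bot] at h2
    exact h2
  haveI := flat_Cseq A' M hflat J k
  let f : A ⧸ Cseq A' J k →ₐ[A] A := Ideal.Quotient.liftₐ (Cseq A' J k) (AlgHom.id A A)
    (fun a ha => by
      have h3 : a ∈ (⊥ : Ideal A) := hbot ▸ ha
      simpa using h3)
  haveI : Module.Flat A (A ⊗[A] M) := flat_of_algHom f M
  exact Module.Flat.of_linearEquiv (TensorProduct.lid A M).symm

end

end Groth.Agent.Lib.Helper9.FlatFamily
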