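import Mathlib
import Groth.Agent.Lib.Helper8.LocalCriterion

/-!
# Flatness from a regular element (helper9), universe polymorphic

`flat_of_fibres`: `t` regular on `A` and on `M`, `(A/t) ⊗ M` flat over `A/t`, `M_t` flat over `A_t`;
then `M` is flat over `A`.  The ring and the module may live in different universes.

The first section re-proves helper8's balancing lemmas with independent universes.
-/

set_option autoImplicit false
universe u v w w' w''

open TensorProduct

namespace Groth.Agent.Lib.Helper9.FlatFibres

open Groth.Agent.Lib.Helper8 (injective_of_three_by_three lTensor_baseChange_injective_iff)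

section Criterion

variable {A : Type u} [CommRing A] (I : Ideal A)
  {M : Type v} {K : Type w} {F : Type w'} [AddCommGroup M] [AddCommGroup K] [AddCommGroup F]
  [Module A M] [Module A K] [Module A F]
  (ι : K →ₗ[A] F) (π : F →ₗ[A] M)

theorem lTensor_quotient_injective [Module.Flat A F] (hι : Function.Injective ι)
    (hex : Function.Exact ι π)
    (hπ : Function.Surjective π) (H2 : Function.Injective (I.subtype.rTensor M)) :
    Function.Injective (ι.lTensor (A ⧸ I)) :=
  injective_of_three_by_three (R := A)
    (ι.lTensor I) (π.lTensor I) (ι.lTensor A) (π.lTensor A) (ι.lTensor (A ⧸ I))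
    (I.subtype.rTensor K) (I.mkQ.rTensor K) (I.subtype.rTensor F) (I.mkQ.rTensor F)
    (I.subtype.rTensor M)
    (by rw [LinearMap.lTensor_comp_rTensor, LinearMap.rTensor_comp_lTensor])
    (by rw [LinearMap.lTensor_comp_rTensor, LinearMap.rTensor_comp_lTensor])
    (by rw [LinearMap.lTensor_comp_rTensor, LinearMap.rTensor_comp_lTensor])
    (LinearMap.rTensor_surjective K (Submodule.mkQ_surjective I))
    (fun x => (rTensor_exact K (LinearMap.exact_subtype_mkQ I)
      (Submodule.mkQ_surjective I)).apply_apply_eq_zero x)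
    (rTensor_exact F (LinearMap.exact_subtype_mkQ I) (Submodule.mkQ_surjective I))
    (lTensor_exact I hex hπ)
    (fun x => (lTensor_exact A hex hπ).apply_apply_eq_zero x)
    (Module.Flat.lTensor_preserves_injective_linearMap ι hι)
    H2

theorem lTensor_injective_of_module_quotient (hex : Function.Exact ι π)
    (hπ : Function.Surjective π)
    (H1 : Module.Flat (A ⧸ I) ((A ⧸ I) ⊗[A] M))
    (H0 : Function.Injective (ι.lTensor (A ⧸ I)))
    (N : Type w'') [AddCommGroup N] [Module A N] [Module (A ⧸ I) N] [IsScalarTower A (A ⧸ I) N] :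
    Function.Injective (ι.lTensor N) := by
  rw [← lTensor_baseChange_injective_iff (B := A ⧸ I)]
  exact LinearMap.lTensor_injective_of_exact_of_flat (π.baseChange (A ⧸ I))
    (LinearMap.baseChange_surjective (A ⧸ I) hπ) (ι.baseChange (A ⧸ I)) H0
    (lTensor_exact (A ⧸ I) hex hπ) N

theorem rTensor_injective_of_smul_le_range [Module.Flat A F]
    (hex : Function.Exact ι π) (hπ : Function.Surjective π)
    (H1 : Module.Flat (A ⧸ I) ((A ⧸ I) ⊗[A] M))
    (H0 : Function.Injective (ι.lTensor (A ⧸ I)))
    {N' : Type w''} {P : Type w''} [AddCommGroup N'] [AddCommGroup P] [Module A N'] [Module A P]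
    (i : N' →ₗ[A] P) (hi : Function.Injective i)
    (hIP : I • (⊤ : Submodule A P) ≤ LinearMap.range i) :
    Function.Injective (i.rTensor M) := by
  have hM : Module.IsTorsionBySet A (P ⧸ LinearMap.range i) (I : Set A) := by
    rintro x ⟨a, ha⟩
    obtain ⟨p, rfl⟩ := Submodule.mkQ_surjective _ x
    show a • (LinearMap.range i).mkQ p = 0
    rw [← map_smul, Submodule.mkQ_apply, Submodule.Quotient.mk_eq_zero]
    exact hIP (Submodule.smul_mem_smul ha Submodule.mem_top)
  let _ : Module (A ⧸ I) (P ⧸ LinearMap.range i) := hM.module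
  have : IsScalarTower A (A ⧸ I) (P ⧸ LinearMap.range i) :=
    Module.IsTorsionBySet.isScalarTower hM
  have T0 := lTensor_injective_of_module_quotient I ι π hex hπ H1 H0 (P ⧸ LinearMap.range i)
  exact injective_of_three_by_three (R := A)
    (i.rTensor K) ((LinearMap.range i).mkQ.rTensor K) (i.rTensor F)
    ((LinearMap.range i).mkQ.rTensor F) (i.rTensor M)
    (ι.lTensor N') (π.lTensor N') (ι.lTensor P) (π.lTensor P)
    (ι.lTensor (P ⧸ LinearMap.range i))
    (by rw [LinearMap.lTensor_comp_rTensor, LinearMap.rTensor_comp_lTensor])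
    (by rw [LinearMap.lTensor_comp_rTensor, LinearMap.rTensor_comp_lTensor])
    (by rw [LinearMap.lTensor_comp_rTensor, LinearMap.rTensor_comp_lTensor])
    (LinearMap.lTensor_surjective N' hπ)
    (fun x => (lTensor_exact N' hex hπ).apply_apply_eq_zero x)
    (lTensor_exact P hex hπ)
    (rTensor_exact K (LinearMap.exact_map_mkQ_range i) (Submodule.mkQ_surjective _))
    (fun x => (rTensor_exact F (LinearMap.exact_map_mkQ_range i)
      (Submodule.mkQ_surjective _)).apply_apply_eq_zero x)
    (Module.Flat.rTensor_preserves_injective_linearMap i hi)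
    T0

end Criterion

section flatfib

variable {A : Type u} [CommRing A] (t : A) (M : Type v) [AddCommGroup M] [Module A M]

/-- `(t) ⊗ M → A ⊗ M` is injective when `t` is `M`-regular. -/
lemma rInj_span_singleton (hM : IsSMulRegular M t) :
    Function.Injective ((Ideal.span {t}).subtype.rTensor M) := by
  set I : Ideal A := Ideal.span {t} with hI
  have htI : t ∈ I := Ideal.subset_span rfl
  let e : A →ₗ[A] I := LinearMap.toSpanSingleton A I ⟨t, htI⟩
  have he : Function.Surjective e := by
    rintro ⟨a, ha⟩
    obtain ⟨b, rfl⟩ := Ideal.mem_span_singleton'.mp ha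
    exact ⟨b, Subtype.ext (by simp [e, LinearMap.toSpanSingleton_apply])⟩
  have hcomp : I.subtype ∘ₗ e = LinearMap.lsmul A A t := by
    apply LinearMap.ext
    intro a
    simp [e, LinearMap.toSpanSingleton_apply, mul_comm]
  rw [injective_iff_map_eq_zero]
  intro x hx
  obtain ⟨y, rfl⟩ := LinearMap.rTensor_surjective M he x
  rw [← LinearMap.comp_apply, ← LinearMap.rTensor_comp, hcomp] at hx
  have h1 : ∀ z : A ⊗[A] M, ((LinearMap.lsmul A A t).rTensor M) z = t • z := by
    intro z
    induction z using TensorProduct.induction_on with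
    | zero => simp
    | tmul a m => simp [TensorProduct.smul_tmul']
    | add y z hy hz => rw [map_add, smul_add, hy, hz]
  rw [h1] at hx
  have h2 : (TensorProduct.lid A M) y = 0 := by
    apply hM
    show t • (TensorProduct.lid A M) y = t • 0
    rw [← map_smul, hx, map_zero, smul_zero]
  have h3 : y = 0 := (TensorProduct.lid A M).injective (by rw [h2, map_zero])
  rw [h3, map_zero]

/-- `t` is regular on `K ⊗ M` when it is regular on `K`, on `M`, and `M/tM` is flat over `A/t`. -/
lemma isSMulRegular_tensor (hM : IsSMulRegular M t)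
    (H1 : Module.Flat (A ⧸ Ideal.span {t}) ((A ⧸ Ideal.span {t}) ⊗[A] M))
    (K : Type w) [AddCommGroup K] [Module A K] (hK : IsSMulRegular K t) :
    IsSMulRegular (K ⊗[A] M) t := by
  have hπ : Function.Surjective (Finsupp.linearCombination A (id : M → M)) :=
    Finsupp.linearCombination_surjective _ Function.surjective_id
  have hex : Function.Exact (LinearMap.ker (Finsupp.linearCombination A (id : M → M))).subtype
      (Finsupp.linearCombination A (id : M → M)) := LinearMap.exact_subtype_ker_map _
  have hι : Function.Injective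
      (LinearMap.ker (Finsupp.linearCombination A (id : M → M))).subtype :=
    Submodule.subtype_injective _
  have H0 := lTensor_quotient_injective (M := M)
    (K := LinearMap.ker (Finsupp.linearCombination A (id : M → M))) (F := M →₀ A)
    (Ideal.span {t})
    (LinearMap.ker (Finsupp.linearCombination A (id : M → M))).subtype
    (Finsupp.linearCombination A (id : M → M)) hι hex hπ (rInj_span_singleton t M hM)
  have hinj : Function.Injective ((LinearMap.lsmul A K t).rTensor M) := by
    apply rTensor_injective_of_smul_le_range (M := M)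
      (K := LinearMap.ker (Finsupp.linearCombination A (id : M → M))) (F := M →₀ A)
      (Ideal.span {t})
      (LinearMap.ker (Finsupp.linearCombination A (id : M → M))).subtype
      (Finsupp.linearCombination A (id : M → M)) hex hπ H1 H0 (LinearMap.lsmul A K t) hK
    rw [Submodule.smul_le]
    intro a ha k _
    obtain ⟨b, rfl⟩ := Ideal.mem_span_singleton'.mp ha
    exact ⟨b • k, by simp [mul_smul, smul_comm t b k]⟩
  intro x y hxy
  apply hinj
  have h1 : ∀ z : K ⊗[A] M, ((LinearMap.lsmul A K t).rTensor M) z = t • z := by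
    intro z
    induction z using TensorProduct.induction_on with
    | zero => simp
    | tmul a m => simp [TensorProduct.smul_tmul']
    | add y z hy hz => rw [map_add, smul_add, hy, hz]
  rw [h1, h1]
  exact hxy

/-- elements of the kernel of `𝔞 ⊗ M → A ⊗ M` are killed by a power of `t` when `M_t` is flat. -/
lemma exists_pow_smul_eq_zero
    (H2 : Module.Flat (Localization (Submonoid.powers t)) (LocalizedModule (Submonoid.powers t) M))
    (𝔞 : Ideal A) (x : 𝔞 ⊗[A] M) (hx : (𝔞.subtype.rTensor M) x = 0) :
    ∃ k : ℕ, t ^ k • x = 0 := by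
  set S := Submonoid.powers t with hS
  let ℓ : M →ₗ[A] LocalizedModule S M := LocalizedModule.mkLinearMap S M
  haveI : Module.Flat A (LocalizedModule S M) :=
    Module.Flat.trans A (Localization S) (LocalizedModule S M)
  have hinj : Function.Injective (𝔞.subtype.rTensor (LocalizedModule S M)) :=
    Module.Flat.rTensor_preserves_injective_linearMap _ (Submodule.subtype_injective _)
  have h1 : (ℓ.lTensor 𝔞) x = 0 := by
    apply hinj
    rw [map_zero, ← LinearMap.comp_apply, LinearMap.rTensor_comp_lTensor,
      ← LinearMap.lTensor_comp_rTensor, LinearMap.comp_apply, hx, map_zero]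
  have h2 : (AlgebraTensorModule.rTensor A 𝔞 ℓ) ((TensorProduct.comm A 𝔞 M) x) = 0 := by
    have h3 : ∀ z : 𝔞 ⊗[A] M, (AlgebraTensorModule.rTensor A 𝔞 ℓ) ((TensorProduct.comm A 𝔞 M) z) =
        (TensorProduct.comm A 𝔞 (LocalizedModule S M)) ((ℓ.lTensor 𝔞) z) := by
      intro z
      induction z using TensorProduct.induction_on with
      | zero => simp
      | tmul a m => simp
      | add y z hy hz => simp only [map_add, hy, hz]
    rw [h3, h1, map_zero]
  obtain ⟨⟨s, k, hk⟩, hs⟩ := (IsLocalizedModule.eq_zero_iff S
    (AlgebraTensorModule.rTensor A 𝔞 ℓ)).mp h2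
  refine ⟨k, ?_⟩
  apply (TensorProduct.comm A 𝔞 M).injective
  rw [map_smul, map_zero]
  have : (⟨s, k, hk⟩ : S) • (TensorProduct.comm A 𝔞 M) x = s • (TensorProduct.comm A 𝔞 M) x := rfl
  rw [this] at hs
  rw [← hk] at hs
  exact hs

theorem flat_of_fibres (ht : IsSMulRegular A t) (hM : IsSMulRegular M t)
    (H1 : Module.Flat (A ⧸ Ideal.span {t}) ((A ⧸ Ideal.span {t}) ⊗[A] M))
    (H2 : Module.Flat (Localization (Submonoid.powers t)) (LocalizedModule (Submonoid.powers t) M)) :
    Module.Flat A M := by
  rw [Module.Flat.iff_rTensor_injective']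
  intro 𝔞
  rw [injective_iff_map_eq_zero]
  intro x hx
  obtain ⟨k, hk⟩ := exists_pow_smul_eq_zero t M H2 𝔞 x hx
  have h𝔞 : IsSMulRegular 𝔞 t := by
    intro a b hab
    apply Subtype.ext
    apply ht
    exact congrArg Subtype.val hab
  have hreg := (isSMulRegular_tensor t M hM H1 𝔞 h𝔞).pow k
  apply hreg
  show t ^ k • x = t ^ k • 0
  rw [hk, smul_zero]

end flatfib

section Nilp

variable {A : Type u} [CommRing A] (I : Ideal A) (M : Type v) [AddCommGroup M] [Module A M]

/-- `𝔟 ⊗ M → A ⊗ M` is injective. -/
def RInj (𝔟 : Ideal A) : Prop := Function.Injective (𝔟.subtype.rTensor M)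

theorem rInj_top : RInj M (⊤ : Ideal A) := by
  have h : ((⊤ : Ideal A).subtype.rTensor M) =
      ((LinearEquiv.rTensor M (Submodule.topEquiv : (⊤ : Ideal A) ≃ₗ[A] A)) : _ →ₗ[A] _) := by
    rw [LinearEquiv.coe_rTensor]
    rfl
  unfold RInj
  rw [h]
  exact (LinearEquiv.rTensor M (Submodule.topEquiv : (⊤ : Ideal A) ≃ₗ[A] A)).injective

variable {M}

/-- The local criterion of flatness for a nilpotent ideal (ring and module in different
universes; after helper8's `flat_of_isNilpotent`). -/
theorem flat_of_isNilpotent (hI : IsNilpotent I)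
    (H1 : Module.Flat (A ⧸ I) ((A ⧸ I) ⊗[A] M))
    (H2 : Function.Injective (I.subtype.rTensor M)) : Module.Flat A M := by
  have hπ : Function.Surjective (Finsupp.linearCombination A (id : M → M)) :=
    Finsupp.linearCombination_surjective _ Function.surjective_id
  have hex : Function.Exact (LinearMap.ker (Finsupp.linearCombination A (id : M → M))).subtype
      (Finsupp.linearCombination A (id : M → M)) := LinearMap.exact_subtype_ker_map _
  have hι : Function.Injective
      (LinearMap.ker (Finsupp.linearCombination A (id : M → M))).subtype :=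
    Submodule.subtype_injective _
  have H0 := lTensor_quotient_injective (M := M)
    (K := LinearMap.ker (Finsupp.linearCombination A (id : M → M))) (F := M →₀ A) I
    (LinearMap.ker (Finsupp.linearCombination A (id : M → M))).subtype
    (Finsupp.linearCombination A (id : M → M)) hι hex hπ H2
  have step : ∀ 𝔞' 𝔟 : Ideal A, 𝔞' ≤ 𝔟 → I * 𝔟 ≤ 𝔞' → RInj M 𝔟 → RInj M 𝔞' := by
    intro 𝔞' 𝔟 hle hI𝔟 h𝔟
    have hj : Function.Injective ((Submodule.inclusion hle).rTensor M) := by
      apply rTensor_injective_of_smul_le_range (M := M)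
        (K := LinearMap.ker (Finsupp.linearCombination A (id : M → M))) (F := M →₀ A) I
        (LinearMap.ker (Finsupp.linearCombination A (id : M → M))).subtype
        (Finsupp.linearCombination A (id : M → M)) hex hπ H1 H0 (Submodule.inclusion hle)
        (Submodule.inclusion_injective hle)
      rw [Submodule.smul_le]
      intro a ha b _
      refine ⟨⟨a * b.1, hI𝔟 (Ideal.mul_mem_mul ha b.2)⟩, ?_⟩
      apply Subtype.ext
      rfl
    have hcomp : 𝔞'.subtype.rTensor M =
        (𝔟.subtype.rTensor M) ∘ₗ ((Submodule.inclusion hle).rTensor M) := by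
      rw [← LinearMap.rTensor_comp, Submodule.subtype_comp_inclusion]
    unfold RInj
    rw [hcomp]
    exact h𝔟.comp hj
  rw [Module.Flat.iff_rTensor_injective']
  intro 𝔞
  obtain ⟨n, hn⟩ := hI
  have key : ∀ k : ℕ, RInj M (𝔞 ⊔ I ^ k) := by
    intro k
    induction k with
    | zero =>
      have h0 : 𝔞 ⊔ I ^ 0 = ⊤ := by rw [pow_zero, Ideal.one_eq_top, sup_top_eq]
      rw [h0]; exact rInj_top M
    | succ k ih =>
      refine step _ _ (sup_le_sup_left (Ideal.pow_le_pow_right (Nat.le_succ k)) 𝔞) ?_ ih
      rw [Ideal.mul_sup]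
      refine sup_le_sup Ideal.mul_le_right ?_
      rw [pow_succ']
  have hfin := key n
  rw [hn, Ideal.zero_eq_bot, sup_bot_eq] at hfin
  exact hfin

end Nilp

end Groth.Agent.Lib.Helper9.FlatFibres
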