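import Mathlib

/-!
# Length lemmas for S18418
-/

namespace Groth.Agent.Lib.Helper9.FonLafA

open Module

section LemmaA

variable {W : Type*} [CommRing W]

/-- `c Q` as a submodule. -/
def cS (c : W) (Q : Type*) [AddCommGroup Q] [Module W Q] : Submodule W Q :=
  LinearMap.range (LinearMap.lsmul W Q c)

theorem mem_cS {c : W} {Q : Type*} [AddCommGroup Q] [Module W Q] {y : Q} :
    y ∈ cS c Q ↔ ∃ y', c • y' = y := by
  simp [cS, LinearMap.mem_range]

theorem length_quot_prod (c : W) (P Q : Type*) [AddCommGroup P] [Module W P]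
    [AddCommGroup Q] [Module W Q] :
    Module.length W ((P × Q) ⧸ cS c (P × Q)) =
      Module.length W (P ⧸ cS c P) + Module.length W (Q ⧸ cS c Q) := by
  let f : (Q ⧸ cS c Q) →ₗ[W] ((P × Q) ⧸ cS c (P × Q)) :=
    Submodule.mapQ _ _ (LinearMap.inr W P Q) (by
      intro x hx
      obtain ⟨x', rfl⟩ := mem_cS.1 hx
      exact mem_cS.2 ⟨(0, x'), by simp⟩)
  let g : ((P × Q) ⧸ cS c (P × Q)) →ₗ[W] (P ⧸ cS c P) :=
    Submodule.mapQ _ _ (LinearMap.fst W P Q) (by
      intro x hx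
      obtain ⟨x', rfl⟩ := mem_cS.1 hx
      exact mem_cS.2 ⟨x'.1, by simp⟩)
  have hf : Function.Injective f := by
    rw [← LinearMap.ker_eq_bot, LinearMap.ker_eq_bot']
    intro x hx
    obtain ⟨x, rfl⟩ := Submodule.mkQ_surjective _ x
    have h1 : f ((cS c Q).mkQ x) = (cS c (P × Q)).mkQ ((0 : P), x) := rfl
    rw [h1, Submodule.mkQ_apply, Submodule.Quotient.mk_eq_zero] at hx
    obtain ⟨y, hy⟩ := mem_cS.1 hx
    rw [Submodule.mkQ_apply, Submodule.Quotient.mk_eq_zero]
    exact mem_cS.2 ⟨y.2, by have := congrArg Prod.snd hy; simpa using this⟩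
  have hg : Function.Surjective g := by
    intro x
    obtain ⟨x, rfl⟩ := Submodule.mkQ_surjective _ x
    exact ⟨(cS c (P × Q)).mkQ (x, 0), rfl⟩
  have hex : Function.Exact f g := by
    intro y
    constructor
    · intro hy
      obtain ⟨y, rfl⟩ := Submodule.mkQ_surjective _ y
      have h1 : g ((cS c (P × Q)).mkQ y) = (cS c P).mkQ y.1 := rfl
      rw [h1, Submodule.mkQ_apply, Submodule.Quotient.mk_eq_zero] at hy
      obtain ⟨y', hy'⟩ := mem_cS.1 hy
      refine ⟨(cS c Q).mkQ y.2, ?_⟩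
      have h2 : f ((cS c Q).mkQ y.2) = (cS c (P × Q)).mkQ ((0 : P), y.2) := rfl
      rw [h2, Submodule.mkQ_apply, Submodule.mkQ_apply, Submodule.Quotient.eq]
      refine mem_cS.2 ⟨(-y', 0), ?_⟩
      ext
      · simp [hy']
      · simp
    · rintro ⟨x, rfl⟩
      obtain ⟨x, rfl⟩ := Submodule.mkQ_surjective _ x
      have h2 : f ((cS c Q).mkQ x) = (cS c (P × Q)).mkQ ((0 : P), x) := rfl
      rw [h2]
      have h1 : g ((cS c (P × Q)).mkQ ((0 : P), x)) = (cS c P).mkQ (0 : P) := rfl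
      rw [h1, map_zero]
  rw [Module.length_eq_add_of_exact f g hf hg hex, add_comm]

theorem length_eq_of_semilinear_bijective {σ : W →+* W} [RingHomSurjective σ]
    {Q P : Type*} [AddCommGroup Q] [Module W Q] [AddCommGroup P] [Module W P]
    (f : Q →ₛₗ[σ] P) (hf : Function.Bijective f) : Module.length W Q = Module.length W P := by
  rw [Module.length, Module.length, WithBot.unbot_inj,
    Order.krullDim_eq_of_orderIso (Submodule.orderIsoMapComapOfBijective f hf)]

theorem enat_aux (a b m k : ℕ∞) (h1 : k + m = a + b + m) (h2 : k ≤ b) (h3 : k + m ≠ ⊤) :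
    a = 0 := by
  have hm : m ≠ ⊤ := by rintro rfl; simp at h3
  have hk : k ≠ ⊤ := by rintro rfl; simp at h3
  have hab : a + b + m ≠ ⊤ := h1 ▸ h3
  have ha : a ≠ ⊤ := by rintro rfl; simp at hab
  have hb : b ≠ ⊤ := by rintro rfl; simp at hab
  lift a to ℕ using ha
  lift b to ℕ using hb
  lift m to ℕ using hm
  lift k to ℕ using hk
  norm_cast at *
  omega

theorem lemmaA {σ : W →+* W} [RingHomSurjective σ] (c : W) (hc : σ c = c)
    {X Y M : Type*} [AddCommGroup X] [Module W X] [AddCommGroup Y] [Module W Y]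
    [AddCommGroup M] [Module W M]
    (ι : X →ₗ[W] Y) (Φ : Y →ₛₗ[σ] M) (hΦ : Function.Surjective Φ)
    (hker : ∀ y, Φ y = 0 → ∃ z, ι z = y)
    (hlen : Module.length W (Y ⧸ cS c Y) =
      Module.length W (X ⧸ cS c X) + Module.length W (M ⧸ cS c M))
    (hfin : Module.length W (Y ⧸ cS c Y) ≠ ⊤) :
    ∀ z, ι z ∈ cS c Y → z ∈ cS c X := by
  have h1 : cS c Y ≤ LinearMap.ker ((cS c M).mkQ.comp Φ) := by
    intro y hy
    obtain ⟨y', rfl⟩ := mem_cS.1 hy
    rw [LinearMap.mem_ker, LinearMap.comp_apply, map_smulₛₗ, hc, Submodule.mkQ_apply,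
      Submodule.Quotient.mk_eq_zero]
    exact mem_cS.2 ⟨Φ y', rfl⟩
  let Φc : (Y ⧸ cS c Y) →ₛₗ[σ] (M ⧸ cS c M) := (cS c Y).liftQ ((cS c M).mkQ.comp Φ) h1
  have hΦc : Function.Surjective Φc := by
    intro m
    obtain ⟨m, rfl⟩ := Submodule.mkQ_surjective _ m
    obtain ⟨y, rfl⟩ := hΦ m
    exact ⟨(cS c Y).mkQ y, rfl⟩
  have h2 : cS c X ≤ (cS c Y).comap ι := by
    intro x hx
    obtain ⟨x', rfl⟩ := mem_cS.1 hx
    exact mem_cS.2 ⟨ι x', by rw [map_smul]⟩
  let ιc : (X ⧸ cS c X) →ₗ[W] (Y ⧸ cS c Y) := Submodule.mapQ _ _ ι h2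
  have hkr : LinearMap.ker Φc ≤ LinearMap.range ιc := by
    intro y hy
    obtain ⟨y, rfl⟩ := Submodule.mkQ_surjective _ y
    have h3 : Φc ((cS c Y).mkQ y) = (cS c M).mkQ (Φ y) := rfl
    rw [LinearMap.mem_ker, h3, Submodule.mkQ_apply, Submodule.Quotient.mk_eq_zero] at hy
    obtain ⟨m', hm'⟩ := mem_cS.1 hy
    obtain ⟨y', rfl⟩ := hΦ m'
    have h4 : Φ (y - c • y') = 0 := by rw [map_sub, map_smulₛₗ, hc, hm', sub_self]
    obtain ⟨z, hz⟩ := hker _ h4
    refine ⟨(cS c X).mkQ z, ?_⟩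
    have h5 : ιc ((cS c X).mkQ z) = (cS c Y).mkQ (ι z) := rfl
    rw [h5, hz, Submodule.mkQ_apply, Submodule.mkQ_apply, Submodule.Quotient.eq]
    refine mem_cS.2 ⟨-y', ?_⟩
    simp
  have hL1 : Module.length W (Y ⧸ cS c Y) =
      Module.length W (LinearMap.ker Φc) + Module.length W (M ⧸ cS c M) := by
    have e1 := Module.length_eq_add_of_exact (LinearMap.ker Φc).subtype (LinearMap.ker Φc).mkQ
      (Submodule.subtype_injective _) (Submodule.mkQ_surjective _)
      (LinearMap.exact_subtype_mkQ _)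
    rw [e1]
    congr 1
    let Ψ : ((Y ⧸ cS c Y) ⧸ LinearMap.ker Φc) →ₛₗ[σ] (M ⧸ cS c M) :=
      (LinearMap.ker Φc).liftQ Φc le_rfl
    refine length_eq_of_semilinear_bijective Ψ ⟨?_, ?_⟩
    · rw [← LinearMap.ker_eq_bot]; exact Submodule.ker_liftQ_eq_bot' _ _ rfl
    · intro m
      obtain ⟨y, rfl⟩ := hΦc m
      exact ⟨Submodule.Quotient.mk y, rfl⟩
  have hL2 : Module.length W (LinearMap.ker Φc) ≤ Module.length W (LinearMap.range ιc) :=
    Module.length_le_of_injective (Submodule.inclusion hkr) (Submodule.inclusion_injective hkr)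
  have hL3 : Module.length W (X ⧸ cS c X) =
      Module.length W (LinearMap.ker ιc) + Module.length W (LinearMap.range ιc) :=
    Module.length_eq_add_of_exact (LinearMap.ker ιc).subtype ιc.rangeRestrict
      (Submodule.subtype_injective _) (LinearMap.surjective_rangeRestrict _) (by
        intro x
        constructor
        · intro hx
          exact ⟨⟨x, by rw [LinearMap.mem_ker]; exact congrArg Subtype.val hx⟩, rfl⟩
        · rintro ⟨x, rfl⟩
          exact Subtype.ext x.2)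
  have ha : Module.length W (LinearMap.ker ιc) = 0 := by
    refine enat_aux _ (Module.length W (LinearMap.range ιc)) (Module.length W (M ⧸ cS c M))
      (Module.length W (LinearMap.ker Φc)) ?_ hL2 ?_
    · rw [← hL1, hlen, hL3]
    · rw [← hL1]; exact hfin
  intro z hz
  have hinj : Function.Injective ιc := by
    rw [← LinearMap.ker_eq_bot]
    have := Module.length_eq_zero_iff.1 ha
    exact Submodule.eq_bot_of_subsingleton
  have h6 : ιc ((cS c X).mkQ z) = 0 := by
    show (cS c Y).mkQ (ι z) = 0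
    rw [Submodule.mkQ_apply, Submodule.Quotient.mk_eq_zero]; exact hz
  have h7 := hinj (h6.trans (map_zero ιc).symm)
  rwa [Submodule.mkQ_apply, Submodule.Quotient.mk_eq_zero] at h7

end LemmaA

section Nak

theorem exists_pow_smul_eq_zero {W : Type*} [CommRing W] (c : W)
    (hc : c ∈ Ideal.jacobson (⊥ : Ideal W))
    (N : Type*) [AddCommGroup N] [Module W N] (hN : IsFiniteLength W N) :
    ∃ J : ℕ, ∀ x : N, c ^ J • x = 0 := by
  obtain ⟨hnoeth, hart⟩ := isFiniteLength_iff_isNoetherian_isArtinian.1 hN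
  let f : ℕ →o (Submodule W N)ᵒᵈ := ⟨fun j => OrderDual.toDual (cS (c ^ j) N), by
    intro i j hij
    show cS (c ^ j) N ≤ cS (c ^ i) N
    intro y hy
    obtain ⟨y', rfl⟩ := mem_cS.1 hy
    exact mem_cS.2 ⟨c ^ (j - i) • y', by rw [smul_smul, ← pow_add, Nat.add_sub_cancel' hij]⟩⟩
  obtain ⟨J, hJ⟩ := IsArtinian.monotone_stabilizes f
  have h1 : cS (c ^ J) N = cS (c ^ (J + 1)) N :=
    congrArg OrderDual.ofDual (hJ (J + 1) (Nat.le_succ J))
  have h2 : cS (c ^ J) N ≤ (Ideal.span {c}) • cS (c ^ J) N := by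
    intro y hy
    rw [h1] at hy
    obtain ⟨y', rfl⟩ := mem_cS.1 hy
    rw [pow_succ', mul_smul]
    exact Submodule.smul_mem_smul (Ideal.mem_span_singleton_self c) (mem_cS.2 ⟨y', rfl⟩)
  have h3 : cS (c ^ J) N = ⊥ :=
    Submodule.eq_bot_of_le_smul_of_le_jacobson_bot (Ideal.span {c}) _
      (IsNoetherian.noetherian _) h2
      (by rw [Ideal.span_singleton_le_iff_mem]; exact hc)
  refine ⟨J, fun x => ?_⟩
  have : c ^ J • x ∈ cS (c ^ J) N := mem_cS.2 ⟨x, rfl⟩
  rw [h3] at this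
  simpa using this

end Nak

section Pure

universe u v

theorem exists_isCompl_of_pure {R : Type u} [CommRing R] [IsDomain R] [IsPrincipalIdealRing R]
    {N : Type v} [AddCommGroup N] [Module R N] [Module.Finite R N] (hN : Module.IsTorsion R N)
    (N' : Submodule R N)
    (hpure : ∀ (c : R) (n : N), c • n ∈ N' → ∃ n' ∈ N', c • n' = c • n) :
    ∃ Q : Submodule R N, IsCompl N' Q := by
  classical
  have htors : Module.IsTorsion R (N ⧸ N') := by
    intro x
    obtain ⟨x, rfl⟩ := N'.mkQ_surjective x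
    obtain ⟨a, ha⟩ := @hN x
    refine ⟨a, ?_⟩
    have ha' : (a : R) • x = 0 := ha
    show (a : R) • N'.mkQ x = 0
    rw [← map_smul, ha', map_zero]
  obtain ⟨ι, _, p, hp, e, ⟨E⟩⟩ := Module.equiv_directSum_of_isTorsion htors
  have hg : ∀ t : ι, ∃ g : N, (p t ^ e t) • g = 0 ∧
      N'.mkQ g = E.symm (DirectSum.lof R ι (fun i => R ⧸ R ∙ p i ^ e i) t
        (Submodule.Quotient.mk 1)) := by
    intro t
    obtain ⟨g, hg⟩ := N'.mkQ_surjective (E.symm (DirectSum.lof R ι
      (fun i => R ⧸ R ∙ p i ^ e i) t (Submodule.Quotient.mk 1)))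
    have h1 : (p t ^ e t) • g ∈ N' := by
      rw [← Submodule.Quotient.mk_eq_zero, ← Submodule.mkQ_apply, map_smul, hg, ← map_smul,
        ← map_smul]
      have : (p t ^ e t) • (Submodule.Quotient.mk (1 : R) : R ⧸ R ∙ p t ^ e t) = 0 := by
        rw [← Submodule.Quotient.mk_smul, smul_eq_mul, mul_one, Submodule.Quotient.mk_eq_zero]
        exact Submodule.mem_span_singleton_self _
      rw [this, map_zero, map_zero]
    obtain ⟨n', hn', hn'eq⟩ := hpure _ _ h1
    refine ⟨g - n', by rw [smul_sub, hn'eq, sub_self], ?_⟩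
    rw [map_sub, hg, Submodule.mkQ_apply, (Submodule.Quotient.mk_eq_zero N').2 hn', sub_zero]
  choose g hg0 hgE using hg
  let fcomp : ∀ t, (R ⧸ R ∙ p t ^ e t) →ₗ[R] N := fun t =>
    (R ∙ p t ^ e t).liftQ (LinearMap.toSpanSingleton R N (g t)) (by
      rw [Submodule.span_singleton_le_iff_mem, LinearMap.mem_ker,
        LinearMap.toSpanSingleton_apply]
      exact hg0 t)
  let s' : (DirectSum ι fun t => R ⧸ R ∙ p t ^ e t) →ₗ[R] N := DirectSum.toModule R ι N fcomp
  have hs : N'.mkQ ∘ₗ s' = E.symm.toLinearMap := by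
    apply DirectSum.linearMap_ext
    intro t
    apply Submodule.linearMap_qext
    apply LinearMap.ext_ring
    simp only [LinearMap.comp_apply, Submodule.mkQ_apply, LinearEquiv.coe_coe]
    rw [← hgE t]
    show N'.mkQ (s' (DirectSum.lof R ι (fun i => R ⧸ R ∙ p i ^ e i) t
      (Submodule.Quotient.mk 1))) = _
    rw [DirectSum.toModule_lof]
    show N'.mkQ ((1 : R) • g t) = _
    rw [one_smul]
  let s : (N ⧸ N') →ₗ[R] N := s' ∘ₗ E.toLinearMap
  have hsec : ∀ q, N'.mkQ (s q) = q := by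
    intro q
    have := LinearMap.congr_fun hs (E q)
    simpa [s] using this
  refine ⟨LinearMap.range s, ?_, ?_⟩
  · rw [disjoint_iff, Submodule.eq_bot_iff]
    rintro x ⟨hx1, ⟨q, rfl⟩⟩
    have : q = 0 := by
      rw [← hsec q, Submodule.mkQ_apply, Submodule.Quotient.mk_eq_zero]; exact hx1
    rw [this, map_zero]
  · rw [codisjoint_iff, eq_top_iff]
    intro x _
    have h1 : x - s (N'.mkQ x) ∈ N' := by
      rw [← Submodule.Quotient.mk_eq_zero, ← Submodule.mkQ_apply, map_sub, hsec, sub_self]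
    have : x = (x - s (N'.mkQ x)) + s (N'.mkQ x) := by abel
    rw [this]
    exact Submodule.add_mem_sup h1 ⟨_, rfl⟩

end Pure

end Groth.Agent.Lib.Helper9.FonLafA
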