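import Mathlib
import Groth.Agent.Lib.Helper9.FonLafA

/-!
# S18418: glued Frobenius bijective => filtration by direct summands
-/

namespace Groth.Agent.Lib.Helper9.FonLafB

open Module Groth.Agent.Lib.Helper9.FonLafA

universe u v

noncomputable section

section Concrete

variable (p : ℕ) [Fact p.Prime] (k : Type u) [Field k] [CharP k p] [PerfectRing k p] (r : ℕ)
  (N : ℕ → Type v) [∀ i, AddCommGroup (N i)] [∀ i, Module (WittVector p k) (N i)]
  (α : ∀ i, N (i + 1) →ₗ[WittVector p k] N i)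
  (φ : ∀ i, N i →ₛₗ[(WittVector.frobenius : WittVector p k →+* WittVector p k)] N 0)

instance : RingHomSurjective (WittVector.frobenius : WittVector p k →+* WittVector p k) :=
  ⟨(WittVector.frobenius_bijective p k).surjective⟩

/-- extension by zero -/
def extL : (∀ i : Fin r, N (i + 1)) →ₗ[WittVector p k] (∀ i : ℕ, N (i + 1)) where
  toFun z i := if h : i < r then z ⟨i, h⟩ else 0
  map_add' := by
    intro a b; funext i
    by_cases h : i < r <;> simp [h]
  map_smul' := by
    intro c a; funext i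
    by_cases h : i < r <;> simp [h]

theorem extL_of_lt (z : ∀ i : Fin r, N (i + 1)) {i : ℕ} (h : i < r) :
    extL p k r N z i = z ⟨i, h⟩ := by
  simp only [extL, LinearMap.coe_mk, AddHom.coe_mk, dif_pos h]

theorem extL_of_not_lt (z : ∀ i : Fin r, N (i + 1)) {i : ℕ} (h : ¬ i < r) :
    extL p k r N z i = 0 := by
  simp only [extL, LinearMap.coe_mk, AddHom.coe_mk, dif_neg h]

/-- the map ι -/
def iota : (∀ i : Fin r, N (i + 1)) →ₗ[WittVector p k] (N 0 × (∀ i : Fin r, N (i + 1))) :=
  LinearMap.prod ((α 0).comp ((LinearMap.proj 0).comp (extL p k r N)))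
    (LinearMap.pi fun i : Fin r =>
      (α (i + 1)).comp ((LinearMap.proj ((i : ℕ) + 1)).comp (extL p k r N)) -
        (p : WittVector p k) • LinearMap.proj i)

theorem iota_fst (z : ∀ i : Fin r, N (i + 1)) :
    (iota p k r N α z).1 = α 0 (extL p k r N z 0) := rfl

theorem iota_snd (z : ∀ i : Fin r, N (i + 1)) (i : Fin r) :
    (iota p k r N α z).2 i = α (i + 1) (extL p k r N z (i + 1)) - (p : WittVector p k) • z i := rfl

/-- the map Φ -/
def Phi : (N 0 × (∀ i : Fin r, N (i + 1))) →ₛₗ[(WittVector.frobenius :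
    WittVector p k →+* WittVector p k)] N 0 :=
  (φ 0).comp (LinearMap.fst (WittVector p k) (N 0) (∀ i : Fin r, N (i + 1))) +
    ∑ i : Fin r, (φ (i + 1)).comp ((LinearMap.proj i).comp
      (LinearMap.snd (WittVector p k) (N 0) (∀ i : Fin r, N (i + 1))))

theorem Phi_apply (y : N 0 × (∀ i : Fin r, N (i + 1))) :
    Phi p k r N φ y = φ 0 y.1 + ∑ i : Fin r, φ (i + 1) (y.2 i) := by
  simp [Phi, LinearMap.add_apply, LinearMap.sum_apply]

/-- hat -/
def hat (y : N 0 × (∀ i : Fin r, N (i + 1))) : ∀ i : ℕ, N i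
  | 0 => y.1
  | (i + 1) => extL p k r N y.2 i

theorem sum_hat (y : N 0 × (∀ i : Fin r, N (i + 1))) :
    (Finset.range (r + 1)).sum (fun i => φ i (hat p k r N y i)) = Phi p k r N φ y := by
  rw [Finset.sum_range_succ', Phi_apply, add_comm, Finset.sum_range]
  congr 1
  refine Finset.sum_congr rfl fun i _ => ?_
  show φ (i + 1) (extL p k r N y.2 i) = _
  rw [extL_of_lt p k r N y.2 i.2]

theorem Phi_surj (hsurj : ∀ m : N 0, ∃ y : (i : ℕ) → N i, (∀ i, r < i → y i = 0) ∧
      (Finset.range (r + 1)).sum (fun i => φ i (y i)) = m) :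
    Function.Surjective (Phi p k r N φ) := by
  intro m
  obtain ⟨y, hy0, hym⟩ := hsurj m
  refine ⟨(y 0, fun i : Fin r => y (i + 1)), ?_⟩
  rw [← sum_hat, ← hym]
  refine Finset.sum_congr rfl fun i _ => ?_
  congr 1
  cases i with
  | zero => rfl
  | succ i =>
    show extL p k r N (fun i : Fin r => y (i + 1)) i = y (i + 1)
    by_cases h : i < r
    · rw [extL_of_lt p k r N _ h]
    · rw [extL_of_not_lt p k r N _ h, hy0 (i + 1) (by omega)]

theorem ker_Phi_le (hker : ∀ y : (i : ℕ) → N i, (∀ i, r < i → y i = 0) →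
      (Finset.range (r + 1)).sum (fun i => φ i (y i)) = 0 →
        ∃ z : (i : ℕ) → N (i + 1), (∀ i, r ≤ i → z i = 0) ∧
          y 0 = α 0 (z 0) ∧
          ∀ i, y (i + 1) = α (i + 1) (z (i + 1)) - (p : WittVector p k) • z i)
    (y : N 0 × (∀ i : Fin r, N (i + 1))) (hy : Phi p k r N φ y = 0) :
    ∃ z, iota p k r N α z = y := by
  obtain ⟨z, hz0, hz1, hz2⟩ := hker (hat p k r N y) (by
    intro i hi
    cases i with
    | zero => omega
    | succ i => exact extL_of_not_lt p k r N y.2 (by omega)) (by rw [sum_hat]; exact hy)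
  refine ⟨fun i : Fin r => z i, ?_⟩
  have hext : extL p k r N (fun i : Fin r => z i) = z := by
    funext i
    by_cases h : i < r
    · rw [extL_of_lt p k r N _ h]
    · rw [extL_of_not_lt p k r N _ h, hz0 i (by omega)]
  refine Prod.ext ?_ (funext fun i => ?_)
  · rw [iota_fst, hext]; exact hz1.symm
  · rw [iota_snd, hext]
    have h1 := hz2 i
    have h2 : hat p k r N y (i + 1) = y.2 i := by
      show extL p k r N y.2 i = _
      rw [extL_of_lt p k r N y.2 i.2]
    rw [← h2, h1]

theorem mem_cS_Y (c : WittVector p k) (y : N 0 × (∀ i : Fin r, N (i + 1)))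
    (h1 : y.1 ∈ cS c (N 0)) (h2 : ∀ i : Fin r, y.2 i ∈ cS c (N (i + 1))) :
    y ∈ cS c (N 0 × (∀ i : Fin r, N (i + 1))) := by
  obtain ⟨a, ha⟩ := mem_cS.1 h1
  choose b hb using fun i => mem_cS.1 (h2 i)
  exact mem_cS.2 ⟨(a, b), Prod.ext ha (funext hb)⟩

theorem iota_mem (c : WittVector p k) (z : ∀ i : Fin r, N (i + 1))
    (h1 : ∀ i : Fin r, α i (z i) ∈ cS c (N i))
    (h2 : ∀ i : Fin r, (p : WittVector p k) • z i ∈ cS c (N (i + 1))) :
    iota p k r N α z ∈ cS c (N 0 × (∀ i : Fin r, N (i + 1))) := by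
  apply mem_cS_Y
  · rw [iota_fst]
    by_cases h : 0 < r
    · rw [extL_of_lt p k r N z h]; exact h1 ⟨0, h⟩
    · rw [extL_of_not_lt p k r N z h, map_zero]; exact Submodule.zero_mem _
  · intro i
    rw [iota_snd]
    refine Submodule.sub_mem _ ?_ (h2 i)
    by_cases h : (i : ℕ) + 1 < r
    · rw [extL_of_lt p k r N z h]; exact h1 ⟨i + 1, h⟩
    · rw [extL_of_not_lt p k r N z h, map_zero]; exact Submodule.zero_mem _

section Main

variable (hfl : ∀ i, IsFiniteLength (WittVector p k) (N i))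
  (hsurj : ∀ m : N 0, ∃ y : (i : ℕ) → N i, (∀ i, r < i → y i = 0) ∧
      (Finset.range (r + 1)).sum (fun i => φ i (y i)) = m)
  (hker : ∀ y : (i : ℕ) → N i, (∀ i, r < i → y i = 0) →
      (Finset.range (r + 1)).sum (fun i => φ i (y i)) = 0 →
        ∃ z : (i : ℕ) → N (i + 1), (∀ i, r ≤ i → z i = 0) ∧
          y 0 = α 0 (z 0) ∧
          ∀ i, y (i + 1) = α (i + 1) (z (i + 1)) - (p : WittVector p k) • z i)

include hfl hsurj hker

theorem key (j : ℕ) (z : ∀ i : Fin r, N (i + 1))
    (hz : iota p k r N α z ∈ cS ((p : WittVector p k) ^ j) (N 0 × (∀ i : Fin r, N (i + 1)))) :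
    z ∈ cS ((p : WittVector p k) ^ j) (∀ i : Fin r, N (i + 1)) := by
  haveI : ∀ i, IsNoetherian (WittVector p k) (N i) := fun i =>
    (isFiniteLength_iff_isNoetherian_isArtinian.1 (hfl i)).1
  haveI : ∀ i, IsArtinian (WittVector p k) (N i) := fun i =>
    (isFiniteLength_iff_isNoetherian_isArtinian.1 (hfl i)).2
  refine lemmaA (σ := (WittVector.frobenius : WittVector p k →+* WittVector p k))
    ((p : WittVector p k) ^ j) (by rw [map_pow, map_natCast]) (iota p k r N α) (Phi p k r N φ)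
    (Phi_surj p k r N φ hsurj) (ker_Phi_le p k r N α φ hker) ?_ ?_ z hz
  · rw [length_quot_prod, add_comm]
  · exact Module.length_ne_top

theorem pure (j : ℕ) : ∀ (i : ℕ) (_ : i < r) (x : N (i + 1)),
    α i x ∈ cS ((p : WittVector p k) ^ j) (N i) →
      x ∈ cS ((p : WittVector p k) ^ j) (N (i + 1)) := by
  induction j with
  | zero => intro i hi x _; exact mem_cS.2 ⟨x, by simp⟩
  | succ j ih =>
    intro i hi x hx
    obtain ⟨n, hn⟩ := mem_cS.1 hx
    have h1 : α i x ∈ cS ((p : WittVector p k) ^ j) (N i) :=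
      mem_cS.2 ⟨(p : WittVector p k) • n, by rw [smul_smul, ← pow_succ, hn]⟩
    obtain ⟨x', hx'⟩ := mem_cS.1 (ih i hi x h1)
    classical
    let ξ : ∀ i : Fin r, N (i + 1) := Pi.single (⟨i, hi⟩ : Fin r) x
    have hξi : ξ ⟨i, hi⟩ = x := Pi.single_eq_same _ _
    have hξ : iota p k r N α ξ ∈
        cS ((p : WittVector p k) ^ (j + 1)) (N 0 × (∀ i : Fin r, N (i + 1))) := by
      apply iota_mem
      · intro t
        by_cases ht : t = ⟨i, hi⟩
        · subst ht
          show α i (ξ ⟨i, hi⟩) ∈ _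
          rw [hξi]; exact hx
        · rw [show ξ t = 0 from Pi.single_eq_of_ne ht _, map_zero]; exact Submodule.zero_mem _
      · intro t
        by_cases ht : t = ⟨i, hi⟩
        · subst ht
          rw [hξi]
          exact mem_cS.2 ⟨x', by rw [pow_succ', mul_smul, hx']⟩
        · rw [show ξ t = 0 from Pi.single_eq_of_ne ht _, smul_zero]; exact Submodule.zero_mem _
    obtain ⟨ξ', hξ'⟩ := mem_cS.1 (key p k r N α φ hfl hsurj hker (j + 1) ξ hξ)
    refine mem_cS.2 ⟨ξ' ⟨i, hi⟩, ?_⟩
    have h3 := congrFun hξ' ⟨i, hi⟩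
    rw [hξi] at h3
    exact h3

theorem main (i : ℕ) (hi : i < r) :
    Function.Injective (α i) ∧
      ∃ Q : Submodule (WittVector p k) (N i), IsCompl (LinearMap.range (α i)) Q := by
  have hpj : (p : WittVector p k) ∈ Ideal.jacobson (⊥ : Ideal (WittVector p k)) := by
    rw [IsLocalRing.jacobson_eq_maximalIdeal ⊥ bot_ne_top, IsLocalRing.mem_maximalIdeal]
    exact (WittVector.irreducible p).not_isUnit
  have hpure := pure p k r N α φ hfl hsurj hker
  constructor
  · rw [← LinearMap.ker_eq_bot, LinearMap.ker_eq_bot']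
    intro x hx
    obtain ⟨J, hJ⟩ := exists_pow_smul_eq_zero (p : WittVector p k) hpj (N (i + 1)) (hfl (i + 1))
    obtain ⟨x', hx'⟩ := mem_cS.1 (hpure J i hi x (by rw [hx]; exact Submodule.zero_mem _))
    rw [← hx', hJ]
  · haveI : IsNoetherian (WittVector p k) (N i) :=
      (isFiniteLength_iff_isNoetherian_isArtinian.1 (hfl i)).1
    haveI : Module.Finite (WittVector p k) (N i) := inferInstance
    have htors : Module.IsTorsion (WittVector p k) (N i) := by
      obtain ⟨J, hJ⟩ := exists_pow_smul_eq_zero (p : WittVector p k) hpj (N i) (hfl i)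
      intro x
      exact ⟨⟨(p : WittVector p k) ^ J, mem_nonZeroDivisors_of_ne_zero
        (pow_ne_zero _ (WittVector.irreducible p).ne_zero)⟩, hJ x⟩
    refine exists_isCompl_of_pure htors (LinearMap.range (α i)) ?_
    intro c n hcn
    by_cases hc : c = 0
    · exact ⟨0, Submodule.zero_mem _, by rw [hc, zero_smul, zero_smul]⟩
    obtain ⟨m, b, hcb⟩ := WittVector.exists_eq_pow_p_mul' c hc
    have h1 : (p : WittVector p k) ^ m • n ∈ LinearMap.range (α i) := by
      have : (p : WittVector p k) ^ m • n =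
          ((b⁻¹ : (WittVector p k)ˣ) : WittVector p k) • (c • n) := by
        rw [hcb, smul_smul, mul_comm ((p : WittVector p k) ^ m) (b : WittVector p k),
          ← mul_assoc, Units.inv_mul, one_mul]
      rw [this]; exact Submodule.smul_mem _ _ hcn
    obtain ⟨x, hx⟩ := h1
    obtain ⟨x', hx'⟩ := mem_cS.1 (hpure m i hi x (by rw [hx]; exact mem_cS.2 ⟨n, rfl⟩))
    refine ⟨α i x', ⟨x', rfl⟩, ?_⟩
    have e1 : c • α i x' = (b : WittVector p k) • ((p : WittVector p k) ^ m • α i x') := by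
      rw [hcb, mul_comm, mul_smul]
    have e2 : c • n = (b : WittVector p k) • ((p : WittVector p k) ^ m • n) := by
      rw [hcb, mul_comm, mul_smul]
    rw [e1, e2, ← map_smul, hx', hx]

end Main

end Concrete

end

end Groth.Agent.Lib.Helper9.FonLafB
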