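import Mathlib

/-!
# Presentation of an adic completion from presentations modulo all powers
-/

set_option autoImplicit false

namespace Groth.Agent.Lib.Helper9.FormalCI1

universe u v

section Pi

variable {B : Type u} [CommRing B] {r : ℕ}

/-- membership in `𝔞 • ⊤ ⊆ B^r` is coordinatewise -/
theorem mem_smul_top_pi_iff (𝔞 : Ideal B) (v : Fin r → B) :
    v ∈ (𝔞 • ⊤ : Submodule B (Fin r → B)) ↔ ∀ j, v j ∈ 𝔞 := by
  classical
  constructor
  · intro hv j
    have h1 : (LinearMap.proj j : (Fin r → B) →ₗ[B] B) v ∈
        Submodule.map (LinearMap.proj j : (Fin r → B) →ₗ[B] B)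
          (𝔞 • ⊤ : Submodule B (Fin r → B)) := Submodule.mem_map_of_mem hv
    rw [Submodule.map_smul''] at h1
    have h2 : (𝔞 • Submodule.map (LinearMap.proj j : (Fin r → B) →ₗ[B] B) ⊤ : Submodule B B)
        ≤ 𝔞 := by
      intro x hx
      refine Submodule.smul_induction_on hx (fun a ha b _ => ?_)
        (fun x y hx hy => 𝔞.add_mem hx hy)
      exact 𝔞.mul_mem_right _ ha
    exact h2 h1
  · intro hv
    have : v = ∑ j, v j • (Pi.single j (1 : B) : Fin r → B) := by
      funext i
      simp [Finset.sum_apply, Pi.single_apply]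
    rw [this]
    exact Submodule.sum_mem _ fun j _ => Submodule.smul_mem_smul (hv j) Submodule.mem_top

end Pi

section Main

variable {B : Type u} [CommRing B] (I : Ideal B)
  {M : Type v} [AddCommGroup M] [Module B M]

theorem of_eq_zero_iff (m : M) :
    AdicCompletion.of I M m = 0 ↔ ∀ n : ℕ, m ∈ (I ^ n • ⊤ : Submodule B M) := by
  constructor
  · intro h n
    have h1 : (AdicCompletion.of I M m).val n = 0 := by rw [h]; rfl
    rw [AdicCompletion.of_apply] at h1
    exact (Submodule.Quotient.mk_eq_zero _).mp h1
  · intro h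
    apply AdicCompletion.ext
    intro n
    rw [AdicCompletion.of_apply, AdicCompletion.val_zero_apply]
    exact (Submodule.Quotient.mk_eq_zero _).mpr (h n)

variable [IsNoetherianRing B] [IsAdicComplete I B] {r c : ℕ} (y : Fin r → M)
  (J : Matrix (Fin c) (Fin r) B)

theorem pres_completion
    (ha : ∀ (n : ℕ) (m : M), ∃ z : Fin r → B,
      m - ∑ j, z j • y j ∈ (I ^ n • ⊤ : Submodule B M))
    (hb : ∀ (n : ℕ) (z : Fin r → B), (∑ j, z j • y j ∈ (I ^ n • ⊤ : Submodule B M)) ↔
      z ∈ Submodule.span B (Set.range fun i => (J i : Fin r → B)) ⊔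
        (I ^ n • ⊤ : Submodule B (Fin r → B))) :
    Submodule.span B (Set.range fun j => AdicCompletion.of I M (y j)) = ⊤ ∧
    Submodule.span B (Set.range fun i => (J i : Fin r → B)) =
      LinearMap.ker (Fintype.linearCombination B (fun j => AdicCompletion.of I M (y j))) := by
  classical
  obtain ⟨S, hS⟩ : ∃ S : Submodule B (Fin r → B),
      S = Submodule.span B (Set.range fun i => (J i : Fin r → B)) := ⟨_, rfl⟩
  rw [← hS] at hb ⊢
  have hL : ∀ z : Fin r → B,
      Fintype.linearCombination B (fun j => AdicCompletion.of I M (y j)) z =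
        AdicCompletion.of I M (∑ j, z j • y j) := by
    intro z
    rw [Fintype.linearCombination_apply, map_sum]
    exact Finset.sum_congr rfl fun j _ => (map_smul _ _ _).symm
  have hsub : ∀ (z z' : Fin r → B),
      ∑ j, (z - z') j • y j = ∑ j, z j • y j - ∑ j, z' j • y j := by
    intro z z'
    rw [← Finset.sum_sub_distrib]
    exact Finset.sum_congr rfl fun j _ => by rw [Pi.sub_apply, sub_smul]
  constructor
  · rw [eq_top_iff]
    rintro ω -
    have hlift : ∀ n, ∃ z : Fin r → B,
        (Submodule.Quotient.mk (∑ j, z j • y j) : M ⧸ (I ^ n • ⊤ : Submodule B M)) = ω.val n := by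
      intro n
      obtain ⟨m, hm⟩ := Submodule.Quotient.mk_surjective _ (ω.val n)
      obtain ⟨z, hz⟩ := ha n m
      refine ⟨z, ?_⟩
      rw [← hm, eq_comm, Submodule.Quotient.eq]
      exact hz
    choose zz hzz using hlift
    have hdiff : ∀ n, zz (n + 1) - zz n ∈ S ⊔ (I ^ n • ⊤ : Submodule B (Fin r → B)) := by
      intro n
      rw [← hb n, hsub, ← Submodule.Quotient.eq, hzz n]
      have h2 := ω.2 (Nat.le_succ n)
      rw [← hzz (n + 1)] at h2
      exact h2
    choose ρ hρ ε hε hρε using fun n => Submodule.mem_sup.mp (hdiff n)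
    let w : ℕ → (Fin r → B) := fun n => zz 0 + ∑ m ∈ Finset.range n, ε m
    have hzw : ∀ n, zz n - w n ∈ S := by
      intro n
      induction n with
      | zero => simp [w]
      | succ n ih =>
        have h3 : zz (n + 1) - w (n + 1) = (zz n - w n) + ρ n := by
          have h4 := hρε n
          rw [eq_sub_iff_add_eq] at h4
          simp only [w, Finset.sum_range_succ]
          rw [← h4]
          abel
        rw [h3]
        exact S.add_mem ih (hρ n)
    have hcauchy : ∀ j, ∀ n, w n j ≡ w (n + 1) j [SMOD (I ^ n • ⊤ : Submodule B B)] := by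
      intro j n
      rw [SModEq.sub_mem]
      have h5 : w n j - w (n + 1) j = -(ε n j) := by
        simp [w, Finset.sum_range_succ]
      rw [h5]
      refine Submodule.neg_mem _ ?_
      have h6 := (mem_smul_top_pi_iff (I ^ n) (ε n)).mp (hε n) j
      simpa using h6
    have hlim : ∀ j, ∃ L : B, ∀ n, w n j ≡ L [SMOD (I ^ n • ⊤ : Submodule B B)] := fun j =>
      IsPrecomplete.prec (inferInstance : IsPrecomplete I B)
        (fun {m n} hmn => (AdicCompletion.isAdicCauchy_iff I B (fun n => w n j)).mpr
          (hcauchy j) hmn)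
    choose z hz using hlim
    have hzn : ∀ n, z - zz n ∈ S ⊔ (I ^ n • ⊤ : Submodule B (Fin r → B)) := by
      intro n
      have h1 : z - w n ∈ (I ^ n • ⊤ : Submodule B (Fin r → B)) := by
        rw [mem_smul_top_pi_iff]
        intro j
        have h7 := (hz j n).symm
        rw [SModEq.sub_mem] at h7
        simpa using h7
      have h2 : z - zz n = (z - w n) + -(zz n - w n) := by abel
      rw [h2]
      exact Submodule.add_mem _ (Submodule.mem_sup_right h1)
        (Submodule.mem_sup_left (S.neg_mem (hzw n)))
    have hfin : Fintype.linearCombination B (fun j => AdicCompletion.of I M (y j)) z = ω := by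
      rw [hL]
      apply AdicCompletion.ext
      intro n
      rw [AdicCompletion.of_apply, ← hzz n]
      show Submodule.Quotient.mk _ = _
      rw [Submodule.Quotient.eq, ← hsub]
      exact (hb n (z - zz n)).mpr (hzn n)
    rw [← hfin, Fintype.linearCombination_apply]
    exact Submodule.sum_mem _ fun j _ =>
      Submodule.smul_mem _ _ (Submodule.subset_span ⟨j, rfl⟩)
  · apply le_antisymm
    · rw [hS, Submodule.span_le]
      rintro _ ⟨i, rfl⟩
      rw [SetLike.mem_coe, LinearMap.mem_ker, hL, of_eq_zero_iff]
      intro n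
      refine (hb n (J i)).mpr (Submodule.mem_sup_left ?_)
      rw [hS]
      exact Submodule.subset_span ⟨i, rfl⟩
    · intro z hz
      rw [LinearMap.mem_ker, hL, of_eq_zero_iff] at hz
      have h1 : ∀ n, z ∈ S ⊔ (I ^ n • ⊤ : Submodule B (Fin r → B)) := fun n =>
        (hb n z).mp (hz n)
      haveI : IsHausdorff I ((Fin r → B) ⧸ S) :=
        IsHausdorff.of_le_jacobson I _ (IsAdicComplete.le_jacobson_bot I)
      have h2 : S.mkQ z = 0 := by
        apply IsHausdorff.haus (inferInstance : IsHausdorff I ((Fin r → B) ⧸ S))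
        intro n
        rw [SModEq.zero]
        obtain ⟨s, hs, e, he, hse⟩ := Submodule.mem_sup.mp (h1 n)
        have h3 : S.mkQ z = S.mkQ e := by
          rw [← hse, map_add, Submodule.mkQ_apply, (Submodule.Quotient.mk_eq_zero S).mpr hs,
            zero_add]
        rw [h3]
        have h4 : S.mkQ e ∈ Submodule.map S.mkQ (I ^ n • ⊤ : Submodule B (Fin r → B)) :=
          Submodule.mem_map_of_mem he
        rw [Submodule.map_smul'', Submodule.map_top, Submodule.range_mkQ] at h4
        exact h4
      exact (Submodule.Quotient.mk_eq_zero S).mp h2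

end Main

end Groth.Agent.Lib.Helper9.FormalCI1
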