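import Mathlib
import Groth.Agent.Lib.Helper9.CIFitt1

/-!
# Relations among differentials modulo an ideal; approximation in the adic completion of a
polynomial ring
-/

set_option autoImplicit false

namespace Groth.Agent.Lib.Helper9.FormalCI2

open MvPolynomial KaehlerDifferential

universe u

section L4

variable (R : Type u) [CommRing R] (r c' : ℕ) (B : Type u) [CommRing B] [Algebra R B]
  [Algebra (MvPolynomial (Fin r) R) B] [IsScalarTower R (MvPolynomial (Fin r) R) B]
  (𝔫 : Ideal B) (a' : Fin c' → MvPolynomial (Fin r) R)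

theorem relations_mod
    (hsurj : ∀ b : B, ∃ p : MvPolynomial (Fin r) R,
      b - algebraMap (MvPolynomial (Fin r) R) B p ∈ 𝔫)
    (hker : 𝔫.comap (algebraMap (MvPolynomial (Fin r) R) B) = Ideal.span (Set.range a'))
    (z : Fin r → B)
    (hz : ∑ j, z j • D R B (algebraMap (MvPolynomial (Fin r) R) B (X j)) ∈
      (𝔫 • ⊤ : Submodule B Ω[B⁄R])) :
    ∃ w : Fin c' → B, ∀ j,
      z j - ∑ i, w i * algebraMap (MvPolynomial (Fin r) R) B (pderiv j (a' i)) ∈ 𝔫 := by
  classical
  have hsurj' : Function.Surjective (algebraMap (MvPolynomial (Fin r) R) (B ⧸ 𝔫)) := by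
    intro x
    obtain ⟨b, rfl⟩ := Ideal.Quotient.mk_surjective x
    obtain ⟨p, hp⟩ := hsurj b
    refine ⟨p, ?_⟩
    rw [IsScalarTower.algebraMap_apply (MvPolynomial (Fin r) R) B (B ⧸ 𝔫),
      Ideal.Quotient.algebraMap_eq, eq_comm, Ideal.Quotient.eq]
    exact hp
  have hker' : RingHom.ker (algebraMap (MvPolynomial (Fin r) R) (B ⧸ 𝔫)) =
      Ideal.span (Set.range a') := by
    rw [← hker]
    ext p
    rw [RingHom.mem_ker, Ideal.mem_comap,
      IsScalarTower.algebraMap_apply (MvPolynomial (Fin r) R) B (B ⧸ 𝔫),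
      Ideal.Quotient.algebraMap_eq, Ideal.Quotient.eq_zero_iff_mem]
  have hkg := CIFitt1.ker_gens R r c' (B ⧸ 𝔫) a' hsurj' hker'
  let μ : Ω[B⁄R] →ₗ[B] Ω[(B ⧸ 𝔫)⁄R] := KaehlerDifferential.map R R B (B ⧸ 𝔫)
  have hμ0 : ∀ m ∈ (𝔫 • ⊤ : Submodule B Ω[B⁄R]), μ m = 0 := by
    intro m hm
    refine Submodule.smul_induction_on hm (fun e he x _ => ?_)
      (fun x y hx hy => by rw [map_add, hx, hy, add_zero])
    rw [map_smul, ← algebraMap_smul (B ⧸ 𝔫) e (μ x), Ideal.Quotient.algebraMap_eq,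
      Ideal.Quotient.eq_zero_iff_mem.mpr he, zero_smul]
  have h1 : Fintype.linearCombination (B ⧸ 𝔫) (CIFitt1.gens R r (B ⧸ 𝔫))
      (fun j => Ideal.Quotient.mk 𝔫 (z j)) = 0 := by
    rw [Fintype.linearCombination_apply, ← hμ0 _ hz, map_sum]
    refine Finset.sum_congr rfl fun j _ => ?_
    rw [map_smul, KaehlerDifferential.map_D, ← algebraMap_smul (B ⧸ 𝔫) (z j)]
    rfl
  have h2 : (fun j => Ideal.Quotient.mk 𝔫 (z j)) ∈
      LinearMap.ker (Fintype.linearCombination (B ⧸ 𝔫) (CIFitt1.gens R r (B ⧸ 𝔫))) := h1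
  rw [← hkg] at h2
  obtain ⟨wbar, hw⟩ := (Submodule.mem_span_range_iff_exists_fun (B ⧸ 𝔫)).mp h2
  choose w hww using fun i => Ideal.Quotient.mk_surjective (wbar i)
  refine ⟨w, fun j => ?_⟩
  rw [← Ideal.Quotient.eq, map_sum]
  have h3 := congrFun hw j
  rw [Finset.sum_apply] at h3
  rw [← h3]
  refine Finset.sum_congr rfl fun i _ => ?_
  rw [map_mul, hww i]
  rfl

end L4

section Approx

variable (R : Type u) [CommRing R] (r : ℕ) (t : R)

theorem algebraMap_eq_of (p : MvPolynomial (Fin r) R) :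
    algebraMap (MvPolynomial (Fin r) R)
      (AdicCompletion (Ideal.span {(C t : MvPolynomial (Fin r) R)}) (MvPolynomial (Fin r) R)) p =
      AdicCompletion.of _ _ p := by
  rw [AdicCompletion.algebraMap_apply]
  rfl

theorem approx (n : ℕ)
    (x : AdicCompletion (Ideal.span {(C t : MvPolynomial (Fin r) R)}) (MvPolynomial (Fin r) R)) :
    ∃ (p : MvPolynomial (Fin r) R)
      (x' : AdicCompletion (Ideal.span {(C t : MvPolynomial (Fin r) R)})
        (MvPolynomial (Fin r) R)),
      x = algebraMap (MvPolynomial (Fin r) R) _ p +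
        algebraMap (MvPolynomial (Fin r) R) _ (C t) ^ n * x' := by
  obtain ⟨p, hp⟩ := Submodule.Quotient.mk_surjective _
    (AdicCompletion.eval (Ideal.span {(C t : MvPolynomial (Fin r) R)})
      (MvPolynomial (Fin r) R) n x)
  have hfg : (Ideal.span {(C t : MvPolynomial (Fin r) R)}).FG := ⟨{C t}, by simp⟩
  have hmem : x - AdicCompletion.of _ (MvPolynomial (Fin r) R) p ∈
      LinearMap.ker (AdicCompletion.eval (Ideal.span {(C t : MvPolynomial (Fin r) R)})
        (MvPolynomial (Fin r) R) n) := by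
    rw [LinearMap.mem_ker, map_sub, AdicCompletion.eval_of, ← hp]
    exact sub_self _
  rw [← AdicCompletion.pow_smul_top_eq_ker_eval hfg, Ideal.span_singleton_pow,
    Submodule.ideal_span_singleton_smul] at hmem
  obtain ⟨x', -, hx'⟩ := hmem
  refine ⟨p, x', ?_⟩
  have hx'' : (C t : MvPolynomial (Fin r) R) ^ n • x' = x - AdicCompletion.of _ _ p := hx'
  rw [← map_pow, ← Algebra.smul_def, hx'', algebraMap_eq_of]
  abel

theorem approx_mem (n : ℕ) (p : MvPolynomial (Fin r) R)
    (x' : AdicCompletion (Ideal.span {(C t : MvPolynomial (Fin r) R)}) (MvPolynomial (Fin r) R))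
    (h : algebraMap (MvPolynomial (Fin r) R) _ p =
      algebraMap (MvPolynomial (Fin r) R) _ (C t) ^ n * x') :
    ∃ q : MvPolynomial (Fin r) R, p = (C t) ^ n * q := by
  have hmem : AdicCompletion.of (Ideal.span {(C t : MvPolynomial (Fin r) R)})
      (MvPolynomial (Fin r) R) p ∈
      ((Ideal.span {(C t : MvPolynomial (Fin r) R)}) ^ n • ⊤ :
        Submodule (MvPolynomial (Fin r) R) (AdicCompletion _ (MvPolynomial (Fin r) R))) := by
    rw [← algebraMap_eq_of, h, ← map_pow, ← Algebra.smul_def]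
    exact Submodule.smul_mem_smul (Ideal.pow_mem_pow (Ideal.mem_span_singleton_self _) n)
      Submodule.mem_top
  have h1 := AdicCompletion.pow_smul_top_le_ker_eval (I := Ideal.span {(C t : MvPolynomial (Fin r) R)})
    (M := MvPolynomial (Fin r) R) n hmem
  rw [LinearMap.mem_ker, AdicCompletion.eval_of, Submodule.mkQ_apply,
    Submodule.Quotient.mk_eq_zero, smul_eq_mul, Ideal.mul_top, Ideal.span_singleton_pow,
    Ideal.mem_span_singleton'] at h1
  obtain ⟨q, hq⟩ := h1
  exact ⟨q, by rw [← hq, mul_comm]⟩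

end Approx

end Groth.Agent.Lib.Helper9.FormalCI2
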