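import Mathlib
import Groth.Agent.Lib.Helper9.FormalCI1
import Groth.Agent.Lib.Helper9.FormalCI2

/-!
# Presentation of the completed differentials of a quotient of a restricted power series ring
-/

set_option autoImplicit false

namespace Groth.Agent.Lib.Helper9.FormalCI3

open MvPolynomial KaehlerDifferential
open Groth.Agent.Lib.Helper9.FormalCI1 Groth.Agent.Lib.Helper9.FormalCI2

universe u

/-- polynomial ring -/
abbrev Pol (R : Type u) [CommRing R] (r : ℕ) := MvPolynomial (Fin r) R

/-- its completion along `t` -/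
abbrev Acomp (R : Type u) [CommRing R] (r : ℕ) (t : R) :=
  AdicCompletion (Ideal.span {(C t : Pol R r)}) (Pol R r)

variable {R : Type u} [CommRing R] {r c : ℕ} {t : R} {B : Type u} [CommRing B] [Algebra R B]
  [Algebra (Pol R r) B] [IsScalarTower R (Pol R r) B]
  (ψ : Acomp R r t →ₐ[R] B) (hψ : Function.Surjective ψ)
  (a : Fin c → Acomp R r t) (hker : RingHom.ker ψ.toRingHom = Ideal.span (Set.range a))
  (hφ : ∀ p : Pol R r, algebraMap (Pol R r) B p = ψ (algebraMap (Pol R r) (Acomp R r t) p))
  (pa : ℕ → Fin c → Pol R r) (a' : ℕ → Fin c → Acomp R r t)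
  (hpa : ∀ n i, a i = algebraMap (Pol R r) (Acomp R r t) (pa n i) +
    algebraMap (Pol R r) (Acomp R r t) (C t) ^ n * a' n i)

omit [IsScalarTower R (Pol R r) B] in
theorem exists_approximants (a : Fin c → Acomp R r t) :
    ∃ (pa : ℕ → Fin c → Pol R r) (a' : ℕ → Fin c → Acomp R r t),
      ∀ n i, a i = algebraMap (Pol R r) (Acomp R r t) (pa n i) +
        algebraMap (Pol R r) (Acomp R r t) (C t) ^ n * a' n i := by
  choose pa a' h using fun (n : ℕ) (i : Fin c) => approx R r t n (a i)
  exact ⟨pa, a', h⟩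

theorem algebraMap_C_t : algebraMap (Pol R r) B (C t) = algebraMap R B t := by
  rw [IsScalarTower.algebraMap_apply R (Pol R r) B t, MvPolynomial.algebraMap_eq]

include hψ hφ in
theorem approxB (n : ℕ) (b : B) :
    ∃ (p : Pol R r) (b' : B), b = algebraMap (Pol R r) B p + algebraMap R B t ^ n * b' := by
  obtain ⟨x, rfl⟩ := hψ b
  obtain ⟨p, x', hx⟩ := approx R r t n x
  refine ⟨p, ψ x', ?_⟩
  rw [hx, map_add, map_mul, map_pow, ← hφ, ← hφ, algebraMap_C_t]

include hker hφ hpa in
theorem algebraMap_pa (n : ℕ) (i : Fin c) :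
    algebraMap (Pol R r) B (pa n i) = -(algebraMap R B t ^ n * ψ (a' n i)) := by
  have h0 : ψ (a i) = 0 := by
    have : a i ∈ RingHom.ker ψ.toRingHom := by
      rw [hker]; exact Ideal.subset_span ⟨i, rfl⟩
    exact this
  have h1 := congrArg ψ (hpa n i)
  rw [h0, map_add, map_mul, map_pow, ← hφ, ← hφ, algebraMap_C_t] at h1
  rw [eq_neg_iff_add_eq_zero]
  exact h1.symm

/-- generators of the kernel at level `n` -/
noncomputable def levelGens (n : ℕ) : Fin (c + 1) → Pol R r :=
  Fin.cons ((C t) ^ n) (pa n)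

include hψ hker hφ hpa in
theorem comap_level (n : ℕ) :
    Ideal.comap (algebraMap (Pol R r) B) (Ideal.span {algebraMap R B t ^ n}) =
      Ideal.span (Set.range (levelGens (t := t) pa n)) := by
  classical
  apply le_antisymm
  · intro p hp
    rw [Ideal.mem_comap, Ideal.mem_span_singleton'] at hp
    obtain ⟨b, hb⟩ := hp
    obtain ⟨x, rfl⟩ := hψ b
    have hmem : algebraMap (Pol R r) (Acomp R r t) p -
        algebraMap (Pol R r) (Acomp R r t) (C t) ^ n * x ∈ RingHom.ker ψ.toRingHom := by
      rw [RingHom.mem_ker]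
      show ψ _ = 0
      rw [map_sub, map_mul, map_pow, ← hφ, ← hφ, algebraMap_C_t, ← hb]
      ring
    rw [hker] at hmem
    obtain ⟨ξ, hξ⟩ := Ideal.mem_span_range_iff_exists_fun.mp hmem
    choose q ξ' hq using fun i => approx R r t n (ξ i)
    have key : ∀ i, ξ i * a i = algebraMap (Pol R r) (Acomp R r t) (q i * pa n i) +
        algebraMap (Pol R r) (Acomp R r t) (C t) ^ n *
          (algebraMap (Pol R r) (Acomp R r t) (q i) * a' n i +
            ξ' i * algebraMap (Pol R r) (Acomp R r t) (pa n i) +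
            algebraMap (Pol R r) (Acomp R r t) (C t) ^ n * (ξ' i * a' n i)) := by
      intro i
      conv_lhs => rw [hq i, hpa n i]
      rw [map_mul]
      ring
    have hsum : algebraMap (Pol R r) (Acomp R r t) (p - ∑ i, q i * pa n i) =
        algebraMap (Pol R r) (Acomp R r t) (C t) ^ n *
          (x + ∑ i, (algebraMap (Pol R r) (Acomp R r t) (q i) * a' n i +
            ξ' i * algebraMap (Pol R r) (Acomp R r t) (pa n i) +
            algebraMap (Pol R r) (Acomp R r t) (C t) ^ n * (ξ' i * a' n i))) := by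
      rw [map_sub, map_sum, mul_add, Finset.mul_sum]
      have h2 : ∑ i, ξ i * a i = ∑ i, algebraMap (Pol R r) (Acomp R r t) (q i * pa n i) +
          ∑ i, algebraMap (Pol R r) (Acomp R r t) (C t) ^ n *
          (algebraMap (Pol R r) (Acomp R r t) (q i) * a' n i +
            ξ' i * algebraMap (Pol R r) (Acomp R r t) (pa n i) +
            algebraMap (Pol R r) (Acomp R r t) (C t) ^ n * (ξ' i * a' n i)) := by
        rw [← Finset.sum_add_distrib]
        exact Finset.sum_congr rfl fun i _ => key i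
      rw [hξ] at h2
      linear_combination h2
    obtain ⟨q0, hq0⟩ := approx_mem R r t n _ _ hsum
    have hp : p = (C t) ^ n * q0 + ∑ i, q i * pa n i := by
      rw [← hq0]; ring
    rw [hp]
    refine Ideal.add_mem _ (Ideal.mul_mem_right _ _ (Ideal.subset_span ⟨0, ?_⟩))
      (Ideal.sum_mem _ fun i _ => Ideal.mul_mem_left _ _ (Ideal.subset_span ⟨i.succ, ?_⟩))
    · simp [levelGens]
    · simp [levelGens]
  · rw [Ideal.span_le]
    rintro _ ⟨i, rfl⟩
    rw [SetLike.mem_coe, Ideal.mem_comap]
    refine Fin.cases ?_ (fun i' => ?_) i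
    · rw [levelGens, Fin.cons_zero, map_pow, algebraMap_C_t]
      exact Ideal.mem_span_singleton_self _
    · rw [levelGens, Fin.cons_succ, algebraMap_pa ψ a hker hφ pa a' hpa n i',
        Ideal.mem_span_singleton']
      exact ⟨-ψ (a' n i'), by ring⟩

omit [Algebra R B] [Algebra (Pol R r) B] [IsScalarTower R (Pol R r) B] in
theorem pderiv_Ct_pow_mul (n : ℕ) (j : Fin r) (q : Pol R r) :
    pderiv j ((C t : Pol R r) ^ n * q) = (C t) ^ n * pderiv j q := by
  rw [pderiv_mul, ← C_pow, pderiv_C, zero_mul, zero_add]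

include hpa in
omit [Algebra R B] [Algebra (Pol R r) B] [IsScalarTower R (Pol R r) B] in
theorem pa_step (n : ℕ) (i : Fin c) : ∃ q : Pol R r, pa (n + 1) i - pa n i = (C t) ^ n * q := by
  apply approx_mem R r t n _ (a' n i - algebraMap (Pol R r) (Acomp R r t) (C t) * a' (n + 1) i)
  have h1 := hpa n i
  have h2 := hpa (n + 1) i
  rw [map_sub]
  rw [h1] at h2
  linear_combination (-1 : Acomp R r t) * h2

include hpa in
theorem exists_jac [IsPrecomplete (Ideal.span {algebraMap R B t}) B] :
    ∃ Jm : Matrix (Fin c) (Fin r) B, ∀ n i j,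
      algebraMap (Pol R r) B (pderiv j (pa n i)) - Jm i j ∈
        Ideal.span {algebraMap R B t} ^ n := by
  have hc : ∀ i j, ∃ L : B, ∀ n, algebraMap (Pol R r) B (pderiv j (pa n i)) ≡ L
      [SMOD (Ideal.span {algebraMap R B t} ^ n • ⊤ : Submodule B B)] := by
    intro i j
    refine IsPrecomplete.prec (inferInstance : IsPrecomplete (Ideal.span {algebraMap R B t}) B)
      (fun {m n} hmn => (AdicCompletion.isAdicCauchy_iff (Ideal.span {algebraMap R B t}) B
        (fun n => algebraMap (Pol R r) B (pderiv j (pa n i)))).mpr ?_ hmn)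
    intro n
    rw [SModEq.sub_mem]
    obtain ⟨q, hq⟩ := pa_step a pa a' hpa n i
    have h1 : algebraMap (Pol R r) B (pderiv j (pa n i)) -
        algebraMap (Pol R r) B (pderiv j (pa (n + 1) i)) =
        -(algebraMap R B t ^ n * algebraMap (Pol R r) B (pderiv j q)) := by
      rw [← map_sub, ← map_sub, ← neg_sub (pa (n + 1) i), hq, map_neg, pderiv_Ct_pow_mul, map_neg,
        map_mul, map_pow, algebraMap_C_t]
    rw [h1, smul_eq_mul, Ideal.mul_top]
    exact neg_mem (Ideal.mul_mem_right _ _
      (Ideal.pow_mem_pow (Ideal.mem_span_singleton_self _) n))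
  choose Jm hJm using hc
  refine ⟨Matrix.of Jm, fun n i j => ?_⟩
  have := hJm i j n
  rw [SModEq.sub_mem, smul_eq_mul, Ideal.mul_top] at this
  exact this

end Groth.Agent.Lib.Helper9.FormalCI3
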