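import Mathlib
import Groth.Agent.Lib.Helper9.FormalCI3

/-!
# Presentation of the completed differentials, II: verification of the level conditions
-/

set_option autoImplicit false

namespace Groth.Agent.Lib.Helper9.FormalCI4

open MvPolynomial KaehlerDifferential
open Groth.Agent.Lib.Helper9.FormalCI1 Groth.Agent.Lib.Helper9.FormalCI2
  Groth.Agent.Lib.Helper9.FormalCI3

universe u

variable {R : Type u} [CommRing R] {r c : ℕ} {t : R} {B : Type u} [CommRing B] [Algebra R B]
  [Algebra (Pol R r) B] [IsScalarTower R (Pol R r) B]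
  (ψ : Acomp R r t →ₐ[R] B) (hψ : Function.Surjective ψ)
  (a : Fin c → Acomp R r t) (hker : RingHom.ker ψ.toRingHom = Ideal.span (Set.range a))
  (hφ : ∀ p : Pol R r, algebraMap (Pol R r) B p = ψ (algebraMap (Pol R r) (Acomp R r t) p))
  (pa : ℕ → Fin c → Pol R r) (a' : ℕ → Fin c → Acomp R r t)
  (hpa : ∀ n i, a i = algebraMap (Pol R r) (Acomp R r t) (pa n i) +
    algebraMap (Pol R r) (Acomp R r t) (C t) ^ n * a' n i)
  (Jm : Matrix (Fin c) (Fin r) B)
  (hJm : ∀ n i j, algebraMap (Pol R r) B (pderiv j (pa n i)) - Jm i j ∈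
    Ideal.span {algebraMap R B t} ^ n)

omit [IsScalarTower R (Pol R r) B] [Algebra (Pol R r) B] in
theorem D_pow_t (n : ℕ) : D R B (algebraMap R B t ^ n) = 0 := by
  rw [← map_pow]
  exact Derivation.map_algebraMap _ _

include hψ hφ in
theorem ha_holds (n : ℕ) (m : Ω[B⁄R]) : ∃ z : Fin r → B,
    m - ∑ j, z j • CIFitt1.gens R r B j ∈
      ((Ideal.span {algebraMap R B t}) ^ n • ⊤ : Submodule B Ω[B⁄R]) := by
  have hle : Submodule.span B (Set.range (D R B)) ≤
      Submodule.span B (Set.range (CIFitt1.gens R r B)) ⊔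
      ((Ideal.span {algebraMap R B t}) ^ n • ⊤ : Submodule B Ω[B⁄R]) := by
    rw [Submodule.span_le]
    rintro _ ⟨b, rfl⟩
    obtain ⟨p, b', hb⟩ := approxB ψ hψ hφ n b
    rw [SetLike.mem_coe, hb, map_add, Derivation.leibniz, CIFitt1.D_algebraMap (k := R) B p,
      D_pow_t, smul_zero, add_zero]
    exact Submodule.add_mem _
      (Submodule.mem_sup_left (Submodule.sum_mem _ fun j _ =>
        Submodule.smul_mem _ _ (Submodule.subset_span ⟨j, rfl⟩)))
      (Submodule.mem_sup_right (Submodule.smul_mem_smul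
        (Ideal.pow_mem_pow (Ideal.mem_span_singleton_self _) n) Submodule.mem_top))
  have hm : m ∈ Submodule.span B (Set.range (D R B)) := by
    rw [KaehlerDifferential.span_range_derivation]; exact Submodule.mem_top
  obtain ⟨s, hs, e, he, hse⟩ := Submodule.mem_sup.mp (hle hm)
  obtain ⟨z, hz⟩ := (Submodule.mem_span_range_iff_exists_fun B).mp hs
  exact ⟨z, by rw [hz, ← hse, add_sub_cancel_left]; exact he⟩

include hker hφ hpa hJm in
theorem hb_mpr (n : ℕ) (z : Fin r → B)
    (hz : z ∈ Submodule.span B (Set.range fun i => (Jm i : Fin r → B)) ⊔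
      ((Ideal.span {algebraMap R B t}) ^ n • ⊤ : Submodule B (Fin r → B))) :
    ∑ j, z j • CIFitt1.gens R r B j ∈
      ((Ideal.span {algebraMap R B t}) ^ n • ⊤ : Submodule B Ω[B⁄R]) := by
  have hle : Submodule.span B (Set.range fun i => (Jm i : Fin r → B)) ⊔
      ((Ideal.span {algebraMap R B t}) ^ n • ⊤ : Submodule B (Fin r → B)) ≤
      Submodule.comap (Fintype.linearCombination B (CIFitt1.gens R r B))
        ((Ideal.span {algebraMap R B t}) ^ n • ⊤ : Submodule B Ω[B⁄R]) := by
    apply sup_le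
    · rw [Submodule.span_le]
      rintro _ ⟨i, rfl⟩
      rw [SetLike.mem_coe, Submodule.mem_comap, Fintype.linearCombination_apply]
      have h1 : ∑ j, Jm i j • CIFitt1.gens R r B j =
          ∑ j, algebraMap (Pol R r) B (pderiv j (pa n i)) • CIFitt1.gens R r B j -
          ∑ j, (algebraMap (Pol R r) B (pderiv j (pa n i)) - Jm i j) • CIFitt1.gens R r B j := by
        rw [← Finset.sum_sub_distrib]
        exact Finset.sum_congr rfl fun j _ => by rw [sub_smul, sub_sub_cancel]
      have h2 : ∑ j, algebraMap (Pol R r) B (pderiv j (pa n i)) • CIFitt1.gens R r B j =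
          D R B (algebraMap (Pol R r) B (pa n i)) := (CIFitt1.D_algebraMap (k := R) B (pa n i)).symm
      rw [h1, h2, algebraMap_pa ψ a hker hφ pa a' hpa n i, map_neg, Derivation.leibniz, D_pow_t,
        smul_zero, add_zero]
      refine Submodule.sub_mem _ (Submodule.neg_mem _ (Submodule.smul_mem_smul
        (Ideal.pow_mem_pow (Ideal.mem_span_singleton_self _) n) Submodule.mem_top)) ?_
      exact Submodule.sum_mem _ fun j _ => Submodule.smul_mem_smul (hJm n i j) Submodule.mem_top
    · rw [Submodule.smul_le]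
      intro e he v _
      rw [Submodule.mem_comap, map_smul]
      exact Submodule.smul_mem_smul he Submodule.mem_top
  have := hle hz
  rw [Submodule.mem_comap, Fintype.linearCombination_apply] at this
  exact this

include hψ hker hφ hpa hJm in
theorem hb_mp (n : ℕ) (z : Fin r → B)
    (hz : ∑ j, z j • CIFitt1.gens R r B j ∈
      ((Ideal.span {algebraMap R B t}) ^ n • ⊤ : Submodule B Ω[B⁄R])) :
    z ∈ Submodule.span B (Set.range fun i => (Jm i : Fin r → B)) ⊔
      ((Ideal.span {algebraMap R B t}) ^ n • ⊤ : Submodule B (Fin r → B)) := by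
  classical
  have hI : Ideal.span {algebraMap R B t} ^ n = Ideal.span {algebraMap R B t ^ n} :=
    Ideal.span_singleton_pow _ _
  have hsurj : ∀ b : B, ∃ p : MvPolynomial (Fin r) R,
      b - algebraMap (MvPolynomial (Fin r) R) B p ∈ Ideal.span {algebraMap R B t ^ n} := by
    intro b
    obtain ⟨p, b', hb⟩ := approxB ψ hψ hφ n b
    refine ⟨p, ?_⟩
    rw [hb, add_sub_cancel_left]
    exact Ideal.mul_mem_right _ _ (Ideal.mem_span_singleton_self _)
  have hz' : ∑ j, z j • D R B (algebraMap (MvPolynomial (Fin r) R) B (X j)) ∈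
      (Ideal.span {algebraMap R B t ^ n} • ⊤ : Submodule B Ω[B⁄R]) := by
    rw [← hI]; exact hz
  obtain ⟨w, hw⟩ := relations_mod R r (c + 1) B (Ideal.span {algebraMap R B t ^ n})
    (levelGens (t := t) pa n) hsurj (comap_level ψ hψ a hker hφ pa a' hpa n) z hz'
  have hz2 : z - ∑ i : Fin c, w i.succ • (Jm i : Fin r → B) ∈
      ((Ideal.span {algebraMap R B t}) ^ n • ⊤ : Submodule B (Fin r → B)) := by
    rw [mem_smul_top_pi_iff]
    intro j
    have h1 := hw j
    rw [Fin.sum_univ_succ] at h1
    have h0 : pderiv j (levelGens (t := t) pa n 0) = 0 := by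
      rw [levelGens, Fin.cons_zero, ← C_pow, pderiv_C]
    rw [h0, map_zero, mul_zero, zero_add] at h1
    have h3 : ∀ i : Fin c, levelGens (t := t) pa n i.succ = pa n i := fun i => by
      rw [levelGens, Fin.cons_succ]
    simp only [h3] at h1
    have h2 : (z - ∑ i : Fin c, w i.succ • (Jm i : Fin r → B)) j =
        (z j - ∑ i : Fin c, w i.succ * algebraMap (MvPolynomial (Fin r) R) B (pderiv j (pa n i))) +
        ∑ i : Fin c, w i.succ * (algebraMap (Pol R r) B (pderiv j (pa n i)) - Jm i j) := by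
      simp only [Pi.sub_apply, Finset.sum_apply, Pi.smul_apply, smul_eq_mul, mul_sub,
        Finset.sum_sub_distrib]
      ring
    rw [h2]
    refine Ideal.add_mem _ (hI ▸ h1) (Ideal.sum_mem _ fun i _ =>
      Ideal.mul_mem_left _ _ (hJm n i j))
  have hsplit : z = ∑ i : Fin c, w i.succ • (Jm i : Fin r → B) +
      (z - ∑ i : Fin c, w i.succ • (Jm i : Fin r → B)) := by abel
  rw [hsplit]
  exact Submodule.add_mem _
    (Submodule.mem_sup_left (Submodule.sum_mem _ fun i _ =>
      Submodule.smul_mem _ _ (Submodule.subset_span ⟨i, rfl⟩)))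
    (Submodule.mem_sup_right hz2)

include hψ hker hφ hpa in
theorem exists_pres [IsNoetherianRing B] [IsAdicComplete (Ideal.span {algebraMap R B t}) B] :
    ∃ Jm : Matrix (Fin c) (Fin r) B,
      (∀ n i j, algebraMap (Pol R r) B (pderiv j (pa n i)) - Jm i j ∈
        Ideal.span {algebraMap R B t} ^ n) ∧
      Submodule.span B (Set.range fun j =>
        AdicCompletion.of (Ideal.span {algebraMap R B t}) Ω[B⁄R] (CIFitt1.gens R r B j)) = ⊤ ∧
      Submodule.span B (Set.range fun i => (Jm i : Fin r → B)) =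
        LinearMap.ker (Fintype.linearCombination B (fun j =>
          AdicCompletion.of (Ideal.span {algebraMap R B t}) Ω[B⁄R] (CIFitt1.gens R r B j))) := by
  obtain ⟨Jm, hJm⟩ := exists_jac (B := B) a pa a' hpa
  refine ⟨Jm, hJm, ?_⟩
  exact pres_completion (Ideal.span {algebraMap R B t}) (CIFitt1.gens R r B) Jm
    (ha_holds ψ hψ hφ) (fun n z =>
      ⟨hb_mp ψ hψ a hker hφ pa a' hpa Jm hJm n z, hb_mpr ψ a hker hφ pa a' hpa Jm hJm n z⟩)

end Groth.Agent.Lib.Helper9.FormalCI4
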