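import Mathlib
import Groth.Agent.Lib.Helper9.FormalCI4
import Groth.Agent.Lib.Helper9.CIFitt3

/-!
# Injectivity of the formal Jacobian map via the reduced closed fibre
-/

set_option autoImplicit false

namespace Groth.Agent.Lib.Helper9.FormalCI5

open MvPolynomial
open Groth.Agent.Lib.Helper9.FormalCI2 Groth.Agent.Lib.Helper9.FormalCI3

universe u

section Sigma

variable (k : Type u) [Field k] (r : ℕ)

/-- reduction of coefficients modulo `t` -/
noncomputable def sig : MvPolynomial (Fin r) (PowerSeries k) →+* MvPolynomial (Fin r) k :=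
  MvPolynomial.map (PowerSeries.constantCoeff (R := k))

/-- constant power series coefficients -/
noncomputable def sec : MvPolynomial (Fin r) k →+* MvPolynomial (Fin r) (PowerSeries k) :=
  MvPolynomial.map (PowerSeries.C (R := k))

theorem sig_sec (q : MvPolynomial (Fin r) k) : sig k r (sec k r q) = q := by
  rw [sig, sec, MvPolynomial.map_map]
  have : (PowerSeries.constantCoeff (R := k)).comp (PowerSeries.C (R := k)) = RingHom.id k := by
    ext x
    simp
  rw [this, MvPolynomial.map_id]

theorem sig_CX : sig k r (C PowerSeries.X) = 0 := by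
  rw [sig, MvPolynomial.map_C, PowerSeries.constantCoeff_X, map_zero]

theorem sub_sec_sig (p : MvPolynomial (Fin r) (PowerSeries k)) :
    ∃ q', p - sec k r (sig k r p) = C PowerSeries.X * q' := by
  have hmem : p - sec k r (sig k r p) ∈
      Ideal.map (C : PowerSeries k →+* MvPolynomial (Fin r) (PowerSeries k))
        (Ideal.span {PowerSeries.X}) := by
    rw [MvPolynomial.mem_map_C_iff]
    intro m
    rw [MvPolynomial.coeff_sub, sec, sig, MvPolynomial.coeff_map, MvPolynomial.coeff_map,
      Ideal.mem_span_singleton, PowerSeries.X_dvd_iff, map_sub, PowerSeries.constantCoeff_C,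
      sub_self]
  rw [Ideal.map_span, Set.image_singleton, Ideal.mem_span_singleton'] at hmem
  obtain ⟨q', hq'⟩ := hmem
  exact ⟨q', by rw [← hq', mul_comm]⟩

theorem pderiv_sig (j : Fin r) (p : MvPolynomial (Fin r) (PowerSeries k)) :
    pderiv j (sig k r p) = sig k r (pderiv j p) := MvPolynomial.pderiv_map

end Sigma

section Main

variable {k : Type u} [Field k] {r c : ℕ} {B : Type u} [CommRing B] [Algebra (PowerSeries k) B]
  [Algebra (Pol (PowerSeries k) r) B] [IsScalarTower (PowerSeries k) (Pol (PowerSeries k) r) B]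
  (ψ : Acomp (PowerSeries k) r PowerSeries.X →ₐ[PowerSeries k] B) (hψ : Function.Surjective ψ)
  (a : Fin c → Acomp (PowerSeries k) r PowerSeries.X)
  (hker : RingHom.ker ψ.toRingHom = Ideal.span (Set.range a))
  (hφ : ∀ p : Pol (PowerSeries k) r, algebraMap (Pol (PowerSeries k) r) B p =
    ψ (algebraMap (Pol (PowerSeries k) r) (Acomp (PowerSeries k) r PowerSeries.X) p))
  (pa : ℕ → Fin c → Pol (PowerSeries k) r) (a' : ℕ → Fin c → Acomp (PowerSeries k) r PowerSeries.X)
  (hpa : ∀ n i, a i = algebraMap (Pol (PowerSeries k) r) (Acomp (PowerSeries k) r PowerSeries.X)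
      (pa n i) +
    algebraMap (Pol (PowerSeries k) r) (Acomp (PowerSeries k) r PowerSeries.X)
      (C PowerSeries.X) ^ n * a' n i)
  (Jm : Matrix (Fin c) (Fin r) B)
  (hJm1 : ∀ i j, algebraMap (Pol (PowerSeries k) r) B (pderiv j (pa 1 i)) - Jm i j ∈
    Ideal.span {algebraMap (PowerSeries k) B PowerSeries.X})

theorem algebraMap_X_eq :
    algebraMap (PowerSeries k) (Acomp (PowerSeries k) r PowerSeries.X) PowerSeries.X =
      algebraMap (Pol (PowerSeries k) r) (Acomp (PowerSeries k) r PowerSeries.X)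
        (C PowerSeries.X) := by
  rw [AdicCompletion.algebraMap_apply, algebraMap_eq_of, MvPolynomial.algebraMap_eq]

theorem mk_algebraMap_sec_sig (p : Pol (PowerSeries k) r) :
    Ideal.Quotient.mk (Ideal.span {algebraMap (PowerSeries k) B PowerSeries.X})
      (algebraMap (Pol (PowerSeries k) r) B p) =
    Ideal.Quotient.mk (Ideal.span {algebraMap (PowerSeries k) B PowerSeries.X})
      (algebraMap (Pol (PowerSeries k) r) B (sec k r (sig k r p))) := by
  obtain ⟨q', hq'⟩ := sub_sec_sig k r p
  rw [Ideal.Quotient.eq, ← map_sub, hq', map_mul, algebraMap_C_t]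
  exact Ideal.mul_mem_right _ _ (Ideal.mem_span_singleton_self _)

include hψ hker hφ hpa hJm1 in
theorem closedFibre_inj [PerfectField k]
    [IsReduced (B ⧸ Ideal.span {algebraMap (PowerSeries k) B PowerSeries.X})]
    (hreg0 : RingTheory.Sequence.IsWeaklyRegular
      (Acomp (PowerSeries k) r PowerSeries.X ⧸
        Ideal.span {algebraMap (PowerSeries k) (Acomp (PowerSeries k) r PowerSeries.X)
          PowerSeries.X ^ (0 + 1)})
      ((List.ofFn a).map (Ideal.Quotient.mk (Ideal.span {algebraMap (PowerSeries k)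
        (Acomp (PowerSeries k) r PowerSeries.X) PowerSeries.X ^ (0 + 1)}))))
    (z : Fin c → B)
    (hz : ∀ j, ∑ i, z i * Jm i j ∈ Ideal.span {algebraMap (PowerSeries k) B PowerSeries.X}) :
    ∀ i, z i ∈ Ideal.span {algebraMap (PowerSeries k) B PowerSeries.X} := by
  classical
  let φ₀ : MvPolynomial (Fin r) k →+*
      (B ⧸ Ideal.span {algebraMap (PowerSeries k) B PowerSeries.X}) :=
    (Ideal.Quotient.mk _).comp ((algebraMap (Pol (PowerSeries k) r) B).comp (sec k r))
  letI algP₀ : Algebra (MvPolynomial (Fin r) k)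
      (B ⧸ Ideal.span {algebraMap (PowerSeries k) B PowerSeries.X}) := φ₀.toAlgebra
  letI algk : Algebra k (B ⧸ Ideal.span {algebraMap (PowerSeries k) B PowerSeries.X}) :=
    (φ₀.comp C).toAlgebra
  haveI : IsScalarTower k (MvPolynomial (Fin r) k)
      (B ⧸ Ideal.span {algebraMap (PowerSeries k) B PowerSeries.X}) :=
    IsScalarTower.of_algebraMap_eq (fun x => rfl)
  have hτ0 : Ideal.Quotient.mk (Ideal.span {algebraMap (PowerSeries k) B PowerSeries.X})
      (algebraMap (PowerSeries k) B PowerSeries.X) = 0 :=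
    Ideal.Quotient.eq_zero_iff_mem.mpr (Ideal.mem_span_singleton_self _)
  have hφ₀ : ∀ q, algebraMap (MvPolynomial (Fin r) k)
      (B ⧸ Ideal.span {algebraMap (PowerSeries k) B PowerSeries.X}) q =
      Ideal.Quotient.mk _ (algebraMap (Pol (PowerSeries k) r) B (sec k r q)) := fun q => rfl
  have hπ : ∀ p : Pol (PowerSeries k) r,
      Ideal.Quotient.mk (Ideal.span {algebraMap (PowerSeries k) B PowerSeries.X})
        (algebraMap (Pol (PowerSeries k) r) B p) =
      algebraMap (MvPolynomial (Fin r) k)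
        (B ⧸ Ideal.span {algebraMap (PowerSeries k) B PowerSeries.X}) (sig k r p) := fun p => by
    rw [hφ₀]; exact mk_algebraMap_sec_sig p
  have hsurj₀ : Function.Surjective (algebraMap (MvPolynomial (Fin r) k)
      (B ⧸ Ideal.span {algebraMap (PowerSeries k) B PowerSeries.X})) := by
    intro x
    obtain ⟨b, rfl⟩ := Ideal.Quotient.mk_surjective x
    obtain ⟨p, b', hb⟩ := approxB ψ hψ hφ 1 b
    refine ⟨sig k r p, ?_⟩
    rw [← hπ, hb, map_add, map_mul, pow_one, hτ0, zero_mul, add_zero]
  obtain ⟨abar, habar⟩ : ∃ abar : Fin c → MvPolynomial (Fin r) k,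
      abar = fun i => sig k r (pa 1 i) := ⟨_, rfl⟩
  have hā0 : ∀ i, algebraMap (MvPolynomial (Fin r) k)
      (B ⧸ Ideal.span {algebraMap (PowerSeries k) B PowerSeries.X}) (abar i) = 0 := by
    intro i
    rw [habar, ← hπ, algebraMap_pa ψ a hker hφ pa a' hpa 1 i, map_neg, map_mul, pow_one, hτ0,
      zero_mul, neg_zero]
  have hker₀ : RingHom.ker (algebraMap (MvPolynomial (Fin r) k)
      (B ⧸ Ideal.span {algebraMap (PowerSeries k) B PowerSeries.X})) =
      Ideal.span (Set.range abar) := by
    apply le_antisymm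
    · intro q hq
      rw [RingHom.mem_ker, hφ₀, Ideal.Quotient.eq_zero_iff_mem] at hq
      have h1 : sec k r q ∈ Ideal.comap (algebraMap (Pol (PowerSeries k) r) B)
          (Ideal.span {algebraMap (PowerSeries k) B PowerSeries.X ^ 1}) := by
        rw [pow_one]; exact hq
      rw [comap_level ψ hψ a hker hφ pa a' hpa 1] at h1
      obtain ⟨g, hg⟩ := Ideal.mem_span_range_iff_exists_fun.mp h1
      have h2 := congrArg (sig k r) hg
      rw [sig_sec, map_sum, Fin.sum_univ_succ] at h2
      rw [← h2]
      refine Ideal.add_mem _ ?_ (Ideal.sum_mem _ fun i _ => ?_)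
      · rw [map_mul, levelGens, Fin.cons_zero, pow_one, sig_CX, mul_zero]
        exact Ideal.zero_mem _
      · rw [map_mul, levelGens, Fin.cons_succ]
        refine Ideal.mul_mem_left _ _ (Ideal.subset_span ⟨i, ?_⟩)
        rw [habar]
    · rw [Ideal.span_le]
      rintro _ ⟨i, rfl⟩
      exact hā0 i
  -- quasi-regularity on the closed fibre
  let χ : MvPolynomial (Fin r) k →+*
      (Acomp (PowerSeries k) r PowerSeries.X ⧸
        Ideal.span {algebraMap (PowerSeries k) (Acomp (PowerSeries k) r PowerSeries.X)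
          PowerSeries.X ^ (0 + 1)}) :=
    (Ideal.Quotient.mk _).comp
      ((algebraMap (Pol (PowerSeries k) r) (Acomp (PowerSeries k) r PowerSeries.X)).comp
        (sec k r))
  have hχdef : ∀ q, χ q = Ideal.Quotient.mk _
      (algebraMap (Pol (PowerSeries k) r) (Acomp (PowerSeries k) r PowerSeries.X)
        (sec k r q)) := fun q => rfl
  have hιss : ∀ p : Pol (PowerSeries k) r, ∃ q' : Pol (PowerSeries k) r,
      algebraMap (Pol (PowerSeries k) r) (Acomp (PowerSeries k) r PowerSeries.X)
        (sec k r (sig k r p)) =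
      algebraMap (Pol (PowerSeries k) r) (Acomp (PowerSeries k) r PowerSeries.X) p -
      algebraMap (Pol (PowerSeries k) r) (Acomp (PowerSeries k) r PowerSeries.X)
        (C PowerSeries.X) *
      algebraMap (Pol (PowerSeries k) r) (Acomp (PowerSeries k) r PowerSeries.X) q' := by
    intro p
    obtain ⟨q', hq'⟩ := sub_sec_sig k r p
    refine ⟨q', ?_⟩
    rw [← map_mul, ← hq', map_sub]
    ring
  have hχā : ∀ i, χ (abar i) = Ideal.Quotient.mk _ (a i) := by
    intro i
    rw [hχdef, habar]
    obtain ⟨q', hq'⟩ := hιss (pa 1 i)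
    rw [eq_comm, Ideal.Quotient.eq, Ideal.mem_span_singleton']
    refine ⟨a' 1 i + algebraMap (Pol (PowerSeries k) r)
      (Acomp (PowerSeries k) r PowerSeries.X) q', ?_⟩
    rw [hq', hpa 1 i, algebraMap_X_eq]
    ring
  have hχinj : Function.Injective χ := by
    rw [injective_iff_map_eq_zero]
    intro q hq
    rw [hχdef, Ideal.Quotient.eq_zero_iff_mem, Ideal.mem_span_singleton'] at hq
    obtain ⟨x', hx'⟩ := hq
    have h1 : algebraMap (Pol (PowerSeries k) r) (Acomp (PowerSeries k) r PowerSeries.X)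
        (sec k r q) =
        algebraMap (Pol (PowerSeries k) r) (Acomp (PowerSeries k) r PowerSeries.X)
          (C PowerSeries.X) ^ 1 * x' := by
      rw [← hx', algebraMap_X_eq]
      ring
    obtain ⟨q0, hq0⟩ := approx_mem (PowerSeries k) r PowerSeries.X 1 _ _ h1
    have h2 := congrArg (sig k r) hq0
    rw [sig_sec, map_mul, map_pow, sig_CX, pow_one, zero_mul] at h2
    exact h2
  have hχsurj : Function.Surjective χ := by
    intro y
    obtain ⟨x, rfl⟩ := Ideal.Quotient.mk_surjective y
    obtain ⟨p, x', hx⟩ := approx (PowerSeries k) r PowerSeries.X 1 x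
    obtain ⟨q', hq'⟩ := hιss p
    refine ⟨sig k r p, ?_⟩
    rw [hχdef, Ideal.Quotient.eq, Ideal.mem_span_singleton']
    refine ⟨-(x' + algebraMap (Pol (PowerSeries k) r)
      (Acomp (PowerSeries k) r PowerSeries.X) q'), ?_⟩
    rw [hq', hx, algebraMap_X_eq]
    ring
  have hreg' : RingTheory.Sequence.IsWeaklyRegular
      (Acomp (PowerSeries k) r PowerSeries.X ⧸
        Ideal.span {algebraMap (PowerSeries k) (Acomp (PowerSeries k) r PowerSeries.X)
          PowerSeries.X ^ (0 + 1)})
      (List.ofFn fun i => Ideal.Quotient.mk (Ideal.span {algebraMap (PowerSeries k)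
        (Acomp (PowerSeries k) r PowerSeries.X) PowerSeries.X ^ (0 + 1)}) (a i)) := by
    rw [List.ofFn_comp']
    exact hreg0
  have hmap : Ideal.map χ (Ideal.span (Set.range abar)) =
      Ideal.span (Set.range fun i => Ideal.Quotient.mk (Ideal.span {algebraMap (PowerSeries k)
        (Acomp (PowerSeries k) r PowerSeries.X) PowerSeries.X ^ (0 + 1)}) (a i)) := by
    rw [Ideal.map_span, ← Set.range_comp]
    congr 2
    funext i
    exact hχā i
  have hqr : ∀ w : Fin c → MvPolynomial (Fin r) k,
      ∑ i, w i * abar i ∈ Ideal.span (Set.range abar) ^ 2 →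
        ∀ i, w i ∈ Ideal.span (Set.range abar) := by
    intro w hw i
    have h1 : ∑ i, χ (w i) * Ideal.Quotient.mk (Ideal.span {algebraMap (PowerSeries k)
        (Acomp (PowerSeries k) r PowerSeries.X) PowerSeries.X ^ (0 + 1)}) (a i) ∈
        Ideal.span (Set.range fun i => Ideal.Quotient.mk (Ideal.span {algebraMap (PowerSeries k)
          (Acomp (PowerSeries k) r PowerSeries.X) PowerSeries.X ^ (0 + 1)}) (a i)) ^ 2 := by
      rw [← hmap, ← Ideal.map_pow]
      have h3 := Ideal.mem_map_of_mem χ hw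
      rw [map_sum] at h3
      simpa only [map_mul, hχā] using h3
    have h2 := Groth.Agent.Lib.Helper9.CIFitt3.qr_one _ hreg' (fun i => χ (w i)) h1 i
    rw [← hmap, Ideal.mem_map_iff_of_surjective χ hχsurj] at h2
    obtain ⟨v, hv, hvw⟩ := h2
    rw [← hχinj hvw]
    exact hv
  have hinj := Groth.Agent.Lib.Helper9.CIFitt2.jac_injective k r c
    (B ⧸ Ideal.span {algebraMap (PowerSeries k) B PowerSeries.X}) abar hsurj₀ hker₀ hqr
  have hjac : ∀ i j, Groth.Agent.Lib.Helper9.CIFitt1.jac k r c
      (B ⧸ Ideal.span {algebraMap (PowerSeries k) B PowerSeries.X}) abar i j =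
      Ideal.Quotient.mk _ (Jm i j) := by
    intro i j
    show algebraMap (MvPolynomial (Fin r) k)
      (B ⧸ Ideal.span {algebraMap (PowerSeries k) B PowerSeries.X}) (pderiv j (abar i)) = _
    rw [habar, pderiv_sig, ← hπ, Ideal.Quotient.eq]
    exact hJm1 i j
  have h0 : Fintype.linearCombination (B ⧸ Ideal.span {algebraMap (PowerSeries k) B PowerSeries.X})
      (fun i => (Groth.Agent.Lib.Helper9.CIFitt1.jac k r c
        (B ⧸ Ideal.span {algebraMap (PowerSeries k) B PowerSeries.X}) abar i :
          Fin r → (B ⧸ Ideal.span {algebraMap (PowerSeries k) B PowerSeries.X})))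
      (fun i => Ideal.Quotient.mk _ (z i)) = 0 := by
    funext j
    rw [Fintype.linearCombination_apply, Finset.sum_apply, Pi.zero_apply]
    simp only [Pi.smul_apply, smul_eq_mul, hjac, ← map_mul]
    rw [← map_sum]
    exact Ideal.Quotient.eq_zero_iff_mem.mpr (hz j)
  have h1 := hinj (h0.trans (map_zero _).symm)
  intro i
  exact Ideal.Quotient.eq_zero_iff_mem.mp (congrFun h1 i)

end Main

section Inj

variable {B : Type u} [CommRing B] {r c : ℕ} (τ : B) (Jm : Matrix (Fin c) (Fin r) B)
  (hτ : ∀ x y : B, τ * x = τ * y → x = y)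
  (hcf : ∀ z : Fin c → B, (∀ j, ∑ i, z i * Jm i j ∈ Ideal.span {τ}) →
    ∀ i, z i ∈ Ideal.span {τ})

include hτ hcf in
theorem mem_pow_of_jac_mem_pow : ∀ (m : ℕ) (z : Fin c → B),
    (∀ j, ∑ i, z i * Jm i j ∈ Ideal.span {τ ^ m}) → ∀ i, z i ∈ Ideal.span {τ ^ m} := by
  intro m
  induction m with
  | zero =>
    intro z _ i
    rw [pow_zero, Ideal.span_singleton_one]
    exact Submodule.mem_top
  | succ m ih =>
    intro z hz i
    have h1 : ∀ j, ∑ i, z i * Jm i j ∈ Ideal.span {τ} := fun j => by
      have := hz j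
      rw [Ideal.mem_span_singleton'] at this ⊢
      obtain ⟨v, hv⟩ := this
      exact ⟨v * τ ^ m, by rw [← hv, pow_succ]; ring⟩
    have h2 := hcf z h1
    choose z' hz' using fun i => Ideal.mem_span_singleton'.mp (h2 i)
    have h3 : ∀ j, ∑ i, z' i * Jm i j ∈ Ideal.span {τ ^ m} := by
      intro j
      obtain ⟨v, hv⟩ := Ideal.mem_span_singleton'.mp (hz j)
      rw [Ideal.mem_span_singleton']
      refine ⟨v, hτ _ _ ?_⟩
      rw [Finset.mul_sum]
      have : ∑ i, τ * (z' i * Jm i j) = ∑ i, z i * Jm i j :=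
        Finset.sum_congr rfl fun i _ => by rw [← hz' i]; ring
      rw [this, ← hv, pow_succ]
      ring
    have h4 := ih z' h3 i
    rw [Ideal.mem_span_singleton'] at h4 ⊢
    obtain ⟨v, hv⟩ := h4
    exact ⟨v, by rw [← hz' i, ← hv, pow_succ]; ring⟩

include hτ hcf in
theorem jac_injective_formal [IsHausdorff (Ideal.span {τ}) B] :
    Function.Injective (Fintype.linearCombination B (fun i => (Jm i : Fin r → B))) := by
  rw [injective_iff_map_eq_zero]
  intro z hz
  have hz' : ∀ j, ∑ i, z i * Jm i j = 0 := fun j => by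
    have := congrFun hz j
    rw [Fintype.linearCombination_apply, Finset.sum_apply] at this
    exact this
  funext i
  apply IsHausdorff.haus (inferInstance : IsHausdorff (Ideal.span {τ}) B)
  intro n
  rw [SModEq.zero, smul_eq_mul, Ideal.mul_top, Ideal.span_singleton_pow]
  exact mem_pow_of_jac_mem_pow τ Jm hτ hcf n z (fun j => by rw [hz' j]; exact Ideal.zero_mem _) i

end Inj

end Groth.Agent.Lib.Helper9.FormalCI5
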