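import Mathlib
import Groth.Agent.Lib.Helper9.FormalCI5

/-!
# The formal complete intersection: `Fitt_{r-c} Ω̂ = Fitt_0 Ext¹(Ω̂, B)`
-/

set_option autoImplicit false

namespace Groth.Agent.Lib.Helper9.FormalCI6

open CategoryTheory MvPolynomial
open Groth.Agent.Lib.Helper18.FittLib
open Groth.Agent.Lib.Helper9.FormalCI2 Groth.Agent.Lib.Helper9.FormalCI3
  Groth.Agent.Lib.Helper9.FormalCI4 Groth.Agent.Lib.Helper9.FormalCI5

universe u

section General

variable {R : Type u} [CommRing R] {c r : ℕ} (J : Matrix (Fin c) (Fin r) R)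
  {M : Type u} [AddCommGroup M] [Module R M]

/-- `Ext¹(M, R)` of a module with a two-term free resolution given by `J` is presented by the
transposed matrix. -/
theorem exists_ext_pres (x : Fin r → M) (hx : Submodule.span R (Set.range x) = ⊤)
    (hJ : Submodule.span R (Set.range fun i => (J i : Fin r → R)) =
      LinearMap.ker (Fintype.linearCombination R x))
    (hinj : Function.Injective (Fintype.linearCombination R (fun i => (J i : Fin r → R)))) :
    ∃ y : Fin c → Abelian.Ext.{u} (ModuleCat.of R M) (ModuleCat.of R R) 1,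
      Submodule.span R (Set.range y) = ⊤ ∧
      Submodule.span R (Set.range fun j => (J.transpose j : Fin c → R)) =
        LinearMap.ker (Fintype.linearCombination R y) := by
  classical
  have hLsurj : Function.Surjective (Fintype.linearCombination R x) := by
    rw [← LinearMap.range_eq_top, Fintype.range_linearCombination, hx]
  have hex : Function.Exact (Fintype.linearCombination R (fun i => (J i : Fin r → R)))
      (Fintype.linearCombination R x) := by
    rw [LinearMap.exact_iff, ← hJ, Fintype.range_linearCombination]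
  obtain ⟨δ, hδs, hδk⟩ := Groth.Agent.Lib.Helper22.ExtOne.exists_connecting (G := R)
    (Fintype.linearCombination R (fun i => (J i : Fin r → R)))
    (Fintype.linearCombination R x) hinj hLsurj hex
  let y : Fin c → Abelian.Ext.{u} (ModuleCat.of R M) (ModuleCat.of R R) 1 :=
    fun i => δ (LinearMap.proj i)
  have hy : Submodule.span R (Set.range y) = ⊤ := by
    rw [eq_top_iff]
    rintro e -
    obtain ⟨φ', rfl⟩ := hδs e
    rw [dual_eq_sum φ', map_sum]
    refine Submodule.sum_mem _ fun i _ => ?_
    rw [map_smul]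
    exact Submodule.smul_mem _ _ (Submodule.subset_span ⟨i, rfl⟩)
  have hcomb : ∀ z : Fin c → R, Fintype.linearCombination R y z =
      δ (∑ i, z i • (LinearMap.proj i : (Fin c → R) →ₗ[R] R)) := by
    intro z
    rw [Fintype.linearCombination_apply, map_sum]
    exact Finset.sum_congr rfl fun i _ => (map_smul δ _ _).symm
  refine ⟨y, hy, ?_⟩
  apply le_antisymm
  · rw [Submodule.span_le]
    rintro _ ⟨j, rfl⟩
    rw [SetLike.mem_coe, LinearMap.mem_ker, hcomb, hδk]
    refine ⟨LinearMap.proj j, ?_⟩
    refine LinearMap.ext fun v => ?_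
    rw [LinearMap.comp_apply, Fintype.linearCombination_apply, LinearMap.proj_apply,
      Finset.sum_apply, LinearMap.sum_apply]
    refine Finset.sum_congr rfl fun i _ => ?_
    rw [LinearMap.smul_apply, LinearMap.proj_apply, Pi.smul_apply, smul_eq_mul, smul_eq_mul]
    show v i * J i j = J.transpose j i * v i
    rw [Matrix.transpose_apply, mul_comm]
  · intro z hz
    rw [LinearMap.mem_ker, hcomb, hδk] at hz
    obtain ⟨ψ, hψ⟩ := hz
    have hzi : ∀ i, z i = ∑ j, ψ (Pi.single j 1) * J i j := by
      intro i
      have h1 := LinearMap.congr_fun hψ (Pi.single i 1)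
      rw [LinearMap.comp_apply, Fintype.linearCombination_apply, LinearMap.sum_apply] at h1
      have h2 : ∑ i', (Pi.single i (1 : R) : Fin c → R) i' • (J i' : Fin r → R) = J i := by
        rw [Finset.sum_eq_single i]
        · rw [Pi.single_eq_same, one_smul]
        · intro b _ hb
          rw [Pi.single_eq_of_ne hb, zero_smul]
        · intro h
          exact absurd (Finset.mem_univ i) h
      have h3 : ∑ i', (z i' • (LinearMap.proj i' : (Fin c → R) →ₗ[R] R))
          (Pi.single i (1 : R)) = z i := by
        rw [Finset.sum_eq_single i]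
        · rw [LinearMap.smul_apply, LinearMap.proj_apply, Pi.single_eq_same, smul_eq_mul,
            mul_one]
        · intro b _ hb
          rw [LinearMap.smul_apply, LinearMap.proj_apply, Pi.single_eq_of_ne hb, smul_zero]
        · intro h
          exact absurd (Finset.mem_univ i) h
      rw [h2, h3] at h1
      rw [← h1]
      conv_lhs => rw [dual_eq_sum ψ]
      rw [LinearMap.sum_apply]
      refine Finset.sum_congr rfl fun j _ => ?_
      rw [LinearMap.smul_apply, LinearMap.proj_apply, smul_eq_mul]
    have hz2 : z = ∑ j, ψ (Pi.single j 1) • (J.transpose j : Fin c → R) := by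
      funext i
      rw [hzi i, Finset.sum_apply]
      refine Finset.sum_congr rfl fun j _ => ?_
      rw [Pi.smul_apply, Matrix.transpose_apply, smul_eq_mul]
    rw [hz2]
    exact Submodule.sum_mem _ fun j _ =>
      Submodule.smul_mem _ _ (Submodule.subset_span ⟨j, rfl⟩)

/-- the zeroth Fitting ideal annihilates the module -/
theorem fitt_zero_smul {N : Type u} [AddCommGroup N] [Module R N] (d : R)
    (hd : d ∈ Fitt.ideal R N 0) (m : N) : d • m = 0 := by
  classical
  have hle : Fitt.ideal R N 0 ≤ Module.annihilator R N := by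
    refine Ideal.span_le.2 ?_
    rintro d ⟨n, x, a, hx, ha, rfl⟩
    rw [SetLike.mem_coe, Module.mem_annihilator]
    have h1 : ∀ i, ∑ j, a i j • x j = 0 := fun i => ha i (by rw [Nat.sub_zero]; exact i.2)
    have key : ∀ j, a.det • x j = 0 := by
      intro j
      have e1 : ∑ j', (a.det • (1 : Matrix (Fin n) (Fin n) R)) j j' • x j' = a.det • x j := by
        rw [Finset.sum_eq_single j]
        · rw [Matrix.smul_apply, Matrix.one_apply_eq, smul_eq_mul, mul_one]
        · intro b _ hb
          rw [Matrix.smul_apply, Matrix.one_apply_ne hb.symm, smul_zero, zero_smul]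
        · intro h
          exact absurd (Finset.mem_univ j) h
      rw [← e1, ← Matrix.adjugate_mul a]
      have e2 : ∀ j', (a.adjugate * a) j j' • x j' =
          ∑ i, a.adjugate j i • (a i j' • x j') := by
        intro j'
        rw [Matrix.mul_apply, Finset.sum_smul]
        exact Finset.sum_congr rfl fun i _ => mul_smul _ _ _
      rw [Finset.sum_congr rfl fun j' _ => e2 j', Finset.sum_comm]
      refine Finset.sum_eq_zero fun i _ => ?_
      rw [← Finset.smul_sum, h1 i, smul_zero]
    intro m
    have hm : m ∈ Submodule.span R (Set.range x) := by rw [hx]; exact Submodule.mem_top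
    refine Submodule.span_induction ?_ ?_ ?_ ?_ hm
    · rintro _ ⟨j, rfl⟩
      exact key j
    · exact smul_zero _
    · intro u v _ _ hu hv
      rw [smul_add, hu, hv, add_zero]
    · intro s u _ hu
      rw [smul_comm, hu, smul_zero]
  exact Module.mem_annihilator.mp (hle hd) m

/-- a power of an annihilating element lies in the zeroth Fitting ideal -/
theorem pow_mem_fitt_zero {N : Type u} [AddCommGroup N] [Module R N] {c : ℕ} (y : Fin c → N)
    (hy : Submodule.span R (Set.range y) = ⊤) (d : R) (hd : ∀ m : N, d • m = 0) :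
    d ^ c ∈ Fitt.ideal R N 0 := by
  classical
  refine Ideal.subset_span ⟨c, y, Matrix.diagonal (fun _ => d), hy, ?_, ?_⟩
  · intro i _
    refine Finset.sum_eq_zero fun j _ => ?_
    by_cases h : i = j
    · subst h
      rw [Matrix.diagonal_apply_eq]
      exact hd _
    · rw [Matrix.diagonal_apply_ne _ h, zero_smul]
  · rw [Matrix.det_diagonal, Finset.prod_const, Finset.card_univ, Fintype.card_fin]

end General

section Core

variable (k : Type u) [Field k] [PerfectField k] (r c : ℕ)
  (a : Fin c → Acomp (PowerSeries k) r PowerSeries.X)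
  (B : Type u) [CommRing B] [Algebra (PowerSeries k) B] [IsNoetherianRing B]
  [IsAdicComplete (Ideal.span {algebraMap (PowerSeries k) B PowerSeries.X}) B]
  [Module.Flat (PowerSeries k) B]
  (ψ : Acomp (PowerSeries k) r PowerSeries.X →ₐ[PowerSeries k] B)
  (hψ : Function.Surjective ψ) (hker : RingHom.ker ψ.toRingHom = Ideal.span (Set.range a))
  (hreg0 : RingTheory.Sequence.IsWeaklyRegular
      (Acomp (PowerSeries k) r PowerSeries.X ⧸
        Ideal.span {algebraMap (PowerSeries k) (Acomp (PowerSeries k) r PowerSeries.X)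
          PowerSeries.X ^ (0 + 1)})
      ((List.ofFn a).map (Ideal.Quotient.mk (Ideal.span {algebraMap (PowerSeries k)
        (Acomp (PowerSeries k) r PowerSeries.X) PowerSeries.X ^ (0 + 1)}))))
  [IsReduced (B ⧸ Ideal.span {algebraMap (PowerSeries k) B PowerSeries.X})]

omit [PerfectField k] [IsNoetherianRing B]
  [IsAdicComplete (Ideal.span {algebraMap (PowerSeries k) B PowerSeries.X}) B]
  [IsReduced (B ⧸ Ideal.span {algebraMap (PowerSeries k) B PowerSeries.X})] in
theorem tau_cancel (x y : B)
    (h : algebraMap (PowerSeries k) B PowerSeries.X * x =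
      algebraMap (PowerSeries k) B PowerSeries.X * y) : x = y := by
  have hX : (PowerSeries.X : PowerSeries k) ∈ nonZeroDivisors (PowerSeries k) :=
    mem_nonZeroDivisors_of_ne_zero PowerSeries.X_ne_zero
  have hreg : IsSMulRegular B (PowerSeries.X : PowerSeries k) :=
    Module.Flat.isSMulRegular_of_nonZeroDivisors hX
  apply hreg
  show (PowerSeries.X : PowerSeries k) • x = (PowerSeries.X : PowerSeries k) • y
  rw [Algebra.smul_def, Algebra.smul_def]
  exact h

include hψ hker hreg0 in
theorem core :
    ∃ (x : Fin r → AdicCompletion (Ideal.span {algebraMap (PowerSeries k) B PowerSeries.X})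
        Ω[B⁄PowerSeries k]) (Jm : Matrix (Fin c) (Fin r) B),
      Submodule.span B (Set.range x) = ⊤ ∧
      Submodule.span B (Set.range fun i => (Jm i : Fin r → B)) =
        LinearMap.ker (Fintype.linearCombination B x) ∧
      Function.Injective (Fintype.linearCombination B (fun i => (Jm i : Fin r → B))) ∧
      (∀ (m : ℕ) (z : Fin c → B),
        (∀ j, ∑ i, z i * Jm i j ∈
          Ideal.span {algebraMap (PowerSeries k) B PowerSeries.X ^ m}) →
        ∀ i, z i ∈ Ideal.span {algebraMap (PowerSeries k) B PowerSeries.X ^ m}) := by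
  classical
  letI algP : Algebra (Pol (PowerSeries k) r) B :=
    (ψ.toRingHom.comp (algebraMap (Pol (PowerSeries k) r)
      (Acomp (PowerSeries k) r PowerSeries.X))).toAlgebra
  haveI tower : IsScalarTower (PowerSeries k) (Pol (PowerSeries k) r) B := by
    refine IsScalarTower.of_algebraMap_eq fun s => ?_
    show algebraMap (PowerSeries k) B s = ψ (algebraMap (Pol (PowerSeries k) r)
      (Acomp (PowerSeries k) r PowerSeries.X) (algebraMap (PowerSeries k) _ s))
    rw [← ψ.commutes s, AdicCompletion.algebraMap_apply, algebraMap_eq_of]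
  have hφ : ∀ p : Pol (PowerSeries k) r, algebraMap (Pol (PowerSeries k) r) B p =
      ψ (algebraMap (Pol (PowerSeries k) r) (Acomp (PowerSeries k) r PowerSeries.X) p) :=
    fun _ => rfl
  obtain ⟨pa, a', hpa⟩ := exists_approximants (R := PowerSeries k) (r := r)
    (t := PowerSeries.X) a
  obtain ⟨Jm, hJm, hx, hJ⟩ := exists_pres ψ hψ a hker hφ pa a' hpa
  have hJm1 : ∀ i j, algebraMap (Pol (PowerSeries k) r) B (pderiv j (pa 1 i)) - Jm i j ∈
      Ideal.span {algebraMap (PowerSeries k) B PowerSeries.X} := fun i j => by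
    have := hJm 1 i j
    rwa [pow_one] at this
  have hcf := closedFibre_inj ψ hψ a hker hφ pa a' hpa Jm hJm1 hreg0
  have hτ := tau_cancel k B
  refine ⟨_, Jm, hx, hJ, ?_, ?_⟩
  · exact jac_injective_formal _ Jm hτ hcf
  · exact mem_pow_of_jac_mem_pow _ Jm hτ hcf

end Core

section Main

open Fitt

theorem main
    (k : Type u) [Field k] [PerfectField k] (r c : ℕ)
    (a : Fin c → AdicCompletion (Ideal.span {MvPolynomial.C (σ := Fin r) (PowerSeries.X (R := k))}) (MvPolynomial (Fin r) (PowerSeries k)))
    (B : Type u) [CommRing B] [Algebra (PowerSeries k) B] [IsNoetherianRing B]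
    [IsAdicComplete (Ideal.span {algebraMap (PowerSeries k) B PowerSeries.X}) B]
    [Module.Flat (PowerSeries k) B]
    (ψ : AdicCompletion (Ideal.span {MvPolynomial.C (σ := Fin r) (PowerSeries.X (R := k))}) (MvPolynomial (Fin r) (PowerSeries k)) →ₐ[PowerSeries k] B)
    (hψ : Function.Surjective ψ) (hker : RingHom.ker ψ.toRingHom = Ideal.span (Set.range a))
    (hreg : ∀ n : ℕ, RingTheory.Sequence.IsRegular
      (AdicCompletion (Ideal.span {MvPolynomial.C (σ := Fin r) (PowerSeries.X (R := k))}) (MvPolynomial (Fin r) (PowerSeries k)) ⧸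
        Ideal.span {algebraMap (PowerSeries k) (AdicCompletion (Ideal.span {MvPolynomial.C (σ := Fin r) (PowerSeries.X (R := k))}) (MvPolynomial (Fin r) (PowerSeries k))) PowerSeries.X ^ (n + 1)})
      ((List.ofFn a).map (Ideal.Quotient.mk (Ideal.span {algebraMap (PowerSeries k)
        (AdicCompletion (Ideal.span {MvPolynomial.C (σ := Fin r) (PowerSeries.X (R := k))}) (MvPolynomial (Fin r) (PowerSeries k))) PowerSeries.X ^ (n + 1)}))))
    [IsReduced (B ⧸ Ideal.span {algebraMap (PowerSeries k) B PowerSeries.X})] :
    Fitt.ideal B (AdicCompletion (Ideal.span {algebraMap (PowerSeries k) B PowerSeries.X})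
        (KaehlerDifferential (PowerSeries k) B)) (r - c) =
      Fitt.ideal B (Abelian.Ext.{u} (ModuleCat.of B (AdicCompletion
        (Ideal.span {algebraMap (PowerSeries k) B PowerSeries.X}) (KaehlerDifferential (PowerSeries k) B)))
        (ModuleCat.of B B) 1) 0 := by
  classical
  obtain ⟨x, Jm, hx, hJ, hinj, -⟩ := core k r c a B ψ hψ hker (hreg 0).toIsWeaklyRegular
  rcases subsingleton_or_nontrivial B with hB | hB
  · exact Subsingleton.elim _ _
  have hcr : c ≤ r := le_of_fin_injective B _ hinj
  rw [Groth.Agent.Lib.Helper18.FittLib.fitt_eq_matMinorIdeal x hx Jm hJ (r - c),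
    Groth.Agent.Lib.Helper9.CIFitt3.fitt_ext_one Jm x hx hJ hinj]
  congr 1
  omega

theorem main_iff
    (k : Type u) [Field k] [PerfectField k] (r c : ℕ)
    (a : Fin c → AdicCompletion (Ideal.span {MvPolynomial.C (σ := Fin r) (PowerSeries.X (R := k))}) (MvPolynomial (Fin r) (PowerSeries k)))
    (B : Type u) [CommRing B] [Algebra (PowerSeries k) B] [IsNoetherianRing B]
    [IsAdicComplete (Ideal.span {algebraMap (PowerSeries k) B PowerSeries.X}) B]
    [Module.Flat (PowerSeries k) B]
    (ψ : AdicCompletion (Ideal.span {MvPolynomial.C (σ := Fin r) (PowerSeries.X (R := k))}) (MvPolynomial (Fin r) (PowerSeries k)) →ₐ[PowerSeries k] B)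
    (hψ : Function.Surjective ψ) (hker : RingHom.ker ψ.toRingHom = Ideal.span (Set.range a))
    (hreg : ∀ n : ℕ, RingTheory.Sequence.IsRegular
      (AdicCompletion (Ideal.span {MvPolynomial.C (σ := Fin r) (PowerSeries.X (R := k))}) (MvPolynomial (Fin r) (PowerSeries k)) ⧸
        Ideal.span {algebraMap (PowerSeries k) (AdicCompletion (Ideal.span {MvPolynomial.C (σ := Fin r) (PowerSeries.X (R := k))}) (MvPolynomial (Fin r) (PowerSeries k))) PowerSeries.X ^ (n + 1)})
      ((List.ofFn a).map (Ideal.Quotient.mk (Ideal.span {algebraMap (PowerSeries k)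
        (AdicCompletion (Ideal.span {MvPolynomial.C (σ := Fin r) (PowerSeries.X (R := k))}) (MvPolynomial (Fin r) (PowerSeries k))) PowerSeries.X ^ (n + 1)}))))
    [IsReduced (B ⧸ Ideal.span {algebraMap (PowerSeries k) B PowerSeries.X})] :
    (∃ κ : ℕ, algebraMap (PowerSeries k) B PowerSeries.X ^ κ ∈
        Fitt.ideal B (AdicCompletion (Ideal.span {algebraMap (PowerSeries k) B PowerSeries.X})
          (KaehlerDifferential (PowerSeries k) B)) (r - c)) ↔
      (∃ m : ℕ, ∀ x : Abelian.Ext.{u} (ModuleCat.of B (AdicCompletion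
          (Ideal.span {algebraMap (PowerSeries k) B PowerSeries.X}) (KaehlerDifferential (PowerSeries k) B)))
          (ModuleCat.of B B) 1,
        (algebraMap (PowerSeries k) B PowerSeries.X ^ m) • x = 0) := by
  classical
  rw [main k r c a B ψ hψ hker hreg]
  obtain ⟨x, Jm, hx, hJ, hinj, -⟩ := core k r c a B ψ hψ hker (hreg 0).toIsWeaklyRegular
  obtain ⟨y, hy, -⟩ := exists_ext_pres Jm x hx hJ hinj
  constructor
  · rintro ⟨κ, hκ⟩
    exact ⟨κ, fun e => fitt_zero_smul _ hκ e⟩
  · rintro ⟨m, hm⟩
    refine ⟨m * c, ?_⟩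
    rw [pow_mul]
    exact pow_mem_fitt_zero y hy _ hm

end Main

end Groth.Agent.Lib.Helper9.FormalCI6
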