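import Mathlib
import Groth.Agent.Lib.Helper9.FormalCI6

/-!
# The formal complete intersection: `T¹ ⊗ B_n ≃ T¹_n`
-/

set_option autoImplicit false

namespace Groth.Agent.Lib.Helper9.FormalCI7

open CategoryTheory MvPolynomial TensorProduct
open Groth.Agent.Lib.Helper9.FormalCI2 Groth.Agent.Lib.Helper9.FormalCI3
  Groth.Agent.Lib.Helper9.FormalCI4 Groth.Agent.Lib.Helper9.FormalCI5
  Groth.Agent.Lib.Helper9.FormalCI6

universe u

section BaseChange

variable {B : Type u} [CommRing B] (I : Ideal B) {c : ℕ} {ι : Type*} (A : ι → (Fin c → B))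
  {T : Type u} [AddCommGroup T] [Module B T] (y : Fin c → T)
  (hy : Submodule.span B (Set.range y) = ⊤)
  (hA : Submodule.span B (Set.range A) = LinearMap.ker (Fintype.linearCombination B y))

/-- the presentation map of the base change -/
noncomputable def hmap : (Fin c → B ⧸ I) →ₗ[B ⧸ I] TensorProduct B (B ⧸ I) T :=
  Fintype.linearCombination (B ⧸ I) (fun i => (1 : B ⧸ I) ⊗ₜ[B] y i)

theorem hmap_apply (s : Fin c → B ⧸ I) : hmap I y s = ∑ i, s i ⊗ₜ[B] y i := by
  rw [hmap, Fintype.linearCombination_apply]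
  refine Finset.sum_congr rfl fun i _ => ?_
  rw [TensorProduct.smul_tmul', smul_eq_mul, mul_one]

include hy in
theorem hmap_surjective : Function.Surjective (hmap I y) := by
  intro w
  induction w using TensorProduct.induction_on with
  | zero => exact ⟨0, map_zero _⟩
  | tmul s m =>
    have hm : m ∈ Submodule.span B (Set.range y) := by rw [hy]; exact Submodule.mem_top
    obtain ⟨b, rfl⟩ := (Submodule.mem_span_range_iff_exists_fun B).mp hm
    refine ⟨fun i => b i • s, ?_⟩
    rw [hmap_apply, TensorProduct.tmul_sum]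
    refine Finset.sum_congr rfl fun i _ => ?_
    rw [TensorProduct.smul_tmul]
  | add w₁ w₂ h₁ h₂ =>
    obtain ⟨s₁, rfl⟩ := h₁
    obtain ⟨s₂, rfl⟩ := h₂
    exact ⟨s₁ + s₂, map_add _ _ _⟩

include hy hA in
theorem ker_hmap : LinearMap.ker (hmap I y) =
    Submodule.span (B ⧸ I) (Set.range fun j => (fun i => Ideal.Quotient.mk I (A j i))) := by
  classical
  apply le_antisymm
  · intro s hs
    rw [LinearMap.mem_ker, hmap_apply] at hs
    choose b hb using fun i => Ideal.Quotient.mk_surjective (s i)
    have h1 : ∑ i, b i • y i ∈ (I • ⊤ : Submodule B T) := by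
      have h2 := congrArg (TensorProduct.quotTensorEquivQuotSMul T I) hs
      rw [map_sum, map_zero] at h2
      have h3 : ∀ i, TensorProduct.quotTensorEquivQuotSMul T I (s i ⊗ₜ[B] y i) =
          (I • ⊤ : Submodule B T).mkQ (b i • y i) := fun i => by
        rw [← hb i, TensorProduct.quotTensorEquivQuotSMul_mk_tmul]
        rfl
      rw [Finset.sum_congr rfl fun i _ => h3 i, ← map_sum] at h2
      exact (Submodule.Quotient.mk_eq_zero _).mp h2
    rw [← hy, Submodule.mem_ideal_smul_span_iff_exists_sum] at h1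
    obtain ⟨e, he, hsum⟩ := h1
    have hsum' : ∑ i, e i • y i = ∑ i, b i • y i := by
      rw [← hsum, Finsupp.sum_fintype]
      intro i
      exact zero_smul _ _
    have hmem : (fun i => b i - e i) ∈ LinearMap.ker (Fintype.linearCombination B y) := by
      rw [LinearMap.mem_ker, Fintype.linearCombination_apply]
      simp only [sub_smul, Finset.sum_sub_distrib]
      rw [hsum', sub_self]
    rw [← hA] at hmem
    have hs2 : s = fun i => Ideal.Quotient.mk I (b i - e i) := by
      funext i
      rw [map_sub, hb i, Ideal.Quotient.eq_zero_iff_mem.mpr (he i), sub_zero]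
    rw [hs2]
    refine Submodule.span_induction (p := fun v _ => (fun i => Ideal.Quotient.mk I (v i)) ∈
      Submodule.span (B ⧸ I) (Set.range fun j => (fun i => Ideal.Quotient.mk I (A j i))))
      ?_ ?_ ?_ ?_ hmem
    · rintro _ ⟨j, rfl⟩
      exact Submodule.subset_span ⟨j, rfl⟩
    · have : (fun i => Ideal.Quotient.mk I ((0 : Fin c → B) i)) = 0 := by
        funext i
        simp
      rw [this]
      exact zero_mem _
    · intro u v _ _ hu hv
      have : (fun i => Ideal.Quotient.mk I ((u + v) i)) =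
          (fun i => Ideal.Quotient.mk I (u i)) + (fun i => Ideal.Quotient.mk I (v i)) := by
        funext i
        simp
      rw [this]
      exact add_mem hu hv
    · intro b' v _ hv
      have : (fun i => Ideal.Quotient.mk I ((b' • v) i)) =
          (Ideal.Quotient.mk I b') • (fun i => Ideal.Quotient.mk I (v i)) := by
        funext i
        simp
      rw [this]
      exact Submodule.smul_mem _ _ hv
  · rw [Submodule.span_le]
    rintro _ ⟨j, rfl⟩
    rw [SetLike.mem_coe, LinearMap.mem_ker, hmap_apply]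
    have hAj : ∑ i, A j i • y i = 0 := by
      have : A j ∈ LinearMap.ker (Fintype.linearCombination B y) := by
        rw [← hA]
        exact Submodule.subset_span ⟨j, rfl⟩
      rwa [LinearMap.mem_ker, Fintype.linearCombination_apply] at this
    have h1 : ∀ i, Ideal.Quotient.mk I (A j i) ⊗ₜ[B] y i =
        (1 : B ⧸ I) ⊗ₜ[B] (A j i • y i) := fun i => by
      rw [← TensorProduct.smul_tmul, Algebra.smul_def, mul_one]
      rfl
    rw [Finset.sum_congr rfl fun i _ => h1 i, ← TensorProduct.tmul_sum, hAj,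
      TensorProduct.tmul_zero]

include hy hA in
theorem nonempty_equiv {E : Type u} [AddCommGroup E] [Module (B ⧸ I) E] (y' : Fin c → E)
    (hy' : Submodule.span (B ⧸ I) (Set.range y') = ⊤)
    (hA' : Submodule.span (B ⧸ I)
      (Set.range fun j => (fun i => Ideal.Quotient.mk I (A j i))) =
      LinearMap.ker (Fintype.linearCombination (B ⧸ I) y')) :
    Nonempty (TensorProduct B (B ⧸ I) T ≃ₗ[B ⧸ I] E) := by
  have hs' : Function.Surjective (Fintype.linearCombination (B ⧸ I) y') := by
    rw [← LinearMap.range_eq_top, Fintype.range_linearCombination, hy']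
  have e1 := (hmap I y).quotKerEquivOfSurjective (hmap_surjective I y hy)
  have e2 := (Fintype.linearCombination (B ⧸ I) y').quotKerEquivOfSurjective hs'
  have hk : LinearMap.ker (hmap I y) =
      LinearMap.ker (Fintype.linearCombination (B ⧸ I) y') := by
    rw [ker_hmap I A y hy hA, hA']
  exact ⟨e1.symm ≪≫ₗ Submodule.quotEquivOfEq _ _ hk ≪≫ₗ e2⟩

end BaseChange

section Level

variable {R : Type u} [CommRing R] {r c : ℕ} {t : R} {B : Type u} [CommRing B] [Algebra R B]
  [Algebra (Pol R r) B] [IsScalarTower R (Pol R r) B]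
  (ψ : Acomp R r t →ₐ[R] B) (hψ : Function.Surjective ψ)
  (a : Fin c → Acomp R r t) (hker : RingHom.ker ψ.toRingHom = Ideal.span (Set.range a))
  (hφ : ∀ p : Pol R r, algebraMap (Pol R r) B p = ψ (algebraMap (Pol R r) (Acomp R r t) p))
  (pa : ℕ → Fin c → Pol R r) (a' : ℕ → Fin c → Acomp R r t)
  (hpa : ∀ n i, a i = algebraMap (Pol R r) (Acomp R r t) (pa n i) +
    algebraMap (Pol R r) (Acomp R r t) (C t) ^ n * a' n i)
  (Jm : Matrix (Fin c) (Fin r) B)
  (hJm : ∀ n i j, algebraMap (Pol R r) B (pderiv j (pa n i)) - Jm i j ∈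
    Ideal.span {algebraMap R B t} ^ n)

include hψ hker hφ hpa hJm in
theorem level_pres (n : ℕ) :
    ∃ x' : Fin r → Ω[(B ⧸ Ideal.span {algebraMap R B t ^ n})⁄R],
      Submodule.span (B ⧸ Ideal.span {algebraMap R B t ^ n}) (Set.range x') = ⊤ ∧
      Submodule.span (B ⧸ Ideal.span {algebraMap R B t ^ n})
        (Set.range fun i => ((Jm.map (Ideal.Quotient.mk (Ideal.span {algebraMap R B t ^ n}))) i :
          Fin r → B ⧸ Ideal.span {algebraMap R B t ^ n})) =
        LinearMap.ker (Fintype.linearCombination (B ⧸ Ideal.span {algebraMap R B t ^ n}) x') := by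
  classical
  have halg : ∀ q : Pol R r, algebraMap (Pol R r) (B ⧸ Ideal.span {algebraMap R B t ^ n}) q =
      Ideal.Quotient.mk _ (algebraMap (Pol R r) B q) := fun q => rfl
  have hsurj : Function.Surjective
      (algebraMap (Pol R r) (B ⧸ Ideal.span {algebraMap R B t ^ n})) := by
    intro b'
    obtain ⟨b, rfl⟩ := Ideal.Quotient.mk_surjective b'
    obtain ⟨p, b₁, hb⟩ := approxB ψ hψ hφ n b
    refine ⟨p, ?_⟩
    rw [halg, Ideal.Quotient.eq, hb, Ideal.mem_span_singleton']
    exact ⟨-b₁, by ring⟩
  have hkerL : RingHom.ker (algebraMap (Pol R r) (B ⧸ Ideal.span {algebraMap R B t ^ n})) =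
      Ideal.span (Set.range (levelGens (t := t) pa n)) := by
    rw [← comap_level ψ hψ a hker hφ pa a' hpa n]
    ext p
    rw [RingHom.mem_ker, Ideal.mem_comap, halg, Ideal.Quotient.eq_zero_iff_mem]
  have h1 := CIFitt1.span_gens R r (B ⧸ Ideal.span {algebraMap R B t ^ n}) hsurj
  have h2 := CIFitt1.ker_gens R r (c + 1) (B ⧸ Ideal.span {algebraMap R B t ^ n})
    (levelGens (t := t) pa n) hsurj hkerL
  refine ⟨CIFitt1.gens R r (B ⧸ Ideal.span {algebraMap R B t ^ n}), h1, ?_⟩
  rw [← h2]
  have hrow : ∀ i : Fin c, (fun j => CIFitt1.jac R r (c + 1)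
      (B ⧸ Ideal.span {algebraMap R B t ^ n}) (levelGens (t := t) pa n) i.succ j) =
      ((Jm.map (Ideal.Quotient.mk (Ideal.span {algebraMap R B t ^ n}))) i :
          Fin r → B ⧸ Ideal.span {algebraMap R B t ^ n}) := by
    intro i
    funext j
    rw [CIFitt1.jac, levelGens, Fin.cons_succ, halg, Matrix.map_apply, Ideal.Quotient.eq,
      ← Ideal.span_singleton_pow]
    exact hJm n i j
  have hrow0 : (fun j => CIFitt1.jac R r (c + 1)
      (B ⧸ Ideal.span {algebraMap R B t ^ n}) (levelGens (t := t) pa n) 0 j) = 0 := by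
    funext j
    rw [CIFitt1.jac, levelGens, Fin.cons_zero, ← C_pow, pderiv_C, map_zero]
    rfl
  apply le_antisymm
  · rw [Submodule.span_le]
    rintro _ ⟨i, rfl⟩
    exact Submodule.subset_span ⟨i.succ, hrow i⟩
  · rw [Submodule.span_le]
    rintro _ ⟨i, rfl⟩
    refine Fin.cases ?_ (fun i' => ?_) i
    · show (fun j => CIFitt1.jac R r (c + 1)
        (B ⧸ Ideal.span {algebraMap R B t ^ n}) (levelGens (t := t) pa n) 0 j) ∈ _
      rw [hrow0]
      exact zero_mem _
    · show (fun j => CIFitt1.jac R r (c + 1)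
        (B ⧸ Ideal.span {algebraMap R B t ^ n}) (levelGens (t := t) pa n) i'.succ j) ∈ _
      rw [hrow i']
      exact Submodule.subset_span ⟨i', rfl⟩

end Level

section Core

variable (k : Type u) [Field k] [PerfectField k] (r c : ℕ)
  (a : Fin c → Acomp (PowerSeries k) r PowerSeries.X)
  (B : Type u) [CommRing B] [Algebra (PowerSeries k) B] [IsNoetherianRing B]
  [IsAdicComplete (Ideal.span {algebraMap (PowerSeries k) B PowerSeries.X}) B]
  [Module.Flat (PowerSeries k) B]
  (ψ : Acomp (PowerSeries k) r PowerSeries.X →ₐ[PowerSeries k] B)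
  (hψ : Function.Surjective ψ) (hker : RingHom.ker ψ.toRingHom = Ideal.span (Set.range a))
  (hreg0 : RingTheory.Sequence.IsWeaklyRegular
      (Acomp (PowerSeries k) r PowerSeries.X ⧸
        Ideal.span {algebraMap (PowerSeries k) (Acomp (PowerSeries k) r PowerSeries.X)
          PowerSeries.X ^ (0 + 1)})
      ((List.ofFn a).map (Ideal.Quotient.mk (Ideal.span {algebraMap (PowerSeries k)
        (Acomp (PowerSeries k) r PowerSeries.X) PowerSeries.X ^ (0 + 1)}))))
  [IsReduced (B ⧸ Ideal.span {algebraMap (PowerSeries k) B PowerSeries.X})]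

include hψ hker hreg0 in
theorem core' :
    ∃ (x : Fin r → AdicCompletion (Ideal.span {algebraMap (PowerSeries k) B PowerSeries.X})
        Ω[B⁄PowerSeries k]) (Jm : Matrix (Fin c) (Fin r) B),
      Submodule.span B (Set.range x) = ⊤ ∧
      Submodule.span B (Set.range fun i => (Jm i : Fin r → B)) =
        LinearMap.ker (Fintype.linearCombination B x) ∧
      Function.Injective (Fintype.linearCombination B (fun i => (Jm i : Fin r → B))) ∧
      (∀ (m : ℕ) (z : Fin c → B),
        (∀ j, ∑ i, z i * Jm i j ∈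
          Ideal.span {algebraMap (PowerSeries k) B PowerSeries.X ^ m}) →
        ∀ i, z i ∈ Ideal.span {algebraMap (PowerSeries k) B PowerSeries.X ^ m}) ∧
      (∀ n : ℕ, ∃ x' : Fin r →
          Ω[(B ⧸ Ideal.span {algebraMap (PowerSeries k) B PowerSeries.X ^ n})⁄PowerSeries k],
        Submodule.span (B ⧸ Ideal.span {algebraMap (PowerSeries k) B PowerSeries.X ^ n})
          (Set.range x') = ⊤ ∧
        Submodule.span (B ⧸ Ideal.span {algebraMap (PowerSeries k) B PowerSeries.X ^ n})
          (Set.range fun i => ((Jm.map (Ideal.Quotient.mk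
            (Ideal.span {algebraMap (PowerSeries k) B PowerSeries.X ^ n}))) i :
            Fin r → B ⧸ Ideal.span {algebraMap (PowerSeries k) B PowerSeries.X ^ n})) =
          LinearMap.ker (Fintype.linearCombination
            (B ⧸ Ideal.span {algebraMap (PowerSeries k) B PowerSeries.X ^ n}) x')) := by
  classical
  letI algP : Algebra (Pol (PowerSeries k) r) B :=
    (ψ.toRingHom.comp (algebraMap (Pol (PowerSeries k) r)
      (Acomp (PowerSeries k) r PowerSeries.X))).toAlgebra
  haveI tower : IsScalarTower (PowerSeries k) (Pol (PowerSeries k) r) B := by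
    refine IsScalarTower.of_algebraMap_eq fun s => ?_
    show algebraMap (PowerSeries k) B s = ψ (algebraMap (Pol (PowerSeries k) r)
      (Acomp (PowerSeries k) r PowerSeries.X) (algebraMap (PowerSeries k) _ s))
    rw [← ψ.commutes s, AdicCompletion.algebraMap_apply, algebraMap_eq_of]
  have hφ : ∀ p : Pol (PowerSeries k) r, algebraMap (Pol (PowerSeries k) r) B p =
      ψ (algebraMap (Pol (PowerSeries k) r) (Acomp (PowerSeries k) r PowerSeries.X) p) :=
    fun _ => rfl
  obtain ⟨pa, a', hpa⟩ := exists_approximants (R := PowerSeries k) (r := r)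
    (t := PowerSeries.X) a
  obtain ⟨Jm, hJm, hx, hJ⟩ := exists_pres ψ hψ a hker hφ pa a' hpa
  have hJm1 : ∀ i j, algebraMap (Pol (PowerSeries k) r) B (pderiv j (pa 1 i)) - Jm i j ∈
      Ideal.span {algebraMap (PowerSeries k) B PowerSeries.X} := fun i j => by
    have := hJm 1 i j
    rwa [pow_one] at this
  have hcf := closedFibre_inj ψ hψ a hker hφ pa a' hpa Jm hJm1 hreg0
  have hτ := tau_cancel k B
  refine ⟨_, Jm, hx, hJ, ?_, ?_, ?_⟩
  · exact jac_injective_formal _ Jm hτ hcf
  · exact mem_pow_of_jac_mem_pow _ Jm hτ hcf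
  · intro n
    exact level_pres ψ hψ a hker hφ pa a' hpa Jm hJm n

end Core

section Main

theorem main
    (k : Type u) [Field k] [PerfectField k] (r c : ℕ)
    (a : Fin c → AdicCompletion (Ideal.span {MvPolynomial.C (σ := Fin r) (PowerSeries.X (R := k))}) (MvPolynomial (Fin r) (PowerSeries k)))
    (B : Type u) [CommRing B] [Algebra (PowerSeries k) B] [IsNoetherianRing B]
    [IsAdicComplete (Ideal.span {algebraMap (PowerSeries k) B PowerSeries.X}) B]
    [Module.Flat (PowerSeries k) B]
    (ψ : AdicCompletion (Ideal.span {MvPolynomial.C (σ := Fin r) (PowerSeries.X (R := k))}) (MvPolynomial (Fin r) (PowerSeries k)) →ₐ[PowerSeries k] B)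
    (hψ : Function.Surjective ψ) (hker : RingHom.ker ψ.toRingHom = Ideal.span (Set.range a))
    (hreg : ∀ n : ℕ, RingTheory.Sequence.IsRegular
      (AdicCompletion (Ideal.span {MvPolynomial.C (σ := Fin r) (PowerSeries.X (R := k))}) (MvPolynomial (Fin r) (PowerSeries k)) ⧸
        Ideal.span {algebraMap (PowerSeries k) (AdicCompletion (Ideal.span {MvPolynomial.C (σ := Fin r) (PowerSeries.X (R := k))}) (MvPolynomial (Fin r) (PowerSeries k))) PowerSeries.X ^ (n + 1)})
      ((List.ofFn a).map (Ideal.Quotient.mk (Ideal.span {algebraMap (PowerSeries k)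
        (AdicCompletion (Ideal.span {MvPolynomial.C (σ := Fin r) (PowerSeries.X (R := k))}) (MvPolynomial (Fin r) (PowerSeries k))) PowerSeries.X ^ (n + 1)}))))
    [IsReduced (B ⧸ Ideal.span {algebraMap (PowerSeries k) B PowerSeries.X})] (n : ℕ) :
    Nonempty (TensorProduct B (B ⧸ Ideal.span {algebraMap (PowerSeries k) B PowerSeries.X ^ (n + 1)})
        (Abelian.Ext.{u} (ModuleCat.of B (AdicCompletion
          (Ideal.span {algebraMap (PowerSeries k) B PowerSeries.X}) (KaehlerDifferential (PowerSeries k) B)))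
          (ModuleCat.of B B) 1) ≃ₗ[B ⧸ Ideal.span {algebraMap (PowerSeries k) B PowerSeries.X ^ (n + 1)}]
      Abelian.Ext.{u}
        (ModuleCat.of (B ⧸ Ideal.span {algebraMap (PowerSeries k) B PowerSeries.X ^ (n + 1)})
          (KaehlerDifferential (PowerSeries k) (B ⧸ Ideal.span {algebraMap (PowerSeries k) B PowerSeries.X ^ (n + 1)})))
        (ModuleCat.of (B ⧸ Ideal.span {algebraMap (PowerSeries k) B PowerSeries.X ^ (n + 1)})
          (B ⧸ Ideal.span {algebraMap (PowerSeries k) B PowerSeries.X ^ (n + 1)})) 1) := by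
  classical
  obtain ⟨x, Jm, hx, hJ, hinj, hcf, hlev⟩ :=
    core' k r c a B ψ hψ hker (hreg 0).toIsWeaklyRegular
  obtain ⟨x', hx', hJ'⟩ := hlev (n + 1)
  obtain ⟨y, hy, hA⟩ := exists_ext_pres Jm x hx hJ hinj
  have hinj' : Function.Injective (Fintype.linearCombination
      (B ⧸ Ideal.span {algebraMap (PowerSeries k) B PowerSeries.X ^ (n + 1)})
      (fun i => ((Jm.map (Ideal.Quotient.mk
        (Ideal.span {algebraMap (PowerSeries k) B PowerSeries.X ^ (n + 1)}))) i :
        Fin r → B ⧸ Ideal.span {algebraMap (PowerSeries k) B PowerSeries.X ^ (n + 1)}))) := by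
    rw [injective_iff_map_eq_zero]
    intro z' hz'
    choose z hz using fun i => Ideal.Quotient.mk_surjective (z' i)
    have h1 : ∀ j, ∑ i, z i * Jm i j ∈
        Ideal.span {algebraMap (PowerSeries k) B PowerSeries.X ^ (n + 1)} := by
      intro j
      have h2 := congrFun hz' j
      rw [Fintype.linearCombination_apply, Finset.sum_apply, Pi.zero_apply] at h2
      rw [← Ideal.Quotient.eq_zero_iff_mem, map_sum]
      rw [← h2]
      refine Finset.sum_congr rfl fun i _ => ?_
      rw [map_mul, hz i]
      rfl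
    have h3 := hcf (n + 1) z h1
    funext i
    rw [← hz i]
    exact Ideal.Quotient.eq_zero_iff_mem.mpr (h3 i)
  obtain ⟨y', hy', hA'⟩ := exists_ext_pres _ x' hx' hJ' hinj'
  exact nonempty_equiv _ (fun j => (Jm.transpose j : Fin c → B)) y hy hA y' hy' hA'

end Main

end Groth.Agent.Lib.Helper9.FormalCI7
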