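import Mathlib
import Groth.Agent.Lib.Helper16.GeomRedFib
import Groth.Agent.Lib.Helper16.LocPGen
import Groth.Agent.Lib.Helper16.FpqcCover

/-!
# Helper library (helper9): geometric reducedness of the fibre of a morphism of algebraic spaces over a
point of a chart of the target, read on a scheme chart of the base change.
-/

set_option autoImplicit false
set_option backward.isDefEq.respectTransparency.types false
universe u
open CategoryTheory CategoryTheory.Limits AlgebraicGeometry Opposite Topology

namespace Groth.Agent.Lib.Helper9.GRFib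

open AlgSp Groth.Agent.Lib.Helper16 Groth.Agent.Lib.Helper16.GeomRedFib

variable {S : Scheme.{u}}

/-- the bottom arrow of the fibre square over a field extension of the residue field of a point of a chart -/
theorem bottom_eq {Y : Sp S} {V : Over S} (a : (yon S).obj V ⟶ Y) (v : ↥V.left)
    (k' : Type u) [Field k'] (φ : (FieldPt.ofPt a v).K →+* k') :
    ∃ m : Over.mk (Spec.map (CommRingCat.ofHom φ) ≫ (FieldPt.ofPt a v).str) ⟶ V,
      m.left = Spec.map (CommRingCat.ofHom φ) ≫ V.left.fromSpecResidueField v ∧
      (yon S).map (Over.homMk (Spec.map (CommRingCat.ofHom φ)) rfl :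
        Over.mk (Spec.map (CommRingCat.ofHom φ) ≫ (FieldPt.ofPt a v).str) ⟶ (FieldPt.ofPt a v).pt) ≫
          (FieldPt.ofPt a v).toHom = (yon S).map m ≫ a := by
  refine ⟨(Over.homMk (Spec.map (CommRingCat.ofHom φ)) rfl :
      Over.mk (Spec.map (CommRingCat.ofHom φ) ≫ (FieldPt.ofPt a v).str) ⟶ (FieldPt.ofPt a v).pt) ≫
      (Over.homMk (V.left.fromSpecResidueField v) rfl : (FieldPt.ofPt a v).pt ⟶ V), rfl, ?_⟩
  rw [FieldPt.toHom_ofPt, Functor.map_comp, Category.assoc]

theorem geomRedFibre_iff {X Y : Sp S} (f : X ⟶ Y) {V W : Over S}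
    (a : (yon S).obj V ⟶ Y) (π : (yon S).obj W ⟶ pullback f a) (hπe : RepWith @Etale π)
    (hπs : RepWith @Surjective π) (g : W ⟶ V) (hg : π ≫ pullback.snd f a = (yon S).map g) (v : ↥V.left) :
    GeomRedFibre f (FieldPt.ofPt a v) ↔ GeometricallyReduced (g.left.fiberToSpecResidueField v) := by
  have sqXV : IsPullback (pullback.fst f a) (pullback.snd f a) f a := IsPullback.of_hasPullback f a
  have fibSq : IsPullback (g.left.fiberι v) (g.left.fiberToSpecResidueField v) g.left
      (V.left.fromSpecResidueField v) := IsPullback.of_hasPullback _ _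
  constructor
  · intro h
    refine ⟨?_⟩
    intro K _ y Z fst snd hZ
    obtain ⟨φ, rfl⟩ := Spec.map_surjective y
    obtain ⟨m, hm, hbot⟩ := bottom_eq a v K φ.hom
    have sq' : IsPullback (pullback.fst (pullback.snd f a) ((yon S).map m))
        (pullback.snd (pullback.snd f a) ((yon S).map m)) (pullback.snd f a) ((yon S).map m) :=
      IsPullback.of_hasPullback _ _
    have sqP := sq'.paste_horiz sqXV
    have hred : IsReducedSp (pullback (pullback.snd f a) ((yon S).map m)) := by
      refine h K φ.hom _ (pullback.fst (pullback.snd f a) ((yon S).map m) ≫ pullback.fst f a)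
        (pullback.snd (pullback.snd f a) ((yon S).map m)) ?_
      rw [hbot]
      exact sqP
    obtain ⟨c, hc, sqc⟩ := chart_baseChange sq' π g hg
    have hce : RepWith @Etale c := (RepWith @Etale).of_isPullback sqc.flip hπe
    have : IsReduced (pullback g m).left := SchImg.isReduced_of_etale_of_isReducedSp hred c hce
    have hsq := isPullback_left_forget g m
    rw [hm] at hsq
    have hZ2 := hZ.paste_horiz fibSq
    have hsq' : IsPullback (pullback.fst g m).left (pullback.snd g m).left g.left
        (Spec.map φ ≫ V.left.fromSpecResidueField v) := hsq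
    let e : Z ≅ (pullback g m).left := hZ2.isoIsPullback _ _ hsq'
    exact isReduced_of_isOpenImmersion e.hom
  · intro hgeo k' _ φ Xk' a' b' sq
    obtain ⟨m, hm, hbot⟩ := bottom_eq a v k' φ
    rw [hbot] at sq
    have hw : a' ≫ f = (b' ≫ (yon S).map m) ≫ a := by rw [sq.w, Category.assoc]
    have sqL : IsPullback (sqXV.lift a' (b' ≫ (yon S).map m) hw) b' (pullback.snd f a) ((yon S).map m) := by
      refine IsPullback.of_right ?_ (sqXV.lift_snd _ _ _) sqXV
      rw [sqXV.lift_fst]
      exact sq
    obtain ⟨c, hc, sqc⟩ := chart_baseChange sqL π g hg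
    have hce : RepWith @Etale c := (RepWith @Etale).of_isPullback sqc.flip hπe
    have hcs : RepWith @Surjective c := (RepWith @Surjective).of_isPullback sqc.flip hπs
    have hsq := isPullback_left_forget g m
    rw [hm] at hsq
    refine ⟨pullback g m, c, hce, hcs, ?_⟩
    have hw2 : (pullback.fst g m).left ≫ g.left =
        ((pullback.snd g m).left ≫ Spec.map (CommRingCat.ofHom φ)) ≫ V.left.fromSpecResidueField v := by
      rw [hsq.w, Category.assoc]
    have hZ : IsPullback (fibSq.lift (pullback.fst g m).left
        ((pullback.snd g m).left ≫ Spec.map (CommRingCat.ofHom φ)) hw2) (pullback.snd g m).left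
        (g.left.fiberToSpecResidueField v) (Spec.map (CommRingCat.ofHom φ)) := by
      refine IsPullback.of_right ?_ (fibSq.lift_snd _ _ _) fibSq
      rw [fibSq.lift_fst]
      exact hsq
    exact hgeo.geometrically_isReduced _ _ _ hZ

end Groth.Agent.Lib.Helper9.GRFib
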