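import Mathlib
import Groth.Agent.Lib.Helper9.GRFib
import Groth.Agent.Lib.Helper16.GeomRed
import Groth.Agent.Lib.Helper16.Charts
import Groth.Agent.Lib.Helper14.GeomRedAt
import Groth.Agent.S2549

/-!
# Helper library (helper9): openness of the locus of geometrically reduced fibres for a flat, locally finitely
presented, universally closed morphism of algebraic spaces.
-/

set_option autoImplicit false
set_option linter.style.haveILetI false
set_option backward.isDefEq.respectTransparency.types false
universe u
open CategoryTheory CategoryTheory.Limits AlgebraicGeometry Opposite Topology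

namespace Groth.Agent.Lib.Helper9.GRFibOpen

open AlgSp Groth.Agent.Lib.Helper16 Groth.Agent.Lib.Helper16.GeomRedFib Groth.Agent.Lib.Helper9.GRFib

/-- the set of points of the source at which the fibre is geometrically reduced -/
def locus {W T : Scheme.{u}} (g : W ⟶ T) : Set ↥W :=
  {x : W | FBase.IsGeomReducedAt (g.fiberToSpecResidueField (g.base x)) (g.asFiber x)}

theorem isOpen_locus {W T : Scheme.{u}} (g : W ⟶ T) [Flat g] [LocallyOfFinitePresentation g] :
    IsOpen (locus g) := Groth.Agent.S2549.result g

/-- transport of the pointwise condition along an equality of base points -/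
theorem isGeomReducedAt_fiberHomeo_symm {W T : Scheme.{u}} (g : W ⟶ T) (w : W) (t : T) (h : g.base w = t)
    (hw : w ∈ locus g) :
    FBase.IsGeomReducedAt (g.fiberToSpecResidueField t) ((g.fiberHomeo t).symm ⟨w, h⟩) := by
  subst h
  exact hw

theorem geometricallyReduced_fibre_iff {W T : Scheme.{u}} (g : W ⟶ T) (t : T) :
    GeometricallyReduced (g.fiberToSpecResidueField t) ↔ ∀ w : W, g.base w = t → w ∈ locus g := by
  refine (Groth.Agent.Lib.Helper14.GeomRedAt.geometricallyReduced_iff_forall_isGeomReducedAt
    (k := ↑(T.residueField t)) (g.fiberToSpecResidueField t)).trans ?_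
  constructor
  · intro h w hw
    subst hw
    exact h (g.asFiber w)
  · intro h x
    have hx : g.base (g.fiberι t x) = t := (g.fiberHomeo t x).2
    have := isGeomReducedAt_fiberHomeo_symm g (g.fiberι t x) t hx (h _ hx)
    have e : (g.fiberHomeo t).symm ⟨g.fiberι t x, hx⟩ = x := by
      apply (g.fiberHomeo t).injective
      rw [Homeomorph.apply_symm_apply]
      exact Subtype.ext rfl
    rwa [e] at this

/-- invariance of the pointwise locus under etale maps of the source -/
theorem mem_locus_comp_iff {R W T : Scheme.{u}} (e : R ⟶ W) [Etale e] (g : W ⟶ T) (z : R) :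
    z ∈ locus (e ≫ g) ↔ e.base z ∈ locus g := by
  have fibSqH : IsPullback ((e ≫ g).fiberι (g.base (e.base z)))
      ((e ≫ g).fiberToSpecResidueField (g.base (e.base z))) (e ≫ g)
      (T.fromSpecResidueField (g.base (e.base z))) := IsPullback.of_hasPullback _ _
  have fibSqG : IsPullback (g.fiberι (g.base (e.base z)))
      (g.fiberToSpecResidueField (g.base (e.base z))) g
      (T.fromSpecResidueField (g.base (e.base z))) := IsPullback.of_hasPullback _ _
  have hw : ((e ≫ g).fiberι (g.base (e.base z)) ≫ e) ≫ g =
      (e ≫ g).fiberToSpecResidueField (g.base (e.base z)) ≫ T.fromSpecResidueField (g.base (e.base z)) := by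
    rw [Category.assoc]
    exact fibSqH.w
  have he1 : fibSqG.lift _ _ hw ≫ g.fiberι (g.base (e.base z)) =
      (e ≫ g).fiberι (g.base (e.base z)) ≫ e := fibSqG.lift_fst _ _ _
  have he2 : fibSqG.lift _ _ hw ≫ g.fiberToSpecResidueField (g.base (e.base z)) =
      (e ≫ g).fiberToSpecResidueField (g.base (e.base z)) := fibSqG.lift_snd _ _ _
  have sqE : IsPullback (fibSqG.lift _ _ hw) ((e ≫ g).fiberι (g.base (e.base z)))
      (g.fiberι (g.base (e.base z))) e := by
    refine IsPullback.of_right ?_ he1 fibSqG.flip
    rw [he2]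
    exact fibSqH.flip
  haveI : Etale (fibSqG.lift _ _ hw) := MorphismProperty.of_isPullback (P := @Etale) sqE.flip inferInstance
  have hpt : (fibSqG.lift _ _ hw).base ((e ≫ g).asFiber z) = g.asFiber (e.base z) := by
    apply (g.fiberι (g.base (e.base z))).isEmbedding.injective
    rw [Scheme.Hom.fiberι_asFiber, ← Scheme.Hom.comp_apply, he1, Scheme.Hom.comp_apply]
    congr 1
    exact Scheme.Hom.fiberι_asFiber (e ≫ g) z
  have key := Groth.Agent.Lib.Helper16.GeomRed.isGeomReducedAt_iff_of_etale
    (g.fiberToSpecResidueField (g.base (e.base z))) (fibSqG.lift _ _ hw) ((e ≫ g).asFiber z)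
  rw [hpt] at key
  show FBase.IsGeomReducedAt ((e ≫ g).fiberToSpecResidueField (g.base (e.base z))) ((e ≫ g).asFiber z) ↔ _
  rw [← he2]
  exact key

variable {S : Scheme.{u}}

theorem isOpen_geomRed {X Y : Sp S} (hX : IsAlgSpace X) (hY : IsAlgSpace Y) (f : X ⟶ Y)
    (hfl : LocP @Flat f) (hfp : LocP @LocallyOfFinitePresentation f) (huc : IsUnivClosedMor f) :
    IsOpen {y : Points Y | ∀ k : FieldPt Y, Points.mk k = y → GeomRedFibre f k} := by
  rw [Points.isOpen_iff]
  intro T a
  have sqXV : IsPullback (pullback.fst f a) (pullback.snd f a) f a := IsPullback.of_hasPullback f a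
  have hP : IsAlgSpace (pullback f a) :=
    isAlgSpace_of_isPullback hX hY.diag (IsAlgSpace.yon_obj T) sqXV
  obtain ⟨W, π, hπe, hπs⟩ := hP.atlas
  obtain ⟨g, hg⟩ := (yon S).map_surjective (π ≫ pullback.snd f a)
  haveI hgfl : Flat g.left :=
    (locP_of_isPullback etLocalST_flat hX hY sqXV hfl) π (𝟙 _) g hπe (repWith_id _ T)
      (by rw [Category.comp_id, hg])
  haveI hgfp : LocallyOfFinitePresentation g.left :=
    (locP_of_isPullback etLocalST_locallyOfFinitePresentation hX hY sqXV hfp) π (𝟙 _) g hπe
      (repWith_id _ T) (by rw [Category.comp_id, hg])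
  have hO : IsOpen (locus g.left) := isOpen_locus g.left
  -- the self fibre product of the atlas
  obtain ⟨R, d, fst, sqR⟩ := hπe.rep π
  obtain ⟨c, rfl⟩ := (yon S).map_surjective fst
  haveI : Etale d.left := hπe.property _ _ _ sqR
  haveI : Etale c.left := hπe.property _ _ _ sqR.flip
  have hcd : c ≫ g = d ≫ g := by
    apply (yon S).map_injective
    rw [Functor.map_comp, Functor.map_comp, hg, ← Category.assoc, ← Category.assoc, sqR.w]
  have hcd' : c.left ≫ g.left = d.left ≫ g.left := by
    rw [← Over.comp_left, ← Over.comp_left, hcd]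
  -- saturation
  have hsat : ∀ w w' : ↥W.left, Points.ofPt π w = Points.ofPt π w' →
      (w ∈ locus g.left ↔ w' ∈ locus g.left) := by
    intro w w' h
    obtain ⟨z, rfl, rfl⟩ := exists_point_of_isPullback_yon_yon sqR w w' h
    rw [← mem_locus_comp_iff c.left g.left z, ← mem_locus_comp_iff d.left g.left z, hcd']
  -- the preimage is the complement of the image of the bad locus
  have hset : Points.ofPt a ⁻¹' {y : Points Y | ∀ k : FieldPt Y, Points.mk k = y → GeomRedFibre f k} =
      (g.left.base '' (locus g.left)ᶜ)ᶜ := by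
    ext t
    simp only [Set.mem_preimage, Set.mem_ofPred_eq, Set.mem_compl_iff, Set.mem_image, not_exists, not_and]
    have h1 : (∀ k : FieldPt Y, Points.mk k = Points.ofPt a t → GeomRedFibre f k) ↔
        GeomRedFibre f (FieldPt.ofPt a t) := by
      constructor
      · intro h
        exact h (FieldPt.ofPt a t) rfl
      · intro h k hk
        exact geomRedFibre_of_rel hX hY f _ k (Points.mk_eq_mk_iff.1 hk.symm) h
    rw [h1, geomRedFibre_iff f a π hπe hπs g hg.symm t, geometricallyReduced_fibre_iff]
    constructor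
    · intro h w hw hwt
      exact hw (h w hwt)
    · intro h w hwt
      by_contra hw
      exact h w hw hwt
  rw [hset, isOpen_compl_iff]
  -- closedness of the image of the bad locus
  have hQ : IsClosed (Points.ofPt π '' (locus g.left)ᶜ) := by
    have : Points.ofPt π '' (locus g.left)ᶜ = (Points.ofPt π '' (locus g.left))ᶜ := by
      ext x
      constructor
      · rintro ⟨w', hw', rfl⟩ ⟨w, hw, hww'⟩
        exact hw' ((hsat w w' hww').1 hw)
      · intro hx
        obtain ⟨w, rfl⟩ := ofPt_surjective_of_surjective π hπs x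
        refine ⟨w, fun hw => hx ⟨w, hw, rfl⟩, rfl⟩
    rw [this, isClosed_compl_iff]
    exact isOpenMap_ofPt_of_etale π hπe _ hO
  have hcl : IsClosedMap (Points.map (pullback.snd f a)) :=
    huc (IsAlgSpace.yon_obj T) a (pullback.fst f a) (pullback.snd f a) sqXV
  have hQ2 := hcl _ hQ
  have hpre : g.left.base '' (locus g.left)ᶜ =
      Points.ofScheme T ⁻¹' (Points.map (pullback.snd f a) '' (Points.ofPt π '' (locus g.left)ᶜ)) := by
    have hcomp : ∀ w : ↥W.left, Points.map (pullback.snd f a) (Points.ofPt π w) =
        Points.ofScheme T (g.left.base w) := by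
      intro w
      rw [Points.map_ofPt, ← hg]
      have := ofPt_yon_map_comp g (𝟙 ((yon S).obj T)) w
      rw [Category.comp_id] at this
      exact this
    ext t
    constructor
    · rintro ⟨w, hw, rfl⟩
      exact ⟨Points.ofPt π w, ⟨w, hw, rfl⟩, hcomp w⟩
    · rintro ⟨q, ⟨w, hw, rfl⟩, hq⟩
      rw [hcomp w] at hq
      exact ⟨w, hw, ofScheme_injective T hq⟩
  rw [hpre]
  exact hQ2.preimage (Points.continuous_ofPt (𝟙 _))

end Groth.Agent.Lib.Helper9.GRFibOpen
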