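import Mathlib
import Groth.Prelude.Def_LefPen

/-! Points imposing independent conditions on forms of degree `d` form a Zariski-open generic set
(helper9). -/

set_option autoImplicit false
universe u
open MvPolynomial

namespace Groth.Agent.Lib.Helper9.GenPts

section polyfun
variable (k : Type u) [Field k] (r m : ℕ)

theorem polyFun_coord (i : Fin m) (l : Fin (r + 1)) :
    LefPen.IsPolyFun k (fun w : Fin m → (Fin (r + 1) → k) => w i l) := by
  apply Algebra.subset_adjoin
  exact ⟨((LinearMap.proj l : (Fin (r + 1) → k) →ₗ[k] k).comp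
    (LinearMap.proj i : (Fin m → (Fin (r + 1) → k)) →ₗ[k] (Fin (r + 1) → k))), rfl⟩

theorem polyFun_aeval (i : Fin m) (P : MvPolynomial (Fin (r + 1)) k) :
    LefPen.IsPolyFun k (fun w : Fin m → (Fin (r + 1) → k) => aeval (w i) P) := by
  induction P using MvPolynomial.induction_on with
  | C a =>
    have e : (fun w : Fin m → (Fin (r + 1) → k) =>
        aeval (w i) (C a : MvPolynomial (Fin (r + 1)) k)) =
        algebraMap k ((Fin m → (Fin (r + 1) → k)) → k) a := by
      funext w; simp
    rw [e]; exact Subalgebra.algebraMap_mem _ a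
  | add p q hp hq =>
    have e : (fun w : Fin m → (Fin (r + 1) → k) => aeval (w i) (p + q)) =
        (fun w => aeval (w i) p) + (fun w => aeval (w i) q) := by
      funext w; simp
    rw [e]; exact Subalgebra.add_mem _ hp hq
  | mul_X p l hp =>
    have e : (fun w : Fin m → (Fin (r + 1) → k) => aeval (w i) (p * X l)) =
        (fun w => aeval (w i) p) * (fun w => w i l) := by
      funext w; simp
    rw [e]; exact Subalgebra.mul_mem _ hp (polyFun_coord k r m i l)

theorem polyFun_det {n : ℕ}
    (F : Matrix (Fin n) (Fin n) ((Fin m → (Fin (r + 1) → k)) → k))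
    (hF : ∀ i j, LefPen.IsPolyFun k (F i j)) : LefPen.IsPolyFun k F.det := by
  unfold LefPen.IsPolyFun at *
  rw [Matrix.det_apply]
  apply Subalgebra.sum_mem
  intro σ _
  have hp : ∏ i, F (σ i) i ∈ Algebra.adjoin k
      (Set.range (fun l : Module.Dual k (Fin m → (Fin (r + 1) → k)) =>
        (l : (Fin m → (Fin (r + 1) → k)) → k))) :=
    Subalgebra.prod_mem _ (fun i _ => hF _ _)
  rcases Int.units_eq_one_or (Equiv.Perm.sign σ) with h | h
  · rw [h, one_smul]; exact hp
  · rw [h, Units.neg_smul, one_smul]; exact Subalgebra.neg_mem _ hp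

end polyfun

section main
variable (k : Type u) [Field k] (r d m : ℕ)

instance : Module.Finite k (LefPen.Form r k d) :=
  Module.Finite.iff_fg.mpr (MvPolynomial.homogeneousSubmodule_fg (Fin (r + 1)) k d)

/-- the number of coefficients -/
noncomputable abbrev NN : ℕ := Module.finrank k (LefPen.Form r k d)

/-- a basis of the forms -/
noncomputable def BB : Module.Basis (Fin (NN k r d)) k (LefPen.Form r k d) :=
  Module.finBasis k (LefPen.Form r k d)

/-- the set in question -/
def SS : Set (Fin m → (Fin (r + 1) → k)) :=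
  {x | ∀ G : LefPen.Form r k d, (∀ i : Fin m, MvPolynomial.aeval (x i) G.1 = 0) → G = 0}

/-- the matrix of values of the basis at the selected points -/
noncomputable def Amat (σ : Fin (NN k r d) → Fin m) (w : Fin m → (Fin (r + 1) → k)) :
    Matrix (Fin (NN k r d)) (Fin (NN k r d)) k :=
  Matrix.of fun i j => aeval (w (σ i)) (BB k r d j).1

theorem aeval_form (p : Fin (r + 1) → k) (G : LefPen.Form r k d) :
    aeval p G.1 = ∑ j, (BB k r d).repr G j * aeval p (BB k r d j).1 := by
  conv_lhs => rw [← (BB k r d).sum_repr G]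
  rw [Submodule.coe_sum, map_sum]
  refine Finset.sum_congr rfl (fun j _ => ?_)
  rw [Submodule.coe_smul, map_smul, smul_eq_mul]

theorem mem_of_det_ne_zero (σ : Fin (NN k r d) → Fin m) (w : Fin m → (Fin (r + 1) → k))
    (hdet : (Amat k r d m σ w).det ≠ 0) : w ∈ SS k r d m := by
  intro G hG
  have hc : (Amat k r d m σ w).mulVec (fun j => (BB k r d).repr G j) = 0 := by
    funext i
    have h1 := hG (σ i)
    rw [aeval_form] at h1
    rw [Pi.zero_apply, ← h1]
    simp only [Matrix.mulVec, dotProduct, Amat, Matrix.of_apply]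
    exact Finset.sum_congr rfl (fun j _ => mul_comm _ _)
  have h2 := Matrix.eq_zero_of_mulVec_eq_zero hdet hc
  have h3 : (BB k r d).repr G = 0 := by
    ext j
    exact congrFun h2 j
  exact (LinearEquiv.map_eq_zero_iff _).mp h3

theorem exists_det_ne_zero (w : Fin m → (Fin (r + 1) → k)) (hw : w ∈ SS k r d m) :
    ∃ σ : Fin (NN k r d) → Fin m, (Amat k r d m σ w).det ≠ 0 := by
  classical
  set ρ : Fin m → (Fin (NN k r d) → k) := fun i j => aeval (w i) (BB k r d j).1 with hρ
  have hspan : Submodule.span k (Set.range ρ) = ⊤ := by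
    by_contra h
    obtain ⟨f, hf0, hle⟩ := Submodule.exists_le_ker_of_lt_top _ (lt_top_iff_ne_top.mpr h)
    set c : Fin (NN k r d) → k := fun j => f (fun j' => if j = j' then 1 else 0) with hc
    have hfx : ∀ x : Fin (NN k r d) → k, f x = ∑ j, x j * c j := by
      intro x
      rw [LinearMap.pi_apply_eq_sum_univ f x]
      rfl
    set G : LefPen.Form r k d := ∑ j, c j • BB k r d j with hG
    have hrepr : ∀ j, (BB k r d).repr G j = c j := by
      intro j
      rw [hG, map_sum, Finsupp.finsetSum_apply]
      simp only [map_smul, Module.Basis.repr_self, Finsupp.smul_apply, smul_eq_mul,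
        Finsupp.single_apply, mul_ite, mul_one, mul_zero, Finset.sum_ite_eq', Finset.mem_univ,
        if_true]
    have hG0 : G = 0 := by
      apply hw
      intro i
      rw [aeval_form]
      have h1 : f (ρ i) = 0 := hle (Submodule.subset_span ⟨i, rfl⟩)
      rw [hfx] at h1
      rw [← h1]
      refine Finset.sum_congr rfl (fun j _ => ?_)
      rw [hrepr j, mul_comm]
    have hc0 : ∀ j, c j = 0 := by
      intro j
      rw [← hrepr j, hG0, map_zero]
      rfl
    apply hf0
    apply LinearMap.ext
    intro x
    rw [hfx]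
    simp [hc0]
  obtain ⟨g, hg_mem, _, hg_li⟩ := Submodule.exists_fun_fin_finrank_span_eq k (Set.range ρ)
  have hN : Module.finrank k (Submodule.span k (Set.range ρ)) = NN k r d := by
    rw [hspan, finrank_top, Module.finrank_fin_fun]
  set g' : Fin (NN k r d) → (Fin (NN k r d) → k) := fun i => g (Fin.cast hN.symm i) with hg'
  have hli' : LinearIndependent k g' :=
    hg_li.comp _ (Fin.cast_injective hN.symm)
  have hmem' : ∀ i, ∃ s : Fin m, ρ s = g' i := fun i => hg_mem (Fin.cast hN.symm i)
  choose σ hσ using hmem'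
  refine ⟨σ, ?_⟩
  have hrow : (Amat k r d m σ w).row = g' := by
    funext i j
    have := congrFun (hσ i) j
    rw [← this]
    rfl
  have hunit : IsUnit (Amat k r d m σ w) := by
    rw [← Matrix.linearIndependent_rows_iff_isUnit, hrow]
    exact hli'
  exact ((Matrix.isUnit_iff_isUnit_det _).mp hunit).ne_zero

/-- the polynomial function `w ↦ det (Amat σ w)` -/
noncomputable def detFun (σ : Fin (NN k r d) → Fin m) : (Fin m → (Fin (r + 1) → k)) → k :=
  fun w => (Amat k r d m σ w).det

theorem polyFun_detFun (σ : Fin (NN k r d) → Fin m) : LefPen.IsPolyFun k (detFun k r d m σ) := by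
  set F : Matrix (Fin (NN k r d)) (Fin (NN k r d)) ((Fin m → (Fin (r + 1) → k)) → k) :=
    Matrix.of fun i j => fun w => aeval (w (σ i)) (BB k r d j).1 with hF
  have h1 : LefPen.IsPolyFun k F.det :=
    polyFun_det k r m F (fun i j => polyFun_aeval k r m (σ i) _)
  have h2 : F.det = detFun k r d m σ := by
    funext w
    have h3 := RingHom.map_det (Pi.evalRingHom (fun _ : Fin m → (Fin (r + 1) → k) => k) w) F
    rw [Pi.evalRingHom_apply] at h3
    rw [h3]
    rfl
  rw [← h2]; exact h1

theorem isZOpen_SS : LefPen.IsZOpen k (SS k r d m) := by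
  intro v hv
  obtain ⟨σ, hσ⟩ := exists_det_ne_zero k r d m v hv
  exact ⟨detFun k r d m σ, polyFun_detFun k r d m σ, hσ,
    fun w hw => mem_of_det_ne_zero k r d m σ w hw⟩

/-- the number of coefficients is at most the binomial coefficient -/
theorem NN_le : NN k r d ≤ Nat.choose (r + d) d := by
  classical
  set T : Finset (Fin (r + 1) →₀ ℕ) := (Finset.univ : Finset (Fin (r + 1))).finsuppAntidiag d
    with hT
  have hcard : T.card = Nat.choose (r + d) d := by
    rw [hT, Finset.card_finsuppAntidiag_nat_eq_choose, Finset.card_univ, Fintype.card_fin]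
    congr 1
    omega
  set bfam : ↥T → MvPolynomial (Fin (r + 1)) k := fun s => monomial s.1 (1 : k) with hbfam
  have hle : MvPolynomial.homogeneousSubmodule (Fin (r + 1)) k d ≤
      Submodule.span k (Set.range bfam) := by
    intro p hp
    rw [MvPolynomial.mem_homogeneousSubmodule] at hp
    rw [← MvPolynomial.support_sum_monomial_coeff p]
    apply Submodule.sum_mem
    intro s hs
    have hs' : coeff s p ≠ 0 := MvPolynomial.mem_support_iff.mp hs
    have hdeg : s.degree = d := by
      rw [Finsupp.degree_eq_weight_one]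
      exact hp hs'
    have hsT : s ∈ T := by
      rw [hT, Finset.mem_finsuppAntidiag]
      refine ⟨?_, Finset.subset_univ _⟩
      rw [← hdeg, Finsupp.degree_eq_sum]
    have e : monomial s (coeff s p) = coeff s p • monomial s (1 : k) := by
      rw [smul_monomial, smul_eq_mul, mul_one]
    rw [e]
    apply Submodule.smul_mem
    apply Submodule.subset_span
    exact ⟨⟨s, hsT⟩, rfl⟩
  haveI : Module.Finite k (Submodule.span k (Set.range bfam)) :=
    FiniteDimensional.span_of_finite k (Set.finite_range bfam)
  have h1 : NN k r d ≤ Module.finrank k (Submodule.span k (Set.range bfam)) :=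
    Submodule.finrank_mono hle
  have h2 : Module.finrank k (Submodule.span k (Set.range bfam)) ≤ Fintype.card ↥T :=
    finrank_range_le_card bfam
  rw [Fintype.card_coe, hcard] at h2
  exact h1.trans h2

theorem nonempty_SS [Infinite k] (hm : Nat.choose (r + d) d ≤ m) : ∃ v, v ∈ SS k r d m := by
  classical
  set ev : (Fin (r + 1) → k) → Module.Dual k (LefPen.Form r k d) := fun p =>
    (aeval p : MvPolynomial (Fin (r + 1)) k →ₐ[k] k).toLinearMap ∘ₗ
      (MvPolynomial.homogeneousSubmodule (Fin (r + 1)) k d).subtype with hev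
  have hevp : ∀ p (G : LefPen.Form r k d), ev p G = aeval p G.1 := fun p G => rfl
  set U : Submodule k (Module.Dual k (LefPen.Form r k d)) := Submodule.span k (Set.range ev)
    with hU
  have hco : U.dualCoannihilator = ⊥ := by
    rw [eq_bot_iff]
    intro G hG
    rw [Submodule.mem_dualCoannihilator] at hG
    rw [Submodule.mem_bot]
    apply Subtype.ext
    apply MvPolynomial.funext
    intro x
    have h1 := hG (ev x) (Submodule.subset_span ⟨x, rfl⟩)
    rw [hevp] at h1
    rw [← MvPolynomial.aeval_eq_eval]
    show aeval x G.1 = aeval x (0 : MvPolynomial (Fin (r + 1)) k)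
    rw [map_zero]; exact h1
  have hUtop : U = ⊤ := by
    have h1 := Subspace.dualCoannihilator_dualAnnihilator_eq (W := U)
    rw [hco, Submodule.dualAnnihilator_bot] at h1
    exact h1.symm
  obtain ⟨g, hg_mem, hg_span, _⟩ := Submodule.exists_fun_fin_finrank_span_eq k (Set.range ev)
  have hn₀ : Module.finrank k (Submodule.span k (Set.range ev)) ≤ m := by
    show Module.finrank k U ≤ m
    rw [hUtop, finrank_top, Subspace.dual_finrank_eq]
    exact (NN_le k r d).trans hm
  obtain ⟨n₀, g, hg_mem, hg_span, hn₀⟩ : ∃ (n₀ : ℕ)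
      (g : Fin n₀ → Module.Dual k (LefPen.Form r k d)), (∀ i, g i ∈ Set.range ev) ∧
      Submodule.span k (Set.range g) = Submodule.span k (Set.range ev) ∧ n₀ ≤ m :=
    ⟨_, g, hg_mem, hg_span, hn₀⟩
  choose p hp using hg_mem
  refine ⟨fun i => if h : i.val < n₀ then p ⟨i.val, h⟩ else 0, ?_⟩
  intro G hG
  have hg0 : ∀ t : Fin n₀, g t G = 0 := by
    intro t
    have h1 := hG ⟨t.val, lt_of_lt_of_le t.isLt hn₀⟩
    simp only [t.isLt, dif_pos] at h1
    rw [← hp t, hevp]
    exact h1
  have hall : ∀ φ : Module.Dual k (LefPen.Form r k d), φ G = 0 := by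
    intro φ
    have hφ : φ ∈ Submodule.span k (Set.range g) := by
      rw [hg_span]
      show φ ∈ U
      rw [hUtop]; exact Submodule.mem_top
    refine Submodule.span_induction (p := fun φ _ => φ G = 0) ?_ ?_ ?_ ?_ hφ
    · rintro _ ⟨t, rfl⟩
      exact hg0 t
    · rfl
    · intro a b _ _ ha hb
      rw [LinearMap.add_apply, ha, hb, add_zero]
    · intro a b _ hb
      rw [LinearMap.smul_apply, hb, smul_zero]
  exact (Module.forall_dual_apply_eq_zero_iff k G).mp hall

theorem isGeneric_SS [Infinite k] (hm : Nat.choose (r + d) d ≤ m) :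
    LefPen.IsGeneric k (SS k r d m) := by
  obtain ⟨v, hv⟩ := nonempty_SS k r d m hm
  obtain ⟨σ, hσ⟩ := exists_det_ne_zero k r d m v hv
  exact ⟨detFun k r d m σ, polyFun_detFun k r d m σ, ⟨v, hσ⟩,
    fun w hw => mem_of_det_ne_zero k r d m σ w hw⟩

end main

end Groth.Agent.Lib.Helper9.GenPts
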