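import Mathlib

/-!
# Geometrically irreducible polynomials (helper9)
-/

set_option autoImplicit false
open CategoryTheory AlgebraicGeometry TensorProduct
universe u

namespace Groth.Agent.Lib.Helper9.GeomIrr

variable {σ : Type*}

/-- Non-units among nonzero polynomials over a field have a nonzero coefficient at a nonzero
monomial. -/
lemma exists_coeff_ne_zero_of_not_isUnit {K : Type*} [Field K] (G : MvPolynomial σ K)
    (h0 : G ≠ 0) (hG : ¬ IsUnit G) : ∃ m : σ →₀ ℕ, m ≠ 0 ∧ MvPolynomial.coeff m G ≠ 0 := by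
  classical
  by_contra hcon
  push Not at hcon
  apply hG
  have hG' : G = MvPolynomial.C (MvPolynomial.coeff 0 G) := by
    refine MvPolynomial.ext _ _ fun m => ?_
    by_cases hm : m = 0
    · subst hm; simp
    · rw [hcon m hm, MvPolynomial.coeff_C, if_neg (Ne.symm hm)]
  rw [hG']
  refine (MvPolynomial.isUnit_iff_eq_C_of_isReduced).mpr ⟨_, ?_, rfl⟩
  rw [isUnit_iff_ne_zero]
  intro h
  apply h0
  rw [hG', h, map_zero]

lemma not_isUnit_of_coeff_ne_zero {K : Type*} [Field K] (G : MvPolynomial σ K)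
    (m : σ →₀ ℕ) (hm : m ≠ 0) (h : MvPolynomial.coeff m G ≠ 0) : ¬ IsUnit G := by
  classical
  intro hu
  obtain ⟨c, -, rfl⟩ := (MvPolynomial.isUnit_iff_eq_C_of_isReduced).mp hu
  rw [MvPolynomial.coeff_C, if_neg (Ne.symm hm)] at h
  exact h rfl

/-- Irreducibility descends along field extensions. -/
lemma irreducible_of_irreducible_map {K L : Type*} [Field K] [Field L] (φ : K →+* L)
    (G : MvPolynomial σ K) (h : Irreducible (MvPolynomial.map φ G)) : Irreducible G := by
  classical
  have hinj : Function.Injective (MvPolynomial.map (σ := σ) φ) :=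
    MvPolynomial.map_injective φ φ.injective
  refine ⟨fun hu => h.not_isUnit (hu.map (MvPolynomial.map φ)), fun A B hAB => ?_⟩
  have h1 : MvPolynomial.map φ G = MvPolynomial.map φ A * MvPolynomial.map φ B := by
    rw [hAB, map_mul]
  have key : ∀ P : MvPolynomial σ K, IsUnit (MvPolynomial.map φ P) → IsUnit P := by
    intro P hP
    by_contra hnu
    have hP0 : P ≠ 0 := by
      rintro rfl
      rw [map_zero] at hP
      exact not_isUnit_zero hP
    obtain ⟨m, hm, hc⟩ := exists_coeff_ne_zero_of_not_isUnit P hP0 hnu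
    refine not_isUnit_of_coeff_ne_zero (MvPolynomial.map φ P) m hm ?_ hP
    rw [MvPolynomial.coeff_map]
    exact fun h0 => hc (φ.injective (by rw [h0, map_zero]))
  rcases h.isUnit_or_isUnit h1 with hA | hB
  · exact Or.inl (key A hA)
  · exact Or.inr (key B hB)

/-- A finitely generated domain over an algebraically closed field has a point avoiding the zero
locus of a given nonzero element. -/
lemma exists_algHom_ne_zero {Ω : Type*} [Field Ω] [IsAlgClosed Ω] {B : Type*} [CommRing B]
    [IsDomain B] [Algebra Ω B] [Algebra.FiniteType Ω B] (b : B) (hb : b ≠ 0) :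
    ∃ ψ : B →ₐ[Ω] Ω, ψ b ≠ 0 := by
  classical
  have hJ : IsJacobsonRing B := isJacobsonRing_of_finiteType (A := Ω) (B := B)
  have hrad : (⊥ : Ideal B).IsRadical :=
    Ideal.radical_eq_iff.mp (Ideal.radical_bot_of_isReduced)
  have hjac : (⊥ : Ideal B).jacobson = ⊥ := IsJacobsonRing.out hJ hrad
  have hbn : b ∉ (⊥ : Ideal B).jacobson := by
    rw [hjac]; simpa using hb
  rw [Ideal.jacobson, Ideal.mem_sInf] at hbn
  push Not at hbn
  obtain ⟨𝔪, ⟨-, hmax⟩, hbm⟩ := hbn
  letI : Field (B ⧸ 𝔪) := Ideal.Quotient.field 𝔪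
  haveI : Algebra.FiniteType Ω (B ⧸ 𝔪) :=
    Algebra.FiniteType.of_surjective (Ideal.Quotient.mkₐ Ω 𝔪) (Ideal.Quotient.mkₐ_surjective Ω 𝔪)
  haveI : Module.Finite Ω (B ⧸ 𝔪) := finite_of_finite_type_of_isJacobsonRing Ω (B ⧸ 𝔪)
  haveI : Algebra.IsIntegral Ω (B ⧸ 𝔪) := Algebra.IsIntegral.of_finite Ω (B ⧸ 𝔪)
  have hbij : Function.Bijective (algebraMap Ω (B ⧸ 𝔪)) :=
    IsAlgClosed.algebraMap_bijective_of_isIntegral
  let e : Ω ≃ₐ[Ω] (B ⧸ 𝔪) := AlgEquiv.ofBijective (Algebra.ofId Ω (B ⧸ 𝔪)) hbij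
  refine ⟨e.symm.toAlgHom.comp (Ideal.Quotient.mkₐ Ω 𝔪), ?_⟩
  intro h0
  apply hbm
  have : (Ideal.Quotient.mkₐ Ω 𝔪) b = 0 := by
    have := congrArg e h0
    simpa using this
  rwa [Ideal.Quotient.mkₐ_eq_mk, Ideal.Quotient.eq_zero_iff_mem] at this

/-- An irreducible polynomial over an algebraically closed field stays irreducible over any
extension field. -/
theorem irreducible_map_of_isAlgClosed {Ω L : Type*} [Field Ω] [IsAlgClosed Ω] [Field L]
    [Algebra Ω L] (F : MvPolynomial σ Ω) (hF : Irreducible F) :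
    Irreducible (MvPolynomial.map (algebraMap Ω L) F) := by
  classical
  have hinjL : Function.Injective (MvPolynomial.map (σ := σ) (algebraMap Ω L)) :=
    MvPolynomial.map_injective _ (algebraMap Ω L).injective
  have hF0 : F ≠ 0 := hF.ne_zero
  have hFL0 : MvPolynomial.map (algebraMap Ω L) F ≠ 0 := fun h =>
    hF0 (hinjL (by rw [h, map_zero]))
  refine ⟨fun hu => ?_, fun G H hGH => ?_⟩
  · -- units
    by_contra _
    obtain ⟨m, hm, hc⟩ := exists_coeff_ne_zero_of_not_isUnit F hF0 hF.not_isUnit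
    refine not_isUnit_of_coeff_ne_zero _ m hm ?_ hu
    rw [MvPolynomial.coeff_map]
    exact fun h0 => hc ((algebraMap Ω L).injective (by rw [h0, map_zero]))
  · by_contra hcon
    push Not at hcon
    obtain ⟨hGu, hHu⟩ := hcon
    have hG0 : G ≠ 0 := by
      rintro rfl; rw [zero_mul] at hGH; exact hFL0 hGH
    have hH0 : H ≠ 0 := by
      rintro rfl; rw [mul_zero] at hGH; exact hFL0 hGH
    obtain ⟨m, hm, hcG⟩ := exists_coeff_ne_zero_of_not_isUnit G hG0 hGu
    obtain ⟨m', hm', hcH⟩ := exists_coeff_ne_zero_of_not_isUnit H hH0 hHu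
    -- the subalgebra generated by the coefficients
    let s : Finset L := G.coeffs ∪ H.coeffs
    let B : Subalgebra Ω L := Algebra.adjoin Ω (↑s : Set L)
    haveI : Algebra.FiniteType Ω B :=
      (Subalgebra.fg_iff_finiteType B).mp (Subalgebra.fg_adjoin_finset s)
    have hGr : G ∈ Set.range (MvPolynomial.map (σ := σ) (B.val : B →+* L)) := by
      rw [MvPolynomial.mem_range_map_iff_coeffs_subset]
      intro c hc
      exact ⟨⟨c, Algebra.subset_adjoin (Finset.mem_coe.mpr
        (Finset.mem_union_left _ (Finset.mem_coe.mp hc)))⟩, rfl⟩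
    have hHr : H ∈ Set.range (MvPolynomial.map (σ := σ) (B.val : B →+* L)) := by
      rw [MvPolynomial.mem_range_map_iff_coeffs_subset]
      intro c hc
      exact ⟨⟨c, Algebra.subset_adjoin (Finset.mem_coe.mpr
        (Finset.mem_union_right _ (Finset.mem_coe.mp hc)))⟩, rfl⟩
    obtain ⟨G', hG'⟩ := hGr
    obtain ⟨H', hH'⟩ := hHr
    have hinjB : Function.Injective (MvPolynomial.map (σ := σ) (B.val : B →+* L)) :=
      MvPolynomial.map_injective _ Subtype.val_injective
    have hFB : MvPolynomial.map (algebraMap Ω B) F = G' * H' := by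
      apply hinjB
      rw [map_mul, hG', hH', ← hGH, MvPolynomial.map_map]
      rfl
    rw [← hG', MvPolynomial.coeff_map] at hcG
    rw [← hH', MvPolynomial.coeff_map] at hcH
    have hcG' : MvPolynomial.coeff m G' ≠ 0 := fun h => hcG (by rw [h, map_zero])
    have hcH' : MvPolynomial.coeff m' H' ≠ 0 := fun h => hcH (by rw [h, map_zero])
    obtain ⟨ψ, hψ⟩ := exists_algHom_ne_zero (Ω := Ω)
      (MvPolynomial.coeff m G' * MvPolynomial.coeff m' H') (mul_ne_zero hcG' hcH')
    rw [map_mul] at hψ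
    have hFψ : F = MvPolynomial.map (ψ : B →+* Ω) G' * MvPolynomial.map (ψ : B →+* Ω) H' := by
      rw [← map_mul, ← hFB, MvPolynomial.map_map]
      have : (ψ : B →+* Ω).comp (algebraMap Ω B) = RingHom.id Ω := by
        ext x; simp
      rw [this, MvPolynomial.map_id]
    rcases hF.isUnit_or_isUnit hFψ with h1 | h2
    · refine not_isUnit_of_coeff_ne_zero _ m hm ?_ h1
      rw [MvPolynomial.coeff_map]
      exact left_ne_zero_of_mul hψ
    · refine not_isUnit_of_coeff_ne_zero _ m' hm' ?_ h2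
      rw [MvPolynomial.coeff_map]
      exact right_ne_zero_of_mul hψ

/-- Two field extensions of `k` embed in a common one. -/
lemma exists_common_extension (k K Ω : Type u) [Field k] [Field K] [Field Ω] [Algebra k K]
    [Algebra k Ω] : ∃ (L : Type u) (_ : Field L) (f : K →+* L) (g : Ω →+* L),
      f.comp (algebraMap k K) = g.comp (algebraMap k Ω) := by
  classical
  haveI : Nontrivial (K ⊗[k] Ω) := inferInstance
  obtain ⟨𝔪, hm⟩ := Ideal.exists_maximal (K ⊗[k] Ω)
  letI : Field ((K ⊗[k] Ω) ⧸ 𝔪) := Ideal.Quotient.field 𝔪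
  refine ⟨(K ⊗[k] Ω) ⧸ 𝔪, inferInstance,
    (Ideal.Quotient.mk 𝔪).comp (Algebra.TensorProduct.includeLeftRingHom),
    (Ideal.Quotient.mk 𝔪).comp (Algebra.TensorProduct.includeRight (R := k) (A := K) (B := Ω) :
      Ω →+* K ⊗[k] Ω), ?_⟩
  ext x
  simp only [RingHom.coe_comp, Function.comp_apply,
    Algebra.TensorProduct.includeLeftRingHom_apply, AlgHom.coe_toRingHom, RingHom.coe_coe,
    Algebra.TensorProduct.includeRight_apply]
  congr 1
  rw [Algebra.algebraMap_eq_smul_one, Algebra.algebraMap_eq_smul_one, TensorProduct.smul_tmul]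

/-- (c) ⇒ (b). -/
theorem irreducible_map_of_irreducible_map_algClosed {k : Type u} [Field k] (Ω : Type u) [Field Ω]
    [Algebra k Ω] [IsAlgClosed Ω] (F : MvPolynomial σ k)
    (h : Irreducible (MvPolynomial.map (algebraMap k Ω) F))
    (K : Type u) [Field K] [Algebra k K] : Irreducible (MvPolynomial.map (algebraMap k K) F) := by
  obtain ⟨L, _, f, g, hfg⟩ := exists_common_extension k K Ω
  letI : Algebra Ω L := g.toAlgebra
  have h1 := irreducible_map_of_isAlgClosed (L := L) _ h
  apply irreducible_of_irreducible_map f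
  rw [MvPolynomial.map_map, hfg, ← MvPolynomial.map_map]
  exact h1


/-- `(k[T]/(F)) ⊗ₖ K` is a domain iff `F` is irreducible over `K`. -/
theorem isDomain_tensor_iff {k K : Type u} [Field k] [Field K] [Algebra k K] {n : ℕ}
    (F : MvPolynomial (Fin n) k) (hF : F ≠ 0) :
    IsDomain ((MvPolynomial (Fin n) k ⧸ Ideal.span ({F} : Set (MvPolynomial (Fin n) k))) ⊗[k] K) ↔
      Irreducible (MvPolynomial.map (algebraMap k K) F) := by
  classical
  set I : Ideal (MvPolynomial (Fin n) k) := Ideal.span {F} with hI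
  let e1 : (MvPolynomial (Fin n) k ⧸ I) ⊗[k] K ≃ₐ[k] K ⊗[k] (MvPolynomial (Fin n) k ⧸ I) :=
    Algebra.TensorProduct.comm k _ K
  let e2 := Algebra.TensorProduct.tensorQuotientEquiv (R := k) K (MvPolynomial (Fin n) k) K I
  let e := MvPolynomial.algebraTensorAlgEquiv (σ := Fin n) k K
  have hJ : (I.map (Algebra.TensorProduct.includeRight (R := k) (A := K)
      (B := MvPolynomial (Fin n) k))).map (e : K ⊗[k] MvPolynomial (Fin n) k →+*
        MvPolynomial (Fin n) K) = Ideal.span {MvPolynomial.map (algebraMap k K) F} := by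
    rw [hI, Ideal.map_span, Ideal.map_span, Set.image_singleton, Set.image_singleton]
    congr 2
    simp [e, MvPolynomial.algebraTensorAlgEquiv_tmul]
  let e3 := Ideal.quotientEquiv _ _ (e : K ⊗[k] MvPolynomial (Fin n) k ≃+*
        MvPolynomial (Fin n) K) hJ.symm
  let E : ((MvPolynomial (Fin n) k ⧸ I) ⊗[k] K) ≃+*
      (MvPolynomial (Fin n) K ⧸ Ideal.span {MvPolynomial.map (algebraMap k K) F}) :=
    (e1.toRingEquiv.trans e2.toRingEquiv).trans e3
  have hFK : MvPolynomial.map (algebraMap k K) F ≠ 0 := fun h =>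
    hF (MvPolynomial.map_injective _ (algebraMap k K).injective (by rw [h, map_zero]))
  have h1 : IsDomain ((MvPolynomial (Fin n) k ⧸ I) ⊗[k] K) ↔
      IsDomain (MvPolynomial (Fin n) K ⧸ Ideal.span {MvPolynomial.map (algebraMap k K) F}) :=
    MulEquiv.isDomain_iff E.toMulEquiv
  rw [h1, Ideal.Quotient.isDomain_iff_prime, Ideal.span_singleton_prime hFK,
    UniqueFactorizationMonoid.irreducible_iff_prime]

instance : ObjectProperty.IsClosedUnderIsomorphisms (C := Scheme.{u}) @IsIntegral :=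
  ⟨fun e h => @IsIntegral.of_isIso _ _ h e.hom _⟩

/-- (a) ⇔ (b). -/
theorem geometricallyIntegral_iff_forall_irreducible {k : Type u} [Field k] {n : ℕ}
    (F : MvPolynomial (Fin n) k) (hF : F ≠ 0) :
    GeometricallyIntegral (Spec.map (CommRingCat.ofHom
        (algebraMap k (MvPolynomial (Fin n) k ⧸ Ideal.span ({F} : Set (MvPolynomial (Fin n) k)))))) ↔
      ∀ (K : Type u) [Field K] [Algebra k K], Irreducible (MvPolynomial.map (algebraMap k K) F) := by
  rw [geometricallyIntegral_iff, geometrically_iff_of_commRing_of_isClosedUnderIsomorphisms]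
  refine forall_congr' fun K => forall_congr' fun _ => forall_congr' fun _ => ?_
  rw [← isDomain_tensor_iff F hF]
  have hiso := pullbackSpecIso k
    (MvPolynomial (Fin n) k ⧸ Ideal.span ({F} : Set (MvPolynomial (Fin n) k))) K
  refine Iff.trans ?_ (affine_isIntegral_iff (CommRingCat.of
    ((MvPolynomial (Fin n) k ⧸ Ideal.span ({F} : Set (MvPolynomial (Fin n) k))) ⊗[k] K)))
  exact ⟨fun h => IsIntegral.of_isIso hiso.hom, fun h => IsIntegral.of_isIso hiso.inv⟩

theorem main {k : Type u} [Field k] (Ω : Type u) [Field Ω] [Algebra k Ω]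
    [IsAlgClosed Ω] {n : ℕ} (F : MvPolynomial (Fin n) k) (hF : 0 < F.totalDegree) :
    List.TFAE [
      GeometricallyIntegral (Spec.map (CommRingCat.ofHom
        (algebraMap k (MvPolynomial (Fin n) k ⧸ Ideal.span ({F} : Set (MvPolynomial (Fin n) k)))))),
      ∀ (K : Type u) [Field K] [Algebra k K], Irreducible (MvPolynomial.map (algebraMap k K) F),
      Irreducible (MvPolynomial.map (algebraMap k Ω) F)] := by
  have hF0 : F ≠ 0 := by
    rintro rfl
    simp at hF
  tfae_have 1 ↔ 2 := geometricallyIntegral_iff_forall_irreducible F hF0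
  tfae_have 2 → 3 := fun h => h Ω
  tfae_have 3 → 2 := fun h K _ _ => irreducible_map_of_irreducible_map_algClosed Ω F h K
  tfae_finish

end Groth.Agent.Lib.Helper9.GeomIrr
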