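import Mathlib

/-!
# The group law on the punctured line (helper9)
-/

set_option autoImplicit false
open LaurentPolynomial TensorProduct
universe u

namespace Groth.Agent.Lib.Helper9.GmLaw

section algebra

/-- Units of a Laurent polynomial ring over a domain are monomials. -/
theorem laurent_unit {R : Type*} [CommRing R] [IsDomain R] (w : R[T;T⁻¹]) (hw : IsUnit w) :
    ∃ (r : R) (n : ℤ), IsUnit r ∧ w = C r * T n := by
  obtain ⟨v, hv⟩ := hw.exists_right_inv
  obtain ⟨n, p, hp⟩ := LaurentPolynomial.exists_T_pow w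
  obtain ⟨m, q, hq⟩ := LaurentPolynomial.exists_T_pow v
  have hpq : p * q = Polynomial.X ^ (n + m) := by
    apply Polynomial.toLaurent_injective
    rw [map_mul, hp, hq, Polynomial.toLaurent_X_pow]
    calc w * T n * (v * T m) = (w * v) * (T n * T m) := by ring
      _ = T ((n + m : ℕ) : ℤ) := by rw [hv, one_mul, ← T_add]; push_cast; rfl
  obtain ⟨i, -, hassoc⟩ := (dvd_prime_pow Polynomial.prime_X _).mp ⟨q, hpq.symm⟩
  obtain ⟨z, hz⟩ := hassoc.symm
  obtain ⟨r, hr, hrz⟩ := Polynomial.isUnit_iff.mp z.isUnit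
  refine ⟨r, (i : ℤ) - n, hr, ?_⟩
  have h1 : w * T n = T i * C r := by
    rw [← hp, ← hz, ← hrz, map_mul, Polynomial.toLaurent_X_pow, Polynomial.toLaurent_C]
  calc w = w * T n * T (-n) := by rw [mul_T_assoc, add_neg_cancel, T_zero, mul_one]
    _ = C r * T (i - n) := by rw [h1, T_sub]; ring

theorem tensor_unit {k : Type*} [Field k] (w : k[T;T⁻¹] ⊗[k] k[T;T⁻¹]) (hw : IsUnit w) :
    ∃ (c : k) (a b : ℤ), c ≠ 0 ∧ w = (C c * T a) ⊗ₜ[k] (T b) := by
  let Φ := AddMonoidAlgebra.scalarTensorEquiv (M := ℤ) k (k[T;T⁻¹])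
  have h1 : IsUnit (Φ w) := hw.map Φ
  obtain ⟨r, b, hr, hrb⟩ := laurent_unit (R := k[T;T⁻¹]) (Φ w) h1
  obtain ⟨c, a, hc, hca⟩ := laurent_unit r hr
  refine ⟨c, a, b, hc.ne_zero, ?_⟩
  apply Φ.injective
  rw [hrb, ← single_eq_C_mul_T, ← Φ.apply_symm_apply (AddMonoidAlgebra.single b r)]
  congr 1
  rw [AddMonoidAlgebra.scalarTensorEquiv_symm_single, hca]
  rfl

theorem single_inj' {k : Type*} [Field k] {c : k} {a b : ℤ} (h : C c * T a = (T b : k[T;T⁻¹])) :
    c = 1 ∧ a = b := by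
  have h3 := congrArg (fun f : k[T;T⁻¹] => f.coeff b) h
  simp only [T_apply, if_true] at h3
  rw [← single_eq_C_mul_T, AddMonoidAlgebra.coeff_single, Finsupp.single_apply] at h3
  by_cases hab : a = b
  · rw [if_pos hab] at h3
    exact ⟨h3, hab⟩
  · rw [if_neg hab] at h3
    exact absurd h3.symm one_ne_zero

theorem comul_T {k : Type*} [Field k] (Δ : k[T;T⁻¹] →+* k[T;T⁻¹] ⊗[k] k[T;T⁻¹])
    (ε : k[T;T⁻¹] →+* k[T;T⁻¹]) (r₁ r₂ : k[T;T⁻¹] ⊗[k] k[T;T⁻¹] →+* k[T;T⁻¹])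
    (h1l : ∀ x, r₁ (x ⊗ₜ 1) = x) (h1r : ∀ y, r₁ (1 ⊗ₜ y) = ε y)
    (h2l : ∀ x, r₂ (x ⊗ₜ 1) = ε x) (h2r : ∀ y, r₂ (1 ⊗ₜ y) = y)
    (hε : ε (T 1) = 1)
    (h1 : r₁ (Δ (T 1)) = T 1) (h2 : r₂ (Δ (T 1)) = T 1) :
    Δ (T 1) = T 1 ⊗ₜ T 1 := by
  have hεT : ∀ b : ℤ, ε (T b) = 1 := by
    have hnat : ∀ n : ℕ, ε (T (n : ℤ)) = 1 := by
      intro n
      have : (T (n : ℤ) : k[T;T⁻¹]) = T 1 ^ n := by rw [T_pow, mul_one]
      rw [this, map_pow, hε, one_pow]
    intro b
    rcases Int.eq_nat_or_neg b with ⟨n, rfl | rfl⟩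
    · exact hnat n
    · have h : ε (T (-(n : ℤ))) * ε (T (n : ℤ)) = 1 := by
        rw [← map_mul, ← T_add, neg_add_cancel, T_zero, map_one]
      rwa [hnat n, mul_one] at h
  obtain ⟨c, a, b, hc, hw⟩ := tensor_unit (Δ (T 1)) ((isUnit_T 1).map Δ)
  have hsplit : ∀ (x y : k[T;T⁻¹]), (x ⊗ₜ[k] y : k[T;T⁻¹] ⊗[k] k[T;T⁻¹]) =
      (x ⊗ₜ 1) * (1 ⊗ₜ y) := by
    intro x y
    rw [Algebra.TensorProduct.tmul_mul_tmul, mul_one, one_mul]
  rw [hw, hsplit, map_mul, h1l, h1r, hεT, mul_one] at h1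
  obtain ⟨hc1, ha1⟩ := single_inj' h1
  rw [hw, hsplit, map_mul, h2l, h2r, h1, hε, one_mul] at h2
  have hb1 : b = 1 := by
    have : C (1 : k) * T b = (T 1 : k[T;T⁻¹]) := by rw [map_one, one_mul, h2]
    exact (single_inj' this).2
  rw [hw, h1, hb1]

end algebra

section scheme

open CategoryTheory MonoidalCategory CartesianMonoidalCategory MonObj GrpObj AlgebraicGeometry
  CategoryTheory.Limits

variable (k : Type u) [Field k]

/-- The `T`-coordinate of a morphism to the punctured line. -/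
noncomputable def coord {Y : Scheme.{u}}
    (a : Y ⟶ Spec (CommRingCat.of (LaurentPolynomial k))) : Γ(Y, ⊤) :=
  a.appTop.hom ((Scheme.ΓSpecIso (CommRingCat.of (LaurentPolynomial k))).inv.hom
    (LaurentPolynomial.T 1))

lemma coord_comp {Y Z : Scheme.{u}} (b : Z ⟶ Y)
    (a : Y ⟶ Spec (CommRingCat.of (LaurentPolynomial k))) :
    coord k (b ≫ a) = b.appTop.hom (coord k a) := by
  rw [coord, Scheme.Hom.comp_appTop]
  rfl

lemma coord_specMap {S : Type u} [CommRing S] (f : LaurentPolynomial k →+* S) :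
    coord k (Spec.map (CommRingCat.ofHom f)) =
      (Scheme.ΓSpecIso (CommRingCat.of S)).inv.hom (f (LaurentPolynomial.T 1)) := by
  have := Scheme.ΓSpecIso_inv_naturality (CommRingCat.ofHom f)
  have h2 := congrArg (fun φ => φ.hom (LaurentPolynomial.T 1)) this
  simp only [CommRingCat.hom_comp, RingHom.comp_apply, CommRingCat.hom_ofHom] at h2
  exact h2.symm

lemma ΓSpecIso_inv_injective (R : CommRingCat.{u}) :
    Function.Injective (Scheme.ΓSpecIso R).inv.hom := by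
  intro x y hxy
  have := congrArg (Scheme.ΓSpecIso R).hom.hom hxy
  simpa using this


open Algebra.TensorProduct CommRingCat RingHomClass in
theorem key (G : Over (Spec (CommRingCat.of k))) [GrpObj G]
    (e : G.left ≅ Spec (CommRingCat.of (LaurentPolynomial k)))
    (he : e.hom ≫ Spec.map (CommRingCat.ofHom (algebraMap k (LaurentPolynomial k))) = G.hom)
    (hunit : coord k ((η[G]).left ≫ e.hom) = 1) :
    coord k ((μ[G]).left ≫ e.hom) =
      coord k ((fst G G).left ≫ e.hom) * coord k ((snd G G).left ≫ e.hom) := by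
  classical
  let α := Spec.map (CommRingCat.ofHom (algebraMap k (LaurentPolynomial k)))
  let ψ₀ : pullback G.hom G.hom ⟶ pullback α α :=
    pullback.map G.hom G.hom α α e.hom e.hom (𝟙 _) (by rw [Category.comp_id, he])
      (by rw [Category.comp_id, he])
  haveI : IsIso ψ₀ := by dsimp only [ψ₀]; infer_instance
  let ψ : (G ⊗ G).left ≅ Spec (.of (k[T;T⁻¹] ⊗[k] k[T;T⁻¹])) :=
    asIso ψ₀ ≪≫ pullbackSpecIso k (k[T;T⁻¹]) (k[T;T⁻¹])
  let incl : k[T;T⁻¹] →+* k[T;T⁻¹] ⊗[k] k[T;T⁻¹] := includeLeftRingHom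
  let incr : k[T;T⁻¹] →+* k[T;T⁻¹] ⊗[k] k[T;T⁻¹] :=
    toRingHom (includeRight (R := k) (A := k[T;T⁻¹]) (B := k[T;T⁻¹]))
  have hψ1 : ψ.hom ≫ Spec.map (ofHom incl) = (fst G G).left ≫ e.hom := by
    simp only [ψ, Iso.trans_hom, asIso_hom, Category.assoc, incl, pullbackSpecIso_hom_fst]
    simp only [ψ₀, pullback.map, Over.fst_left]
    exact pullback.lift_fst _ _ _
  have hψ2 : ψ.hom ≫ Spec.map (ofHom incr) = (snd G G).left ≫ e.hom := by
    simp only [ψ, Iso.trans_hom, asIso_hom, Category.assoc, incr, pullbackSpecIso_hom_snd]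
    simp only [ψ₀, pullback.map, Over.snd_left]
    exact pullback.lift_snd _ _ _
  -- the comultiplication
  obtain ⟨Δc, hΔ⟩ := Spec.map_surjective (ψ.inv ≫ (μ[G]).left ≫ e.hom)
  -- the counit
  obtain ⟨εc, hε⟩ := Spec.map_surjective (e.inv ≫ (toUnit G ≫ η[G]).left ≫ e.hom)
  -- the two sections
  let s₁ : G ⟶ G ⊗ G := lift (𝟙 G) (toUnit G ≫ η[G])
  let s₂ : G ⟶ G ⊗ G := lift (toUnit G ≫ η[G]) (𝟙 G)
  have hs₁ : s₁ ≫ μ[G] = 𝟙 G := _root_.mul_one (𝟙 G : G ⟶ G)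
  have hs₂ : s₂ ≫ μ[G] = 𝟙 G := _root_.one_mul (𝟙 G : G ⟶ G)
  obtain ⟨r₁c, hr₁⟩ := Spec.map_surjective (e.inv ≫ s₁.left ≫ ψ.hom)
  obtain ⟨r₂c, hr₂⟩ := Spec.map_surjective (e.inv ≫ s₂.left ≫ ψ.hom)
  -- relations
  have R1l : ofHom incl ≫ r₁c = 𝟙 _ := by
    apply Spec.map_injective
    rw [Spec.map_comp, hr₁, Category.assoc, Category.assoc, hψ1, ← Category.assoc s₁.left,
      ← Over.comp_left, lift_fst, Spec.map_id]
    simp
  have R1r : ofHom incr ≫ r₁c = εc := by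
    apply Spec.map_injective
    rw [Spec.map_comp, hr₁, Category.assoc, Category.assoc, hψ2, ← Category.assoc s₁.left,
      ← Over.comp_left, lift_snd, hε]
  have R2l : ofHom incl ≫ r₂c = εc := by
    apply Spec.map_injective
    rw [Spec.map_comp, hr₂, Category.assoc, Category.assoc, hψ1, ← Category.assoc s₂.left,
      ← Over.comp_left, lift_fst, hε]
  have R2r : ofHom incr ≫ r₂c = 𝟙 _ := by
    apply Spec.map_injective
    rw [Spec.map_comp, hr₂, Category.assoc, Category.assoc, hψ2, ← Category.assoc s₂.left,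
      ← Over.comp_left, lift_snd, Spec.map_id]
    simp
  have R1Δ : Δc ≫ r₁c = 𝟙 _ := by
    apply Spec.map_injective
    rw [Spec.map_comp, hr₁, hΔ, Spec.map_id]
    simp only [Category.assoc, Iso.hom_inv_id_assoc]
    rw [← Category.assoc s₁.left, ← Over.comp_left, hs₁]
    simp
  have R2Δ : Δc ≫ r₂c = 𝟙 _ := by
    apply Spec.map_injective
    rw [Spec.map_comp, hr₂, hΔ, Spec.map_id]
    simp only [Category.assoc, Iso.hom_inv_id_assoc]
    rw [← Category.assoc s₂.left, ← Over.comp_left, hs₂]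
    simp
  have hεT : εc.hom (T 1) = 1 := by
    apply ΓSpecIso_inv_injective
    have h1 := coord_specMap k εc.hom
    rw [show CommRingCat.ofHom εc.hom = εc from rfl, hε] at h1
    rw [← h1, Over.comp_left, Category.assoc, ← Category.assoc, coord_comp, hunit, map_one, map_one]
  have hcomul := comul_T Δc.hom εc.hom r₁c.hom r₂c.hom
    (fun x => congrArg (fun φ => φ.hom x) R1l)
    (fun y => congrArg (fun φ => φ.hom y) R1r)
    (fun x => congrArg (fun φ => φ.hom x) R2l)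
    (fun y => congrArg (fun φ => φ.hom y) R2r)
    hεT
    (congrArg (fun φ => φ.hom (T 1)) R1Δ)
    (congrArg (fun φ => φ.hom (T 1)) R2Δ)
  have hμ : (μ[G]).left ≫ e.hom = ψ.hom ≫ Spec.map Δc := by
    rw [hΔ, Iso.hom_inv_id_assoc]
  have hsplit : (T 1 ⊗ₜ[k] T 1 : k[T;T⁻¹] ⊗[k] k[T;T⁻¹]) = incl (T 1) * incr (T 1) := by
    show _ = (T 1 ⊗ₜ[k] 1) * (1 ⊗ₜ[k] T 1)
    rw [Algebra.TensorProduct.tmul_mul_tmul, _root_.mul_one, _root_.one_mul]
  rw [hμ, ← hψ1, ← hψ2, coord_comp, coord_comp, coord_comp, ← map_mul]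
  congr 1
  have h1 := coord_specMap k Δc.hom
  rw [show CommRingCat.ofHom Δc.hom = Δc from rfl] at h1
  rw [h1, hcomul, hsplit, map_mul, coord_specMap, coord_specMap]

theorem main (G : Over (Spec (CommRingCat.of k))) [GrpObj G]
    (e : G.left ≅ Spec (CommRingCat.of (LaurentPolynomial k)))
    (he : e.hom ≫ Spec.map (CommRingCat.ofHom (algebraMap k (LaurentPolynomial k))) = G.hom)
    (hunit : coord k ((η[G]).left ≫ e.hom) = 1)
    (S : Over (Spec (CommRingCat.of k))) (g h : S ⟶ G) :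
    coord k ((g * h).left ≫ e.hom) = coord k (g.left ≫ e.hom) * coord k (h.left ≫ e.hom) := by
  have hk := key k G e he hunit
  rw [Hom.mul_def, Over.comp_left, Category.assoc, coord_comp, hk, map_mul, ← coord_comp,
    ← coord_comp, ← Category.assoc, ← Category.assoc, ← Over.comp_left, ← Over.comp_left,
    lift_fst, lift_snd]

end scheme

end Groth.Agent.Lib.Helper9.GmLaw
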