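import Mathlib

/-!
# Totally ramified extensions `R[Y]/(Y^N - π)` of a discrete valuation ring (helper9)
-/

set_option autoImplicit false
universe v
open Polynomial IsLocalRing

namespace Groth.Agent.Lib.Helper9.RamDVR

variable {R : Type v} [CommRing R] [IsDomain R] [IsDiscreteValuationRing R]

theorem eisenstein_X_pow_sub_C (n : ℕ) (hn : 1 ≤ n) (ϖ : R) (hϖ : Irreducible ϖ) :
    (X ^ n - C ϖ : R[X]).IsEisensteinAt (maximalIdeal R) := by
  have hmon : (X ^ n - C ϖ : R[X]).Monic := monic_X_pow_sub_C ϖ (by omega)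
  have hnd : (X ^ n - C ϖ : R[X]).natDegree = n := natDegree_X_pow_sub_C
  have hϖm : ϖ ∈ maximalIdeal R := (mem_maximalIdeal _).mpr hϖ.not_isUnit
  refine ⟨?_, ?_, ?_⟩
  · rw [hmon.leadingCoeff]
    exact fun h => (mem_maximalIdeal _).mp h isUnit_one
  · intro i hi
    rw [hnd] at hi
    rw [coeff_sub, coeff_X_pow, if_neg hi.ne, zero_sub, coeff_C]
    split_ifs with h0
    · exact neg_mem hϖm
    · rw [neg_zero]; exact zero_mem _
  · rw [coeff_sub, coeff_X_pow, if_neg (by omega), zero_sub, coeff_C_zero, neg_mem_iff,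
      hϖ.maximalIdeal_eq, Ideal.span_singleton_pow, Ideal.mem_span_singleton]
    rintro ⟨c, hc⟩
    have h0 : ϖ ≠ 0 := hϖ.ne_zero
    have h1 : ϖ * 1 = ϖ * (ϖ * c) := by
      rw [mul_one, ← mul_assoc, ← pow_two]
      exact hc
    have h2 := mul_left_cancel₀ h0 h1
    exact hϖ.not_isUnit (IsUnit.of_mul_eq_one c h2.symm)

section ext

variable (π : R) (hπ : Irreducible π) (N : ℕ) (hN : 1 ≤ N)

include hN in
lemma monic_poly : (X ^ N - C π : R[X]).Monic := monic_X_pow_sub_C π (by omega)

include hπ hN in
lemma irreducible_poly : Irreducible (X ^ N - C π : R[X]) :=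
  (eisenstein_X_pow_sub_C N hN π hπ).irreducible (maximalIdeal.isMaximal R).isPrime
    (monic_poly π N hN).isPrimitive (by rw [natDegree_X_pow_sub_C]; omega)

include hπ hN in
lemma prime_poly : Prime (X ^ N - C π : R[X]) :=
  UniqueFactorizationMonoid.irreducible_iff_prime.mp (irreducible_poly π hπ N hN)

/-- the extension ring -/
abbrev Ext : Type v := AdjoinRoot (X ^ N - C π : R[X])

include hπ hN in
lemma isDomain_ext : IsDomain (Ext π N) := AdjoinRoot.isDomain_of_prime (prime_poly π hπ N hN)

include hN in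
lemma finite_ext : Module.Finite R (Ext π N) := (monic_poly π N hN).finite_adjoinRoot

lemma root_pow : (AdjoinRoot.root (X ^ N - C π : R[X])) ^ N = algebraMap R (Ext π N) π := by
  have h := AdjoinRoot.eval₂_root (X ^ N - C π : R[X])
  rw [eval₂_sub, eval₂_pow, eval₂_X, eval₂_C, sub_eq_zero] at h
  exact h

include hN in
lemma algebraMap_injective : Function.Injective (algebraMap R (Ext π N)) := by
  apply AdjoinRoot.of.injective_of_degree_ne_zero
  rw [degree_X_pow_sub_C (by omega)]
  exact_mod_cast (by omega : N ≠ 0)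

/-- every element is congruent to a constant modulo the root. -/
lemma exists_eq_add_root_mul (x : Ext π N) :
    ∃ (r : R) (z : Ext π N), x = algebraMap R (Ext π N) r + AdjoinRoot.root _ * z := by
  obtain ⟨g, rfl⟩ := AdjoinRoot.mk_surjective x
  refine ⟨g.coeff 0, AdjoinRoot.mk _ g.divX, ?_⟩
  conv_lhs => rw [← Polynomial.divX_mul_X_add g]
  rw [map_add, map_mul, AdjoinRoot.mk_X, AdjoinRoot.mk_C, add_comm, mul_comm]
  rfl


include hπ hN in
lemma root_not_isUnit : ¬ IsUnit (AdjoinRoot.root (X ^ N - C π : R[X])) := by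
  intro hu
  haveI := isDomain_ext π hπ N hN
  haveI := finite_ext π N hN
  haveI : FaithfulSMul R (Ext π N) :=
    (faithfulSMul_iff_algebraMap_injective R (Ext π N)).mpr (algebraMap_injective π N hN)
  have h1 : IsUnit (algebraMap R (Ext π N) π) := by
    rw [← root_pow]; exact hu.pow N
  have h2 : IsUnit π := (Algebra.IsIntegral.isLocalHom R (Ext π N)).map_nonunit π h1
  exact hπ.not_isUnit h2

include hπ hN in
lemma root_ne_zero : AdjoinRoot.root (X ^ N - C π : R[X]) ≠ 0 := by
  intro h0
  have h1 := root_pow π N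
  rw [h0, zero_pow (by omega)] at h1
  exact hπ.ne_zero (algebraMap_injective π N hN (by rw [← h1, map_zero]))

include hπ hN in
lemma span_root_isMaximal :
    (Ideal.span {AdjoinRoot.root (X ^ N - C π : R[X])}).IsMaximal := by
  rw [Ideal.isMaximal_iff]
  refine ⟨?_, ?_⟩
  · rw [Ideal.mem_span_singleton]
    exact fun h => root_not_isUnit π hπ N hN (isUnit_of_dvd_one h)
  · intro J x hJ hx hxJ
    obtain ⟨r, z, hrz⟩ := exists_eq_add_root_mul π N x
    have hr : IsUnit r := by
      by_contra hnu
      have hrm : r ∈ maximalIdeal R := (mem_maximalIdeal _).mpr hnu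
      rw [hπ.maximalIdeal_eq, Ideal.mem_span_singleton] at hrm
      obtain ⟨s, rfl⟩ := hrm
      apply hx
      rw [hrz, map_mul, ← root_pow, Ideal.mem_span_singleton]
      refine dvd_add (Dvd.dvd.mul_right (dvd_pow_self _ (by omega)) _) (dvd_mul_right _ _)
    have h1 : algebraMap R (Ext π N) r ∈ J := by
      have : algebraMap R (Ext π N) r = x - AdjoinRoot.root _ * z := by rw [hrz]; ring
      rw [this]
      exact J.sub_mem hxJ (J.mul_mem_right _ (hJ (Ideal.subset_span rfl)))
    have h2 : IsUnit (algebraMap R (Ext π N) r) := hr.map _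
    obtain ⟨w, hw⟩ := h2.exists_left_inv
    rw [← hw]
    exact J.mul_mem_left _ h1

include hπ hN in
lemma isLocalRing_ext : IsLocalRing (Ext π N) := by
  haveI := isDomain_ext π hπ N hN
  haveI := finite_ext π N hN
  refine IsLocalRing.of_unique_max_ideal ⟨_, span_root_isMaximal π hπ N hN, ?_⟩
  intro M hM
  have hc : (M.comap (algebraMap R (Ext π N))).IsMaximal :=
    Ideal.isMaximal_comap_of_isIntegral_of_isMaximal (R := R) M
  have hc2 : M.comap (algebraMap R (Ext π N)) = maximalIdeal R := IsLocalRing.eq_maximalIdeal hc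
  have hπM : algebraMap R (Ext π N) π ∈ M := by
    have : π ∈ M.comap (algebraMap R (Ext π N)) := by
      rw [hc2]; exact (mem_maximalIdeal _).mpr hπ.not_isUnit
    exact this
  rw [← root_pow] at hπM
  have hyM : AdjoinRoot.root (X ^ N - C π : R[X]) ∈ M := hM.isPrime.mem_of_pow_mem N hπM
  have hle : Ideal.span {AdjoinRoot.root (X ^ N - C π : R[X])} ≤ M := by
    rw [Ideal.span_le, Set.singleton_subset_iff]; exact hyM
  exact ((span_root_isMaximal π hπ N hN).eq_of_le hM.ne_top hle).symm

include hπ hN in
lemma maximalIdeal_ext :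
    letI := isLocalRing_ext π hπ N hN
    maximalIdeal (Ext π N) = Ideal.span {AdjoinRoot.root (X ^ N - C π : R[X])} := by
  letI := isLocalRing_ext π hπ N hN
  exact (IsLocalRing.eq_maximalIdeal (span_root_isMaximal π hπ N hN)).symm

include hπ hN in
lemma isDVR_ext :
    letI := isDomain_ext π hπ N hN
    IsDiscreteValuationRing (Ext π N) := by
  letI := isDomain_ext π hπ N hN
  letI := isLocalRing_ext π hπ N hN
  haveI := finite_ext π N hN
  haveI : IsNoetherianRing (Ext π N) := IsNoetherianRing.of_finite R (Ext π N)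
  have hm := maximalIdeal_ext π hπ N hN
  have hnf : ¬ IsField (Ext π N) := by
    rw [IsLocalRing.isField_iff_maximalIdeal_eq, hm, Ideal.span_singleton_eq_bot]
    exact root_ne_zero π hπ N hN
  refine ((IsDiscreteValuationRing.TFAE (Ext π N) hnf).out 0 4).mpr ?_
  rw [hm]
  exact ⟨⟨_, rfl⟩⟩

include hπ hN in
lemma irreducible_root :
    Irreducible (AdjoinRoot.root (X ^ N - C π : R[X])) := by
  letI := isDomain_ext π hπ N hN
  letI := isLocalRing_ext π hπ N hN
  haveI := isDVR_ext π hπ N hN
  exact (IsDiscreteValuationRing.irreducible_iff_uniformizer _).mpr (maximalIdeal_ext π hπ N hN)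

end ext

/-- Existence of the totally ramified extension of degree `N`, packaged. -/
theorem exists_ramified_ext (R : Type v) [CommRing R] [IsDomain R] [IsDiscreteValuationRing R]
    (K : Type v) [Field K] [Algebra R K] [IsFractionRing R K] (π : R) (hπ : Irreducible π)
    (N : ℕ) (hN : 1 ≤ N) :
    ∃ (R' : Type v) (_ : CommRing R') (_ : IsDomain R') (_ : IsDiscreteValuationRing R')
      (K' : Type v) (_ : Field K') (_ : Algebra R' K') (_ : IsFractionRing R' K')
      (_ : Algebra R R') (_ : Algebra K K') (_ : Algebra R K')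
      (_ : IsScalarTower R R' K') (_ : IsScalarTower R K K')
      (_ : Module.Finite K K') (_ : IsLocalHom (algebraMap R R'))
      (y : R'), Irreducible y ∧ y ^ N = algebraMap R R' π := by
  letI := isDomain_ext π hπ N hN
  letI := isLocalRing_ext π hπ N hN
  haveI := isDVR_ext π hπ N hN
  haveI := finite_ext π N hN
  haveI : FaithfulSMul R (Ext π N) :=
    (faithfulSMul_iff_algebraMap_injective R (Ext π N)).mpr (algebraMap_injective π N hN)
  let K' := FractionRing (Ext π N)
  letI algRK' : Algebra R K' := inferInstance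
  haveI tower1 : IsScalarTower R (Ext π N) K' := inferInstance
  have hinj : Function.Injective (algebraMap R K') := by
    rw [IsScalarTower.algebraMap_eq R (Ext π N) K']
    exact (IsFractionRing.injective (Ext π N) K').comp (algebraMap_injective π N hN)
  letI algKK' : Algebra K K' := (IsFractionRing.lift hinj : K →+* K').toAlgebra
  haveI tower2 : IsScalarTower R K K' := IsScalarTower.of_algebraMap_eq (fun x => by
    show algebraMap R K' x = (IsFractionRing.lift hinj : K →+* K') (algebraMap R K x)
    rw [IsFractionRing.lift_algebraMap])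
  haveI : IsIntegralClosure (Ext π N) R K' := IsIntegralClosure.of_isIntegrallyClosed _ _ _
  haveI : Algebra.IsAlgebraic K K' := isAlgebraic_of_isFractionRing R (Ext π N) K K'
  haveI : IsLocalization (Algebra.algebraMapSubmonoid (Ext π N) (nonZeroDivisors R)) K' :=
    IsIntegralClosure.isLocalization R K K' (Ext π N)
  haveI fin : Module.Finite K K' := Module.Finite.of_isLocalization R (Ext π N) (nonZeroDivisors R)
  exact ⟨Ext π N, inferInstance, inferInstance, inferInstance, K', inferInstance, inferInstance,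
    inferInstance, inferInstance, algKK', algRK', tower1, tower2, fin,
    Algebra.IsIntegral.isLocalHom R (Ext π N), AdjoinRoot.root _, irreducible_root π hπ N hN,
    root_pow π N⟩

end Groth.Agent.Lib.Helper9.RamDVR
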