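import Mathlib
import Groth.Agent.Lib.Helper9.RamDVR

/-!
# Rescaling a graded ring map through a ramified DVR extension (helper9)
-/

set_option autoImplicit false
universe u v
open DirectSum

namespace Groth.Agent.Lib.Helper9.GmResc

variable {A : Type u} [CommRing A] (𝒜 : ℤ → AddSubgroup A) [GradedRing 𝒜]

theorem homog_decomp (T : Finset A) (deg : A → ℤ) (hdeg : ∀ t ∈ T, t ∈ 𝒜 (deg t)) (d : ℤ) (a : A)
    (ha : a ∈ 𝒜 d) (haT : a ∈ Ideal.span (T : Set A)) :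
    ∃ b : A → A, (∀ t ∈ T, b t ∈ 𝒜 (d - deg t)) ∧ a = ∑ t ∈ T, b t * t := by
  classical
  obtain ⟨c, -, hc⟩ := Submodule.mem_span_finset.mp haT
  refine ⟨fun t => (DirectSum.decompose 𝒜 (c t) (d - deg t) : A), fun t _ => SetLike.coe_mem _, ?_⟩
  have h1 : (DirectSum.decompose 𝒜 a d : A) = a := DirectSum.decompose_of_mem_same 𝒜 ha
  rw [← h1, ← hc, DirectSum.decompose_sum, DFinsupp.finsetSum_apply,
    AddSubmonoidClass.coe_finsetSum]
  refine Finset.sum_congr rfl fun t ht => ?_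
  rw [smul_eq_mul]
  have := DirectSum.coe_decompose_mul_add_of_right_mem 𝒜 (i := d - deg t) (a := c t) (hdeg t ht)
  rwa [sub_add_cancel] at this

theorem dvd_of_gens {S : Type*} [CommRing S] (ψ : A →+* S) (ϖ : S) (T : Finset A) (deg : A → ℤ)
    (hdeg : ∀ t ∈ T, t ∈ 𝒜 (deg t)) (hpos : ∀ t ∈ T, 0 < deg t)
    (hspan : Ideal.span {a : A | ∃ d : ℤ, 0 < d ∧ a ∈ 𝒜 d} = Ideal.span (T : Set A))
    (hT : ∀ t ∈ T, ϖ ^ (deg t).toNat ∣ ψ t) :
    ∀ (d : ℕ) (a : A), a ∈ 𝒜 (d : ℤ) → ϖ ^ d ∣ ψ a := by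
  intro d
  induction d using Nat.strong_induction_on with
  | _ d ih =>
    intro a ha
    rcases Nat.eq_zero_or_pos d with rfl | hd
    · simp
    have haT : a ∈ Ideal.span (T : Set A) := by
      rw [← hspan]; exact Ideal.subset_span ⟨d, by exact_mod_cast hd, ha⟩
    obtain ⟨b, hb, hab⟩ := homog_decomp 𝒜 T deg hdeg d a ha haT
    rw [hab, map_sum]
    refine Finset.dvd_sum fun t ht => ?_
    rw [map_mul]
    obtain ⟨e, he⟩ : ∃ e : ℕ, deg t = e :=
      ⟨(deg t).toNat, (Int.toNat_of_nonneg (hpos t ht).le).symm⟩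
    have he1 : 1 ≤ e := by have := hpos t ht; omega
    have hTt := hT t ht
    rw [he, Int.toNat_natCast] at hTt
    by_cases hlt : e < d
    · have hbt : b t ∈ 𝒜 ((d - e : ℕ) : ℤ) := by
        have := hb t ht
        rwa [he, ← Nat.cast_sub hlt.le] at this
      have h1 := ih (d - e) (by omega) (b t) hbt
      have : ϖ ^ d = ϖ ^ (d - e) * ϖ ^ e := by rw [← pow_add]; congr 1; omega
      rw [this]
      exact mul_dvd_mul h1 hTt
    · have : ϖ ^ d ∣ ϖ ^ e := pow_dvd_pow _ (by omega)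
      exact Dvd.dvd.mul_left (this.trans hTt) _

theorem exists_resc {S : Type*} [CommRing S] [IsDomain S] (L : Type*) [Field L] [Algebra S L]
    [IsFractionRing S L] (ψ : A →+* S) (ϖ : S) (hϖ : ϖ ≠ 0)
    (hdvd : ∀ (d : ℕ) (a : A), a ∈ 𝒜 (d : ℤ) → ϖ ^ d ∣ ψ a) :
    ∃ g : A →+* S, ∀ (d : ℤ) (a : A), a ∈ 𝒜 d →
      algebraMap S L (g a) * algebraMap S L ϖ ^ d = algebraMap S L (ψ a) := by
  classical
  set w : L := algebraMap S L ϖ with hw
  have hinj := IsFractionRing.injective S L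
  have hw0 : w ≠ 0 := by
    rw [hw]; exact (map_ne_zero_iff _ hinj).mpr hϖ
  have hex : ∀ (d : ℤ) (a : A), a ∈ 𝒜 d →
      ∃ r : S, algebraMap S L r = algebraMap S L (ψ a) * w ^ (-d) := by
    intro d a ha
    rcases Int.eq_nat_or_neg d with ⟨n, rfl | rfl⟩
    · obtain ⟨r, hr⟩ := hdvd n a ha
      refine ⟨r, ?_⟩
      rw [hr, map_mul, map_pow, zpow_neg, zpow_natCast, mul_comm (w ^ n), mul_assoc,
        mul_inv_cancel₀ (pow_ne_zero _ hw0), mul_one]
    · refine ⟨ψ a * ϖ ^ n, ?_⟩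
      rw [map_mul, map_pow, neg_neg, zpow_natCast]
  let gf : ∀ d : ℤ, 𝒜 d → S := fun d a => Classical.choose (hex d a a.2)
  have hgf : ∀ d (a : 𝒜 d), algebraMap S L (gf d a) = algebraMap S L (ψ a) * w ^ (-d) :=
    fun d a => Classical.choose_spec (hex d a a.2)
  let gh : ∀ d : ℤ, 𝒜 d →+ S := fun d =>
    { toFun := gf d
      map_zero' := hinj (by rw [hgf]; simp)
      map_add' := fun a b => hinj (by rw [map_add, hgf, hgf, hgf]; simp [add_mul]) }
  let G : (⨁ d, 𝒜 d) →+* S := DirectSum.toSemiring gh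
    (hinj (by
      show algebraMap S L (gf 0 _) = _
      rw [hgf]; simp))
    (fun {i j} ai aj => hinj (by
      show algebraMap S L (gf (i + j) _) = algebraMap S L (gf i ai * gf j aj)
      rw [map_mul, hgf, hgf, hgf, neg_add, zpow_add₀ hw0]
      simp [mul_mul_mul_comm]))
  refine ⟨G.comp (DirectSum.decomposeRingEquiv 𝒜).toRingHom, fun d a ha => ?_⟩
  have : (G.comp (DirectSum.decomposeRingEquiv 𝒜).toRingHom) a = gf d ⟨a, ha⟩ := by
    show G (DirectSum.decompose 𝒜 a) = _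
    rw [DirectSum.decompose_of_mem 𝒜 ha, DirectSum.toSemiring_of]
    rfl
  rw [this, hgf, mul_assoc, ← zpow_add₀ hw0, neg_add_cancel, zpow_zero, mul_one]

theorem main
    (hfg : (Ideal.span {a : A | ∃ d : ℤ, 0 < d ∧ a ∈ 𝒜 d}).FG)
    (R : Type v) [CommRing R] [IsDomain R] [IsDiscreteValuationRing R]
    (K : Type v) [Field K] [Algebra R K] [IsFractionRing R K]
    (φ : A →+* R)
    (hle : Ideal.map φ (Ideal.span {a : A | ∃ d : ℤ, 0 < d ∧ a ∈ 𝒜 d}) ≤ IsLocalRing.maximalIdeal R)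
    (hne : Ideal.map φ (Ideal.span {a : A | ∃ d : ℤ, 0 < d ∧ a ∈ 𝒜 d}) ≠ ⊥) :
    ∃ (R' : Type v) (_ : CommRing R') (_ : IsDomain R') (_ : IsDiscreteValuationRing R')
      (K' : Type v) (_ : Field K') (_ : Algebra R' K') (_ : IsFractionRing R' K')
      (_ : Algebra R R') (_ : Algebra K K') (_ : Algebra R K')
      (_ : IsScalarTower R R' K') (_ : IsScalarTower R K K')
      (_ : Module.Finite K K') (_ : IsLocalHom (algebraMap R R'))
      (ϖ : R') (g : A →+* R'),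
      ϖ ≠ 0 ∧ ϖ ∈ IsLocalRing.maximalIdeal R' ∧
      (∀ (d : ℤ) (a : A), a ∈ 𝒜 d →
        algebraMap R' K' (g a) * algebraMap R' K' ϖ ^ d = algebraMap R K' (φ a)) ∧
      Ideal.map g (Ideal.span {a : A | ∃ d : ℤ, 0 < d ∧ a ∈ 𝒜 d}) = ⊤ := by
  classical
  obtain ⟨T, hTS, hspan⟩ := (Submodule.fg_span_iff_fg_span_finset_subset
    {a : A | ∃ d : ℤ, 0 < d ∧ a ∈ 𝒜 d}).mp hfg
  change Ideal.span {a : A | ∃ d : ℤ, 0 < d ∧ a ∈ 𝒜 d} = Ideal.span (T : Set A) at hspan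
  have hdegex : ∀ t : A, ∃ d : ℤ, t ∈ T → (0 < d ∧ t ∈ 𝒜 d) := by
    intro t
    by_cases ht : t ∈ T
    · obtain ⟨d, hd, hm⟩ := hTS ht
      exact ⟨d, fun _ => ⟨hd, hm⟩⟩
    · exact ⟨0, fun h => absurd h ht⟩
  choose deg hdeg using hdegex
  obtain ⟨π, hπ⟩ := IsDiscreteValuationRing.exists_irreducible R
  have hvalex : ∀ t : A, ∃ n : ℕ, φ t ≠ 0 → ∃ u : Rˣ, φ t = u * π ^ n := by
    intro t
    by_cases h0 : φ t = 0
    · exact ⟨0, fun h => absurd h0 h⟩
    · obtain ⟨n, u, hu⟩ := IsDiscreteValuationRing.eq_unit_mul_pow_irreducible h0 hπ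
      exact ⟨n, fun _ => ⟨u, hu⟩⟩
  choose val hval using hvalex
  have hT' : (T.filter (fun t => φ t ≠ 0)).Nonempty := by
    by_contra hemp
    rw [Finset.not_nonempty_iff_eq_empty, Finset.filter_eq_empty_iff] at hemp
    apply hne
    rw [hspan, Ideal.map_span, Ideal.span_eq_bot]
    rintro _ ⟨t, ht, rfl⟩
    by_contra h
    exact hemp ht h
  obtain ⟨t₀, ht₀, hmin⟩ :=
    Finset.exists_min_image _ (fun t => (val t : ℚ) / (deg t : ℚ)) hT'
  rw [Finset.mem_filter] at ht₀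
  obtain ⟨ht₀T, ht₀ne⟩ := ht₀
  obtain ⟨hd₀pos, hd₀mem⟩ := hdeg t₀ ht₀T
  obtain ⟨u₀, hu₀⟩ := hval t₀ ht₀ne
  have hφm : ∀ t ∈ T, φ t ∈ IsLocalRing.maximalIdeal R := fun t ht =>
    hle (Ideal.mem_map_of_mem _ (Ideal.subset_span (hTS ht)))
  have hval₀ : 1 ≤ val t₀ := by
    by_contra h
    have h0 : val t₀ = 0 := by omega
    rw [h0, pow_zero, mul_one] at hu₀
    have := hφm t₀ ht₀T
    rw [hu₀] at this
    exact (IsLocalRing.mem_maximalIdeal _).mp this u₀.isUnit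
  set N : ℕ := (deg t₀).toNat with hN
  have hNdeg : (N : ℤ) = deg t₀ := Int.toNat_of_nonneg hd₀pos.le
  have hN1 : 1 ≤ N := by omega
  obtain ⟨R', _, _, _, K', _, _, _, _, _, _, _, _, _, _, y, hy, hyN⟩ :=
    RamDVR.exists_ramified_ext R K π hπ N hN1
  set ψ : A →+* R' := (algebraMap R R').comp φ with hψ
  set ϖ : R' := y ^ val t₀ with hϖdef
  have hy0 : y ≠ 0 := hy.ne_zero
  have hϖ0 : ϖ ≠ 0 := pow_ne_zero _ hy0
  -- divisibility on generators
  have hTdvd : ∀ t ∈ T, ϖ ^ (deg t).toNat ∣ ψ t := by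
    intro t ht
    by_cases h0 : φ t = 0
    · rw [hψ, RingHom.comp_apply, h0, map_zero]; exact dvd_zero _
    · obtain ⟨u, hu⟩ := hval t h0
      obtain ⟨hdpos, -⟩ := hdeg t ht
      have hmin' := hmin t (Finset.mem_filter.mpr ⟨ht, h0⟩)
      have hq : (val t₀ : ℚ) * (deg t : ℚ) ≤ (val t : ℚ) * (deg t₀ : ℚ) := by
        rwa [div_le_div_iff₀ (by exact_mod_cast hd₀pos) (by exact_mod_cast hdpos)] at hmin'
      have hz : (val t₀ : ℤ) * deg t ≤ (val t : ℤ) * deg t₀ := by exact_mod_cast hq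
      have hnat : val t₀ * (deg t).toNat ≤ N * val t := by
        have h1 : ((deg t).toNat : ℤ) = deg t := Int.toNat_of_nonneg hdpos.le
        have : ((val t₀ * (deg t).toNat : ℕ) : ℤ) ≤ ((N * val t : ℕ) : ℤ) := by
          push_cast
          rw [h1, hNdeg]
          linarith
        exact_mod_cast this
      have hψt : ψ t = algebraMap R R' u * y ^ (N * val t) := by
        rw [hψ, RingHom.comp_apply, hu, map_mul, map_pow, ← hyN, ← pow_mul]
      rw [hψt, hϖdef, ← pow_mul]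
      exact Dvd.dvd.mul_left (pow_dvd_pow _ hnat) _
  have hdvd := dvd_of_gens 𝒜 ψ ϖ T deg (fun t ht => (hdeg t ht).2) (fun t ht => (hdeg t ht).1)
    hspan hTdvd
  obtain ⟨g, hg⟩ := exists_resc 𝒜 K' ψ ϖ hϖ0 hdvd
  have hinj := IsFractionRing.injective R' K'
  refine ⟨R', inferInstance, inferInstance, inferInstance, K', inferInstance, inferInstance,
    inferInstance, inferInstance, inferInstance, inferInstance, inferInstance, inferInstance,
    inferInstance, inferInstance, ϖ, g, hϖ0, ?_, ?_, ?_⟩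
  · exact Ideal.pow_mem_of_mem _ ((IsLocalRing.mem_maximalIdeal _).mpr hy.not_isUnit) _
      (by omega)
  · intro d a ha
    rw [hg d a ha, hψ, RingHom.comp_apply, ← IsScalarTower.algebraMap_apply]
  · -- `g t₀` is a unit
    have h1 := hg (deg t₀) t₀ hd₀mem
    rw [← hNdeg, zpow_natCast, ← map_pow, ← map_mul] at h1
    have h2 := hinj h1
    have h3 : ϖ ^ N = algebraMap R R' π ^ val t₀ := by
      rw [hϖdef, ← pow_mul, mul_comm, pow_mul, hyN]
    have h4 : ψ t₀ = algebraMap R R' u₀ * algebraMap R R' π ^ val t₀ := by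
      rw [hψ, RingHom.comp_apply, hu₀, map_mul, map_pow]
    rw [h3, h4] at h2
    have hπ0 : algebraMap R R' π ^ val t₀ ≠ 0 := by
      rw [← hyN]; exact pow_ne_zero _ (pow_ne_zero _ hy0)
    have h5 : g t₀ = algebraMap R R' u₀ := mul_right_cancel₀ hπ0 h2
    have hu : IsUnit (g t₀) := by rw [h5]; exact u₀.isUnit.map _
    exact Ideal.eq_top_of_isUnit_mem _
      (Ideal.mem_map_of_mem g (Ideal.subset_span ⟨deg t₀, hd₀pos, hd₀mem⟩)) hu

end Groth.Agent.Lib.Helper9.GmResc
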