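import Mathlib
import Groth.Prelude.Def_Fitting
import Groth.Agent.Lib.Helper28.GenFreeFT
import Groth.Agent.Lib.Helper8.GrStratAlgA
import Groth.Agent.Lib.Helper18.FittLib5
import Groth.Agent.Lib.Helper13.SemilocalFree
import Groth.Agent.Lib.Helper6.BasisNhds

/-! Flattening stratification for the graded pieces of a finitely generated graded module
(Haiman–Sturmfels), via Fitting ideals and generic freeness (helper9). -/

set_option autoImplicit false
universe u
open TensorProduct
open Groth.Agent.Lib.Helper18.FittLib (fitt_baseChange fitt_mono locFree_iff_fitt nontrivial_away)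
open Groth.Agent.Lib.Helper13.SemilocalFree (exists_basis_away_of_rankAtStalk_eq)
open Groth.Agent.Lib.Helper6.BasisNhds (rankAtStalk_eq_of_away)
open Groth.Agent.Lib.Helper28.GenFree (genFree_finiteType FreeAt)

namespace Groth.Agent.Lib.Helper9.GrFlatStrat

/-! ### Part I: one module -/

section PartI

theorem locFree_of_proj (B : Type u) [CommRing B] (P : Type u) [AddCommGroup P] [Module B P]
    [Module.Finite B P] [Module.Projective B P] (r : ℕ)
    (hrk : ∀ p : PrimeSpectrum B, Module.rankAtStalk P p = r) :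
    ∀ (p : Ideal B) [p.IsPrime], ∃ f : B, f ∉ p ∧
      Module.Free (Localization.Away f) (LocalizedModule (Submonoid.powers f) P) ∧
        Module.finrank (Localization.Away f) (LocalizedModule (Submonoid.powers f) P) = r := by
  intro p hp
  obtain ⟨s, hs, ⟨b⟩⟩ := exists_basis_away_of_rankAtStalk_eq B P r hrk {⟨p, hp⟩}
    (Set.finite_singleton _)
  have hsp : s ∉ p := hs _ rfl
  haveI : Nontrivial (Localization.Away s) := nontrivial_away hsp
  refine ⟨s, hsp, Module.Free.of_basis b, ?_⟩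
  rw [Module.finrank_eq_card_basis b, Fintype.card_fin]

theorem proj_of_locFree (B : Type u) [CommRing B] (P : Type u) [AddCommGroup P] [Module B P]
    [Module.FinitePresentation B P] (r : ℕ)
    (hloc : ∀ (p : Ideal B) [p.IsPrime], ∃ f : B, f ∉ p ∧
      Module.Free (Localization.Away f) (LocalizedModule (Submonoid.powers f) P) ∧
        Module.finrank (Localization.Away f) (LocalizedModule (Submonoid.powers f) P) = r) :
    Module.Projective B P ∧ ∀ q : PrimeSpectrum B, Module.rankAtStalk P q = r := by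
  have hfree : Module.freeLocus B P = Set.univ := by
    rw [Set.eq_univ_iff_forall]
    intro q
    obtain ⟨f, hf, hfr, _⟩ := hloc q.asIdeal
    have hsub : (PrimeSpectrum.basicOpen f : Set (PrimeSpectrum B)) ⊆ Module.freeLocus B P := by
      rw [Module.basicOpen_subset_freeLocus_iff]
      haveI := hfr
      show Module.Projective (Localization.Away f) (LocalizedModule (Submonoid.powers f) P)
      infer_instance
    exact hsub hf
  have hproj : Module.Projective B P := Module.freeLocus_eq_univ_iff.mp hfree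
  refine ⟨hproj, fun q => ?_⟩
  obtain ⟨f, hf, hfr, hrk⟩ := hloc q.asIdeal
  haveI := hfr
  haveI := hproj
  have hfq : f ∉ q.asIdeal := hf
  haveI : Nontrivial (Localization.Away f) := nontrivial_away hfq
  exact rankAtStalk_eq_of_away B P r q f hf (Module.finBasisOfFinrankEq _ _ hrk)

theorem proj_rank_iff_fitt {A : Type u} [CommRing A] [IsNoetherianRing A]
    (N : Type u) [AddCommGroup N] [Module A N]
    [Module.Finite A N] (r : ℕ) (B : Type u) [CommRing B] [Algebra A B] :
    (Module.Finite B (B ⊗[A] N) ∧ Module.Projective B (B ⊗[A] N) ∧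
        ∀ p : PrimeSpectrum B, Module.rankAtStalk (B ⊗[A] N) p = r) ↔
      ((∀ k, k < r → (Fitt.ideal A N k).map (algebraMap A B) = ⊥) ∧
        (Fitt.ideal A N r).map (algebraMap A B) = ⊤) := by
  haveI : Module.FinitePresentation A N := Module.finitePresentation_of_finite A N
  have hbc : ∀ k, Fitt.ideal B (B ⊗[A] N) k = (Fitt.ideal A N k).map (algebraMap A B) :=
    fun k => fitt_baseChange (R := A) (M := N) B k
  constructor
  · rintro ⟨hfin, hproj, hrk⟩
    obtain ⟨h1, h2⟩ := (locFree_iff_fitt (R := B) (M := B ⊗[A] N) r).mp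
      (locFree_of_proj B (B ⊗[A] N) r hrk)
    exact ⟨fun k hk => by rw [← hbc]; exact h1 k hk, by rw [← hbc]; exact h2 r le_rfl⟩
  · rintro ⟨h1, h2⟩
    have hF : (∀ k, k < r → Fitt.ideal B (B ⊗[A] N) k = ⊥) ∧
        (∀ k, r ≤ k → Fitt.ideal B (B ⊗[A] N) k = ⊤) := by
      refine ⟨fun k hk => by rw [hbc]; exact h1 k hk, fun k hk => ?_⟩
      have h3 := fitt_mono (R := B) (M := B ⊗[A] N) hk
      rw [hbc r, h2] at h3
      exact top_le_iff.mp h3
    obtain ⟨hp, hr⟩ := proj_of_locFree B (B ⊗[A] N) r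
      ((locFree_iff_fitt (R := B) (M := B ⊗[A] N) r).mpr hF)
    exact ⟨inferInstance, hp, hr⟩

theorem fitt_of_projective_domain (C : Type u) [CommRing C] [IsDomain C] (P : Type u)
    [AddCommGroup P] [Module C P] [Module.Finite C P] [Module.Projective C P] :
    ∃ ρ : ℕ, (∀ k, k < ρ → Fitt.ideal C P k = ⊥) ∧ (∀ k, ρ ≤ k → Fitt.ideal C P k = ⊤) := by
  refine ⟨Module.rankAtStalk P (⟨⊥, Ideal.isPrime_bot⟩ : PrimeSpectrum C), ?_⟩
  have hrk : ∀ p : PrimeSpectrum C, Module.rankAtStalk P p =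
      Module.rankAtStalk P (⟨⊥, Ideal.isPrime_bot⟩ : PrimeSpectrum C) := by
    intro p
    refine (Module.rankAtStalk_eq_of_le_of_finite_of_flat P ?_).symm
    show (⊥ : Ideal C) ≤ p.asIdeal
    exact bot_le
  exact (locFree_iff_fitt (R := C) (M := P) _).mp (locFree_of_proj C P _ hrk)

theorem map_prod_eq_top_iff {A B : Type u} [CommRing A] [CommRing B] {ι : Type*} (f : A →+* B)
    (D : Finset ι) (I : ι → Ideal A) :
    (∏ v ∈ D, I v).map f = ⊤ ↔ ∀ v ∈ D, (I v).map f = ⊤ := by
  classical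
  induction D using Finset.induction_on with
  | empty =>
    rw [Finset.prod_empty, Ideal.one_eq_top, Ideal.map_top]
    simp
  | insert a s ha ih =>
    rw [Finset.prod_insert ha, Ideal.map_mul]
    constructor
    · intro H v hv
      rcases Finset.mem_insert.mp hv with rfl | hv
      · exact top_le_iff.mp (H ▸ Ideal.mul_le_left)
      · exact ih.mp (top_le_iff.mp (H ▸ Ideal.mul_le_right)) v hv
    · intro H
      rw [H a (Finset.mem_insert_self _ _),
        ih.mpr (fun v hv => H v (Finset.mem_insert_of_mem hv)), Ideal.mul_top]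

end PartI

/-! ### Part II: finitely many degrees suffice -/

section PartII

variable {A : Type u} [CommRing A]
  {M : Type u} [AddCommGroup M] [Module A M]
  (ℳ : ℤ → Submodule A M) [DirectSum.Decomposition ℳ]

/-- projection to a graded piece -/
noncomputable def proj (v : ℤ) : M →ₗ[A] ↥(ℳ v) :=
  (DirectSum.component A ℤ (fun i => ↥(ℳ i)) v) ∘ₗ (DirectSum.decomposeLinearEquiv ℳ).toLinearMap

theorem proj_comp_subtype (v : ℤ) : (proj ℳ v) ∘ₗ (ℳ v).subtype = LinearMap.id := by
  refine LinearMap.ext fun x => ?_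
  show (DirectSum.decompose ℳ (x : M)) v = x
  rw [DirectSum.decompose_coe, DirectSum.of_eq_same]

theorem piece_projective (C : Type u) [CommRing C] [Algebra A C]
    (hfree : Module.Free C (C ⊗[A] M)) (v : ℤ) : Module.Projective C (C ⊗[A] ↥(ℳ v)) := by
  haveI := hfree
  refine Module.Projective.of_split ((ℳ v).subtype.baseChange C) ((proj ℳ v).baseChange C) ?_
  rw [← LinearMap.baseChange_comp, proj_comp_subtype, LinearMap.baseChange_id]

attribute [local instance] Groth.Agent.Lib.Helper8.GrStratAlgA.tensorModule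
attribute [local instance] Groth.Agent.Lib.Helper8.GrStratAlgA.isScalarTower_tensor

set_option synthInstance.maxHeartbeats 400000 in
set_option maxHeartbeats 1600000 in
theorem GF (R : Type u) [CommRing R] [Algebra A R] [Algebra.FiniteType A R]
    [Module R M] [IsScalarTower A R M] [Module.Finite R M]
    (hfg : ∀ v, Module.Finite A ↥(ℳ v)) (J : Ideal A) [hJ : J.IsPrime] :
    ∃ f : A, f ∉ J ∧ ∀ (p : Ideal A) [p.IsPrime], J ≤ p → f ∉ p → ∀ (v : ℤ) (k : ℕ),
      (Fitt.ideal A ↥(ℳ v) k ≤ p ↔ Fitt.ideal A ↥(ℳ v) k ≤ J) := by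
  haveI : IsDomain (A ⧸ J) := Ideal.Quotient.isDomain J
  haveI : Module.Finite ((A ⧸ J) ⊗[A] R) ((A ⧸ J) ⊗[A] M) :=
    Groth.Agent.Lib.Helper8.GrStratAlgA.finite_tensor (A ⧸ J) R M
  obtain ⟨fb, hfb, hfree⟩ := genFree_finiteType (R := A ⧸ J) (S := (A ⧸ J) ⊗[A] R)
    ((A ⧸ J) ⊗[A] M)
  obtain ⟨f, hf⟩ := Ideal.Quotient.mk_surjective fb
  have hfJ : f ∉ J := fun hfm => hfb (by rw [← hf]; exact Ideal.Quotient.eq_zero_iff_mem.mpr hfm)
  refine ⟨f, hfJ, ?_⟩
  haveI : IsDomain (Localization.Away fb) :=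
    IsLocalization.isDomain_localization (powers_le_nonZeroDivisors_of_noZeroDivisors hfb)
  have hfreeC : Module.Free (Localization.Away fb) (Localization.Away fb ⊗[A] M) := by
    haveI h : Module.Free (Localization.Away fb)
        (Localization.Away fb ⊗[A ⧸ J] ((A ⧸ J) ⊗[A] M)) := hfree
    exact Module.Free.of_equiv (TensorProduct.AlgebraTensorModule.cancelBaseChange A (A ⧸ J)
      (Localization.Away fb) (Localization.Away fb) M)
  have hinj : Function.Injective (algebraMap (A ⧸ J) (Localization.Away fb)) :=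
    IsLocalization.injective (Localization.Away fb)
      (powers_le_nonZeroDivisors_of_noZeroDivisors hfb)
  have hmapeq : ∀ I : Ideal A, I.map (algebraMap A (Localization.Away fb)) =
      (I.map (Ideal.Quotient.mk J)).map (algebraMap (A ⧸ J) (Localization.Away fb)) := by
    intro I
    rw [Ideal.map_map, IsScalarTower.algebraMap_eq A (A ⧸ J) (Localization.Away fb)]
    rfl
  intro p hp hJp hfp v k
  haveI := hfg v
  haveI : Module.Projective (Localization.Away fb) (Localization.Away fb ⊗[A] ↥(ℳ v)) :=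
    piece_projective ℳ (Localization.Away fb) hfreeC v
  obtain ⟨ρ, h1, h2⟩ := fitt_of_projective_domain (Localization.Away fb)
    (Localization.Away fb ⊗[A] ↥(ℳ v))
  have hbc : Fitt.ideal (Localization.Away fb) (Localization.Away fb ⊗[A] ↥(ℳ v)) k =
      (Fitt.ideal A ↥(ℳ v) k).map (algebraMap A (Localization.Away fb)) :=
    fitt_baseChange (R := A) (M := ↥(ℳ v)) (Localization.Away fb) k
  have key : ∀ (p' : Ideal A) [p'.IsPrime], J ≤ p' → f ∉ p' →
      (Fitt.ideal A ↥(ℳ v) k ≤ p' ↔ k < ρ) := by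
    intro p' hp' hJp' hfp'
    constructor
    · intro hle
      by_contra hk
      push Not at hk
      have htop := h2 k hk
      rw [hbc, hmapeq] at htop
      have hnd : ¬ Disjoint ((Submonoid.powers fb : Submonoid (A ⧸ J)) : Set (A ⧸ J))
          (((Fitt.ideal A ↥(ℳ v) k).map (Ideal.Quotient.mk J) : Ideal (A ⧸ J)) : Set (A ⧸ J)) := by
        rw [← IsLocalization.map_algebraMap_ne_top_iff_disjoint (Submonoid.powers fb)
          (Localization.Away fb)]
        exact fun hne => hne htop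
      rw [Set.not_disjoint_iff] at hnd
      obtain ⟨y, ⟨n, rfl⟩, hy⟩ := hnd
      obtain ⟨x, hx, hxy⟩ := (Ideal.mem_map_iff_of_surjective _
        Ideal.Quotient.mk_surjective).mp hy
      have hJm : f ^ n - x ∈ J := by
        rw [← Ideal.Quotient.eq_zero_iff_mem, map_sub, map_pow, hf, hxy, sub_self]
      have hfn : f ^ n ∈ p' := by
        have h3 := p'.add_mem (hJp' hJm) (hle hx)
        simpa using h3
      exact hfp' (hp'.mem_of_pow_mem n hfn)
    · intro hk
      have hbot := h1 k hk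
      rw [hbc] at hbot
      intro x hx
      apply hJp'
      have h0 : algebraMap A (Localization.Away fb) x = 0 := by
        have h3 : algebraMap A (Localization.Away fb) x ∈
            (Fitt.ideal A ↥(ℳ v) k).map (algebraMap A (Localization.Away fb)) :=
          Ideal.mem_map_of_mem _ hx
        rw [hbot] at h3
        exact h3
      have h0' : algebraMap (A ⧸ J) (Localization.Away fb) (Ideal.Quotient.mk J x) = 0 := by
        rw [← h0, IsScalarTower.algebraMap_apply A (A ⧸ J) (Localization.Away fb)]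
        rfl
      exact Ideal.Quotient.eq_zero_iff_mem.mp (hinj (h0'.trans (map_zero _).symm))
  rw [key p hJp hfp, key J le_rfl hfJ]

/-- the fibre dimension of the piece of degree `v` at `p` is `h v` -/
def Good (h : ℤ → ℕ) (p : Ideal A) (v : ℤ) : Prop :=
  (∀ k, k < h v → Fitt.ideal A ↥(ℳ v) k ≤ p) ∧ ¬ Fitt.ideal A ↥(ℳ v) (h v) ≤ p

omit [DirectSum.Decomposition ℳ] in
theorem good_iff_of_GF {h : ℤ → ℕ} {p J : Ideal A}
    (hiff : ∀ (v : ℤ) (k : ℕ), (Fitt.ideal A ↥(ℳ v) k ≤ p ↔ Fitt.ideal A ↥(ℳ v) k ≤ J))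
    (v : ℤ) : Good ℳ h p v ↔ Good ℳ h J v := by
  unfold Good
  constructor
  · rintro ⟨h1, h2⟩
    exact ⟨fun k hk => (hiff v k).mp (h1 k hk), fun hle => h2 ((hiff v _).mpr hle)⟩
  · rintro ⟨h1, h2⟩
    exact ⟨fun k hk => (hiff v k).mpr (h1 k hk), fun hle => h2 ((hiff v _).mp hle)⟩

theorem exists_finset [IsNoetherianRing A] (R : Type u) [CommRing R] [Algebra A R]
    [Algebra.FiniteType A R] [Module R M] [IsScalarTower A R M] [Module.Finite R M]
    (hfg : ∀ v, Module.Finite A ↥(ℳ v)) (h : ℤ → ℕ)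
    (J : Ideal A) :
    ∃ D : Finset ℤ, ∀ (p : Ideal A) [p.IsPrime], J ≤ p →
      (∀ v ∈ D, Good ℳ h p v) → ∀ v, Good ℳ h p v := by
  classical
  refine IsNoetherian.induction (R := A) (M := A)
    (P := fun J : Ideal A => ∃ D : Finset ℤ, ∀ (p : Ideal A) [p.IsPrime], J ≤ p →
      (∀ v ∈ D, Good ℳ h p v) → ∀ v, Good ℳ h p v) (fun (J : Ideal A) IH => ?_) J
  have hlt : ∀ x : A, x ∉ J → J < J ⊔ Ideal.span {x} := by
    intro x hx
    refine lt_of_le_of_ne le_sup_left (fun heq => hx ?_)
    rw [heq]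
    exact Ideal.mem_sup_right (Ideal.mem_span_singleton_self x)
  by_cases hJ : J.IsPrime
  · haveI := hJ
    obtain ⟨f, hfJ, hGF⟩ := GF ℳ R hfg J
    obtain ⟨D', hD'⟩ := IH _ (hlt f hfJ)
    have hcase : ∀ (p : Ideal A) [p.IsPrime], J ≤ p → f ∈ p →
        (∀ v ∈ D', Good ℳ h p v) → ∀ v, Good ℳ h p v := by
      intro p hp hJp hfp hD
      exact hD' p (sup_le hJp ((Ideal.span_singleton_le_iff_mem _).mpr hfp)) hD
    by_cases hall : ∀ v, Good ℳ h J v
    · refine ⟨D', fun p hp hJp hD v => ?_⟩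
      by_cases hfp : f ∈ p
      · exact hcase p hJp hfp hD v
      · exact (good_iff_of_GF ℳ (hGF p hJp hfp) v).mpr (hall v)
    · push Not at hall
      obtain ⟨v0, hv0⟩ := hall
      refine ⟨insert v0 D', fun p hp hJp hD v => ?_⟩
      by_cases hfp : f ∈ p
      · exact hcase p hJp hfp (fun w hw => hD w (Finset.mem_insert_of_mem hw)) v
      · exact absurd ((good_iff_of_GF ℳ (hGF p hJp hfp) v0).mp
          (hD v0 (Finset.mem_insert_self _ _))) hv0
  · by_cases htop : J = ⊤
    · refine ⟨∅, fun p hp hJp _ v => ?_⟩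
      exact absurd (top_le_iff.mp (htop ▸ hJp)) hp.ne_top
    · have hex : ∃ x y : A, x * y ∈ J ∧ x ∉ J ∧ y ∉ J := by
        by_contra hno
        push Not at hno
        exact hJ ⟨htop, fun {x y} hxy => by
          by_contra hc
          push Not at hc
          exact hc.2 (hno x y hxy hc.1)⟩
      obtain ⟨x, y, hxy, hx, hy⟩ := hex
      obtain ⟨D1, hD1⟩ := IH _ (hlt x hx)
      obtain ⟨D2, hD2⟩ := IH _ (hlt y hy)
      refine ⟨D1 ∪ D2, fun p hp hJp hD v => ?_⟩
      rcases hp.mem_or_mem (hJp hxy) with hxp | hyp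
      · exact hD1 p (sup_le hJp ((Ideal.span_singleton_le_iff_mem _).mpr hxp))
          (fun w hw => hD w (Finset.mem_union_left _ hw)) v
      · exact hD2 p (sup_le hJp ((Ideal.span_singleton_le_iff_mem _).mpr hyp))
          (fun w hw => hD w (Finset.mem_union_right _ hw)) v

end PartII

/-! ### Part III -/

theorem main (A : Type u) [CommRing A] [IsNoetherianRing A]
    (R : Type u) [CommRing R] [Algebra A R] [Algebra.FiniteType A R]
    (M : Type u) [AddCommGroup M] [Module A M] [Module R M] [IsScalarTower A R M]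
    [Module.Finite R M]
    (ℳ : ℤ → Submodule A M) [DirectSum.Decomposition ℳ]
    (hfg : ∀ v : ℤ, Module.Finite A ↥(ℳ v)) (h : ℤ → ℕ) :
    ∃ a b : Ideal A, ∀ (B : Type u) [CommRing B] [Algebra A B],
      ((∀ v : ℤ, Module.Finite B (B ⊗[A] ↥(ℳ v)) ∧ Module.Projective B (B ⊗[A] ↥(ℳ v)) ∧
          ∀ p : PrimeSpectrum B, Module.rankAtStalk (B ⊗[A] ↥(ℳ v)) p = h v) ↔
        (Ideal.map (algebraMap A B) a = ⊥ ∧ Ideal.map (algebraMap A B) b = ⊤)) := by
  classical
  obtain ⟨D, hD⟩ := exists_finset ℳ R hfg h ⊥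
  refine ⟨⨆ v : ℤ, ⨆ k : Fin (h v), Fitt.ideal A ↥(ℳ v) k,
    ∏ v ∈ D, Fitt.ideal A ↥(ℳ v) (h v), ?_⟩
  intro B _ _
  have hI : ∀ v, (Module.Finite B (B ⊗[A] ↥(ℳ v)) ∧ Module.Projective B (B ⊗[A] ↥(ℳ v)) ∧
      ∀ p : PrimeSpectrum B, Module.rankAtStalk (B ⊗[A] ↥(ℳ v)) p = h v) ↔
      ((∀ k, k < h v → (Fitt.ideal A ↥(ℳ v) k).map (algebraMap A B) = ⊥) ∧
        (Fitt.ideal A ↥(ℳ v) (h v)).map (algebraMap A B) = ⊤) := by
    intro v
    haveI := hfg v
    exact proj_rank_iff_fitt ↥(ℳ v) (h v) B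
  have ha : Ideal.map (algebraMap A B) (⨆ v : ℤ, ⨆ k : Fin (h v), Fitt.ideal A ↥(ℳ v) k) = ⊥ ↔
      ∀ v k, k < h v → (Fitt.ideal A ↥(ℳ v) k).map (algebraMap A B) = ⊥ := by
    simp only [Ideal.map_iSup, iSup_eq_bot]
    constructor
    · intro H v k hk
      exact H v ⟨k, hk⟩
    · intro H v k
      exact H v k k.2
  have hb : Ideal.map (algebraMap A B) (∏ v ∈ D, Fitt.ideal A ↥(ℳ v) (h v)) = ⊤ ↔
      ∀ v ∈ D, (Fitt.ideal A ↥(ℳ v) (h v)).map (algebraMap A B) = ⊤ :=
    map_prod_eq_top_iff (algebraMap A B) D _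
  rw [ha, hb]
  constructor
  · intro H
    exact ⟨fun v k hk => ((hI v).mp (H v)).1 k hk, fun v _ => ((hI v).mp (H v)).2⟩
  · rintro ⟨hA, hB⟩ w
    refine (hI w).mpr ⟨hA w, ?_⟩
    by_contra hne
    obtain ⟨q, hq, hqle⟩ := Ideal.exists_le_maximal _ hne
    haveI : q.IsPrime := hq.isPrime
    have hgood : ∀ v ∈ D, Good ℳ h (q.comap (algebraMap A B)) v := by
      intro v hv
      refine ⟨fun k hk => ?_, fun hle => ?_⟩
      · refine Ideal.map_le_iff_le_comap.mp ?_
        rw [hA v k hk]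
        exact bot_le
      · have h3 := Ideal.map_le_iff_le_comap.mpr hle
        rw [hB v hv] at h3
        exact hq.ne_top (top_le_iff.mp h3)
    have hw := hD (q.comap (algebraMap A B)) bot_le hgood w
    exact hw.2 (Ideal.map_le_iff_le_comap.mp hqle)

end Groth.Agent.Lib.Helper9.GrFlatStrat
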