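import Mathlib

/-!
# Graded Jordan normal form of a homogeneous nilpotent endomorphism
-/

set_option autoImplicit false
set_option linter.style.haveILetI false

namespace Groth.Agent.Lib.Helper9.GrJordan

universe u v w

open DirectSum

section proj

variable {k : Type u} [Field k] {Λ : Type v} [AddCommGroup Λ] [DecidableEq Λ]
  {V : Type w} [AddCommGroup V] [Module k V]
  (𝒱 : Λ → Submodule k V) [DirectSum.Decomposition 𝒱]

/-- the component of `v` in degree `μ` -/
noncomputable def proj (μ : Λ) (v : V) : V := ((DirectSum.decompose 𝒱 v) μ : V)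

theorem proj_mem (μ : Λ) (v : V) : proj 𝒱 μ v ∈ 𝒱 μ := ((DirectSum.decompose 𝒱 v) μ).2

theorem proj_of_mem_same {μ : Λ} {v : V} (hv : v ∈ 𝒱 μ) : proj 𝒱 μ v = v :=
  DirectSum.decompose_of_mem_same 𝒱 hv

theorem proj_of_mem_ne {μ ν : Λ} {v : V} (hv : v ∈ 𝒱 ν) (h : ν ≠ μ) : proj 𝒱 μ v = 0 :=
  DirectSum.decompose_of_mem_ne 𝒱 hv h

theorem proj_zero (μ : Λ) : proj 𝒱 μ (0 : V) = 0 := by
  simp [proj, DirectSum.decompose_zero]

theorem proj_add (μ : Λ) (v w : V) : proj 𝒱 μ (v + w) = proj 𝒱 μ v + proj 𝒱 μ w := by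
  simp [proj, DirectSum.decompose_add]

theorem sum_proj (v : V) : ∃ s : Finset Λ, v = ∑ μ ∈ s, proj 𝒱 μ v := by
  classical
  exact ⟨(DirectSum.decompose 𝒱 v).support, (DirectSum.sum_support_decompose 𝒱 v).symm⟩

variable (A : Module.End k V) (χ : Λ) (hhom : ∀ (μ : Λ) (v : V), v ∈ 𝒱 μ → A v ∈ 𝒱 (μ + χ))

include hhom in
theorem proj_apply (μ : Λ) (v : V) : proj 𝒱 (μ + χ) (A v) = A (proj 𝒱 μ v) := by
  induction v using DirectSum.Decomposition.inductionOn 𝒱 with
  | zero => simp [proj_zero]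
  | @homogeneous ν m =>
    by_cases h : ν = μ
    · subst h
      rw [proj_of_mem_same 𝒱 m.2, proj_of_mem_same 𝒱 (hhom _ _ m.2)]
    · rw [proj_of_mem_ne 𝒱 m.2 h, map_zero,
        proj_of_mem_ne 𝒱 (hhom _ _ m.2) (fun h' => h (add_right_cancel h'))]
  | add m m' h1 h2 => rw [map_add, proj_add, proj_add, map_add, h1, h2]

/-- graded submodules -/
def IsGr (W : Submodule k V) : Prop := ∀ w ∈ W, ∀ μ, proj 𝒱 μ w ∈ W

include hhom in
theorem isGr_map {W : Submodule k V} (hW : IsGr 𝒱 W) : IsGr 𝒱 (W.map A) := by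
  rintro _ ⟨w, hw, rfl⟩ μ
  have : μ = (μ - χ) + χ := by abel
  rw [this, proj_apply 𝒱 A χ hhom]
  exact ⟨_, hW w hw _, rfl⟩

end proj

section fam

/-- new chain lengths -/
abbrev newLen {ι : Type*} (κ : Type*) (n : ι → ℕ) : ι ⊕ κ → ℕ :=
  Sum.elim (fun i => n i + 1) (fun _ => 0)

/-- new family of chains: the old chains extended by one vector on top, and new chains of
length one -/
def newFam {ι κ V : Type*} (n : ι → ℕ) (e : (Σ i : ι, Fin (n i + 1)) → V) (f : ι → V)
    (g : κ → V) : (Σ i : ι ⊕ κ, Fin (newLen κ n i + 1)) → V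
  | ⟨Sum.inl i, l⟩ => Fin.lastCases (n := n i + 1) (motive := fun _ => V) (f i)
      (fun l' => e ⟨i, l'⟩) l
  | ⟨Sum.inr j, _⟩ => g j

variable {ι κ V : Type*} (n : ι → ℕ) (e : (Σ i : ι, Fin (n i + 1)) → V) (f : ι → V) (g : κ → V)

theorem newFam_last (i : ι) :
    newFam n e f g ⟨Sum.inl i, (Fin.last (n i + 1) : Fin (n i + 1 + 1))⟩ = f i := by
  simp only [newFam]
  exact Fin.lastCases_last

theorem newFam_castSucc (i : ι) (l : Fin (n i + 1)) :
    newFam n e f g ⟨Sum.inl i, (Fin.castSucc l : Fin (n i + 1 + 1))⟩ = e ⟨i, l⟩ := by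
  simp only [newFam]
  exact Fin.lastCases_castSucc _

theorem newFam_zero (i : ι) :
    newFam n e f g ⟨Sum.inl i, (0 : Fin (n i + 1 + 1))⟩ = e ⟨i, 0⟩ :=
  newFam_castSucc n e f g i 0

theorem newFam_inr (j : κ) (l : Fin (0 + 1)) : newFam n e f g ⟨Sum.inr j, l⟩ = g j := rfl

theorem newFam_inl_ind {P : V → Prop} (i : ι) (h1 : P (f i)) (h2 : ∀ l, P (e ⟨i, l⟩))
    (l : Fin (n i + 1 + 1)) : P (newFam n e f g ⟨Sum.inl i, l⟩) := by
  induction l using Fin.lastCases with
  | last => rw [newFam_last]; exact h1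
  | cast l => rw [newFam_castSucc]; exact h2 l

theorem newFam_ind {P : V → Prop} (h1 : ∀ i, P (f i)) (h2 : ∀ x, P (e x)) (h3 : ∀ j, P (g j))
    (x : Σ i : ι ⊕ κ, Fin (newLen κ n i + 1)) : P (newFam n e f g x) := by
  obtain ⟨i | j, l⟩ := x
  · exact newFam_inl_ind n e f g i (h1 i) (fun l => h2 ⟨i, l⟩) l
  · exact h3 j

theorem sum_newIdx [Fintype ι] [Fintype κ] {M : Type*} [AddCommMonoid M]
    (F : (Σ i : ι ⊕ κ, Fin (newLen κ n i + 1)) → M) :
    ∑ x, F x = ∑ i : ι, (F ⟨Sum.inl i, (0 : Fin (n i + 1 + 1))⟩ +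
      ∑ l : Fin (n i + 1), F ⟨Sum.inl i, (Fin.succ l : Fin (n i + 1 + 1))⟩) +
      ∑ j : κ, F ⟨Sum.inr j, (0 : Fin (0 + 1))⟩ := by
  rw [Fintype.sum_sigma, Fintype.sum_sum_type]
  congr 1
  · apply Finset.sum_congr rfl
    intro i _
    exact Fin.sum_univ_succ (fun l : Fin (n i + 1 + 1) => F ⟨Sum.inl i, l⟩)
  · apply Finset.sum_congr rfl
    intro j _
    exact Fin.sum_univ_one (fun l : Fin (0 + 1) => F ⟨Sum.inr j, l⟩)

end fam

section main

variable {k : Type u} [Field k] {Λ : Type v} [AddCommGroup Λ] [DecidableEq Λ]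
  {V : Type w} [AddCommGroup V] [Module k V] [FiniteDimensional k V]
  (𝒱 : Λ → Submodule k V) [DirectSum.Decomposition 𝒱]
  (A : Module.End k V) (χ : Λ) (hhom : ∀ (μ : Λ) (v : V), v ∈ 𝒱 μ → A v ∈ 𝒱 (μ + χ))

/-- Jordan data for a submodule -/
def HasJordan (W : Submodule k V) : Prop :=
  ∃ (ι : Type w) (_ : Finite ι) (n : ι → ℕ) (e : (Σ i : ι, Fin (n i + 1)) → V),
    (∀ x, ∃ μ, e x ∈ 𝒱 μ) ∧ (∀ i, A (e ⟨i, 0⟩) = 0) ∧
    (∀ i (l : Fin (n i)), A (e ⟨i, l.succ⟩) = e ⟨i, l.castSucc⟩) ∧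
    LinearIndependent k e ∧ Submodule.span k (Set.range e) = W

omit [FiniteDimensional k V] [DirectSum.Decomposition 𝒱] [DecidableEq Λ] in
theorem hasJordan_bot : HasJordan 𝒱 A (⊥ : Submodule k V) := by
  refine ⟨PEmpty, inferInstance, PEmpty.elim, fun x => x.1.elim, fun x => x.1.elim,
    fun i => i.elim, fun i => i.elim, linearIndependent_empty_type, ?_⟩
  have : Set.range (fun x : (Σ i : PEmpty.{w+1}, Fin (PEmpty.elim i + 1)) => (x.1.elim : V)) = ∅ := by
    ext v; simp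
  rw [this, Submodule.span_empty]

include hhom in
theorem step (W : Submodule k V) (hW : IsGr 𝒱 W) (hAW : W.map A ≤ W)
    (hH : HasJordan 𝒱 A (W.map A)) : HasJordan 𝒱 A W := by
  classical
  obtain ⟨ι, hι, n, e, hhomog, h0, hchain, hli, hspan⟩ := hH
  haveI : Fintype ι := Fintype.ofFinite ι
  have heW' : ∀ x, e x ∈ W.map A := fun x => hspan ▸ Submodule.subset_span ⟨x, rfl⟩
  have heW : ∀ x, e x ∈ W := fun x => hAW (heW' x)
  -- tops
  have hf : ∀ i : ι, ∃ f : V, f ∈ W ∧ (∃ μ, f ∈ 𝒱 μ) ∧ A f = e ⟨i, Fin.last (n i)⟩ := by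
    intro i
    obtain ⟨w, hw, hAw⟩ := heW' ⟨i, Fin.last (n i)⟩
    obtain ⟨μ, hμ⟩ := hhomog ⟨i, Fin.last (n i)⟩
    refine ⟨proj 𝒱 (μ - χ) w, hW w hw _, ⟨_, proj_mem 𝒱 _ _⟩, ?_⟩
    rw [← proj_apply 𝒱 A χ hhom, sub_add_cancel, hAw, proj_of_mem_same 𝒱 hμ]
  choose f hfW hfhom hAf using hf
  -- kernel
  let s : Set V := Set.range (fun i : ι => e ⟨i, 0⟩)
  let t : Set V := {v | v ∈ W ∧ A v = 0 ∧ ∃ μ, v ∈ 𝒱 μ}
  have hst : s ⊆ t := by
    rintro _ ⟨i, rfl⟩
    exact ⟨heW _, h0 i, hhomog _⟩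
  have hinj0 : Function.Injective (fun i : ι => (⟨i, 0⟩ : Σ i : ι, Fin (n i + 1))) := by
    intro i j h
    exact (Sigma.mk.inj_iff.mp h).1
  have hs : LinearIndepOn k id s := (hli.comp _ hinj0).linearIndepOn_id
  let b : Set V := hs.extend hst
  have hsb : s ⊆ b := hs.subset_extend hst
  have hbt : b ⊆ t := hs.extend_subset hst
  have htb : t ⊆ Submodule.span k b := hs.subset_span_extend hst
  have hb : LinearIndepOn k id b := hs.linearIndepOn_extend hst
  have hbli : LinearIndependent k (fun x : b => (x : V)) := hb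
  let κ : Type w := ↥(b \ s)
  haveI : Finite b := hbli.finite
  haveI : Finite κ := Finite.of_injective (fun j : κ => (⟨j.1, j.2.1⟩ : b))
    (fun j j' h => Subtype.ext (congrArg (fun x : b => (x : V)) h))
  haveI : Fintype κ := Fintype.ofFinite κ
  let g : κ → V := fun j => j.1
  have he'W : ∀ x, newFam n e f g x ∈ W :=
    newFam_ind (P := fun v => v ∈ W) n e f g hfW heW (fun j => (hbt j.2.1).1)
  have hAe'succ : ∀ (i : ι) (l : Fin (n i + 1)),
      A (newFam n e f g ⟨Sum.inl i, (Fin.succ l : Fin (n i + 1 + 1))⟩) = e ⟨i, l⟩ := by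
    intro i l
    induction l using Fin.lastCases with
    | last =>
      rw [Fin.succ_last, newFam_last, hAf]
    | cast l =>
      rw [Fin.succ_castSucc, newFam_castSucc, hchain]
  have hAe'0 : ∀ i : ι ⊕ κ, A (newFam n e f g ⟨i, 0⟩) = 0 := by
    rintro (i | j)
    · have := newFam_zero n e f g i
      exact (congrArg A this).trans (h0 i)
    · exact (hbt j.2.1).2.1
  have hA0inl : ∀ i : ι, A (newFam n e f g ⟨Sum.inl i, (0 : Fin (n i + 1 + 1))⟩) = 0 :=
    fun i => hAe'0 (Sum.inl i)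
  have hA0inr : ∀ j : κ, A (newFam n e f g ⟨Sum.inr j, (0 : Fin (0 + 1))⟩) = 0 :=
    fun j => hAe'0 (Sum.inr j)
  refine ⟨ι ⊕ κ, inferInstance, newLen κ n, newFam n e f g, ?_, hAe'0, ?_, ?_, ?_⟩
  · exact newFam_ind (P := fun v => ∃ μ, v ∈ 𝒱 μ) n e f g hfhom hhomog
      (fun j => (hbt j.2.1).2.2)
  · rintro (i | j) l
    · exact (hAe'succ i l).trans (newFam_castSucc n e f g i l).symm
    · exact l.elim0
  · -- linear independence
    rw [Fintype.linearIndependent_iff]
    intro c hc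
    -- apply A
    have hA : ∑ x : (Σ i : ι, Fin (n i + 1)),
        c ⟨Sum.inl x.1, (Fin.succ x.2 : Fin (n x.1 + 1 + 1))⟩ • e x = 0 := by
      have h1 := congrArg A hc
      rw [map_zero, map_sum, sum_newIdx] at h1
      simp only [map_smul, hA0inl, hA0inr, smul_zero, zero_add, Finset.sum_const_zero, add_zero,
        hAe'succ] at h1
      rw [Fintype.sum_sigma]
      exact h1
    have hc1 : ∀ (i : ι) (l : Fin (n i + 1)),
        c ⟨Sum.inl i, (Fin.succ l : Fin (n i + 1 + 1))⟩ = 0 := by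
      intro i l
      exact (Fintype.linearIndependent_iff.mp hli) _ hA ⟨i, l⟩
    -- remaining
    rw [sum_newIdx] at hc
    simp only [hc1, zero_smul, Finset.sum_const_zero, add_zero, newFam_zero, newFam_inr] at hc
    -- family on ι ⊕ κ
    let u' : ι ⊕ κ → b := Sum.elim (fun i => ⟨e ⟨i, 0⟩, hsb ⟨i, rfl⟩⟩) (fun j => ⟨j.1, j.2.1⟩)
    have hu'inj : Function.Injective u' := by
      rintro (i | j) (i' | j') h
      · have : e ⟨i, 0⟩ = e ⟨i', 0⟩ := congrArg (fun x : b => (x : V)) h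
        have := hli.injective this
        rw [(Sigma.mk.inj_iff.mp this).1]
      · exfalso
        have : e ⟨i, 0⟩ = j'.1 := congrArg (fun x : b => (x : V)) h
        exact j'.2.2 ⟨i, this⟩
      · exfalso
        have : j.1 = e ⟨i', 0⟩ := congrArg (fun x : b => (x : V)) h
        exact j.2.2 ⟨i', this.symm⟩
      · have : j.1 = j'.1 := congrArg (fun x : b => (x : V)) h
        rw [Subtype.ext this]
    have hu : LinearIndependent k (fun x : ι ⊕ κ => ((u' x : b) : V)) := hbli.comp u' hu'inj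
    have hsum : ∑ x : ι ⊕ κ, (Sum.elim (fun i => c ⟨Sum.inl i, (0 : Fin (n i + 1 + 1))⟩)
        (fun j => c ⟨Sum.inr j, (0 : Fin (0 + 1))⟩) x) • ((u' x : b) : V) = 0 := by
      rw [Fintype.sum_sum_type]
      simp only [Sum.elim_inl, Sum.elim_inr, u']
      exact hc
    have hall := (Fintype.linearIndependent_iff.mp hu) _ hsum
    rintro ⟨i | j, l⟩
    · have key : ∀ l : Fin (n i + 1 + 1), c ⟨Sum.inl i, l⟩ = 0 := by
        intro l
        induction l using Fin.cases with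
        | zero => exact hall (Sum.inl i)
        | succ l => exact hc1 i l
      exact key l
    · have key : ∀ l : Fin (0 + 1), c ⟨Sum.inr j, l⟩ = 0 := by
        intro l
        have hl : l = 0 := by
          apply Fin.ext
          have := l.isLt
          simp only [Fin.val_zero]
          omega
        rw [hl]; exact hall (Sum.inr j)
      exact key l
  · -- span
    apply le_antisymm
    · rw [Submodule.span_le]
      rintro _ ⟨x, rfl⟩
      exact he'W x
    · intro w hw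
      have hAw : A w ∈ Submodule.span k (Set.range e) := by
        rw [hspan]; exact ⟨w, hw, rfl⟩
      obtain ⟨c, hc⟩ := (Submodule.mem_span_range_iff_exists_fun k).mp hAw
      set w₀ : V := ∑ x : (Σ i : ι, Fin (n i + 1)),
        c x • newFam n e f g ⟨Sum.inl x.1, (Fin.succ x.2 : Fin (n x.1 + 1 + 1))⟩ with hw₀
      have hw₀span : w₀ ∈ Submodule.span k (Set.range (newFam n e f g)) :=
        Submodule.sum_mem _ (fun x _ => Submodule.smul_mem _ _ (Submodule.subset_span ⟨_, rfl⟩))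
      have hw₀W : w₀ ∈ W := Submodule.sum_mem _ (fun x _ => Submodule.smul_mem _ _ (he'W _))
      have hAw₀ : A w₀ = A w := by
        rw [hw₀, map_sum, ← hc]
        apply Finset.sum_congr rfl
        rintro ⟨i, l⟩ _
        rw [map_smul, hAe'succ]
      have hz : w - w₀ ∈ Submodule.span k (Set.range (newFam n e f g)) := by
        have hzW : w - w₀ ∈ W := W.sub_mem hw hw₀W
        have hAz : A (w - w₀) = 0 := by rw [map_sub, hAw₀, sub_self]
        obtain ⟨S, hS⟩ := sum_proj 𝒱 (w - w₀)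
        rw [hS]
        refine Submodule.sum_mem _ (fun μ _ => ?_)
        have hmt : proj 𝒱 μ (w - w₀) ∈ t := by
          refine ⟨hW _ hzW μ, ?_, ⟨μ, proj_mem 𝒱 _ _⟩⟩
          rw [← proj_apply 𝒱 A χ hhom, hAz, proj_zero]
        have hbsub : b ⊆ Set.range (newFam n e f g) := by
          intro v hv
          by_cases hvs : v ∈ s
          · obtain ⟨i, rfl⟩ := hvs
            exact ⟨⟨Sum.inl i, (0 : Fin (n i + 1 + 1))⟩, newFam_zero n e f g i⟩
          · exact ⟨⟨Sum.inr ⟨v, hv, hvs⟩, (0 : Fin (0 + 1))⟩, rfl⟩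
        exact Submodule.span_mono hbsub (htb hmt)
      have : w = w₀ + (w - w₀) := by abel
      rw [this]
      exact Submodule.add_mem _ hw₀span hz

include hhom in
theorem hasJordan_of_isGr (hA : IsNilpotent A) : ∀ (d : ℕ) (W : Submodule k V), IsGr 𝒱 W →
    W.map A ≤ W → Module.finrank k W = d → HasJordan 𝒱 A W := by
  intro d
  induction d using Nat.strong_induction_on with
  | _ d ih =>
    intro W hW hAW hd
    by_cases hbot : W = ⊥
    · rw [hbot]; exact hasJordan_bot 𝒱 A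
    · apply step 𝒱 A χ hhom W hW hAW
      have hlt : W.map A < W := by
        refine lt_of_le_of_ne hAW (fun heq => hbot ?_)
        obtain ⟨m, hm⟩ := hA
        have hpow : ∀ j : ℕ, W.map (A ^ j) = W := by
          intro j
          induction j with
          | zero => simp [Module.End.one_eq_id]
          | succ j ihj =>
            rw [pow_succ', Module.End.mul_eq_comp, Submodule.map_comp, ihj, heq]
        have := hpow m
        rw [hm] at this
        rw [← this]
        exact Submodule.map_zero _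
      have hfr : Module.finrank k (W.map A) < Module.finrank k W :=
        Submodule.finrank_lt_finrank_of_lt hlt
      exact ih _ (hd ▸ hfr) (W.map A) (isGr_map 𝒱 A χ hhom hW)
        (Submodule.map_mono hAW) rfl

end main

theorem main (k : Type u) [Field k] (Λ : Type v) [AddCommGroup Λ] [DecidableEq Λ]
    (V : Type w) [AddCommGroup V] [Module k V] [FiniteDimensional k V]
    (𝒱 : Λ → Submodule k V) (h𝒱 : DirectSum.IsInternal 𝒱)
    (A : Module.End k V) (hA : IsNilpotent A) (χ : Λ)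
    (hhom : ∀ (μ : Λ) (v : V), v ∈ 𝒱 μ → A v ∈ 𝒱 (μ + χ)) :
    ∃ (ι : Type w) (_ : Finite ι) (n : ι → ℕ) (b : Module.Basis (Σ i : ι, Fin (n i + 1)) k V),
      (∀ (i : ι) (l : Fin (n i + 1)), ∃ μ : Λ, b ⟨i, l⟩ ∈ 𝒱 μ) ∧
      (∀ i : ι, A (b ⟨i, 0⟩) = 0) ∧
      ∀ (i : ι) (l : Fin (n i)), A (b ⟨i, l.succ⟩) = b ⟨i, l.castSucc⟩ := by
  letI := h𝒱.chooseDecomposition
  obtain ⟨ι, hι, n, e, hhomog, h0, hchain, hli, hspan⟩ :=
    hasJordan_of_isGr 𝒱 A χ hhom hA _ (⊤ : Submodule k V) (fun w _ μ => Submodule.mem_top)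
      le_top rfl
  refine ⟨ι, hι, n, Module.Basis.mk hli (by rw [hspan]), ?_, ?_, ?_⟩
  · intro i l; rw [Module.Basis.mk_apply]; exact hhomog _
  · intro i; rw [Module.Basis.mk_apply]; exact h0 i
  · intro i l; rw [Module.Basis.mk_apply, Module.Basis.mk_apply]; exact hchain i l

end Groth.Agent.Lib.Helper9.GrJordan
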