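import Mathlib
import Groth.Prelude
import Groth.Agent.Lib.Helper11.HB2
import Groth.Agent.Lib.Helper9.HilbD12Defs
import Groth.Agent.Lib.Helper5.HilbD12Q1
import Groth.Agent.Lib.Helper26.HilbD12Q4

/-!
# D12 for helper18 (S12265): the local ring of the Hilbert scheme at `[X]` carries a natural family of
the local Hilbert functor which is bijective on the dual numbers
-/

set_option autoImplicit false
set_option linter.style.haveILetI false
set_option linter.unusedSectionVars false
set_option backward.isDefEq.respectTransparency.types false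
universe u
open CategoryTheory CategoryTheory.Limits AlgebraicGeometry
open Groth.Agent.Lib.Helper9.HilbD12Defs Groth.Agent.Lib.Helper11
open ArtFun ArtFun.Art
open Groth.Agent.Lib.Helper5.HilbD12Q1 Groth.Agent.Lib.Helper5.HilbD12Q2 Groth.Agent.Lib.Helper26.HilbD12Q4

namespace Groth.Agent.Lib.Helper9.HilbD12

section General

variable {X S : Scheme.{u}} (f : X ⟶ S)

lemma hilbPull_eq_comap {T T' : Over S} (g : T' ⟶ T) (I : (PicF.XT f T).IdealSheafData) :
    FGA.hilbPull f g I = I.comap (PicF.XTmap f g) := by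
  rw [FGA.hilbPull, Scheme.IdealSheafData.comap, ← pullbackSymmetry_hom_comp_fst,
    Scheme.Hom.ker_comp_of_isIso]

/-- the Hilbert functor is a functor: flatness -/
lemma flat_pull {T T' : Over S} (g : T' ⟶ T) (I : (PicF.XT f T).IdealSheafData)
    (hI : Flat (I.subschemeι ≫ PicF.XTproj f T)) :
    Flat ((I.comap (PicF.XTmap f g)).subschemeι ≫ PicF.XTproj f T') := by
  rw [← hilbPull_eq_comap]
  have hp := HB2.isPullback_pull f g I
  have hq : Flat (pullback.snd I.subschemeι (PicF.XTmap f g) ≫ PicF.XTproj f T') :=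
    MorphismProperty.of_isPullback (P := @Flat) hp hI
  unfold FGA.hilbPull
  rw [HB1.subschemeι_ker_comp]
  exact (MorphismProperty.cancel_left_of_respectsIso @Flat _ _).mpr hq

/-- the Hilbert functor is a functor: properness -/
lemma proper_pull {T T' : Over S} (g : T' ⟶ T) (I : (PicF.XT f T).IdealSheafData)
    (hI : IsProper (I.subschemeι ≫ PicF.XTproj f T)) :
    IsProper ((I.comap (PicF.XTmap f g)).subschemeι ≫ PicF.XTproj f T') := by
  rw [← hilbPull_eq_comap]
  have hp := HB2.isPullback_pull f g I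
  have hq : IsProper (pullback.snd I.subschemeι (PicF.XTmap f g) ≫ PicF.XTproj f T') :=
    MorphismProperty.of_isPullback (P := @IsProper) hp hI
  unfold FGA.hilbPull
  rw [HB1.subschemeι_ker_comp]
  exact (MorphismProperty.cancel_left_of_respectsIso @IsProper _ _).mpr hq

end General


section Main

variable {k : Type u} [Field k] (Y : Scheme.{u}) (y : Y ⟶ Spec (CommRingCat.of k))
  (H : Over (Spec (CommRingCat.of k))) (Z : FGA.HilbSet y H) (I₀ : Y.IdealSheafData)
  (h : Over.mk (𝟙 (Spec (CommRingCat.of k))) ⟶ H)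

/-- `Spec A` over `Spec k` -/
noncomputable abbrev TA (A : Art k k) : Over (Spec (CommRingCat.of k)) := Over.mk (specOver A)

/-- `Y ≅ Y ×_k Spec k` -/
noncomputable def ι₁ : Y ⟶ PicF.XT y (Over.mk (𝟙 (Spec (CommRingCat.of k)))) :=
  pullback.lift (𝟙 Y) y (by simp)

lemma ι₁_fst : ι₁ Y y ≫ pullback.fst y (Over.mk (𝟙 (Spec (CommRingCat.of k)))).hom = 𝟙 Y :=
  pullback.lift_fst _ _ _

lemma fst_ι₁ : pullback.fst y (Over.mk (𝟙 (Spec (CommRingCat.of k)))).hom ≫ ι₁ Y y = 𝟙 _ := by
  apply pullback.hom_ext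
  · rw [Category.assoc, ι₁_fst, Category.comp_id, Category.id_comp]
  · rw [Category.assoc, ι₁, pullback.lift_snd, Category.id_comp]
    have := pullback.condition (f := y) (g := (Over.mk (𝟙 (Spec (CommRingCat.of k)))).hom)
    rw [this]
    exact Category.comp_id _

/-- the closed point of `Spec A`, as a morphism over `k` -/
noncomputable def rA (A : Art k k) : Over.mk (𝟙 (Spec (CommRingCat.of k))) ⟶ TA A :=
  Over.homMk (specRes A) (by
    show specRes A ≫ specMap (ofBase A) = 𝟙 _
    rw [specRes_comp]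
    change Spec.map (CommRingCat.ofHom (RingHom.id k)) = _
    rw [CommRingCat.ofHom_id]
    exact Spec.map_id _)

lemma XAincl_eq (A : Art k k) : XAincl y A = ι₁ Y y ≫ PicF.XTmap y (rA A) := by
  have e1 : PicF.XTmap y (rA A) ≫ pullback.fst y (specOver A) =
      pullback.fst y (Over.mk (𝟙 (Spec (CommRingCat.of k)))).hom := HB1.XTmap_fst y (rA A)
  have e2 : PicF.XTmap y (rA A) ≫ pullback.snd y (specOver A) =
      pullback.snd y (Over.mk (𝟙 (Spec (CommRingCat.of k)))).hom ≫ specRes A :=
    HB1.XTmap_snd y (rA A)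
  apply pullback.hom_ext
  · rw [XAincl_fst, Category.assoc, e1, ι₁_fst]
  · rw [XAincl_snd, Category.assoc, e2, ι₁, pullback.lift_snd_assoc]

variable {Y y H} in
/-- the fibre condition -/
lemma fibre_eq (hh : FGA.hilbPull y h Z.1 =
      I₀.comap (pullback.fst y (Over.mk (𝟙 (Spec (CommRingCat.of k)))).hom))
    (A : Art k k) (g : TA A ⟶ H) (hres : rA A ≫ g = h) :
    (Z.1.comap (PicF.XTmap y g)).comap (XAincl y A) = I₀ := by
  rw [XAincl_eq, Scheme.IdealSheafData.comap_comp, ← Scheme.IdealSheafData.comap_comp _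
    (PicF.XTmap y (rA A)), ← HB2.XTmap_comp, hres, ← hilbPull_eq_comap, hh,
    ← Scheme.IdealSheafData.comap_comp, ι₁_fst, Scheme.IdealSheafData.comap_id]

variable {Y y H} in
/-- the element of the local Hilbert functor attached to a morphism `Spec A ⟶ H` through `h` -/
noncomputable def elt (hh : FGA.hilbPull y h Z.1 =
      I₀.comap (pullback.fst y (Over.mk (𝟙 (Spec (CommRingCat.of k)))).hom))
    (A : Art k k) (g : TA A ⟶ H) (hres : rA A ≫ g = h) : (localHilb Y y I₀).obj A :=
  ⟨Z.1.comap (PicF.XTmap y g), flat_pull y g Z.1 Z.2.2, fibre_eq Z I₀ h hh A g hres⟩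

end Main

section Family

variable {k : Type u} [Field k] {Y : Scheme.{u}} {y : Y ⟶ Spec (CommRingCat.of k)}
  {H : Over (Spec (CommRingCat.of k))} (Z : FGA.HilbSet y H) (I₀ : Y.IdealSheafData)
  (h : Over.mk (𝟙 (Spec (CommRingCat.of k))) ⟶ H)

/-- the `k`-algebra structure on the local ring at the rational point -/
@[instance_reducible] noncomputable def algO :
    Algebra k (H.left.presheaf.stalk (h.left.base (IsLocalRing.closedPoint k))) :=
  (algRing H.hom h.left).hom.toAlgebra

attribute [local instance] algO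

/-- the residue map as a `k`-algebra map -/
noncomputable def resO :
    H.left.presheaf.stalk (h.left.base (IsLocalRing.closedPoint k)) →ₐ[k] k :=
  { toRingHom := (resRing h.left).hom
    commutes' := fun c => by
      have := ConcreteCategory.congr_hom (algRing_resRing H.hom h.left (Over.w h)) c
      exact this }

lemma resO_surjective : Function.Surjective (resO h) := fun c =>
  ⟨algebraMap k _ c, (resO h).commutes c⟩

variable {h} in
/-- the underlying ring map of an element of `h_O(A)` -/
noncomputable def φc {A : Art k k} (φ : HomSet _ (resO h) A) :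
    H.left.presheaf.stalk (h.left.base (IsLocalRing.closedPoint k)) ⟶ CommRingCat.of A :=
  CommRingCat.ofHom φ.1.toRingHom

variable {h} in
lemma alg_φc {A : Art k k} (φ : HomSet _ (resO h) A) :
    algRing H.hom h.left ≫ φc φ = CommRingCat.ofHom (ofBase A).toAlgHom.toRingHom := by
  ext c
  exact φ.1.commutes c

variable {h} in
/-- the morphism `Spec A ⟶ H` over `k` attached to an element of `h_O(A)` -/
noncomputable def gOver {A : Art k k} (φ : HomSet _ (resO h) A) : TA A ⟶ H :=
  Over.homMk (gOf h.left (φc φ)) (by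
    show gOf h.left (φc φ) ≫ H.hom = specOver A
    rw [gOf_comp, alg_φc]
    rfl)

variable {h} in
lemma rA_gOver {A : Art k k} (φ : HomSet _ (resO h) A) : rA A ≫ gOver φ = h := by
  apply Over.OverMorphism.ext
  show specRes A ≫ gOf h.left (φc φ) = h.left
  refine res_gOf h.left (φc φ) (CommRingCat.ofHom A.res.toRingHom) ?_
  ext x
  exact congrArg (fun ψ => ψ x) φ.2

/-- `Spec` of a morphism of `Art`, over `k` -/
noncomputable def sf {A B : Art k k} (f : A ⟶ B) : TA B ⟶ TA A :=
  Over.homMk (specMap f) (specOver_comp f)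

variable {h} in
lemma gOver_map {A B : Art k k} (f : A ⟶ B) (φ : HomSet _ (resO h) A) :
    gOver (HomSet.map f φ) = sf f ≫ gOver φ := by
  apply Over.OverMorphism.ext
  show gOf h.left (φc (HomSet.map f φ)) = specMap f ≫ gOf h.left (φc φ)
  unfold gOf
  rw [← Category.assoc, ← Spec.map_comp]
  rfl

/-- the family -/
noncomputable def ξ (hh : FGA.hilbPull y h Z.1 =
      I₀.comap (pullback.fst y (Over.mk (𝟙 (Spec (CommRingCat.of k)))).hom)) :
    Family _ (resO h) (localHilb Y y I₀) where
  app A φ := elt Z I₀ h hh A (gOver φ) (rA_gOver φ)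
  natural {A B} f φ := by
    apply Subtype.ext
    show Z.1.comap (PicF.XTmap y (gOver (HomSet.map f φ))) =
      (Z.1.comap (PicF.XTmap y (gOver φ))).comap (XAmap y f)
    rw [gOver_map, HB2.XTmap_comp, Scheme.IdealSheafData.comap_comp]
    rfl


section Bij

variable [IsProper y] (hH : FGA.HilbRepresentedBy y H Z)
  (hh : FGA.hilbPull y h Z.1 =
      I₀.comap (pullback.fst y (Over.mk (𝟙 (Spec (CommRingCat.of k)))).hom))

instance noeth_TA (A : Art k k) : IsLocallyNoetherian (TA A).left :=
  inferInstanceAs (IsLocallyNoetherian (Spec (CommRingCat.of A)))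

include hH in
lemma ξ_injective : Function.Injective ((ξ Z I₀ h hh).app (dual k k)) := by
  intro φ₁ φ₂ e
  have e1 : Z.1.comap (PicF.XTmap y (gOver φ₁)) = Z.1.comap (PicF.XTmap y (gOver φ₂)) :=
    congrArg Subtype.val e
  obtain ⟨g, -, hu⟩ := hH.2 (TA (dual k k))
    ⟨Z.1.comap (PicF.XTmap y (gOver φ₁)), proper_pull y _ Z.1 Z.2.1, flat_pull y _ Z.1 Z.2.2⟩
  have h1 : gOver φ₁ = g := hu _ (hilbPull_eq_comap y _ Z.1)
  have h2 : gOver φ₂ = g := hu _ ((hilbPull_eq_comap y _ Z.1).trans e1.symm)
  have h3 : gOf h.left (φc φ₁) = gOf h.left (φc φ₂) :=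
    congrArg (fun t => t.left) (h1.trans h2.symm)
  have h4 := gOf_injective h.left _ _ h3
  apply Subtype.ext
  apply AlgHom.ext
  intro x
  exact congrArg (fun ψ => ψ.hom x) h4

include hH in
lemma ξ_surjective : Function.Surjective ((ξ Z I₀ h hh).app (dual k k)) := by
  intro I
  have hprop : IsProper (I.1.subschemeι ≫ PicF.XTproj y (TA (dual k k))) := by
    haveI : IsProper (PicF.XTproj y (TA (dual k k))) :=
      MorphismProperty.pullback_snd (P := @IsProper) _ _ inferInstance
    infer_instance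
  obtain ⟨g, hg, -⟩ := hH.2 (TA (dual k k)) ⟨I.1, hprop, I.2.1⟩
  have hg' : Z.1.comap (PicF.XTmap y g) = I.1 := by
    rw [← hilbPull_eq_comap]; exact hg
  have hres : rA (dual k k) ≫ g = h := by
    haveI : IsLocallyNoetherian (Over.mk (𝟙 (Spec (CommRingCat.of k)))).left :=
      inferInstanceAs (IsLocallyNoetherian (Spec (CommRingCat.of k)))
    obtain ⟨g₁, -, hu⟩ := hH.2 (Over.mk (𝟙 (Spec (CommRingCat.of k))))
      ⟨Z.1.comap (PicF.XTmap y h), proper_pull y h Z.1 Z.2.1, flat_pull y h Z.1 Z.2.2⟩
    have h1 : h = g₁ := hu h (hilbPull_eq_comap y h Z.1)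
    have h2 : rA (dual k k) ≫ g = g₁ := hu _ (by
      show FGA.hilbPull y (rA (dual k k) ≫ g) Z.1 = Z.1.comap (PicF.XTmap y h)
      rw [hilbPull_eq_comap, HB2.XTmap_comp, Scheme.IdealSheafData.comap_comp, hg']
      rw [← hilbPull_eq_comap y h, hh]
      have hI2 : ∀ (J : (XA y (dual k k)).IdealSheafData), J.comap (XAincl y (dual k k)) = I₀ →
          J.comap (PicF.XTmap y (rA (dual k k))) =
            I₀.comap (pullback.fst y (Over.mk (𝟙 (Spec (CommRingCat.of k)))).hom) := by
        intro J hJ
        rw [XAincl_eq, Scheme.IdealSheafData.comap_comp] at hJ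
        rw [← hJ, ← Scheme.IdealSheafData.comap_comp, fst_ι₁, Scheme.IdealSheafData.comap_id]
      exact hI2 I.1 I.2.2)
    exact h2.trans h1.symm
  have hresL : specRes (dual k k) ≫ g.left = h.left := congrArg (fun t => t.left) hres
  haveI : IsLocalHom (CommRingCat.ofHom (dual k k).res.toRingHom).hom :=
    IsLocalHom.of_surjective _ (dual k k).res_surjective
  obtain ⟨φ0, hφ1, hφ2⟩ := exists_of_hom h.left (CommRingCat.ofHom (dual k k).res.toRingHom)
    g.left hresL
  have hlin : algRing H.hom h.left ≫ φ0 =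
      CommRingCat.ofHom (ofBase (dual k k)).toAlgHom.toRingHom := by
    apply Spec.map_injective
    rw [← gOf_comp, hφ2]
    exact Over.w g
  let φ : HomSet _ (resO h) (dual k k) :=
    ⟨{ toRingHom := φ0.hom, commutes' := fun c => congrArg (fun ψ => ψ.hom c) hlin }, by
      apply AlgHom.ext
      intro x
      exact congrArg (fun ψ => ψ.hom x) hφ1⟩
  refine ⟨φ, Subtype.ext ?_⟩
  show Z.1.comap (PicF.XTmap y (gOver φ)) = I.1
  have : gOver φ = g := by
    apply Over.OverMorphism.ext
    exact hφ2
  rw [this, hg']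

end Bij

end Family

/-- **D12** (helper18's stub `exists_family_bijective`, exact signature). -/
theorem exists_family_bijective
    {k : Type u} [Field k] (Y : Scheme.{u}) (y : Y ⟶ Spec (CommRingCat.of k)) [IsProper y]
    (H : Over (Spec (CommRingCat.of k))) (Z : FGA.HilbSet y H) (hH : FGA.HilbRepresentedBy y H Z)
    (I₀ : Y.IdealSheafData)
    (h : Over.mk (𝟙 (Spec (CommRingCat.of k))) ⟶ H)
    (hh : FGA.hilbPull y h Z.1 =
      I₀.comap (pullback.fst y (Over.mk (𝟙 (Spec (CommRingCat.of k)))).hom)) :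
    ∃ (_ : Algebra k (H.left.presheaf.stalk (h.left.base (IsLocalRing.closedPoint k))))
      (resO : H.left.presheaf.stalk (h.left.base (IsLocalRing.closedPoint k)) →ₐ[k] k)
      (ξ : ArtFun.Family _ resO (ArtFun.localHilb Y y I₀)),
      Function.Surjective resO ∧ Function.Bijective (ξ.app (ArtFun.Art.dual k k)) :=
  ⟨algO h, resO h, ξ Z I₀ h hh, resO_surjective h,
    ξ_injective Z I₀ h hH hh, ξ_surjective Z I₀ h hH hh⟩

end Groth.Agent.Lib.Helper9.HilbD12
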