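import Groth.Agent.Lib.Helper9.ExalLib
import Mathlib.RingTheory.Smooth.Basic
import Mathlib.Tactic.Module
import Mathlib.Tactic.LinearCombination

/-!
# The extension attached to a symmetric Hochschild 2-cocycle
-/

set_option autoImplicit false
universe u v

namespace Groth.Agent.Lib.Helper9.Hochschild

open Groth.Agent.Lib.Helper9.ExalLib

/-- Formally smooth algebras have only trivial extensions (any universes). -/
lemma isTrivial_of_formallySmooth {A : Type u} {B L : Type v} [CommRing A] [CommRing B]
    [Algebra A B] [AddCommGroup L] [Module B L] [Algebra.FormallySmooth A B]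
    (X : Exal.Ext A B L) : X.IsTrivial := by
  have hsq := ker_proj_sq X
  obtain ⟨g, hg⟩ := Algebra.FormallySmooth.comp_surjective A B (RingHom.ker X.proj) hsq
    ((Ideal.quotientKerAlgEquivOfSurjective X.isExtension.proj_surjective).symm.toAlgHom)
  refine ⟨g, fun b => ?_⟩
  have h1 := congrArg (fun φ =>
    (Ideal.quotientKerAlgEquivOfSurjective X.isExtension.proj_surjective) (φ b)) hg
  simpa using h1

variable {A : Type u} {B L : Type v} [CommRing A] [CommRing B] [Algebra A B] [AddCommGroup L]
  [Module B L] [Module A L] [IsScalarTower A B L]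

/-- Carrier of the extension attached to a cocycle: `B × L` with twisted multiplication. -/
@[nolint unusedArguments]
def CocExt (_f : B →ₗ[A] B →ₗ[A] L) : Type v := B × L

namespace CocExt

variable (f : B →ₗ[A] B →ₗ[A] L)

instance : AddCommGroup (CocExt f) := inferInstanceAs (AddCommGroup (B × L))

instance : Module A (CocExt f) := inferInstanceAs (Module A (B × L))

/-- first component -/
def fst (e : CocExt f) : B := Prod.fst (e : B × L)

/-- second component -/
def snd (e : CocExt f) : L := Prod.snd (e : B × L)

/-- constructor -/
def mk (x : B) (z : L) : CocExt f := ((x, z) : B × L)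

lemma ext' {e e' : CocExt f} (h1 : fst f e = fst f e') (h2 : snd f e = snd f e') : e = e' :=
  Prod.ext h1 h2

instance : Mul (CocExt f) :=
  ⟨fun e e' => mk f (fst f e * fst f e')
    (fst f e • snd f e' + fst f e' • snd f e + f (fst f e) (fst f e'))⟩

instance : One (CocExt f) := ⟨mk f 1 (-f 1 1)⟩

@[simp] lemma fst_mk (x : B) (z : L) : fst f (mk f x z) = x := rfl
@[simp] lemma snd_mk (x : B) (z : L) : snd f (mk f x z) = z := rfl
@[simp] lemma fst_mul (e e' : CocExt f) : fst f (e * e') = fst f e * fst f e' := rfl
@[simp] lemma snd_mul (e e' : CocExt f) : snd f (e * e') =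
    fst f e • snd f e' + fst f e' • snd f e + f (fst f e) (fst f e') := rfl
@[simp] lemma fst_one : fst f (1 : CocExt f) = 1 := rfl
@[simp] lemma snd_one : snd f (1 : CocExt f) = -f 1 1 := rfl
@[simp] lemma fst_add (e e' : CocExt f) : fst f (e + e') = fst f e + fst f e' := rfl
@[simp] lemma snd_add (e e' : CocExt f) : snd f (e + e') = snd f e + snd f e' := rfl
@[simp] lemma fst_zero : fst f (0 : CocExt f) = 0 := rfl
@[simp] lemma snd_zero : snd f (0 : CocExt f) = 0 := rfl
@[simp] lemma fst_neg (e : CocExt f) : fst f (-e) = -fst f e := rfl
@[simp] lemma snd_neg (e : CocExt f) : snd f (-e) = -snd f e := rfl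
@[simp] lemma fst_sub (e e' : CocExt f) : fst f (e - e') = fst f e - fst f e' := rfl
@[simp] lemma snd_sub (e e' : CocExt f) : snd f (e - e') = snd f e - snd f e' := rfl
@[simp] lemma fst_smul (a : A) (e : CocExt f) : fst f (a • e) = a • fst f e := rfl
@[simp] lemma snd_smul (a : A) (e : CocExt f) : snd f (a • e) = a • snd f e := rfl

variable (hsymm : ∀ x y : B, f x y = f y x)
  (hcoc : ∀ x y z : B, f (x * y) z + z • f x y = x • f y z + f x (y * z))

include hcoc in
lemma f_one_left (y : B) : f 1 y = y • f 1 1 := by
  have h := hcoc 1 1 y
  rw [one_mul, one_mul, one_smul] at h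
  exact (add_left_cancel h).symm

include hsymm in
lemma mul_comm' (e e' : CocExt f) : e * e' = e' * e := by
  apply ext'
  · simp [mul_comm]
  · simp only [snd_mul]; rw [hsymm (fst f e) (fst f e')]; abel

include hcoc in
lemma mul_assoc' (e e' e'' : CocExt f) : e * e' * e'' = e * (e' * e'') := by
  apply ext'
  · simp [mul_assoc]
  · simp only [snd_mul, fst_mul]
    have h := hcoc (fst f e) (fst f e') (fst f e'')
    linear_combination (norm := module) h

include hcoc in
lemma one_mul' (e : CocExt f) : 1 * e = e := by
  apply ext'
  · simp
  · simp only [snd_mul, fst_one, snd_one]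
    rw [f_one_left f hcoc (fst f e)]
    module

lemma left_distrib' (e e' e'' : CocExt f) : e * (e' + e'') = e * e' + e * e'' := by
  apply ext'
  · simp [mul_add]
  · simp only [snd_mul, fst_add, snd_add, map_add]
    module

lemma zero_mul' (e : CocExt f) : 0 * e = 0 := by
  apply ext'
  · simp
  · simp

/-- The commutative ring structure defined by a symmetric cocycle. -/
@[reducible] def commRing : CommRing (CocExt f) :=
  { (inferInstance : AddCommGroup (CocExt f)) with
    mul := (· * ·)
    one := 1
    left_distrib := left_distrib' f
    right_distrib := fun a b c => by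
      rw [mul_comm' f hsymm (a + b) c, left_distrib' f, mul_comm' f hsymm c a,
        mul_comm' f hsymm c b]
    zero_mul := zero_mul' f
    mul_zero := fun a => by rw [mul_comm' f hsymm]; exact zero_mul' f a
    mul_assoc := mul_assoc' f hcoc
    one_mul := one_mul' f hcoc
    mul_one := fun a => by rw [mul_comm' f hsymm]; exact one_mul' f hcoc a
    mul_comm := mul_comm' f hsymm }

/-- The `A`-algebra structure. -/
@[reducible] def algebra : @Algebra A (CocExt f) _ (commRing f hsymm hcoc).toSemiring :=
  letI := commRing f hsymm hcoc
  Algebra.ofModule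
    (fun a e e' => by
      apply ext'
      · simp
      · simp only [snd_mul, fst_smul, snd_smul, map_smul, LinearMap.smul_apply, smul_add]
        rw [smul_assoc, smul_comm (fst f e') a (snd f e)])
    (fun a e e' => by
      apply ext'
      · simp
      · simp only [snd_mul, fst_smul, snd_smul, map_smul, smul_add]
        rw [smul_assoc, smul_comm (fst f e) a (snd f e')])

/-- The extension of `B` by `L` defined by a symmetric cocycle. -/
def toExt : Exal.Ext A B L :=
  letI := commRing f hsymm hcoc
  letI := algebra f hsymm hcoc
  { E := CocExt f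
    proj :=
      { toFun := fst f
        map_one' := rfl
        map_mul' := fun _ _ => rfl
        map_zero' := rfl
        map_add' := fun _ _ => rfl
        commutes' := fun a => by
          show fst f (a • (1 : CocExt f)) = algebraMap A B a
          rw [fst_smul, fst_one, Algebra.algebraMap_eq_smul_one] }
    incl :=
      { toFun := fun z => mk f 0 z
        map_zero' := rfl
        map_add' := fun z z' => by
          apply ext'
          · simp
          · simp }
    isExtension :=
      { proj_surjective := fun b => ⟨mk f b 0, rfl⟩
        incl_injective := fun z z' h => congrArg (snd f) h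
        exact := fun e => by
          constructor
          · intro he
            exact ⟨snd f e, ext' f he.symm rfl⟩
          · rintro ⟨z, rfl⟩
            rfl
        mul_incl := fun e z => by
          apply ext'
          · show fst f e * 0 = 0
            exact mul_zero _
          · show fst f e • z + (0 : B) • snd f e + f (fst f e) 0 = fst f e • z
            rw [zero_smul, map_zero, add_zero, add_zero] } }

include hsymm hcoc in
/-- If the extension of a cocycle is trivial, the cocycle is a coboundary. -/
theorem exists_coboundary_of_isTrivial (h : (toExt f hsymm hcoc).IsTrivial) :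
    ∃ g : B →ₗ[A] L, ∀ x y : B, f x y = x • g y - g (x * y) + y • g x := by
  obtain ⟨s, hs⟩ := h
  obtain ⟨σ, hσ1, hσmul, hσadd, hσsmul⟩ : ∃ σ : B → CocExt f, (∀ b, fst f (σ b) = b) ∧
      (∀ x y, snd f (σ (x * y)) =
        fst f (σ x) • snd f (σ y) + fst f (σ y) • snd f (σ x) + f (fst f (σ x)) (fst f (σ y))) ∧
      (∀ x y, snd f (σ (x + y)) = snd f (σ x) + snd f (σ y)) ∧
      (∀ (a : A) x, snd f (σ (a • x)) = a • snd f (σ x)) := by
    refine ⟨fun b => s b, hs, fun x y => ?_, fun x y => ?_, fun a x => ?_⟩
    · exact congrArg (snd f) (map_mul s x y)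
    · exact congrArg (snd f) (map_add s x y)
    · exact congrArg (snd f) (map_smul s a x)
  refine ⟨{ toFun := fun x => -snd f (σ x)
            map_add' := fun x y => by rw [hσadd, neg_add]
            map_smul' := fun a x => by rw [hσsmul, RingHom.id_apply, smul_neg] }, fun x y => ?_⟩
  show f x y = x • -snd f (σ y) - -snd f (σ (x * y)) + y • -snd f (σ x)
  have h := hσmul x y
  rw [hσ1, hσ1] at h
  rw [h]
  module

end CocExt

end Groth.Agent.Lib.Helper9.Hochschild
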