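import Groth.Agent.Lib.Helper9.ExalLib
import Mathlib.Algebra.Module.Projective
import Mathlib.Tactic.LinearCombination

/-!
# An extension of a projective `A`-module algebra is trivial when its Hochschild cocycle splits
-/

set_option autoImplicit false
universe u v

namespace Groth.Agent.Lib.Helper9.Hochschild

open Groth.Agent.Lib.Helper9.ExalLib

variable {A : Type u} {B L : Type v} [CommRing A] [CommRing B] [Algebra A B] [AddCommGroup L]
  [Module B L] [Module A L] [IsScalarTower A B L]

theorem isTrivial_of_cocycles_split [Module.Projective A B] (X : Exal.Ext A B L)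
    (h : ∀ f : B →ₗ[A] B →ₗ[A] L, (∀ x y : B, f x y = f y x) →
      (∀ x y z : B, f (x * y) z + z • f x y = x • f y z + f x (y * z)) →
        ∃ g : B →ₗ[A] L, ∀ x y : B, f x y = x • g y - g (x * y) + y • g x) :
    X.IsTrivial := by
  have hinj := X.isExtension.incl_injective
  have hincl_smul : ∀ (a : A) (z : L), X.incl (a • z) = a • X.incl z := by
    intro a z
    rw [Algebra.smul_def, X.isExtension.mul_incl, X.proj.commutes, algebraMap_smul]
  obtain ⟨s, hs⟩ := Module.projective_lifting_property X.proj.toLinearMap LinearMap.id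
    X.isExtension.proj_surjective
  have hs' : ∀ b, X.proj (s b) = b := fun b => LinearMap.congr_fun hs b
  have hker : ∀ x y : B, X.proj (s x * s y - s (x * y)) = 0 := fun x y => by
    rw [map_sub, map_mul, hs', hs', hs', sub_self]
  have hsmul_incl : ∀ (b : B) (w : L), X.incl (b • w) = s b * X.incl w := fun b w => by
    rw [X.isExtension.mul_incl, hs']
  let F : B → B → L := fun x y => X.kerLift _ (hker x y)
  have hF : ∀ x y, X.incl (F x y) = s x * s y - s (x * y) := fun x y => X.incl_kerLift _ _
  let f : B →ₗ[A] B →ₗ[A] L := LinearMap.mk₂ A F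
    (fun x x' y => by
      apply hinj; rw [map_add, hF, hF, hF, add_mul, map_add, map_add]; ring)
    (fun a x y => by
      apply hinj
      rw [hincl_smul, hF, hF, smul_mul_assoc, map_smul, map_smul, smul_mul_assoc, smul_sub])
    (fun x y y' => by
      apply hinj; rw [map_add, hF, hF, hF, mul_add, map_add, map_add]; ring)
    (fun a x y => by
      apply hinj
      rw [hincl_smul, hF, hF, mul_smul_comm, map_smul, map_smul, mul_smul_comm, smul_sub])
  have hf : ∀ x y, f x y = F x y := fun x y => rfl
  obtain ⟨g, hg⟩ := h f
    (fun x y => by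
      apply hinj; rw [hf, hf, hF, hF, mul_comm (s x) (s y), mul_comm x y])
    (fun x y z => by
      apply hinj
      rw [hf, hf, hf, hf, map_add, map_add, hsmul_incl, hsmul_incl, hF, hF, hF, hF,
        mul_assoc x y z]
      ring)
  -- corrected section
  let s' : B →ₗ[A] X.E :=
    s - ({ toFun := fun z => X.incl z, map_add' := map_add X.incl,
           map_smul' := fun a z => hincl_smul a z } : L →ₗ[A] X.E).comp g
  have hs'app : ∀ b, s' b = s b - X.incl (g b) := fun b => rfl
  have hproj : ∀ b, X.proj (s' b) = b := fun b => by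
    rw [hs'app, map_sub, hs', proj_incl, sub_zero]
  have hmul : ∀ x y, s' (x * y) = s' x * s' y := by
    intro x y
    rw [hs'app, hs'app, hs'app]
    have h1 := hF x y
    rw [← hf, hg x y, map_add, map_sub, hsmul_incl, hsmul_incl] at h1
    have h2 := incl_mul_incl X (g x) (g y)
    linear_combination h1 - h2
  have hone : s' 1 = 1 := by
    have h1 : X.proj (s' 1 - 1) = 0 := by rw [map_sub, hproj, map_one, sub_self]
    obtain ⟨z, hz⟩ := (X.isExtension.exact _).1 h1
    have h2 := hmul 1 1
    rw [mul_one] at h2
    have h3 := incl_mul_incl X z z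
    rw [hz] at h3
    linear_combination -h3 - h2
  exact ⟨AlgHom.ofLinearMap s' hone hmul, hproj⟩

end Groth.Agent.Lib.Helper9.Hochschild
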