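import Mathlib

/-!
# Supports of bivariate power series with nonnegative coefficients; Hodge series of
complete intersections
-/

set_option autoImplicit false
set_option linter.style.haveILetI false

namespace Groth.Agent.Lib.Helper9.HodgeSer

open MvPowerSeries Finsupp
open scoped Pointwise

/-- bivariate integral power series -/
abbrev PS := MvPowerSeries (Fin 2) ℤ

/-- exponents -/
abbrev Ix := Fin 2 →₀ ℕ

/-- the exponent `(u, v)` -/
noncomputable def mk (u v : ℕ) : Ix := single 0 u + single 1 v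

@[simp] theorem mk_zero (u v : ℕ) : (mk u v) 0 = u := by simp [mk]

@[simp] theorem mk_one (u v : ℕ) : (mk u v) 1 = v := by simp [mk]

theorem ix_ext {m n : Ix} (h0 : m 0 = n 0) (h1 : m 1 = n 1) : m = n :=
  Finsupp.ext (Fin.forall_fin_two.mpr ⟨h0, h1⟩)

theorem eq_mk (n : Ix) : n = mk (n 0) (n 1) := ix_ext (by simp) (by simp)

theorem mk_add (u v u' v' : ℕ) : mk u v + mk u' v' = mk (u + u') (v + v') :=
  ix_ext (by simp) (by simp)

/-- nonnegative coefficients -/
def NN (F : PS) : Prop := ∀ n : Ix, 0 ≤ coeff n F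

/-- support -/
def supp (F : PS) : Set Ix := {n | coeff n F ≠ 0}

theorem mem_supp (F : PS) (n : Ix) : n ∈ supp F ↔ coeff n F ≠ 0 := Iff.rfl

theorem NN.add {F G : PS} (hF : NN F) (hG : NN G) : NN (F + G) := fun n => by
  rw [map_add]; exact add_nonneg (hF n) (hG n)

theorem NN.mul {F G : PS} (hF : NN F) (hG : NN G) : NN (F * G) := fun n => by
  classical
  rw [coeff_mul]
  exact Finset.sum_nonneg (fun p _ => mul_nonneg (hF _) (hG _))

theorem NN.zero : NN 0 := fun n => by simp

theorem NN.one : NN 1 := fun n => by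
  classical
  rw [coeff_one]; split_ifs <;> norm_num

theorem NN.sum {ι : Type*} (s : Finset ι) (f : ι → PS) (h : ∀ i ∈ s, NN (f i)) :
    NN (∑ i ∈ s, f i) := by
  classical
  induction s using Finset.induction_on with
  | empty => simpa using NN.zero
  | insert i s hi ih =>
    rw [Finset.sum_insert hi]
    exact (h i (Finset.mem_insert_self _ _)).add
      (ih (fun j hj => h j (Finset.mem_insert_of_mem hj)))

theorem NN.prod {ι : Type*} (s : Finset ι) (f : ι → PS) (h : ∀ i ∈ s, NN (f i)) :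
    NN (∏ i ∈ s, f i) := by
  classical
  induction s using Finset.induction_on with
  | empty => simpa using NN.one
  | insert i s hi ih =>
    rw [Finset.prod_insert hi]
    exact (h i (Finset.mem_insert_self _ _)).mul
      (ih (fun j hj => h j (Finset.mem_insert_of_mem hj)))

theorem NN.pow {F : PS} (hF : NN F) (k : ℕ) : NN (F ^ k) := by
  induction k with
  | zero => simpa using NN.one
  | succ k ih => rw [pow_succ]; exact ih.mul hF

theorem supp_mul_subset (F G : PS) : supp (F * G) ⊆ supp F + supp G := by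
  classical
  intro n hn
  rw [mem_supp, coeff_mul] at hn
  obtain ⟨p, hp, hne⟩ := Finset.exists_ne_zero_of_sum_ne_zero hn
  rw [Finset.HasAntidiagonal.mem_antidiagonal] at hp
  exact Set.mem_add.mpr ⟨p.1, left_ne_zero_of_mul hne, p.2, right_ne_zero_of_mul hne, hp⟩

theorem supp_mul_of_NN {F G : PS} (hF : NN F) (hG : NN G) :
    supp (F * G) = supp F + supp G := by
  classical
  apply Set.Subset.antisymm (supp_mul_subset F G)
  intro n hn
  obtain ⟨a, ha, b, hb, rfl⟩ := Set.mem_add.mp hn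
  rw [mem_supp, coeff_mul]
  apply ne_of_gt
  have hterm : 0 < coeff a F * coeff b G :=
    mul_pos (lt_of_le_of_ne (hF a) (Ne.symm ha)) (lt_of_le_of_ne (hG b) (Ne.symm hb))
  refine lt_of_lt_of_le hterm ?_
  exact Finset.single_le_sum (f := fun p : Ix × Ix => coeff p.1 F * coeff p.2 G)
    (fun p _ => mul_nonneg (hF _) (hG _))
    (Finset.HasAntidiagonal.mem_antidiagonal.mpr (rfl : (a, b).1 + (a, b).2 = a + b))

theorem supp_sum_of_NN {ι : Type*} (s : Finset ι) (f : ι → PS) (h : ∀ i ∈ s, NN (f i))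
    (n : Ix) : n ∈ supp (∑ i ∈ s, f i) ↔ ∃ i ∈ s, n ∈ supp (f i) := by
  rw [mem_supp, map_sum]
  constructor
  · intro hne
    obtain ⟨i, hi, hne'⟩ := Finset.exists_ne_zero_of_sum_ne_zero hne
    exact ⟨i, hi, hne'⟩
  · rintro ⟨i, hi, hne⟩ h0
    rw [Finset.sum_eq_zero_iff_of_nonneg (fun j hj => h j hj n)] at h0
    exact hne (h0 i hi)

theorem supp_one : supp (1 : PS) = (0 : Set Ix) := by
  classical
  ext n
  rw [mem_supp, coeff_one, Set.mem_zero]
  split_ifs with h <;> simp [h]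

theorem supp_prod_of_NN {ι : Type*} (s : Finset ι) (f : ι → PS) (h : ∀ i ∈ s, NN (f i)) :
    supp (∏ i ∈ s, f i) = ∑ i ∈ s, supp (f i) := by
  classical
  induction s using Finset.induction_on with
  | empty => simpa using supp_one
  | insert i s hi ih =>
    rw [Finset.prod_insert hi, Finset.sum_insert hi,
      supp_mul_of_NN (h i (Finset.mem_insert_self _ _))
        (NN.prod s f (fun j hj => h j (Finset.mem_insert_of_mem hj))),
      ih (fun j hj => h j (Finset.mem_insert_of_mem hj))]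

/-! ### the box -/

/-- the box `[0,k]²` -/
def box (k : ℕ) : Set Ix := {n | n 0 ≤ k ∧ n 1 ≤ k}

theorem box_add_box_one (k : ℕ) : box k + box 1 = box (k + 1) := by
  ext n
  constructor
  · intro hn
    obtain ⟨a, ha, b, hb, rfl⟩ := Set.mem_add.mp hn
    obtain ⟨ha0, ha1⟩ := ha
    obtain ⟨hb0, hb1⟩ := hb
    refine ⟨?_, ?_⟩
    · rw [Finsupp.add_apply]; omega
    · rw [Finsupp.add_apply]; omega
  · rintro ⟨h0, h1⟩
    refine Set.mem_add.mpr ⟨mk (min (n 0) k) (min (n 1) k), ⟨?_, ?_⟩,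
      mk (n 0 - min (n 0) k) (n 1 - min (n 1) k), ⟨?_, ?_⟩, ?_⟩
    · rw [mk_zero]; exact min_le_right _ _
    · rw [mk_one]; exact min_le_right _ _
    · rw [mk_zero]; omega
    · rw [mk_one]; omega
    · rw [mk_add]
      apply ix_ext
      · rw [mk_zero]; omega
      · rw [mk_one]; omega

/-- the variable `y` -/
noncomputable def yv : PS := X 0

/-- the variable `z` -/
noncomputable def zv : PS := X 1

theorem coeff_term (k u v : ℕ) (n : Ix) :
    coeff n ((k : PS) * yv ^ u * zv ^ v) = if n = mk u v then (k : ℤ) else 0 := by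
  classical
  have h1 : ((k : PS) * yv ^ u * zv ^ v) = monomial (mk u v) (k : ℤ) := by
    rw [yv, zv, X_pow_eq, X_pow_eq]
    have h2 : (k : PS) = monomial (0 : Ix) (k : ℤ) := by
      rw [monomial_zero_eq_C_apply, map_natCast]
    rw [h2, monomial_mul_monomial, monomial_mul_monomial, zero_add, mul_one, mul_one, mk]
  rw [h1, coeff_monomial]

theorem NN_one_add_y : NN (1 + yv) := by
  classical
  refine NN.one.add (fun n => ?_)
  rw [yv, X_def, coeff_monomial]; split_ifs <;> norm_num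

theorem NN_one_add_z : NN (1 + zv) := by
  classical
  refine NN.one.add (fun n => ?_)
  rw [zv, X_def, coeff_monomial]; split_ifs <;> norm_num

theorem supp_one_add_y : supp (1 + yv) = {n | n 0 ≤ 1 ∧ n 1 = 0} := by
  classical
  ext n
  rw [mem_supp, map_add, coeff_one, yv, X_def, coeff_monomial, Set.mem_ofPred_eq]
  constructor
  · intro h
    by_cases h0 : n = 0
    · rw [h0]; simp
    · by_cases h1 : n = single 0 1
      · rw [h1]; simp
      · rw [if_neg h0, if_neg h1] at h; exact absurd rfl h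
  · rintro ⟨h0, h1⟩
    by_cases hn : n 0 = 0
    · have : n = 0 := ix_ext (by simpa using hn) (by simpa using h1)
      rw [if_pos this, if_neg]
      · norm_num
      · rw [this]; intro h; have := congrArg (fun m : Ix => m 0) h; simp at this
    · have : n = single 0 1 := ix_ext (by simp; omega) (by simpa using h1)
      rw [if_pos this, if_neg]
      · norm_num
      · rw [this]; intro h; have := congrArg (fun m : Ix => m 0) h; simp at this

theorem supp_one_add_z : supp (1 + zv) = {n | n 0 = 0 ∧ n 1 ≤ 1} := by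
  classical
  ext n
  rw [mem_supp, map_add, coeff_one, zv, X_def, coeff_monomial, Set.mem_ofPred_eq]
  constructor
  · intro h
    by_cases h0 : n = 0
    · rw [h0]; simp
    · by_cases h1 : n = single 1 1
      · rw [h1]; simp
      · rw [if_neg h0, if_neg h1] at h; exact absurd rfl h
  · rintro ⟨h0, h1⟩
    by_cases hn : n 1 = 0
    · have : n = 0 := ix_ext (by simpa using h0) (by simpa using hn)
      rw [if_pos this, if_neg]
      · norm_num
      · rw [this]; intro h; have := congrArg (fun m : Ix => m 1) h; simp at this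
    · have : n = single 1 1 := ix_ext (by simpa using h0) (by simp; omega)
      rw [if_pos this, if_neg]
      · norm_num
      · rw [this]; intro h; have := congrArg (fun m : Ix => m 1) h; simp at this

theorem supp_yz : supp ((1 + yv) * (1 + zv)) = box 1 := by
  rw [supp_mul_of_NN NN_one_add_y NN_one_add_z, supp_one_add_y, supp_one_add_z]
  ext n
  constructor
  · intro hn
    obtain ⟨a, ⟨ha0, ha1⟩, b, ⟨hb0, hb1⟩, rfl⟩ := Set.mem_add.mp hn
    refine ⟨?_, ?_⟩
    · rw [Finsupp.add_apply]; omega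
    · rw [Finsupp.add_apply]; omega
  · rintro ⟨h0, h1⟩
    refine Set.mem_add.mpr ⟨mk (n 0) 0, ⟨by simpa using h0, by simp⟩, mk 0 (n 1),
      ⟨by simp, by simpa using h1⟩, ?_⟩
    rw [mk_add]
    apply ix_ext <;> simp

theorem NN_yz_pow (k : ℕ) : NN (((1 + yv) * (1 + zv)) ^ k) :=
  (NN_one_add_y.mul NN_one_add_z).pow k

theorem supp_yz_pow (k : ℕ) : supp (((1 + yv) * (1 + zv)) ^ k) = box k := by
  induction k with
  | zero =>
    rw [pow_zero, supp_one]
    ext n
    rw [Set.mem_zero]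
    constructor
    · rintro rfl; exact ⟨by simp, by simp⟩
    · rintro ⟨h0, h1⟩
      exact ix_ext (by simpa using h0) (by simpa using h1)
  | succ k ih =>
    rw [pow_succ, supp_mul_of_NN (NN_yz_pow k) (NN_one_add_y.mul NN_one_add_z), ih, supp_yz,
      box_add_box_one]

/-! ### the series `P_b`, `N_b` -/

/-- the series `P_b` -/
noncomputable def Pser (b : ℕ) : PS :=
  ∑ u ∈ Finset.range (b + 1), ∑ v ∈ Finset.range (b + 1),
    if 1 ≤ u ∧ 1 ≤ v ∧ u + v ≤ b then (b.choose (u + v) : PS) * yv ^ u * zv ^ v else 0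

/-- the series `N_b` -/
noncomputable def Nser (b : ℕ) : PS :=
  ∑ u ∈ Finset.range b, ∑ v ∈ Finset.range b,
    if u + v + 1 ≤ b - 1 then ((b - 1).choose (u + v + 1) : PS) * yv ^ u * zv ^ v else 0

theorem coeff_double_sum (B : ℕ) (cond : ℕ → ℕ → Prop) [∀ u v, Decidable (cond u v)]
    (c : ℕ → ℕ → ℕ) (n : Ix) :
    coeff n (∑ u ∈ Finset.range B, ∑ v ∈ Finset.range B,
      if cond u v then (c u v : PS) * yv ^ u * zv ^ v else 0) =
      if n 0 < B ∧ n 1 < B ∧ cond (n 0) (n 1) then (c (n 0) (n 1) : ℤ) else 0 := by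
  classical
  have hterm : ∀ u v, coeff n (if cond u v then (c u v : PS) * yv ^ u * zv ^ v else 0) =
      if (n 0 = u ∧ n 1 = v) ∧ cond u v then (c u v : ℤ) else 0 := by
    intro u v
    by_cases h1 : cond u v
    · rw [if_pos h1, coeff_term]
      by_cases h2 : n = mk u v
      · rw [if_pos h2, if_pos]
        refine ⟨⟨?_, ?_⟩, h1⟩
        · rw [h2, mk_zero]
        · rw [h2, mk_one]
      · rw [if_neg h2, if_neg]
        rintro ⟨⟨h3, h4⟩, _⟩
        apply h2
        exact ix_ext (by rw [mk_zero, h3]) (by rw [mk_one, h4])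
    · rw [if_neg h1, if_neg (fun h => h1 h.2), map_zero]
  rw [map_sum]
  simp_rw [map_sum, hterm]
  by_cases hn : n 0 < B ∧ n 1 < B ∧ cond (n 0) (n 1)
  · rw [if_pos hn, Finset.sum_eq_single (n 0), Finset.sum_eq_single (n 1)]
    · rw [if_pos ⟨⟨rfl, rfl⟩, hn.2.2⟩]
    · intro v _ hv
      rw [if_neg]
      rintro ⟨⟨_, h⟩, _⟩
      exact hv h.symm
    · intro h; exact absurd (Finset.mem_range.mpr hn.2.1) h
    · intro u _ hu
      apply Finset.sum_eq_zero
      intro v _
      rw [if_neg]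
      rintro ⟨⟨h, _⟩, _⟩
      exact hu h.symm
    · intro h; exact absurd (Finset.mem_range.mpr hn.1) h
  · rw [if_neg hn]
    apply Finset.sum_eq_zero
    intro u hu
    apply Finset.sum_eq_zero
    intro v hv
    rw [if_neg]
    rintro ⟨⟨h0, h1⟩, hc⟩
    apply hn
    rw [h0, h1]
    exact ⟨Finset.mem_range.mp hu, Finset.mem_range.mp hv, hc⟩

theorem coeff_Pser (b : ℕ) (n : Ix) :
    coeff n (Pser b) = if 1 ≤ n 0 ∧ 1 ≤ n 1 ∧ n 0 + n 1 ≤ b then (b.choose (n 0 + n 1) : ℤ)
      else 0 := by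
  rw [Pser, coeff_double_sum (b + 1) (fun u v => 1 ≤ u ∧ 1 ≤ v ∧ u + v ≤ b)
    (fun u v => b.choose (u + v)) n]
  by_cases h : 1 ≤ n 0 ∧ 1 ≤ n 1 ∧ n 0 + n 1 ≤ b
  · rw [if_pos h, if_pos]
    exact ⟨by omega, by omega, h⟩
  · rw [if_neg h, if_neg]
    rintro ⟨_, _, h'⟩
    exact h h'

theorem coeff_Nser (b : ℕ) (n : Ix) :
    coeff n (Nser b) = if n 0 + n 1 + 2 ≤ b then ((b - 1).choose (n 0 + n 1 + 1) : ℤ)
      else 0 := by
  rw [Nser, coeff_double_sum b (fun u v => u + v + 1 ≤ b - 1)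
    (fun u v => (b - 1).choose (u + v + 1)) n]
  by_cases h : n 0 + n 1 + 2 ≤ b
  · rw [if_pos h, if_pos]
    exact ⟨by omega, by omega, by omega⟩
  · rw [if_neg h, if_neg]
    rintro ⟨_, _, h'⟩
    apply h
    omega

theorem NN_Pser (b : ℕ) : NN (Pser b) := fun n => by
  rw [coeff_Pser]; split_ifs
  · exact_mod_cast Nat.zero_le _
  · exact le_refl _

theorem NN_Nser (b : ℕ) : NN (Nser b) := fun n => by
  rw [coeff_Nser]; split_ifs
  · exact_mod_cast Nat.zero_le _
  · exact le_refl _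

theorem coeff_Pser_pos (b : ℕ) (n : Ix) (h : 1 ≤ n 0 ∧ 1 ≤ n 1 ∧ n 0 + n 1 ≤ b) :
    0 < coeff n (Pser b) := by
  rw [coeff_Pser, if_pos h]
  exact_mod_cast Nat.choose_pos h.2.2

theorem coeff_Nser_pos (b : ℕ) (n : Ix) (h : n 0 + n 1 + 2 ≤ b) :
    0 < coeff n (Nser b) := by
  rw [coeff_Nser, if_pos h]
  exact_mod_cast Nat.choose_pos (by omega)

/-! ### the hypersurface series -/

/-- the region `R_b` -/
def reg (b : ℕ) : Set Ix := {n | n 0 + n 1 + 2 ≤ (min (n 0) (n 1) + 1) * b}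

theorem mem_reg (b : ℕ) (n : Ix) : n ∈ reg b ↔ n 0 + n 1 + 2 ≤ (min (n 0) (n 1) + 1) * b :=
  Iff.rfl

theorem reg_add (b : ℕ) {s m : Ix} (hs : 1 ≤ s 0 ∧ 1 ≤ s 1 ∧ s 0 + s 1 ≤ b) (hm : m ∈ reg b) :
    s + m ∈ reg b := by
  rw [mem_reg] at hm ⊢
  rw [Finsupp.add_apply, Finsupp.add_apply]
  have hmin : min (m 0) (m 1) + 1 + 1 ≤ min (s 0 + m 0) (s 1 + m 1) + 1 := by omega
  have h1 : (min (m 0) (m 1) + 1 + 1) * b ≤ (min (s 0 + m 0) (s 1 + m 1) + 1) * b :=
    Nat.mul_le_mul_right b hmin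
  have h2 : (min (m 0) (m 1) + 1 + 1) * b = (min (m 0) (m 1) + 1) * b + b := by ring
  omega

theorem reg_step (b u v : ℕ) (h : u + v + 2 ≤ (min u v + 1) * b) (hb : b < u + v + 2) :
    ∃ s0 s1 m0 m1 : ℕ, 1 ≤ s0 ∧ 1 ≤ s1 ∧ s0 + s1 ≤ b ∧ s0 + m0 = u ∧ s1 + m1 = v ∧
      m0 + m1 + 2 ≤ (min m0 m1 + 1) * b := by
  have hμ : 1 ≤ min u v := by
    by_contra hcon
    have : min u v = 0 := by omega
    rw [this, zero_add, one_mul] at h
    omega
  have hb2 : 2 ≤ b := by
    by_contra hcon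
    have hb1 : b ≤ 1 := by omega
    have : (min u v + 1) * b ≤ (min u v + 1) * 1 := Nat.mul_le_mul_left _ hb1
    omega
  rcases le_total u v with huv | hvu
  · rw [min_eq_left huv] at h hμ
    obtain ⟨u', rfl⟩ : ∃ u', u = u' + 1 := ⟨u - 1, by omega⟩
    have hK : (u' + 1 + 1) * b = (u' + 1) * b + b := by ring
    by_cases hc : u' + b ≤ v + 1
    · refine ⟨1, b - 1, u', v - (b - 1), le_refl _, by omega, by omega, by omega, by omega, ?_⟩
      have : min u' (v - (b - 1)) = u' := min_eq_left (by omega)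
      rw [this]
      omega
    · refine ⟨1, v - u', u', u', le_refl _, by omega, by omega, by omega, by omega, ?_⟩
      rw [min_self]
      have : (u' + 1) * 2 ≤ (u' + 1) * b := Nat.mul_le_mul_left _ hb2
      omega
  · rw [min_eq_right hvu] at h hμ
    obtain ⟨v', rfl⟩ : ∃ v', v = v' + 1 := ⟨v - 1, by omega⟩
    have hK : (v' + 1 + 1) * b = (v' + 1) * b + b := by ring
    by_cases hc : v' + b ≤ u + 1
    · refine ⟨b - 1, 1, u - (b - 1), v', by omega, le_refl _, by omega, by omega, by omega, ?_⟩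
      have : min (u - (b - 1)) v' = v' := min_eq_right (by omega)
      rw [this]
      omega
    · refine ⟨u - v', 1, v', v', by omega, le_refl _, by omega, by omega, by omega, ?_⟩
      rw [min_self]
      have : (v' + 1) * 2 ≤ (v' + 1) * b := Nat.mul_le_mul_left _ hb2
      omega

theorem hyp_key (b : ℕ) (H : PS) (hH : (1 - Pser b) * H = Nser b) :
    ∀ (t : ℕ) (n : Ix), n 0 + n 1 = t → (0 ≤ coeff n H ∧ (coeff n H ≠ 0 ↔ n ∈ reg b)) := by
  classical
  have hrec : H = Nser b + Pser b * H := by linear_combination hH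
  intro t
  induction t using Nat.strong_induction_on with
  | _ t ih =>
    intro n hn
    have hcoef : coeff n H = coeff n (Nser b) +
        ∑ p ∈ Finset.HasAntidiagonal.antidiagonal n, coeff p.1 (Pser b) * coeff p.2 H := by
      conv_lhs => rw [hrec]
      rw [map_add, coeff_mul]
    have hIH : ∀ p ∈ Finset.HasAntidiagonal.antidiagonal n, coeff p.1 (Pser b) ≠ 0 →
        (0 ≤ coeff p.2 H ∧ (coeff p.2 H ≠ 0 ↔ p.2 ∈ reg b)) := by
      intro p hp hP
      rw [Finset.HasAntidiagonal.mem_antidiagonal] at hp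
      rw [coeff_Pser] at hP
      have hcond : 1 ≤ p.1 0 ∧ 1 ≤ p.1 1 ∧ p.1 0 + p.1 1 ≤ b := by
        by_contra h; exact hP (if_neg h)
      have h0 : n 0 = p.1 0 + p.2 0 := by rw [← hp, Finsupp.add_apply]
      have h1 : n 1 = p.1 1 + p.2 1 := by rw [← hp, Finsupp.add_apply]
      exact ih (p.2 0 + p.2 1) (by omega) p.2 rfl
    have hterm_nn : ∀ p ∈ Finset.HasAntidiagonal.antidiagonal n, 0 ≤ coeff p.1 (Pser b) * coeff p.2 H := by
      intro p hp
      by_cases hP : coeff p.1 (Pser b) = 0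
      · rw [hP, zero_mul]
      · exact mul_nonneg (NN_Pser b _) (hIH p hp hP).1
    refine ⟨?_, ?_, ?_⟩
    · rw [hcoef]; exact add_nonneg (NN_Nser b n) (Finset.sum_nonneg hterm_nn)
    · intro hne
      rw [hcoef] at hne
      by_cases hN : coeff n (Nser b) = 0
      · rw [hN, zero_add] at hne
        obtain ⟨p, hp, hpne⟩ := Finset.exists_ne_zero_of_sum_ne_zero hne
        have hP := left_ne_zero_of_mul hpne
        have hH2 := right_ne_zero_of_mul hpne
        have hreg := (hIH p hp hP).2.mp hH2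
        rw [coeff_Pser] at hP
        have hcond : 1 ≤ p.1 0 ∧ 1 ≤ p.1 1 ∧ p.1 0 + p.1 1 ≤ b := by
          by_contra h; exact hP (if_neg h)
        rw [Finset.HasAntidiagonal.mem_antidiagonal] at hp
        rw [← hp]
        exact reg_add b hcond hreg
      · rw [coeff_Nser] at hN
        have hcond : n 0 + n 1 + 2 ≤ b := by
          by_contra h; exact hN (if_neg h)
        rw [mem_reg]
        have : 1 * b ≤ (min (n 0) (n 1) + 1) * b := Nat.mul_le_mul_right b (by omega)
        omega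
    · intro hreg
      rw [hcoef]
      apply ne_of_gt
      by_cases hsmall : n 0 + n 1 + 2 ≤ b
      · have := coeff_Nser_pos b n hsmall
        have h2 := Finset.sum_nonneg hterm_nn
        linarith
      · rw [mem_reg] at hreg
        obtain ⟨s0, s1, m0, m1, hs0, hs1, hsb, hu, hv, hm⟩ :=
          reg_step b (n 0) (n 1) hreg (by omega)
        have hpmem : (mk s0 s1, mk m0 m1) ∈ Finset.HasAntidiagonal.antidiagonal n := by
          rw [Finset.HasAntidiagonal.mem_antidiagonal, mk_add]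
          exact ix_ext (by rw [mk_zero, hu]) (by rw [mk_one, hv])
        have hPpos : 0 < coeff (mk s0 s1) (Pser b) :=
          coeff_Pser_pos b _ ⟨by rw [mk_zero]; exact hs0, by rw [mk_one]; exact hs1,
            by rw [mk_zero, mk_one]; exact hsb⟩
        have hIH' := hIH (mk s0 s1, mk m0 m1) hpmem (ne_of_gt hPpos)
        have hmreg : mk m0 m1 ∈ reg b := by
          rw [mem_reg, mk_zero, mk_one]; exact hm
        have hHpos : 0 < coeff (mk m0 m1) H :=
          lt_of_le_of_ne hIH'.1 (Ne.symm (hIH'.2.mpr hmreg))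
        have hterm : 0 < coeff (mk s0 s1) (Pser b) * coeff (mk m0 m1) H := mul_pos hPpos hHpos
        have hle := Finset.single_le_sum
          (f := fun p : Ix × Ix => coeff p.1 (Pser b) * coeff p.2 H) hterm_nn hpmem
        have := NN_Nser b n
        linarith

theorem NN_hyp (b : ℕ) (H : PS) (hH : (1 - Pser b) * H = Nser b) : NN H :=
  fun n => (hyp_key b H hH _ n rfl).1

theorem supp_hyp (b : ℕ) (H : PS) (hH : (1 - Pser b) * H = Nser b) : supp H = reg b := by
  ext n
  exact (hyp_key b H hH _ n rfl).2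

/-! ### the main theorem -/

theorem exists_le_sum_eq {ι : Type*} (s : Finset ι) (c : ι → ℕ) (N : ℕ)
    (hN : N ≤ ∑ i ∈ s, c i) : ∃ x : ι → ℕ, (∀ i ∈ s, x i ≤ c i) ∧ ∑ i ∈ s, x i = N := by
  classical
  induction s using Finset.induction_on generalizing N with
  | empty =>
    rw [Finset.sum_empty] at hN
    exact ⟨fun _ => 0, by simp, by simp; omega⟩
  | insert j s hj ih =>
    rw [Finset.sum_insert hj] at hN
    obtain ⟨x, hx, hsum⟩ := ih (N - min N (c j)) (by omega)
    refine ⟨Function.update x j (min N (c j)), ?_, ?_⟩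
    · intro i hi
      rcases Finset.mem_insert.mp hi with rfl | hi
      · rw [Function.update_self]; exact min_le_right _ _
      · rw [Function.update_of_ne (ne_of_mem_of_not_mem hi hj)]; exact hx i hi
    · rw [Finset.sum_insert hj, Function.update_self]
      have : ∑ i ∈ s, Function.update x j (min N (c j)) i = ∑ i ∈ s, x i := by
        apply Finset.sum_congr rfl
        intro i hi
        rw [Function.update_of_ne (ne_of_mem_of_not_mem hi hj)]
      rw [this, hsum]
      omega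

/-- the term attached to a subset -/
noncomputable def term {d : ℕ} (Hs : Fin d → PS) (P : Finset (Fin d)) : PS :=
  ((1 + yv) * (1 + zv)) ^ (P.card - 1) * ∏ i ∈ P, Hs i

theorem NN_term {d : ℕ} (a : Fin d → ℕ) (Hs : Fin d → PS)
    (hH : ∀ i, (1 - Pser (a i)) * Hs i = Nser (a i)) (P : Finset (Fin d)) : NN (term Hs P) :=
  (NN_yz_pow _).mul (NN.prod P Hs (fun i _ => NN_hyp (a i) (Hs i) (hH i)))

theorem supp_term {d : ℕ} (a : Fin d → ℕ) (Hs : Fin d → PS)
    (hH : ∀ i, (1 - Pser (a i)) * Hs i = Nser (a i)) (P : Finset (Fin d)) :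
    supp (term Hs P) = box (P.card - 1) + ∑ i ∈ P, reg (a i) := by
  rw [term, supp_mul_of_NN (NN_yz_pow _)
    (NN.prod P Hs (fun i _ => NN_hyp (a i) (Hs i) (hH i))), supp_yz_pow,
    supp_prod_of_NN P Hs (fun i _ => NN_hyp (a i) (Hs i) (hH i))]
  congr 1
  exact Finset.sum_congr rfl (fun i _ => supp_hyp (a i) (Hs i) (hH i))

theorem forward {d : ℕ} (a : Fin d → ℕ) (ha : ∀ i, 1 ≤ a i) (p q : ℕ)
    (P : Finset (Fin d)) (hP : P.Nonempty)
    (hmem : mk p q ∈ box (P.card - 1) + ∑ i ∈ P, reg (a i)) :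
    p + q + d < p * Finset.univ.sup a + ∑ i, a i := by
  classical
  obtain ⟨e, ⟨he0, he1⟩, r, hr, hsum⟩ := Set.mem_add.mp hmem
  obtain ⟨g, hg, rfl⟩ := (Set.mem_finsetSum P _ r).mp hr
  set A := Finset.univ.sup a with hA
  have hp : p = e 0 + ∑ i ∈ P, g i 0 := by
    have := congrArg (fun m : Ix => m 0) hsum
    simp only [Finsupp.add_apply, Finsupp.finsetSum_apply, mk_zero] at this
    exact this.symm
  have hq : q = e 1 + ∑ i ∈ P, g i 1 := by
    have := congrArg (fun m : Ix => m 1) hsum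
    simp only [Finsupp.add_apply, Finsupp.finsetSum_apply, mk_one] at this
    exact this.symm
  have hcard : 1 ≤ P.card := Finset.card_pos.mpr hP
  -- termwise bound
  have hterm : ∀ i ∈ P, g i 0 + g i 1 + 2 ≤ g i 0 * A + a i := by
    intro i hi
    have h1 : g i 0 + g i 1 + 2 ≤ (min (g i 0) (g i 1) + 1) * a i := hg hi
    have h2 : (min (g i 0) (g i 1) + 1) * a i ≤ (g i 0 + 1) * a i :=
      Nat.mul_le_mul_right _ (by omega)
    have h3 : a i ≤ A := Finset.le_sup (f := a) (Finset.mem_univ i)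
    have h4 : g i 0 * a i ≤ g i 0 * A := Nat.mul_le_mul_left _ h3
    have h5 : (g i 0 + 1) * a i = g i 0 * a i + a i := by ring
    omega
  have hsumterm : ∑ i ∈ P, (g i 0 + g i 1 + 2) ≤ ∑ i ∈ P, (g i 0 * A + a i) :=
    Finset.sum_le_sum hterm
  have hs1 : ∑ i ∈ P, (g i 0 + g i 1 + 2) =
      ∑ i ∈ P, g i 0 + ∑ i ∈ P, g i 1 + 2 * P.card := by
    rw [Finset.sum_add_distrib, Finset.sum_add_distrib, Finset.sum_const, smul_eq_mul, mul_comm]
  have hs2 : ∑ i ∈ P, (g i 0 * A + a i) = (∑ i ∈ P, g i 0) * A + ∑ i ∈ P, a i := by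
    rw [Finset.sum_add_distrib, Finset.sum_mul]
  rw [hs1, hs2] at hsumterm
  -- A ≥ 1
  obtain ⟨j, hj⟩ := hP
  have hA1 : 1 ≤ A := le_trans (ha j) (Finset.le_sup (f := a) (Finset.mem_univ j))
  have h6 : e 0 ≤ e 0 * A := Nat.le_mul_of_pos_right _ hA1
  have h7 : p * A = e 0 * A + (∑ i ∈ P, g i 0) * A := by rw [hp]; ring
  -- complement
  have h8 : ∑ i, a i = ∑ i ∈ P, a i + ∑ i ∈ Pᶜ, a i := (Finset.sum_add_sum_compl P a).symm
  have h9 : Pᶜ.card ≤ ∑ i ∈ Pᶜ, a i := by
    have : ∑ _i ∈ Pᶜ, 1 ≤ ∑ i ∈ Pᶜ, a i := Finset.sum_le_sum (fun i _ => ha i)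
    simpa using this
  have h10 : Pᶜ.card = d - P.card := by
    rw [Finset.card_compl, Fintype.card_fin]
  have h11 : P.card ≤ d := by
    have := Finset.card_le_univ P
    rwa [Fintype.card_fin] at this
  omega

theorem backward {d : ℕ} (a : Fin d → ℕ) (ha : ∀ i, 1 ≤ a i) (p q : ℕ) (hpq : p ≤ q)
    (hineq : p + q + d < p * Finset.univ.sup a + ∑ i, a i) :
    ∃ P : Finset (Fin d), P.Nonempty ∧ mk p q ∈ box (P.card - 1) + ∑ i ∈ P, reg (a i) := by
  classical
  set A := Finset.univ.sup a with hA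
  set P : Finset (Fin d) := Finset.univ.filter (fun i => 2 ≤ a i) with hPdef
  have hPc : ∀ i ∈ Pᶜ, a i = 1 := by
    intro i hi
    rw [Finset.mem_compl, hPdef, Finset.mem_filter] at hi
    have := ha i
    by_contra hne
    apply hi
    exact ⟨Finset.mem_univ _, by omega⟩
  have h8 : ∑ i, a i = ∑ i ∈ P, a i + ∑ i ∈ Pᶜ, a i := (Finset.sum_add_sum_compl P a).symm
  have h9 : ∑ i ∈ Pᶜ, a i = Pᶜ.card := by
    rw [Finset.sum_congr rfl hPc]; simp
  have h10 : Pᶜ.card = d - P.card := by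
    rw [Finset.card_compl, Fintype.card_fin]
  have h11 : P.card ≤ d := by
    have := Finset.card_le_univ P
    rwa [Fintype.card_fin] at this
  have hPne : P.Nonempty := by
    by_contra hne
    rw [Finset.not_nonempty_iff_eq_empty] at hne
    have hA1 : A ≤ 1 := by
      apply Finset.sup_le
      intro i _
      have : i ∈ Pᶜ := by rw [hne]; simp
      rw [hPc i this]
    have : p * A ≤ p * 1 := Nat.mul_le_mul_left _ hA1
    have hP0 : ∑ i ∈ P, a i = 0 := by rw [hne]; simp
    have hcard0 : P.card = 0 := by rw [hne]; simp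
    omega
  obtain ⟨j, hj⟩ := hPne
  have hunivne : (Finset.univ : Finset (Fin d)).Nonempty := ⟨j, Finset.mem_univ _⟩
  obtain ⟨i₀, _, hi₀⟩ := Finset.exists_mem_eq_sup Finset.univ hunivne a
  have hj2 : 2 ≤ a j := (Finset.mem_filter.mp hj).2
  have hA2 : 2 ≤ A := le_trans hj2 (Finset.le_sup (f := a) (Finset.mem_univ j))
  have hi₀P : i₀ ∈ P := by
    rw [hPdef, Finset.mem_filter]
    exact ⟨Finset.mem_univ _, by rw [← hi₀]; exact hA2⟩
  refine ⟨P, ⟨i₀, hi₀P⟩, ?_⟩
  set P' := P.erase i₀ with hP'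
  have hcardP : P.card = P'.card + 1 := by
    rw [hP', Finset.card_erase_of_mem hi₀P]
    have : 1 ≤ P.card := Finset.card_pos.mpr ⟨i₀, hi₀P⟩
    omega
  have hsumP : ∑ i ∈ P, a i = A + ∑ i ∈ P', a i := by
    rw [hP', ← Finset.add_sum_erase P a hi₀P, ← hi₀]
  have hP'2 : ∀ i ∈ P', 2 ≤ a i := by
    intro i hi
    exact (Finset.mem_filter.mp (Finset.mem_of_mem_erase hi)).2
  have hsumP' : ∑ i ∈ P', a i = ∑ i ∈ P', (a i - 2) + 2 * P'.card := by
    have : ∀ i ∈ P', a i = (a i - 2) + 2 := fun i hi => by have := hP'2 i hi; omega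
    rw [Finset.sum_congr rfl this, Finset.sum_add_distrib, Finset.sum_const, smul_eq_mul,
      mul_comm]
  have hpA : (p + 1) * A = p * A + A := by ring
  have hpA2 : (p + 1) * 2 ≤ (p + 1) * A := Nat.mul_le_mul_left _ hA2
  -- budgets
  set cap₀ := (p + 1) * A - 2 * p - 2 with hcap₀
  set Q := q - p with hQ
  have hQle : Q ≤ cap₀ + P'.card + ∑ i ∈ P', (a i - 2) := by omega
  set Q₁ := min Q (cap₀ + P'.card) with hQ₁
  obtain ⟨x, hx, hxsum⟩ := exists_le_sum_eq P' (fun i => a i - 2) (Q - Q₁) (by omega)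
  set f := min Q₁ P'.card with hf
  set x₀ := Q₁ - f with hx₀
  have hx₀le : x₀ ≤ cap₀ := by omega
  refine Set.mem_add.mpr ⟨mk 0 f, ⟨?_, ?_⟩, ∑ i ∈ P, (if i = i₀ then mk p (p + x₀) else mk 0 (x i)),
    ?_, ?_⟩
  · rw [mk_zero]; exact Nat.zero_le _
  · rw [mk_one, hcardP]; simp only [Nat.add_sub_cancel]; exact min_le_right _ _
  · rw [Set.mem_finsetSum]
    refine ⟨fun i => if i = i₀ then mk p (p + x₀) else mk 0 (x i), ?_, rfl⟩
    intro i hi
    beta_reduce
    by_cases hii : i = i₀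
    · rw [if_pos hii, mem_reg, mk_zero, mk_one, hii, ← hi₀, ← hA, min_eq_left (by omega)]
      omega
    · rw [if_neg hii, mem_reg, mk_zero, mk_one]
      simp only [Nat.zero_min, zero_add, one_mul]
      have hiP' : i ∈ P' := Finset.mem_erase.mpr ⟨hii, hi⟩
      have := hx i hiP'
      have := hP'2 i hiP'
      omega
  · rw [← Finset.add_sum_erase P _ hi₀P, if_pos rfl]
    have hrest : ∑ i ∈ P.erase i₀, (if i = i₀ then mk p (p + x₀) else mk 0 (x i)) =
        ∑ i ∈ P', mk 0 (x i) :=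
      Finset.sum_congr rfl (fun i hi => if_neg (Finset.ne_of_mem_erase hi))
    rw [hrest]
    apply ix_ext
    · simp only [Finsupp.add_apply, Finsupp.finsetSum_apply, mk_zero, Finset.sum_const_zero]
      omega
    · simp only [Finsupp.add_apply, Finsupp.finsetSum_apply, mk_one]
      rw [hxsum]
      omega

theorem main (d : ℕ) (a : Fin d → ℕ) (ha : ∀ i, 1 ≤ a i) (Hs : Fin d → PS) (p q : ℕ)
    (hpq : p ≤ q) (hH : ∀ i, (1 - Pser (a i)) * Hs i = Nser (a i)) :
    coeff (single 0 p + single 1 q)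
      (∑ P ∈ (Finset.univ : Finset (Fin d)).powerset with P.Nonempty,
        ((1 + yv) * (1 + zv)) ^ (P.card - 1) * ∏ i ∈ P, Hs i) ≠ 0 ↔
      p + q + d < p * Finset.univ.sup a + ∑ i, a i := by
  classical
  have h1 : (coeff (single 0 p + single 1 q)
      (∑ P ∈ (Finset.univ : Finset (Fin d)).powerset with P.Nonempty,
        ((1 + yv) * (1 + zv)) ^ (P.card - 1) * ∏ i ∈ P, Hs i) ≠ 0) ↔
      mk p q ∈ supp (∑ P ∈ (Finset.univ : Finset (Fin d)).powerset with P.Nonempty,
        term Hs P) := Iff.rfl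
  rw [h1, supp_sum_of_NN _ _ (fun P _ => NN_term a Hs hH P)]
  constructor
  · rintro ⟨P, hP, hmem⟩
    rw [Finset.mem_filter] at hP
    rw [supp_term a Hs hH] at hmem
    exact forward a ha p q P hP.2 hmem
  · intro hineq
    obtain ⟨P, hPne, hmem⟩ := backward a ha p q hpq hineq
    refine ⟨P, ?_, ?_⟩
    · rw [Finset.mem_filter]
      exact ⟨Finset.mem_powerset.mpr (Finset.subset_univ _), hPne⟩
    · rw [supp_term a Hs hH]; exact hmem

end Groth.Agent.Lib.Helper9.HodgeSer
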