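import Mathlib

/-!
# Locally monogenic modules and the endomorphisms of `L/JL`
-/

set_option autoImplicit false

namespace Groth.Agent.Lib.Helper9.LocMono

universe u

/-- `L` is generated near `q` by one element with locally trivial annihilator. -/
def IsLocMono (A : Type u) [CommRing A] (L : Type u) [AddCommGroup L] [Module A L]
    (q : Ideal A) : Prop :=
  ∃ e : L, ∃ s : A, s ∉ q ∧ (∀ l : L, ∃ a : A, s • l = a • e) ∧
    (∀ b : A, b • e = 0 → ∃ t : A, t ∉ q ∧ t * b = 0)

variable {A : Type u} [CommRing A] {L : Type u} [AddCommGroup L] [Module A L]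

theorem end_quot_equiv (hloc : ∀ 𝔪 : Ideal A, 𝔪.IsMaximal → IsLocMono A L 𝔪) (J : Ideal A) :
    Nonempty (((L ⧸ (J • ⊤ : Submodule A L)) →ₗ[A] (L ⧸ (J • ⊤ : Submodule A L))) ≃ₗ[A]
      (A ⧸ J)) := by
  classical
  let Φ : A →ₗ[A] ((L ⧸ (J • ⊤ : Submodule A L)) →ₗ[A] (L ⧸ (J • ⊤ : Submodule A L))) :=
    LinearMap.lsmul A (L ⧸ (J • ⊤ : Submodule A L))
  have hΦ : ∀ a (y : L ⧸ (J • ⊤ : Submodule A L)), Φ a y = a • y := fun a y => rfl
  have hker : LinearMap.ker Φ = J := by
    ext a
    rw [LinearMap.mem_ker]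
    constructor
    · intro ha
      have hal : ∀ l : L, a • l ∈ (J • ⊤ : Submodule A L) := fun l => by
        have := LinearMap.congr_fun ha (Submodule.Quotient.mk l)
        rw [hΦ, LinearMap.zero_apply, ← Submodule.Quotient.mk_smul,
          Submodule.Quotient.mk_eq_zero] at this
        exact this
      by_contra haJ
      let I : Ideal A := Submodule.comap (LinearMap.mulRight A a) J
      have hI : ∀ s, s ∈ I ↔ s * a ∈ J := fun s => by
        show LinearMap.mulRight A a s ∈ J ↔ _
        rw [LinearMap.mulRight_apply]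
      have hItop : I ≠ ⊤ := by
        intro h
        apply haJ
        have : (1 : A) ∈ I := h ▸ Submodule.mem_top
        rw [hI, one_mul] at this
        exact this
      obtain ⟨𝔪, h𝔪, hI𝔪⟩ := Ideal.exists_le_maximal I hItop
      obtain ⟨e, s, hs, h1, h2⟩ := hloc 𝔪 h𝔪
      have key : ∀ y ∈ (J • ⊤ : Submodule A L), ∃ j' ∈ J, s • y = j' • e := by
        intro y hy
        refine Submodule.smul_induction_on hy ?_ ?_
        · intro j hj l _
          obtain ⟨a', ha'⟩ := h1 l
          refine ⟨j * a', J.mul_mem_right _ hj, ?_⟩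
          rw [smul_comm, ha', smul_smul]
        · rintro y₁ y₂ ⟨j₁, hj₁, e₁⟩ ⟨j₂, hj₂, e₂⟩
          exact ⟨j₁ + j₂, J.add_mem hj₁ hj₂, by rw [smul_add, e₁, e₂, add_smul]⟩
      obtain ⟨j', hj', hje⟩ := key _ (hal e)
      have h0 : (s * a - j') • e = 0 := by
        rw [sub_smul, mul_smul, hje, sub_self]
      obtain ⟨t, ht, ht0⟩ := h2 _ h0
      have hts : t * s ∈ I := by
        rw [hI]
        have : t * s * a = t * j' := by
          have := ht0
          rw [mul_sub, sub_eq_zero] at this
          rw [mul_assoc, this]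
        rw [this]
        exact J.mul_mem_left _ hj'
      exact (h𝔪.isPrime.mem_or_mem (hI𝔪 hts)).elim ht hs
    · intro ha
      refine LinearMap.ext fun y => ?_
      obtain ⟨l, rfl⟩ := Submodule.Quotient.mk_surjective _ y
      rw [hΦ, LinearMap.zero_apply, ← Submodule.Quotient.mk_smul, Submodule.Quotient.mk_eq_zero]
      exact Submodule.smul_mem_smul ha Submodule.mem_top
  have hsurj : Function.Surjective Φ := by
    intro φ
    let I : Ideal A := Submodule.comap (LinearMap.toSpanSingleton A _ φ) (LinearMap.range Φ)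
    have hI : ∀ s, s ∈ I ↔ ∃ b, Φ b = s • φ := fun s => by
      show LinearMap.toSpanSingleton A _ φ s ∈ LinearMap.range Φ ↔ _
      rw [LinearMap.toSpanSingleton_apply, LinearMap.mem_range]
    have hItop : I = ⊤ := by
      by_contra hne
      obtain ⟨𝔪, h𝔪, hI𝔪⟩ := Ideal.exists_le_maximal I hne
      obtain ⟨e, s, hs, h1, -⟩ := hloc 𝔪 h𝔪
      obtain ⟨l', hl'⟩ := Submodule.Quotient.mk_surjective _ (φ (Submodule.Quotient.mk e))
      obtain ⟨c, hc⟩ := h1 l'
      have hss : s * s ∈ I := by
        rw [hI]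
        refine ⟨c * s, LinearMap.ext fun y => ?_⟩
        obtain ⟨l, rfl⟩ := Submodule.Quotient.mk_surjective _ y
        obtain ⟨a, ha⟩ := h1 l
        have hL : Φ (c * s) (Submodule.Quotient.mk l) =
            (c * a) • (Submodule.Quotient.mk e : L ⧸ (J • ⊤ : Submodule A L)) := by
          rw [hΦ, mul_smul, ← Submodule.Quotient.mk_smul _ s l, ha, Submodule.Quotient.mk_smul,
            smul_smul]
        have hR : ((s * s) • φ) (Submodule.Quotient.mk l) =
            (c * a) • (Submodule.Quotient.mk e : L ⧸ (J • ⊤ : Submodule A L)) := by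
          rw [LinearMap.smul_apply, mul_smul, ← map_smul φ s, ← Submodule.Quotient.mk_smul _ s l,
            ha, Submodule.Quotient.mk_smul, map_smul, ← hl', smul_comm s a,
            ← Submodule.Quotient.mk_smul _ s l', hc, Submodule.Quotient.mk_smul, smul_smul,
            mul_comm]
        rw [hL, hR]
      exact (h𝔪.isPrime.mem_or_mem (hI𝔪 hss)).elim hs hs
    have h1 : (1 : A) ∈ I := hItop ▸ Submodule.mem_top
    rw [hI] at h1
    obtain ⟨b, hb⟩ := h1
    exact ⟨b, by rw [hb, one_smul]⟩
  exact ⟨(LinearMap.quotKerEquivOfSurjective Φ hsurj).symm.trans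
    (Submodule.quotEquivOfEq _ _ hker)⟩

theorem isLocMono_of_localized [Module.Finite A L] (q : Ideal A) [q.IsPrime]
    {L' : Type u} [AddCommGroup L'] [Module A L'] [Module (Localization.AtPrime q) L']
    [IsScalarTower A (Localization.AtPrime q) L']
    (f : L →ₗ[A] L') [IsLocalizedModule q.primeCompl f]
    (g : L' ≃ₗ[Localization.AtPrime q] Localization.AtPrime q) :
    IsLocMono A L q := by
  classical
  obtain ⟨u, hudef⟩ : ∃ u : L', u = g.symm 1 := ⟨_, rfl⟩
  have hu : ∀ v : L', v = g v • u := by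
    intro v
    apply g.injective
    rw [map_smul, hudef, g.apply_symm_apply, smul_eq_mul, mul_one]
  obtain ⟨⟨l₀, s₀⟩, hs₀⟩ := IsLocalizedModule.surj q.primeCompl f u
  have hs₀' : (s₀ : A) • u = f l₀ := hs₀
  have hs₀q : (s₀ : A) ∉ q := s₀.2
  -- per element
  have hper : ∀ l : L, ∃ s : A, s ∉ q ∧ ∃ a : A, s • l = a • l₀ := by
    intro l
    obtain ⟨⟨a', t⟩, ht⟩ := IsLocalization.surj q.primeCompl (g (f l))
    have ht' : g (f l) * algebraMap A (Localization.AtPrime q) (t : A) =
        algebraMap A (Localization.AtPrime q) a' := ht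
    have hfeq : f (((t : A) * (s₀ : A)) • l) = f (a' • l₀) := by
      rw [map_smul, map_smul, ← hs₀', mul_smul]
      conv_lhs => rw [hu (f l)]
      rw [smul_comm (s₀ : A) (g (f l)) u, ← algebraMap_smul (Localization.AtPrime q) (t : A)
        (g (f l) • (s₀ : A) • u), smul_smul, mul_comm, ht', algebraMap_smul]
    obtain ⟨w, hw⟩ := (IsLocalizedModule.eq_iff_exists q.primeCompl f).mp hfeq
    have hw' : (w : A) • (((t : A) * (s₀ : A)) • l) = (w : A) • (a' • l₀) := hw
    refine ⟨(w : A) * ((t : A) * (s₀ : A)), ?_, (w : A) * a', ?_⟩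
    · intro h
      rcases (inferInstance : q.IsPrime).mem_or_mem h with h | h
      · exact w.2 h
      · rcases (inferInstance : q.IsPrime).mem_or_mem h with h | h
        · exact t.2 h
        · exact hs₀q h
    · rw [mul_smul, hw', mul_smul]
  obtain ⟨n, gen, hgen⟩ := Module.Finite.exists_fin (R := A) (M := L)
  choose sg hsg ag hag using fun i => hper (gen i)
  refine ⟨l₀, ∏ i, sg i, ?_, ?_, ?_⟩
  · intro h
    rw [Ideal.IsPrime.prod_mem_iff] at h
    obtain ⟨i, -, hi⟩ := h
    exact hsg i hi
  · intro l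
    have hl : l ∈ Submodule.span A (Set.range gen) := hgen ▸ Submodule.mem_top
    obtain ⟨c, rfl⟩ := (Submodule.mem_span_range_iff_exists_fun A).mp hl
    refine ⟨∑ i, c i * ((∏ j ∈ Finset.univ.erase i, sg j) * ag i), ?_⟩
    rw [Finset.smul_sum, Finset.sum_smul]
    refine Finset.sum_congr rfl fun i _ => ?_
    rw [← Finset.mul_prod_erase Finset.univ sg (Finset.mem_univ i), smul_comm, mul_comm (sg i),
      mul_smul, hag i, smul_smul, smul_smul]
    congr 1
    ring
  · intro b hb
    have h1 : f (b • l₀) = 0 := by rw [hb, map_zero]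
    rw [map_smul, ← hs₀', smul_smul] at h1
    have h2 : g ((b * (s₀ : A)) • u) = 0 := by rw [h1, map_zero]
    rw [← algebraMap_smul (Localization.AtPrime q) (b * (s₀ : A)) u, map_smul, hudef,
      g.apply_symm_apply, smul_eq_mul, mul_one] at h2
    obtain ⟨m, hm⟩ := (IsLocalization.map_eq_zero_iff q.primeCompl _ _).mp h2
    refine ⟨(m : A) * (s₀ : A), ?_, ?_⟩
    · intro h
      rcases (inferInstance : q.IsPrime).mem_or_mem h with h | h
      · exact m.2 h
      · exact hs₀q h
    · rw [← hm]
      ring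

end Groth.Agent.Lib.Helper9.LocMono
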