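import Mathlib

/-!
# Rees' isomorphism `Ext^p_A(N, M) ≃ Hom_A(N, M/(xs)M)` for an `M`-regular sequence `xs` of
length `p` killing `N` (linear version)
-/

set_option autoImplicit false

namespace Groth.Agent.Lib.Helper9.ReesIso

open CategoryTheory

universe u

variable {A : Type u} [CommRing A]

/-- an element killing `N` kills `Ext(N, -)`. -/
theorem smul_ext_eq_zero {N Y : ModuleCat.{u} A} (x : A) (hN : ∀ n : N, x • n = 0) {i : ℕ}
    (ξ : Abelian.Ext.{u} N Y i) : x • ξ = 0 := by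
  have h1 : x • ξ = (Abelian.Ext.mk₀ (x • 𝟙 N)).comp ξ (zero_add i) := by
    rw [Abelian.Ext.mk₀_smul, Abelian.Ext.smul_comp, Abelian.Ext.mk₀_id_comp]
  have h2 : x • 𝟙 N = 0 := by
    ext n
    exact hN n
  rw [h1, h2, Abelian.Ext.mk₀_zero, Abelian.Ext.zero_comp]

/-- Rees' theorem with the linear isomorphism. -/
theorem rees (N : ModuleCat.{u} A) : ∀ (xs : List A) (M : ModuleCat.{u} A),
    RingTheory.Sequence.IsWeaklyRegular M xs → (∀ x ∈ xs, ∀ n : N, x • n = 0) →
    (∀ i < xs.length, Subsingleton (Abelian.Ext.{u} N M i)) ∧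
    Nonempty (Abelian.Ext.{u} N M xs.length ≃ₗ[A]
      (N →ₗ[A] (M ⧸ (Ideal.ofList xs • ⊤ : Submodule A M)))) := by
  intro xs
  induction xs with
  | nil =>
    intro M _ _
    refine ⟨fun i hi => absurd hi (by simp), ⟨?_⟩⟩
    have e1 : Abelian.Ext.{u} N M 0 ≃ₗ[A] (N ⟶ M) := Abelian.Ext.linearEquiv₀
    have e2 : (N ⟶ M) ≃ₗ[A] (N →ₗ[A] M) := ModuleCat.homLinearEquiv
    have hbot : (Ideal.ofList ([] : List A) • ⊤ : Submodule A M) = ⊥ := by
      rw [Ideal.ofList_nil, Submodule.bot_smul]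
    have e3 : M ≃ₗ[A] (M ⧸ (Ideal.ofList ([] : List A) • ⊤ : Submodule A M)) :=
      (Submodule.quotEquivOfEqBot _ hbot).symm
    exact e1.trans (e2.trans (LinearEquiv.congrRight e3))
  | cons x xs ih =>
    intro M hreg hkill
    rw [RingTheory.Sequence.isWeaklyRegular_cons_iff] at hreg
    obtain ⟨hx, hrs⟩ := hreg
    have hS := hx.smulShortComplex_shortExact
    have hxN : ∀ n : N, x • n = 0 := hkill x List.mem_cons_self
    obtain ⟨ihv, ⟨ihe⟩⟩ := ih (ModuleCat.of A (QuotSMulTop x M)) hrs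
      (fun y hy => hkill y (List.mem_cons_of_mem _ hy))
    have hδsurj : ∀ i (x₁ : Abelian.Ext.{u} N M (i + 1)),
        ∃ x₃ : Abelian.Ext.{u} N (ModuleCat.of A (QuotSMulTop x M)) i,
          x₃.comp hS.extClass rfl = x₁ := by
      intro i x₁
      have h0 : x₁.comp (Abelian.Ext.mk₀ (M.smulShortComplex x).f) (add_zero (i + 1)) = 0 := by
        have h00 : x₁.comp (Abelian.Ext.mk₀ (x • 𝟙 M)) (add_zero (i + 1)) = x • x₁ :=
          (Abelian.Ext.smul_eq_comp_mk₀ x₁ x).symm
        exact h00.trans (smul_ext_eq_zero x hxN x₁)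
      exact Abelian.Ext.covariant_sequence_exact₁ N hS x₁ h0 rfl
    have hvan : ∀ i < (x :: xs).length, Subsingleton (Abelian.Ext.{u} N M i) := by
      intro i hi
      cases i with
      | zero =>
        have e1 : Abelian.Ext.{u} N M 0 ≃ₗ[A] (N ⟶ M) := Abelian.Ext.linearEquiv₀
        have : Subsingleton (N ⟶ M) := ⟨fun f g => by
          ext n
          apply hx
          show x • f.hom n = x • g.hom n
          rw [← map_smul, ← map_smul, hxN n, map_zero, map_zero]⟩
        exact e1.toEquiv.subsingleton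
      | succ j =>
        have hj : j < xs.length := by simpa using hi
        haveI := ihv j hj
        refine ⟨fun a b => ?_⟩
        obtain ⟨a', rfl⟩ := hδsurj j a
        obtain ⟨b', rfl⟩ := hδsurj j b
        rw [Subsingleton.elim a' b']
    refine ⟨hvan, ⟨?_⟩⟩
    let δ : Abelian.Ext.{u} N (ModuleCat.of A (QuotSMulTop x M)) xs.length →ₗ[A]
        Abelian.Ext.{u} N M (xs.length + 1) :=
      { toFun := fun x₃ => x₃.comp hS.extClass rfl
        map_add' := fun a b => Abelian.Ext.add_comp _ _ _ _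
        map_smul' := fun a b => Abelian.Ext.smul_comp _ _ _ _ }
    have hδinj : Function.Injective δ := by
      rw [injective_iff_map_eq_zero]
      intro x₃ hx₃
      obtain ⟨x₂, hx₂⟩ := Abelian.Ext.covariant_sequence_exact₃ N hS x₃ rfl hx₃
      have hx₂0 : x₂ = 0 := (hvan xs.length (by simp)).elim x₂ 0
      rw [← hx₂, hx₂0, Abelian.Ext.zero_comp]
      rfl
    have hδs : Function.Surjective δ := fun x₁ => hδsurj xs.length x₁
    let eδ := LinearEquiv.ofBijective δ ⟨hδinj, hδs⟩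
    have e4 : (M ⧸ (Ideal.ofList (x :: xs) • ⊤ : Submodule A M)) ≃ₗ[A]
        (QuotSMulTop x M ⧸ (Ideal.ofList xs • ⊤ : Submodule A (QuotSMulTop x M))) :=
      Submodule.quotOfListConsSMulTopEquivQuotSMulTopInner M x xs
    exact eδ.symm.trans (ihe.trans (LinearEquiv.congrRight e4.symm))

end Groth.Agent.Lib.Helper9.ReesIso
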