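import Mathlib
import Groth.Agent.Lib.Helper9.ReesIso
import Groth.Agent.Lib.Helper9.LocMono
import Groth.Agent.Lib.Helper9.DetKaehler
import Groth.Agent.Lib.Helper9.ExtFlat
import Groth.Agent.Lib.Helper6.ExtBC

/-!
# `Ext^p_A(Ω^{n-p}_{A/J}, Ω^n_A) ≃ A/J` for a smooth complete intersection quotient of a smooth algebra
-/

set_option autoImplicit false

namespace Groth.Agent.Lib.Helper9.TopFormsCI

open TensorProduct CategoryTheory
open Groth.Agent.Lib.Helper9.ExtSum Groth.Agent.Lib.Helper6.ExtBC Groth.Agent.Lib.Helper9.LocMono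

universe u

/-- a weakly regular sequence on the ring is weakly regular on every flat module. -/
theorem isWeaklyRegular_of_flat' {R : Type u} [CommRing R] (M : Type u) [AddCommGroup M]
    [Module R M] [Module.Flat R M] {rs : List R}
    (h : RingTheory.Sequence.IsWeaklyRegular R rs) :
    RingTheory.Sequence.IsWeaklyRegular M rs := by
  refine ⟨fun i hi => ?_⟩
  have h1 := h.regular_mod_prev i hi
  have h2 := IsSMulRegular.rTensor M h1
  have hJ : (Ideal.ofList (rs.take i) • (⊤ : Submodule R R)) = Ideal.ofList (rs.take i) := by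
    rw [smul_eq_mul, Ideal.mul_top]
  let e1 : (R ⧸ (Ideal.ofList (rs.take i) • (⊤ : Submodule R R))) ≃ₗ[R]
      (R ⧸ Ideal.ofList (rs.take i)) := Submodule.quotEquivOfEq _ _ hJ
  let e2 : (R ⧸ Ideal.ofList (rs.take i)) ⊗[R] M ≃ₗ[R]
      M ⧸ (Ideal.ofList (rs.take i) • (⊤ : Submodule R M)) :=
    TensorProduct.quotTensorEquivQuotSMul M (Ideal.ofList (rs.take i))
  let e := (TensorProduct.congr e1 (LinearEquiv.refl R M)).trans e2
  exact (e.isSMulRegular_congr _).mp h2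

section Loc

variable {A : Type u} [CommRing A] (M : Type u) [AddCommGroup M] [Module A M]

/-- localization map on exterior powers -/
noncomputable def locExt (q : Ideal A) [q.IsPrime] (m : ℕ) :
    ↥(⋀[A]^m M) →ₗ[A] ↥(⋀[Localization.AtPrime q]^m (LocalizedModule q.primeCompl M)) :=
  extMap (B := Localization.AtPrime q) (LocalizedModule.mkLinearMap q.primeCompl M) m

instance locExt_isLocalizedModule (q : Ideal A) [q.IsPrime] (m : ℕ) :
    IsLocalizedModule q.primeCompl (locExt M q m) := by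
  rw [isLocalizedModule_iff_isBaseChange q.primeCompl (Localization.AtPrime q)]
  exact isBaseChange_extMap (IsLocalizedModule.isBaseChange q.primeCompl (Localization.AtPrime q)
    (LocalizedModule.mkLinearMap q.primeCompl M)) m

variable [Module.Finite A M] [Module.Projective A M]
  (n : ℕ) (hn : ∀ q : PrimeSpectrum A, Module.rankAtStalk M q = n)

include hn in
theorem exists_basis_localized (q : Ideal A) [hq : q.IsPrime] :
    Nonempty (Module.Basis (Fin n) (Localization.AtPrime q) (LocalizedModule q.primeCompl M)) := by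
  haveI : Module.Free (Localization.AtPrime q) (LocalizedModule q.primeCompl M) :=
    Module.free_of_flat_of_isLocalRing
  have h : Module.finrank (Localization.AtPrime q) (LocalizedModule q.primeCompl M) = n :=
    hn ⟨q, hq⟩
  exact ⟨Module.finBasisOfFinrankEq _ _ h⟩

include hn in
theorem subsingleton_extPow_succ : Subsingleton ↥(⋀[A]^(n + 1) M) := by
  have h0 : ∀ z : ↥(⋀[A]^(n + 1) M), z = 0 := by
    intro z
    by_contra hz
    let I : Ideal A := LinearMap.ker (LinearMap.toSpanSingleton A _ z)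
    have hI : ∀ s, s ∈ I ↔ s • z = 0 := fun s => by
      show LinearMap.toSpanSingleton A _ z s = 0 ↔ _
      rw [LinearMap.toSpanSingleton_apply]
    have hItop : I ≠ ⊤ := by
      intro h
      apply hz
      have : (1 : A) ∈ I := h ▸ Submodule.mem_top
      rw [hI, one_smul] at this
      exact this
    obtain ⟨P, hP, hIP⟩ := Ideal.exists_le_maximal I hItop
    haveI : P.IsPrime := hP.isPrime
    obtain ⟨b⟩ := exists_basis_localized M n hn P
    haveI := above_top_of_basis b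
    have hz0 : locExt M P (n + 1) z = 0 := Subsingleton.elim _ _
    obtain ⟨c, hc⟩ := (IsLocalizedModule.eq_zero_iff P.primeCompl (locExt M P (n + 1))).mp hz0
    have hcI : (c : A) ∈ I := (hI _).mpr hc
    exact c.2 (hIP hcI)
  exact ⟨fun x y => by rw [h0 x, h0 y]⟩

include hn in
theorem isLocMono_extPow (q : Ideal A) [q.IsPrime] : IsLocMono A ↥(⋀[A]^n M) q := by
  obtain ⟨b⟩ := exists_basis_localized M n hn q
  obtain ⟨g⟩ := top_of_basis b
  exact isLocMono_of_localized q (locExt M q n) g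

end Loc

section PartC

variable (k : Type u) [CommRing k] (A : Type u) [CommRing A] [Algebra k A]
  [Algebra.FormallySmooth k A] (n : ℕ) (hsub : Subsingleton ↥(⋀[A]^(n + 1) Ω[A⁄k]))
  {p : ℕ} (F : Fin p → A) (hreg : RingTheory.Sequence.IsWeaklyRegular A (List.ofFn F))
  (J : Ideal A) (hJ : J = Ideal.span (Set.range F)) [Algebra.FormallySmooth k (A ⧸ J)]
  (hpn : p ≤ n)

include hsub hreg hJ hpn in
theorem partC : Nonempty (↥(⋀[A ⧸ J]^(n - p) Ω[(A ⧸ J)⁄k]) ≃ₗ[A ⧸ J]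
    ((A ⧸ J) ⊗[A] ↥(⋀[A]^n Ω[A⁄k]))) := by
  classical
  have hsurj : Function.Surjective (algebraMap A (A ⧸ J)) := Ideal.Quotient.mk_surjective
  obtain ⟨eA⟩ := DetKaehler.cotangent_equiv F hreg J hJ
  obtain ⟨eB⟩ := DetKaehler.kaehler_split k A J
  let e'P : (Ω[(A ⧸ J)⁄k] × (Fin p → A ⧸ J)) ≃ₗ[A] ((A ⧸ J) ⊗[A] Ω[A⁄k]) :=
    (LinearEquiv.prodComm A _ _).trans
      ((LinearEquiv.prodCongr (eA.restrictScalars A).symm (LinearEquiv.refl A _)).trans eB.symm)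
  let e' : (Ω[(A ⧸ J)⁄k] × (Fin p → A ⧸ J)) ≃ₗ[A ⧸ J] ((A ⧸ J) ⊗[A] Ω[A⁄k]) :=
    e'P.extendScalarsOfSurjective hsurj
  have hbc : ∀ m, IsBaseChange (A ⧸ J)
      (extMap (B := A ⧸ J) (TensorProduct.mk A (A ⧸ J) Ω[A⁄k] 1) m) := fun m =>
    isBaseChange_extMap (TensorProduct.isBaseChange A Ω[A⁄k] (A ⧸ J)) m
  haveI : Subsingleton ((A ⧸ J) ⊗[A] ↥(⋀[A]^(n + 1) Ω[A⁄k])) := ⟨fun x y => by
    have h0 : ∀ z : (A ⧸ J) ⊗[A] ↥(⋀[A]^(n + 1) Ω[A⁄k]), z = 0 := by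
      intro z
      induction z using TensorProduct.induction_on with
      | zero => rfl
      | tmul b w => rw [Subsingleton.elim w 0, TensorProduct.tmul_zero]
      | add a b ha hb => rw [ha, hb, add_zero]
    rw [h0 x, h0 y]⟩
  haveI : Subsingleton ↥(⋀[A ⧸ J]^(n + 1) ((A ⧸ J) ⊗[A] Ω[A⁄k])) :=
    (hbc (n + 1)).equiv.symm.toEquiv.subsingleton
  have hsub' : Subsingleton ↥(⋀[A ⧸ J]^(n + 1) (Ω[(A ⧸ J)⁄k] × (Fin p → A ⧸ J))) :=
    (extEquiv e' (n + 1)).toEquiv.subsingleton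
  obtain ⟨-, ⟨ψ⟩⟩ := detStable (R := A ⧸ J) p Ω[(A ⧸ J)⁄k] (n - p) n (by omega) hsub'
  exact ⟨ψ.trans ((extEquiv e' n).trans (hbc n).equiv.symm)⟩

end PartC

theorem main (k : Type u) [Field k] (A : Type u) [CommRing A] [Algebra k A]
    [Algebra.Smooth k A] (n : ℕ)
    (hn : ∀ q : PrimeSpectrum A, Module.rankAtStalk (Ω[A⁄k]) q = n) (xs : List A)
    (hreg : RingTheory.Sequence.IsWeaklyRegular A xs) (J : Ideal A) (hJ : Ideal.ofList xs = J)
    [Algebra.Smooth k (A ⧸ J)] (p : ℕ) (hp : xs.length = p) (hpn : p ≤ n) :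
    Nonempty (Abelian.Ext
      (ModuleCat.of A ↥((⋀[A ⧸ J]^(n - p) (Ω[(A ⧸ J)⁄k])).restrictScalars A))
      (ModuleCat.of A ↥(⋀[A]^n (Ω[A⁄k]))) p ≃ₗ[A] (A ⧸ J)) := by
  classical
  subst hp
  haveI : Module.Flat A ↥(⋀[A]^n (Ω[A⁄k])) :=
    Groth.Agent.Lib.Helper9.ExtFlat.flat_exteriorPower n
  have hregL : RingTheory.Sequence.IsWeaklyRegular ↥(⋀[A]^n (Ω[A⁄k])) xs :=
    isWeaklyRegular_of_flat' _ hreg
  have hxsJ : ∀ x ∈ xs, x ∈ J := fun x hx => hJ ▸ Ideal.subset_span hx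
  have hkill : ∀ x ∈ xs, ∀ m : ↥((⋀[A ⧸ J]^(n - xs.length) (Ω[(A ⧸ J)⁄k])).restrictScalars A),
      x • m = 0 := by
    intro x hx m
    apply Subtype.ext
    show x • (m : ExteriorAlgebra (A ⧸ J) Ω[(A ⧸ J)⁄k]) = 0
    rw [← algebraMap_smul (A ⧸ J) x (m : ExteriorAlgebra (A ⧸ J) Ω[(A ⧸ J)⁄k]),
      Ideal.Quotient.algebraMap_eq, Ideal.Quotient.eq_zero_iff_mem.mpr (hxsJ x hx), zero_smul]
  obtain ⟨-, ⟨eR⟩⟩ := ReesIso.rees
    (ModuleCat.of A ↥((⋀[A ⧸ J]^(n - xs.length) (Ω[(A ⧸ J)⁄k])).restrictScalars A)) xs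
    (ModuleCat.of A ↥(⋀[A]^n (Ω[A⁄k]))) hregL hkill
  have hloc : ∀ 𝔪 : Ideal A, 𝔪.IsMaximal → IsLocMono A ↥(⋀[A]^n (Ω[A⁄k])) 𝔪 := fun 𝔪 h𝔪 => by
    haveI := h𝔪.isPrime
    exact isLocMono_extPow (Ω[A⁄k]) n hn 𝔪
  obtain ⟨eE⟩ := end_quot_equiv hloc J
  have hsub := subsingleton_extPow_succ (Ω[A⁄k]) n hn
  have hreg' : RingTheory.Sequence.IsWeaklyRegular A (List.ofFn xs.get) := by
    rw [List.ofFn_get]; exact hreg
  have hJ' : J = Ideal.span (Set.range xs.get) := by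
    rw [← hJ, ← Groth.Agent.Lib.Helper9.QuasiReg.ofList_ofFn, List.ofFn_get]
  obtain ⟨eC⟩ := partC k A n hsub xs.get hreg' J hJ' hpn
  let eN1 : ↥((⋀[A ⧸ J]^(n - xs.length) (Ω[(A ⧸ J)⁄k])).restrictScalars A) ≃ₗ[A]
      ↥(⋀[A ⧸ J]^(n - xs.length) (Ω[(A ⧸ J)⁄k])) :=
    (Submodule.restrictScalarsEquiv A (A ⧸ J) _
      (⋀[A ⧸ J]^(n - xs.length) (Ω[(A ⧸ J)⁄k]))).restrictScalars A
  let eN : ↥((⋀[A ⧸ J]^(n - xs.length) (Ω[(A ⧸ J)⁄k])).restrictScalars A) ≃ₗ[A]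
      (↥(⋀[A]^n (Ω[A⁄k])) ⧸ (J • ⊤ : Submodule A ↥(⋀[A]^n (Ω[A⁄k])))) :=
    eN1.trans ((eC.restrictScalars A).trans
      (TensorProduct.quotTensorEquivQuotSMul ↥(⋀[A]^n (Ω[A⁄k])) J))
  subst hJ
  exact ⟨eR.trans ((LinearEquiv.arrowCongr eN (LinearEquiv.refl A _)).trans eE)⟩

end Groth.Agent.Lib.Helper9.TopFormsCI
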