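import Mathlib
import Groth.Agent.Lib.Helper9.LogCartB
import Groth.Agent.Lib.Helper9.TopFormsCI
import Groth.Agent.Lib.Helper6.ExtBC

/-!
# The annihilator of the top exterior power of the differentials of a hypersurface
-/

set_option autoImplicit false

namespace Groth.Agent.Lib.Helper9.HypAnn

open TensorProduct KaehlerDifferential
open Groth.Agent.Lib.Helper9.LogCartB Groth.Agent.Lib.Helper6.ExtBC

universe u

section General

/-- factoring a linear map through a surjection -/
theorem exists_factor {R : Type*} [CommRing R] {P Q T : Type*} [AddCommGroup P] [Module R P]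
    [AddCommGroup Q] [Module R Q] [AddCommGroup T] [Module R T] (mb : P →ₗ[R] Q)
    (hmb : Function.Surjective mb) (f : P →ₗ[R] T) (h : LinearMap.ker mb ≤ LinearMap.ker f) :
    ∃ fbar : Q →ₗ[R] T, ∀ p, fbar (mb p) = f p := by
  refine ⟨(LinearMap.ker mb).liftQ f h ∘ₗ (mb.quotKerEquivOfSurjective hmb).symm.toLinearMap,
    fun p => ?_⟩
  rw [LinearMap.comp_apply]
  have : (mb.quotKerEquivOfSurjective hmb).symm (mb p) = Submodule.Quotient.mk p := by
    rw [LinearEquiv.symm_apply_eq]
    rfl
  rw [LinearEquiv.coe_coe, this, Submodule.liftQ_apply]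

/-- the determinant of linear forms as an alternating map -/
noncomputable def detAlt {R : Type*} [CommRing R] {T : Type*} [CommRing T] [Algebra R T]
    {Q : Type*} [AddCommGroup Q] [Module R Q] {n : ℕ} (φbar : Fin n → (Q →ₗ[R] T)) :
    Q [⋀^Fin n]→ₗ[R] T :=
  { ((Matrix.detRowAlternating (R := T) (n := Fin n)).toMultilinearMap.restrictScalars
      R).compLinearMap (fun _ => LinearMap.pi φbar) with
    map_eq_zero_of_eq' := fun v i j hv hij =>
      (Matrix.detRowAlternating (R := T) (n := Fin n)).map_eq_zero_of_eq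
        (fun i => LinearMap.pi φbar (v i)) (by simp only [hv]) hij }

theorem detAlt_apply {R : Type*} [CommRing R] {T : Type*} [CommRing T] [Algebra R T]
    {Q : Type*} [AddCommGroup Q] [Module R Q] {n : ℕ} (φbar : Fin n → (Q →ₗ[R] T))
    (q : Fin n → Q) :
    detAlt φbar q = Matrix.det (Matrix.of fun j i => φbar i (q j)) := rfl

/-- the ideal of `n × n` determinants of linear forms on a projective module of rank `n` is
the unit ideal -/
theorem detIdeal_eq_top {B : Type u} [CommRing B] (M : Type u) [AddCommGroup M] [Module B M]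
    [Module.Finite B M] [Module.Projective B M] (n : ℕ)
    (hn : ∀ p : PrimeSpectrum B, Module.rankAtStalk M p = n) :
    Ideal.span {d : B | ∃ (φ : Fin n → Module.Dual B M) (ω : Fin n → M),
      d = Matrix.det (Matrix.of fun j i => φ i (ω j))} = ⊤ := by
  classical
  by_contra h
  obtain ⟨𝔪, hmax, hle⟩ := Ideal.exists_le_maximal _ h
  haveI := hmax
  have hsurj : Function.Surjective (algebraMap B 𝔪.ResidueField) :=
    Ideal.algebraMap_residueField_surjective 𝔪
  have hfin : Module.finrank 𝔪.ResidueField (𝔪.ResidueField ⊗[B] M) = n := by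
    have := Module.rankAtStalk_eq (M := M) ⟨𝔪, hmax.isPrime⟩
    rw [hn] at this
    exact this.symm
  let b : Module.Basis (Fin n) 𝔪.ResidueField (𝔪.ResidueField ⊗[B] M) :=
    Module.finBasisOfFinrankEq 𝔪.ResidueField _ hfin
  have hpure : ∀ v : 𝔪.ResidueField ⊗[B] M, ∃ ω : M, (1 : 𝔪.ResidueField) ⊗ₜ[B] ω = v := by
    intro v
    induction v using TensorProduct.induction_on with
    | zero => exact ⟨0, TensorProduct.tmul_zero _ _⟩
    | tmul c m =>
      obtain ⟨c', rfl⟩ := hsurj c
      refine ⟨c' • m, ?_⟩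
      rw [TensorProduct.tmul_smul, TensorProduct.smul_tmul', Algebra.smul_def, mul_one]
    | add v w hv hw =>
      obtain ⟨ω₁, rfl⟩ := hv
      obtain ⟨ω₂, rfl⟩ := hw
      exact ⟨ω₁ + ω₂, TensorProduct.tmul_add _ _ _⟩
  choose ω hω using fun j => hpure (b j)
  have hlift : ∀ i, ∃ φ : M →ₗ[B] B, ∀ m, algebraMap B 𝔪.ResidueField (φ m) =
      b.coord i ((1 : 𝔪.ResidueField) ⊗ₜ[B] m) := by
    intro i
    let gi : M →ₗ[B] 𝔪.ResidueField :=
      ((b.coord i).restrictScalars B) ∘ₗ (TensorProduct.mk B 𝔪.ResidueField M 1)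
    obtain ⟨φ, hφ⟩ := Module.projective_lifting_property
      (Algebra.linearMap B 𝔪.ResidueField) gi hsurj
    exact ⟨φ, fun m => LinearMap.congr_fun hφ m⟩
  choose φ hφ using hlift
  have hd : Matrix.det (Matrix.of fun j i => φ i (ω j)) ∈ 𝔪 :=
    hle (Ideal.subset_span ⟨φ, ω, rfl⟩)
  have h0 : algebraMap B 𝔪.ResidueField (Matrix.det (Matrix.of fun j i => φ i (ω j))) = 0 :=
    Ideal.algebraMap_residueField_eq_zero.mpr hd
  rw [RingHom.map_det] at h0
  have h1 : (algebraMap B 𝔪.ResidueField).mapMatrix (Matrix.of fun j i => φ i (ω j)) = 1 := by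
    ext j i
    rw [RingHom.mapMatrix_apply, Matrix.map_apply, Matrix.of_apply, hφ, hω,
      Module.Basis.coord_apply, Module.Basis.repr_self, Matrix.one_apply, Finsupp.single_apply]
  rw [h1, Matrix.det_one] at h0
  exact one_ne_zero h0

end General

section Main

variable (A B R : Type u) [CommRing A] [CommRing B] [CommRing R]
  [Algebra A B] [Algebra B R] [Algebra A R] [IsScalarTower A B R]

/-- the map on exterior powers induced by `Ω[B⁄A] → Ω[R⁄A]` -/
noncomputable def Lam (n : ℕ) : ↥(⋀[B]^n Ω[B⁄A]) →ₗ[B] ↥(⋀[R]^n Ω[R⁄A]) :=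
  extMap (B := R) (KaehlerDifferential.map A A B R) n

theorem Lam_ιMulti (n : ℕ) (ω : Fin n → Ω[B⁄A]) :
    Lam A B R n (exteriorPower.ιMulti B n ω) =
      exteriorPower.ιMulti R n (fun i => KaehlerDifferential.map A A B R (ω i)) :=
  extMap_ιMulti _ _ _

variable {B} in
theorem Lam_ml_eq_zero (g : B) (hg0 : algebraMap B R g = 0) (q : ℕ) (z : ↥(⋀[B]^q Ω[B⁄A])) :
    Lam A B R (q + 1) (ml (D A B g) q z) = 0 := by
  have hz : z ∈ Submodule.span B (Set.range (exteriorPower.ιMulti B q (M := Ω[B⁄A]))) := by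
    rw [exteriorPower.ιMulti_span]
    exact Submodule.mem_top
  induction hz using Submodule.span_induction with
  | mem z hz =>
    obtain ⟨v, rfl⟩ := hz
    have h1 : ml (D A B g) q (exteriorPower.ιMulti B q v) =
        exteriorPower.ιMulti B (q + 1) (Fin.cons (D A B g) v) := by
      apply Subtype.ext
      have h2 : Matrix.vecTail (Fin.cons (D A B g) v : Fin (q + 1) → Ω[B⁄A]) = v := by
        funext i
        simp [Matrix.vecTail]
      rw [ml_coe, exteriorPower.ιMulti_apply_coe, exteriorPower.ιMulti_apply_coe,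
        ExteriorAlgebra.ιMulti_succ_apply, h2, Fin.cons_zero]
    rw [h1, Lam_ιMulti]
    refine AlternatingMap.map_coord_zero _ (i := 0) ?_
    rw [Fin.cons_zero, KaehlerDifferential.map_D, hg0, map_zero]
  | zero => rw [map_zero, map_zero]
  | add x y _ _ hx hy => rw [map_add, map_add, hx, hy, add_zero]
  | smul a x _ hx => rw [map_smul, map_smul, hx, smul_zero]

variable {A B} in
theorem smul_eq_ml_cj {q : ℕ} (hsub : Subsingleton ↥(⋀[B]^(q + 2) Ω[B⁄A]))
    (φ : Module.Dual B Ω[B⁄A]) (a : Ω[B⁄A]) (y : ↥(⋀[B]^(q + 1) Ω[B⁄A])) :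
    φ a • y = ml a q (cj φ q y) := by
  apply Subtype.ext
  rw [ml_coe, cj_coe, Submodule.coe_smul]
  have h0 : ml a (q + 1) y = 0 := Subsingleton.elim _ _
  have h1 : ExteriorAlgebra.ι B a * (y : ExteriorAlgebra B Ω[B⁄A]) = 0 := by
    have := congrArg (Subtype.val) h0
    rwa [ml_coe] at this
  have h2 := cl_ι_mul φ a (y : ExteriorAlgebra B Ω[B⁄A])
  rw [h1, map_zero] at h2
  exact (sub_eq_zero.mp h2.symm)

variable {B} in
/-- the classes of the `φ(dg)` annihilate the top exterior power -/
theorem smul_eq_zero_of_dual (n : ℕ) (hsub : Subsingleton ↥(⋀[B]^(n + 1) Ω[B⁄A]))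
    (hsurj : Function.Surjective (algebraMap B R)) (g : B) (hg0 : algebraMap B R g = 0)
    (φ : Module.Dual B Ω[B⁄A]) (x : ↥(⋀[R]^n Ω[R⁄A])) :
    algebraMap B R (φ (D A B g)) • x = 0 := by
  have hπ : Function.Surjective (KaehlerDifferential.map A A B R) :=
    KaehlerDifferential.map_surjective_of_surjective A A B R hsurj
  cases n with
  | zero =>
    have h1 : ExteriorAlgebra.ι B (D A B g) ∈ ⋀[B]^(0 + 1) Ω[B⁄A] := by
      have := ι_mul_mem (D A B g) 0 (1 : ExteriorAlgebra B Ω[B⁄A]) one_mem_zero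
      rwa [mul_one] at this
    have h2 : (⟨ExteriorAlgebra.ι B (D A B g), h1⟩ : ↥(⋀[B]^(0 + 1) Ω[B⁄A])) = 0 :=
      Subsingleton.elim _ _
    have h3 : ExteriorAlgebra.ι B (D A B g) = 0 := congrArg Subtype.val h2
    rw [ExteriorAlgebra.ι_eq_zero_iff] at h3
    rw [h3, map_zero, map_zero, zero_smul]
  | succ q =>
    have hx : x ∈ Submodule.span R (Set.range (exteriorPower.ιMulti R (q + 1) (M := Ω[R⁄A]))) := by
      rw [exteriorPower.ιMulti_span]
      exact Submodule.mem_top
    induction hx using Submodule.span_induction with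
    | mem x hx =>
      obtain ⟨w, rfl⟩ := hx
      choose ω hω using fun i => hπ (w i)
      have h1 : exteriorPower.ιMulti R (q + 1) w =
          Lam A B R (q + 1) (exteriorPower.ιMulti B (q + 1) ω) := by
        rw [Lam_ιMulti]
        congr 1
        funext i
        exact (hω i).symm
      rw [h1, algebraMap_smul, ← map_smul, smul_eq_ml_cj hsub φ (D A B g),
        Lam_ml_eq_zero A R g hg0]
    | zero => rw [smul_zero]
    | add x y _ _ hx hy => rw [smul_add, hx, hy, add_zero]
    | smul a x _ hx => rw [smul_comm, hx, smul_zero]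

variable {B} in
/-- linear forms on `Ω[B⁄A]` descend to `Ω[R⁄A]` modulo the ideal of the `φ(dg)` -/
theorem exists_bar (hsurj : Function.Surjective (algebraMap B R)) (g : B)
    (hker : RingHom.ker (algebraMap B R) = Ideal.span {g}) (J' : Ideal R)
    (φ : Module.Dual B Ω[B⁄A]) (hφ : algebraMap B R (φ (D A B g)) ∈ J') :
    ∃ φbar : Ω[R⁄A] →ₗ[R] (R ⧸ J'), ∀ ω : Ω[B⁄A],
      φbar (KaehlerDifferential.map A A B R ω) = Ideal.Quotient.mk J' (algebraMap B R (φ ω)) := by
  let f : Ω[B⁄A] →ₗ[B] (R ⧸ J') := (Algebra.linearMap B (R ⧸ J')) ∘ₗ φ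
  have hf : ∀ ω, f ω = Ideal.Quotient.mk J' (algebraMap B R (φ ω)) := fun ω => rfl
  let φt : R ⊗[B] Ω[B⁄A] →ₗ[R] (R ⧸ J') := LinearMap.liftBaseChange R f
  have hle : LinearMap.ker (KaehlerDifferential.mapBaseChange A B R) ≤ LinearMap.ker φt := by
    intro p hp
    obtain ⟨c, rfl⟩ :=
      (KaehlerDifferential.exact_kerCotangentToTensor_mapBaseChange A B R hsurj p).mp hp
    obtain ⟨x, rfl⟩ := Ideal.toCotangent_surjective _ c
    rw [LinearMap.mem_ker, KaehlerDifferential.kerCotangentToTensor_toCotangent,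
      LinearMap.liftBaseChange_tmul, one_smul, hf]
    have hx : (x : B) ∈ Ideal.span {g} := by
      rw [← hker]
      exact x.2
    obtain ⟨c, hc⟩ := Ideal.mem_span_singleton'.mp hx
    rw [← hc, Derivation.leibniz, map_add, map_smul, map_smul, smul_eq_mul, smul_eq_mul,
      Ideal.Quotient.eq_zero_iff_mem, map_add, map_mul, map_mul]
    have hg0 : algebraMap B R g = 0 := by
      rw [← RingHom.mem_ker, hker]
      exact Ideal.mem_span_singleton_self g
    rw [hg0, zero_mul, add_zero]
    exact J'.mul_mem_left _ hφ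
  obtain ⟨φbar, hbar⟩ := exists_factor (KaehlerDifferential.mapBaseChange A B R)
    (KaehlerDifferential.mapBaseChange_surjective A B R hsurj) φt hle
  refine ⟨φbar, fun ω => ?_⟩
  have h1 : KaehlerDifferential.map A A B R ω =
      KaehlerDifferential.mapBaseChange A B R ((1 : R) ⊗ₜ[B] ω) := by
    rw [KaehlerDifferential.mapBaseChange_tmul, one_smul]
  rw [h1, hbar, LinearMap.liftBaseChange_tmul, one_smul, hf]

theorem main [Algebra.Smooth A B] (n : ℕ)
    (hn : ∀ p : PrimeSpectrum B, Module.rankAtStalk (Ω[B⁄A]) p = n)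
    (g : B) (hsurj : Function.Surjective (algebraMap B R))
    (hker : RingHom.ker (algebraMap B R) = Ideal.span {g}) :
    (⋀[R]^n (Ω[R⁄A])).annihilator =
      Ideal.span (Set.range fun φ : Ω[B⁄A] →ₗ[B] B =>
        algebraMap B R (φ (KaehlerDifferential.D A B g))) := by
  classical
  have hg0 : algebraMap B R g = 0 := by
    rw [← RingHom.mem_ker, hker]
    exact Ideal.mem_span_singleton_self g
  have hsub : Subsingleton ↥(⋀[B]^(n + 1) Ω[B⁄A]) :=
    Groth.Agent.Lib.Helper9.TopFormsCI.subsingleton_extPow_succ (Ω[B⁄A]) n hn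
  apply le_antisymm
  · intro r hr
    rw [Module.mem_annihilator] at hr
    obtain ⟨J', hJ'⟩ : ∃ J' : Ideal R, J' = Ideal.span (Set.range fun φ : Ω[B⁄A] →ₗ[B] B =>
        algebraMap B R (φ (KaehlerDifferential.D A B g))) := ⟨_, rfl⟩
    rw [← hJ']
    have hmemJ : ∀ φ : Module.Dual B Ω[B⁄A], algebraMap B R (φ (D A B g)) ∈ J' := fun φ => by
      rw [hJ']
      exact Ideal.subset_span ⟨φ, rfl⟩
    have key : ∀ (φ : Fin n → Module.Dual B Ω[B⁄A]) (ω : Fin n → Ω[B⁄A]),
        r * algebraMap B R (Matrix.det (Matrix.of fun j i => φ i (ω j))) ∈ J' := by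
      intro φ ω
      choose φbar hbar using fun i => exists_bar A R hsurj g hker J' (φ i) (hmemJ (φ i))
      let Δ : ↥(⋀[R]^n Ω[R⁄A]) →ₗ[R] (R ⧸ J') :=
        exteriorPower.alternatingMapLinearEquiv (detAlt φbar)
      have h1 : Δ (exteriorPower.ιMulti R n (fun i => KaehlerDifferential.map A A B R (ω i))) =
          Ideal.Quotient.mk J'
            (algebraMap B R (Matrix.det (Matrix.of fun j i => φ i (ω j)))) := by
        rw [exteriorPower.alternatingMapLinearEquiv_apply_ιMulti, detAlt_apply, RingHom.map_det,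
          RingHom.map_det]
        congr 1
        ext j i
        rw [Matrix.of_apply, hbar, RingHom.mapMatrix_apply, RingHom.mapMatrix_apply,
          Matrix.map_apply, Matrix.map_apply, Matrix.of_apply]
      have h2 := congrArg Δ
        (hr (exteriorPower.ιMulti R n (fun i => KaehlerDifferential.map A A B R (ω i))))
      rw [map_smul, map_zero, h1, Algebra.smul_def, Ideal.Quotient.algebraMap_eq, ← map_mul,
        Ideal.Quotient.eq_zero_iff_mem] at h2
      exact h2
    have htop := detIdeal_eq_top (Ω[B⁄A]) n hn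
    have h1 : (1 : B) ∈ Ideal.span {d : B | ∃ (φ : Fin n → Module.Dual B Ω[B⁄A])
        (ω : Fin n → Ω[B⁄A]), d = Matrix.det (Matrix.of fun j i => φ i (ω j))} := by
      rw [htop]
      exact Submodule.mem_top
    have h2 : ∀ x ∈ Ideal.span {d : B | ∃ (φ : Fin n → Module.Dual B Ω[B⁄A])
        (ω : Fin n → Ω[B⁄A]), d = Matrix.det (Matrix.of fun j i => φ i (ω j))},
        r * algebraMap B R x ∈ J' := by
      intro x hx
      induction hx using Submodule.span_induction with
      | mem x hx =>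
        obtain ⟨φ, ω, rfl⟩ := hx
        exact key φ ω
      | zero => rw [map_zero, mul_zero]; exact J'.zero_mem
      | add x y _ _ hx hy => rw [map_add, mul_add]; exact J'.add_mem hx hy
      | smul a x _ hx =>
        rw [smul_eq_mul, map_mul, mul_left_comm]
        exact J'.mul_mem_left _ hx
    have h3 := h2 1 h1
    rwa [map_one, mul_one] at h3
  · rw [Ideal.span_le]
    rintro _ ⟨φ, rfl⟩
    rw [SetLike.mem_coe, Module.mem_annihilator]
    intro x
    exact smul_eq_zero_of_dual A R n hsub hsurj g hg0 φ x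

end Main

end Groth.Agent.Lib.Helper9.HypAnn
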