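import Groth.Agent.Lib.Helper9.CharHomLib
import Mathlib.RingTheory.Flat.Equalizer
import Mathlib.RingTheory.Flat.Basic
import Mathlib.LinearAlgebra.Dimension.Constructions
import Mathlib.LinearAlgebra.Dimension.RankNullity
import Mathlib.LinearAlgebra.Dimension.DivisionRing
import Mathlib.LinearAlgebra.TensorProduct.Prod
import Mathlib.LinearAlgebra.Basis.VectorSpace
import Mathlib.LinearAlgebra.TensorProduct.RightExactness

/-!
# Imperfection modules: towers of base rings and towers of extensions (EGA 0_IV 21.6)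
-/

set_option autoImplicit false
universe u₁ u₂ u₃ w₁ w₂ w

namespace Groth.Agent.Lib.Helper9.ImperfLib

open TensorProduct KaehlerDifferential

/-- Universe-general induction principle for `C ⊗[B] Ω[B⁄A]`. -/
lemma tensorKaehler_induction' {A : Type u₁} {B : Type u₂} {C : Type u₃} [CommRing A] [CommRing B]
    [CommRing C] [Algebra A B] [Algebra B C]
    {motive : C ⊗[B] Ω[B⁄A] → Prop} (zero : motive 0)
    (add : ∀ x y, motive x → motive y → motive (x + y))
    (tmul_D : ∀ (c : C) (b : B), motive (c ⊗ₜ[B] KaehlerDifferential.D A B b))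
    (w : C ⊗[B] Ω[B⁄A]) : motive w := by
  induction w using TensorProduct.induction_on with
  | zero => exact zero
  | add x y hx hy => exact add x y hx hy
  | tmul c ω =>
    have hω : ω ∈ Submodule.span B (Set.range (KaehlerDifferential.D A B)) := by
      rw [KaehlerDifferential.span_range_derivation]; trivial
    induction hω using Submodule.span_induction generalizing c with
    | mem x hx => obtain ⟨b, rfl⟩ := hx; exact tmul_D c b
    | zero => rw [TensorProduct.tmul_zero]; exact zero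
    | add x y _ _ hx hy => rw [TensorProduct.tmul_add]; exact add _ _ (hx c) (hy c)
    | smul b x _ hx => rw [TensorProduct.tmul_smul, TensorProduct.smul_tmul']; exact hx (b • c)

section general

lemma baseChange_prod_eq_zero_iff {R : Type*} {S : Type*} [CommRing R] [CommRing S] [Algebra R S]
    {N P Q : Type*} [AddCommGroup N] [AddCommGroup P] [AddCommGroup Q] [Module R N] [Module R P]
    [Module R Q] (f : N →ₗ[R] P) (g : N →ₗ[R] Q) (z : S ⊗[R] N) :
    (f.prod g).baseChange S z = 0 ↔ f.baseChange S z = 0 ∧ g.baseChange S z = 0 := by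
  have key : TensorProduct.prodRight R S S P Q ((f.prod g).baseChange S z) =
      (f.baseChange S z, g.baseChange S z) := by
    induction z using TensorProduct.induction_on with
    | zero => simp only [map_zero, Prod.mk_zero_zero]
    | tmul s n => rfl
    | add x y hx hy => simp only [map_add, hx, hy, Prod.mk_add_mk]
  rw [← (TensorProduct.prodRight R S S P Q).map_eq_zero_iff, key, Prod.mk_eq_zero]

end general

section pi

variable (a : Type u₁) (b : Type u₂) (K : Type w₁) (L : Type w₂) [CommRing a] [CommRing b]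
  [CommRing K] [CommRing L] [Algebra a b] [Algebra a K] [Algebra b K] [IsScalarTower a b K]
  [Algebra K L]

/-- `π_{ab} : L ⊗_K Ω_{K/a} → L ⊗_K Ω_{K/b}`. -/
noncomputable abbrev piMap : L ⊗[K] Ω[K⁄a] →ₗ[L] L ⊗[K] Ω[K⁄b] :=
  (KaehlerDifferential.map a b K K).baseChange L

lemma piMap_tmul_D (l : L) (x : K) :
    piMap a b K L (l ⊗ₜ KaehlerDifferential.D a K x) = l ⊗ₜ KaehlerDifferential.D b K x := by
  show (KaehlerDifferential.map a b K K).baseChange L _ = _
  rw [LinearMap.baseChange_tmul, KaehlerDifferential.map_D, Algebra.algebraMap_self,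
    RingHom.id_apply]

lemma piMap_surjective : Function.Surjective (piMap a b K L) := by
  intro w
  induction w using tensorKaehler_induction' with
  | zero => exact ⟨0, map_zero _⟩
  | add x y hx hy =>
    obtain ⟨x', rfl⟩ := hx
    obtain ⟨y', rfl⟩ := hy
    exact ⟨x' + y', map_add _ _ _⟩
  | tmul_D c x => exact ⟨c ⊗ₜ KaehlerDifferential.D a K x, piMap_tmul_D a b K L c x⟩

lemma piMap_comp (c : Type u₃) [CommRing c] [Algebra a c] [Algebra b c] [Algebra c K]
    [IsScalarTower a c K] [IsScalarTower b c K] (z : L ⊗[K] Ω[K⁄a]) :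
    piMap b c K L (piMap a b K L z) = piMap a c K L z := by
  induction z using tensorKaehler_induction' with
  | zero => simp only [map_zero]
  | add x y hx hy => simp only [map_add, hx, hy]
  | tmul_D l x => rw [piMap_tmul_D, piMap_tmul_D, piMap_tmul_D]

variable [Algebra a L] [Algebra b L] [IsScalarTower a K L] [IsScalarTower b K L]
  [IsScalarTower a b L]

lemma map_mapBaseChange (z : L ⊗[K] Ω[K⁄a]) :
    KaehlerDifferential.map a b L L (KaehlerDifferential.mapBaseChange a K L z) =
      KaehlerDifferential.mapBaseChange b K L (piMap a b K L z) := by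
  induction z using tensorKaehler_induction' with
  | zero => simp only [map_zero]
  | add x y hx hy => simp only [map_add, hx, hy]
  | tmul_D l x =>
    rw [piMap_tmul_D]
    simp only [KaehlerDifferential.mapBaseChange_tmul, KaehlerDifferential.map_D, map_smul,
      Algebra.algebraMap_self, RingHom.id_apply]

lemma exists_lift_of_range (t : L ⊗[b] Ω[b⁄a]) :
    ∃ z₁ : L ⊗[K] Ω[K⁄a],
      KaehlerDifferential.mapBaseChange a K L z₁ = KaehlerDifferential.mapBaseChange a b L t ∧
        piMap a b K L z₁ = 0 := by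
  induction t using tensorKaehler_induction' with
  | zero => exact ⟨0, by simp only [map_zero], map_zero _⟩
  | add x y hx hy =>
    obtain ⟨x', hx1, hx2⟩ := hx
    obtain ⟨y', hy1, hy2⟩ := hy
    exact ⟨x' + y', by rw [map_add, map_add, hx1, hy1], by rw [map_add, hx2, hy2, add_zero]⟩
  | tmul_D l y =>
    refine ⟨l ⊗ₜ KaehlerDifferential.D a K (algebraMap b K y), ?_, ?_⟩
    · rw [KaehlerDifferential.mapBaseChange_tmul, KaehlerDifferential.mapBaseChange_tmul,
        KaehlerDifferential.map_D, KaehlerDifferential.map_D, ← IsScalarTower.algebraMap_apply]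
    · rw [piMap_tmul_D, Derivation.map_algebraMap, TensorProduct.tmul_zero]

theorem exists_lift (c : Type u₃) [CommRing c] [Algebra a c] [Algebra b c] [Algebra c K]
    [IsScalarTower a c K] [IsScalarTower b c K]
    (w : L ⊗[K] Ω[K⁄b]) (hw : KaehlerDifferential.mapBaseChange b K L w = 0)
    (hw2 : piMap b c K L w = 0) :
    ∃ z : L ⊗[K] Ω[K⁄a], KaehlerDifferential.mapBaseChange a K L z = 0 ∧
      piMap a c K L z = 0 ∧ piMap a b K L z = w := by
  obtain ⟨z₀, rfl⟩ := piMap_surjective a b K L w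
  have h1 : KaehlerDifferential.map a b L L (KaehlerDifferential.mapBaseChange a K L z₀) = 0 := by
    rw [map_mapBaseChange, hw]
  obtain ⟨t, ht⟩ := (KaehlerDifferential.exact_mapBaseChange_map a b L _).1 h1
  obtain ⟨z₁, hz1, hz2⟩ := exists_lift_of_range a b K L t
  refine ⟨z₀ - z₁, ?_, ?_, ?_⟩
  · rw [map_sub, hz1, ht, sub_self]
  · rw [← piMap_comp a b K L c, map_sub, hz2, sub_zero, hw2]
  · rw [map_sub, hz2, sub_zero]

end pi

section delta

variable (a : Type u₁) (b : Type u₂) (K L : Type w) [CommRing a] [CommRing b]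
  [CommRing K] [CommRing L] [Algebra a b] [Algebra a K] [Algebra b K] [IsScalarTower a b K]
  [Algebra K L] [Algebra a L] [IsScalarTower a K L]

/-- `Δ(L/K, b/a) = ker(Υ_{L/K/a} → Υ_{L/K/b})`. -/
noncomputable def Delta : Submodule L (L ⊗[K] Ω[K⁄a]) :=
  EGA41.imperfection a K L ⊓ LinearMap.ker (piMap a b K L)

variable {a b K L} in
lemma mem_Delta {z : L ⊗[K] Ω[K⁄a]} :
    z ∈ Delta a b K L ↔ KaehlerDifferential.mapBaseChange a K L z = 0 ∧ piMap a b K L z = 0 :=
  Iff.rfl

end delta

section tower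

theorem rank_tower {a : Type u₁} {b : Type u₂} {c : Type u₃} {K L : Type w} [CommRing a]
    [CommRing b] [CommRing c] [CommRing K] [Field L]
    [Algebra a b] [Algebra a c] [Algebra b c] [Algebra a K] [Algebra b K] [Algebra c K]
    [IsScalarTower a b K] [IsScalarTower a c K] [IsScalarTower b c K] [Algebra K L] [Algebra a L]
    [Algebra b L] [IsScalarTower a K L] [IsScalarTower b K L] [IsScalarTower a b L] :
    Module.rank L ↥(Delta a c K L) =
      Module.rank L ↥(Delta b c K L) + Module.rank L ↥(Delta a b K L) := by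
  have hmem : ∀ x ∈ Delta a c K L, piMap a b K L x ∈ Delta b c K L := by
    intro x hx
    rw [mem_Delta] at hx ⊢
    refine ⟨?_, ?_⟩
    · rw [← map_mapBaseChange, hx.1, map_zero]
    · rw [piMap_comp, hx.2]
  let f : ↥(Delta a c K L) →ₗ[L] ↥(Delta b c K L) := (piMap a b K L).restrict hmem
  have hf : Function.Surjective f := by
    rintro ⟨w, hw⟩
    rw [mem_Delta] at hw
    obtain ⟨z, hz1, hz2, hz3⟩ := exists_lift a b K L c w hw.1 hw.2
    exact ⟨⟨z, mem_Delta.2 ⟨hz1, hz2⟩⟩, Subtype.ext hz3⟩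
  have hUV : Delta a b K L ≤ Delta a c K L := by
    intro x hx
    rw [mem_Delta] at hx ⊢
    refine ⟨hx.1, ?_⟩
    rw [← piMap_comp a b K L c, hx.2, map_zero]
  have hker : LinearMap.ker f = Submodule.comap (Delta a c K L).subtype (Delta a b K L) := by
    ext ⟨x, hx⟩
    rw [LinearMap.mem_ker, Submodule.mem_comap]
    constructor
    · intro h
      exact mem_Delta.2 ⟨(mem_Delta.1 hx).1, congrArg Subtype.val h⟩
    · intro h
      exact Subtype.ext (mem_Delta.1 h).2
  have h1 := LinearMap.rank_range_add_rank_ker (R := L) (M := ↥(Delta a c K L))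
    (M₁ := ↥(Delta b c K L)) f
  rw [LinearMap.range_eq_top.mpr hf, rank_top, hker,
    (Submodule.comapSubtypeEquivOfLe hUV).rank_eq] at h1
  exact h1.symm

end tower

section tau

variable (Λ : Type u₁) (A : Type u₂) (B C : Type w) [CommRing Λ] [CommRing A] [CommRing B]
  [CommRing C] [Algebra Λ A] [Algebra Λ B] [Algebra A B] [IsScalarTower Λ A B] [Algebra B C]
  [Algebra A C] [IsScalarTower A B C]

/-- The map `C ⊗_A Ω_{A/Λ} → C ⊗_B Ω_{B/Λ}` for a tower `Λ → A → B → C`. -/
noncomputable def tau : C ⊗[A] Ω[A⁄Λ] →ₗ[C] C ⊗[B] Ω[B⁄Λ] :=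
  ((KaehlerDifferential.mapBaseChange Λ A B).baseChange C).comp
    (TensorProduct.AlgebraTensorModule.cancelBaseChange A B C C Ω[A⁄Λ]).symm.toLinearMap

lemma tau_apply (w : C ⊗[A] Ω[A⁄Λ]) :
    tau Λ A B C w = ((KaehlerDifferential.mapBaseChange Λ A B).baseChange C)
      ((TensorProduct.AlgebraTensorModule.cancelBaseChange A B C C Ω[A⁄Λ]).symm w) := rfl

lemma tau_tmul_D (c : C) (x : A) :
    tau Λ A B C (c ⊗ₜ KaehlerDifferential.D Λ A x) =
      c ⊗ₜ[B] KaehlerDifferential.D Λ B (algebraMap A B x) := by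
  rw [tau_apply, TensorProduct.AlgebraTensorModule.cancelBaseChange_symm_tmul,
    LinearMap.baseChange_tmul, KaehlerDifferential.mapBaseChange_tmul, one_smul,
    KaehlerDifferential.map_D]

lemma mapBaseChange_tau [Algebra Λ C] [IsScalarTower Λ A C] [IsScalarTower Λ B C]
    (w : C ⊗[A] Ω[A⁄Λ]) :
    KaehlerDifferential.mapBaseChange Λ B C (tau Λ A B C w) =
      KaehlerDifferential.mapBaseChange Λ A C w := by
  induction w using tensorKaehler_induction' with
  | zero => simp only [map_zero]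
  | add x y hx hy => simp only [map_add, hx, hy]
  | tmul_D c x =>
    rw [tau_tmul_D, KaehlerDifferential.mapBaseChange_tmul, KaehlerDifferential.mapBaseChange_tmul,
      KaehlerDifferential.map_D, KaehlerDifferential.map_D, ← IsScalarTower.algebraMap_apply]

lemma piMap_tau (Γ : Type u₃) [CommRing Γ] [Algebra Λ Γ] [Algebra Γ A] [Algebra Γ B]
    [IsScalarTower Λ Γ A] [IsScalarTower Λ Γ B] [IsScalarTower Γ A B] (w : C ⊗[A] Ω[A⁄Λ]) :
    piMap Λ Γ B C (tau Λ A B C w) = tau Γ A B C (piMap Λ Γ A C w) := by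
  induction w using tensorKaehler_induction' with
  | zero => simp only [map_zero]
  | add x y hx hy => simp only [map_add, hx, hy]
  | tmul_D c x => rw [tau_tmul_D, piMap_tmul_D, piMap_tmul_D, tau_tmul_D]

end tau

section ext

variable (k₀ : Type u₁) (k : Type u₂) (K L M : Type w) [CommRing k₀] [CommRing k] [CommRing K]
  [Field L] [Field M]
  [Algebra k₀ k] [Algebra k₀ K] [Algebra k K] [IsScalarTower k₀ k K] [Algebra k₀ L] [Algebra k L]
  [IsScalarTower k₀ k L] [Algebra K L] [Algebra K M] [Algebra L M] [IsScalarTower K L M]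
  [Algebra k₀ M] [Algebra k M] [IsScalarTower k₀ K L] [IsScalarTower k K L]
  [IsScalarTower k₀ K M] [IsScalarTower k K M] [IsScalarTower k₀ L M] [IsScalarTower k L M]

variable {k₀ k K L M} in
lemma tau_mem_Delta {z : M ⊗[K] Ω[K⁄k₀]} (hz : z ∈ Delta k₀ k K M) :
    tau k₀ K L M z ∈ Delta k₀ k L M := by
  rw [mem_Delta] at hz ⊢
  refine ⟨?_, ?_⟩
  · rw [mapBaseChange_tau, hz.1]
  · rw [piMap_tau, hz.2, map_zero]

lemma exists_lift_tau (t : M ⊗[k] Ω[k⁄k₀]) :
    ∃ z₀ : M ⊗[K] Ω[K⁄k₀], tau k₀ K L M z₀ = tau k₀ k L M t ∧ piMap k₀ k K M z₀ = 0 := by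
  induction t using tensorKaehler_induction' with
  | zero => exact ⟨0, by simp only [map_zero], map_zero _⟩
  | add x y hx hy =>
    obtain ⟨x', hx1, hx2⟩ := hx
    obtain ⟨y', hy1, hy2⟩ := hy
    exact ⟨x' + y', by rw [map_add, map_add, hx1, hy1], by rw [map_add, hx2, hy2, add_zero]⟩
  | tmul_D m y =>
    refine ⟨m ⊗ₜ KaehlerDifferential.D k₀ K (algebraMap k K y), ?_, ?_⟩
    · rw [tau_tmul_D, tau_tmul_D, ← IsScalarTower.algebraMap_apply]
    · rw [piMap_tmul_D, Derivation.map_algebraMap, TensorProduct.tmul_zero]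

lemma tau_surjOn_Delta (w : M ⊗[L] Ω[L⁄k₀]) (hw : w ∈ Delta k₀ k L M) :
    ∃ z ∈ Delta k₀ k K M, tau k₀ K L M z = w := by
  rw [mem_Delta] at hw
  have hex : Function.Exact
      (LinearMap.lTensor M (KaehlerDifferential.mapBaseChange k₀ k L))
      (LinearMap.lTensor M (KaehlerDifferential.map k₀ k L L)) :=
    lTensor_exact M (KaehlerDifferential.exact_mapBaseChange_map k₀ k L)
      (KaehlerDifferential.map_surjective k₀ k L)
  have h0 : LinearMap.lTensor M (KaehlerDifferential.map k₀ k L L) w = 0 := by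
    rw [← LinearMap.baseChange_eq_ltensor]; exact hw.2
  obtain ⟨t', ht'⟩ := (hex _).1 h0
  rw [← LinearMap.baseChange_eq_ltensor] at ht'
  obtain ⟨z₀, hz1, hz2⟩ := exists_lift_tau k₀ k K L M
    (TensorProduct.AlgebraTensorModule.cancelBaseChange k L M M Ω[k⁄k₀] t')
  have hτ : tau k₀ K L M z₀ = w := by
    rw [hz1, tau_apply, LinearEquiv.symm_apply_apply]; exact ht'
  refine ⟨z₀, mem_Delta.2 ⟨?_, hz2⟩, hτ⟩
  rw [← mapBaseChange_tau k₀ K L M, hτ, hw.1]

theorem rank_T :
    Module.rank M ↥(LinearMap.ker (tau k₀ K L M) ⊓ LinearMap.ker (piMap k₀ k K M)) =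
      Module.rank L ↥(Delta k₀ k K L) := by
  let φ : L ⊗[K] Ω[K⁄k₀] →ₗ[L] Ω[L⁄k₀] × (L ⊗[K] Ω[K⁄k]) :=
    (KaehlerDifferential.mapBaseChange k₀ K L).prod (piMap k₀ k K L)
  have hφ : LinearMap.ker φ = Delta k₀ k K L := LinearMap.ker_prod _ _
  let e := TensorProduct.AlgebraTensorModule.cancelBaseChange K L M M Ω[K⁄k₀]
  have hmap : (LinearMap.ker (φ.baseChange M)).map
      (e : M ⊗[L] (L ⊗[K] Ω[K⁄k₀]) →ₗ[M] M ⊗[K] Ω[K⁄k₀]) =
      LinearMap.ker (tau k₀ K L M) ⊓ LinearMap.ker (piMap k₀ k K M) := by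
    ext z
    rw [Submodule.mem_map_equiv, LinearMap.mem_ker, baseChange_prod_eq_zero_iff,
      Submodule.mem_inf, LinearMap.mem_ker, LinearMap.mem_ker]
    refine and_congr Iff.rfl ?_
    have h2 : ((KaehlerDifferential.map k₀ k K K).baseChange L).baseChange M (e.symm z) =
        (TensorProduct.AlgebraTensorModule.cancelBaseChange K L M M Ω[K⁄k]).symm
          (piMap k₀ k K M z) := by
      rw [LinearMap.baseChange_baseChange]
      simp only [LinearMap.comp_apply, LinearEquiv.coe_coe]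
      rw [LinearEquiv.apply_symm_apply]
    show ((KaehlerDifferential.map k₀ k K K).baseChange L).baseChange M (e.symm z) = 0 ↔ _
    rw [h2]
    exact LinearEquiv.map_eq_zero_iff _
  rw [← hmap]
  have e1 : ↥(LinearMap.ker (φ.baseChange M)) ≃ₗ[M]
      ↥((LinearMap.ker (φ.baseChange M)).map
        (e : M ⊗[L] (L ⊗[K] Ω[K⁄k₀]) →ₗ[M] M ⊗[K] Ω[K⁄k₀])) := e.submoduleMap _
  rw [← e1.rank_eq]
  have e2 : M ⊗[L] ↥(LinearMap.ker φ) ≃ₗ[M] ↥(LinearMap.ker (φ.baseChange M)) :=
    LinearMap.tensorKerEquiv M M φ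
  haveI : Module.Free L ↥(LinearMap.ker φ) := Module.Free.of_divisionRing L ↥(LinearMap.ker φ)
  rw [← e2.rank_eq, Module.rank_baseChange, Cardinal.lift_id, hφ]

theorem rank_ext :
    Module.rank M ↥(Delta k₀ k K M) =
      Module.rank M ↥(Delta k₀ k L M) + Module.rank L ↥(Delta k₀ k K L) := by
  have hmem : ∀ z ∈ Delta k₀ k K M, tau k₀ K L M z ∈ Delta k₀ k L M :=
    fun z hz => tau_mem_Delta hz
  let f : ↥(Delta k₀ k K M) →ₗ[M] ↥(Delta k₀ k L M) := (tau k₀ K L M).restrict hmem
  have hf : Function.Surjective f := by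
    rintro ⟨w, hw⟩
    obtain ⟨z, hz, hzw⟩ := tau_surjOn_Delta k₀ k K L M w hw
    exact ⟨⟨z, hz⟩, Subtype.ext hzw⟩
  have hTV : LinearMap.ker (tau k₀ K L M) ⊓ LinearMap.ker (piMap k₀ k K M) ≤
      Delta k₀ k K M := by
    intro z hz
    rw [Submodule.mem_inf, LinearMap.mem_ker, LinearMap.mem_ker] at hz
    rw [mem_Delta]
    refine ⟨?_, hz.2⟩
    rw [← mapBaseChange_tau k₀ K L M, hz.1, map_zero]
  have hker : LinearMap.ker f = Submodule.comap (Delta k₀ k K M).subtype
      (LinearMap.ker (tau k₀ K L M) ⊓ LinearMap.ker (piMap k₀ k K M)) := by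
    ext ⟨z, hz⟩
    rw [LinearMap.mem_ker, Submodule.mem_comap, Submodule.mem_inf, LinearMap.mem_ker,
      LinearMap.mem_ker]
    constructor
    · intro h
      exact ⟨congrArg Subtype.val h, (mem_Delta.1 hz).2⟩
    · intro h
      exact Subtype.ext h.1
  have h1 := LinearMap.rank_range_add_rank_ker (R := M) (M := ↥(Delta k₀ k K M))
    (M₁ := ↥(Delta k₀ k L M)) f
  rw [LinearMap.range_eq_top.mpr hf, rank_top, hker,
    (Submodule.comapSubtypeEquivOfLe hTV).rank_eq, rank_T] at h1
  exact h1.symm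

end ext

end Groth.Agent.Lib.Helper9.ImperfLib
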