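import Mathlib

/-!
# Intertwiners of endomorphisms: basic functoriality (helper9)

`Int π₁ π₂ = {h : V₁ → V₂ | h ∘ π₁ = π₂ ∘ h}`, additivity in both variables for `prodMap`,
invariance under conjugation, and decomposition along invariant complements.
-/

set_option autoImplicit false
set_option linter.style.haveILetI false
set_option linter.unusedSectionVars false

universe u v w v' w'

namespace Groth.Agent.Lib.Helper9.Intertw

open Module

variable {K : Type u} [Field K]
variable {V₁ : Type v} [AddCommGroup V₁] [Module K V₁]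
variable {V₁' : Type v'} [AddCommGroup V₁'] [Module K V₁']
variable {V₂ : Type w} [AddCommGroup V₂] [Module K V₂]
variable {V₂' : Type w'} [AddCommGroup V₂'] [Module K V₂']

/-- The space of intertwiners. -/
def Int (π₁ : Module.End K V₁) (π₂ : Module.End K V₂) : Submodule K (V₁ →ₗ[K] V₂) :=
  LinearMap.ker (LinearMap.lcomp K V₂ π₁ - LinearMap.llcomp K V₁ V₂ V₂ π₂)

theorem mem_Int {π₁ : Module.End K V₁} {π₂ : Module.End K V₂} {h : V₁ →ₗ[K] V₂} :
    h ∈ Int π₁ π₂ ↔ ∀ x, h (π₁ x) = π₂ (h x) := by
  unfold Int
  rw [LinearMap.mem_ker, LinearMap.sub_apply, sub_eq_zero]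
  constructor
  · intro hh x
    have := LinearMap.congr_fun hh x
    exact this
  · intro hh
    apply LinearMap.ext
    intro x
    exact hh x

/-- Additivity in the first variable. -/
noncomputable def intProdLeft (π₁ : Module.End K V₁) (π₁' : Module.End K V₁')
    (π₂ : Module.End K V₂) :
    Int (π₁.prodMap π₁') π₂ ≃ₗ[K] (Int π₁ π₂ × Int π₁' π₂) where
  toFun h := (⟨h.1.comp (LinearMap.inl K V₁ V₁'), by
      rw [mem_Int]
      intro x
      have := (mem_Int.mp h.2) (x, 0)
      simpa using this⟩,
    ⟨h.1.comp (LinearMap.inr K V₁ V₁'), by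
      rw [mem_Int]
      intro x
      have := (mem_Int.mp h.2) (0, x)
      simpa using this⟩)
  map_add' h h' := rfl
  map_smul' c h := rfl
  invFun p := ⟨p.1.1.coprod p.2.1, by
    rw [mem_Int]
    rintro ⟨x, y⟩
    simp only [LinearMap.prodMap_apply, LinearMap.coprod_apply, map_add]
    rw [mem_Int.mp p.1.2 x, mem_Int.mp p.2.2 y]⟩
  left_inv h := by
    apply Subtype.ext
    apply LinearMap.ext
    rintro ⟨x, y⟩
    simp only [LinearMap.coprod_apply, LinearMap.comp_apply, LinearMap.inl_apply,
      LinearMap.inr_apply]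
    rw [← map_add]
    simp
  right_inv p := by
    apply Prod.ext
    · apply Subtype.ext
      apply LinearMap.ext
      intro x
      simp
    · apply Subtype.ext
      apply LinearMap.ext
      intro x
      simp

/-- Additivity in the second variable. -/
noncomputable def intProdRight (π₁ : Module.End K V₁) (π₂ : Module.End K V₂)
    (π₂' : Module.End K V₂') :
    Int π₁ (π₂.prodMap π₂') ≃ₗ[K] (Int π₁ π₂ × Int π₁ π₂') where
  toFun h := (⟨(LinearMap.fst K V₂ V₂').comp h.1, by
      rw [mem_Int]
      intro x
      have := congrArg Prod.fst ((mem_Int.mp h.2) x)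
      simpa using this⟩,
    ⟨(LinearMap.snd K V₂ V₂').comp h.1, by
      rw [mem_Int]
      intro x
      have := congrArg Prod.snd ((mem_Int.mp h.2) x)
      simpa using this⟩)
  map_add' h h' := rfl
  map_smul' c h := rfl
  invFun p := ⟨p.1.1.prod p.2.1, by
    rw [mem_Int]
    intro x
    change (p.1.1 (π₁ x), p.2.1 (π₁ x)) = (π₂ (p.1.1 x), π₂' (p.2.1 x))
    rw [mem_Int.mp p.1.2 x, mem_Int.mp p.2.2 x]⟩
  left_inv h := by
    apply Subtype.ext
    apply LinearMap.ext
    intro x
    rfl
  right_inv p := by
    apply Prod.ext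
    · apply Subtype.ext
      apply LinearMap.ext
      intro x
      rfl
    · apply Subtype.ext
      apply LinearMap.ext
      intro x
      rfl

/-- Conjugation invariance in the first variable. -/
noncomputable def intConjLeft (e : V₁ ≃ₗ[K] V₁') (π₁ : Module.End K V₁) (π₂ : Module.End K V₂) :
    Int (e.conj π₁) π₂ ≃ₗ[K] Int π₁ π₂ where
  toFun h := ⟨h.1.comp e.toLinearMap, by
    rw [mem_Int]
    intro x
    have := (mem_Int.mp h.2) (e x)
    simpa [LinearEquiv.conj_apply_apply] using this⟩
  map_add' h h' := rfl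
  map_smul' c h := rfl
  invFun h := ⟨h.1.comp e.symm.toLinearMap, by
    rw [mem_Int]
    intro x
    have := (mem_Int.mp h.2) (e.symm x)
    simpa [LinearEquiv.conj_apply_apply] using this⟩
  left_inv h := by
    apply Subtype.ext
    apply LinearMap.ext
    intro x
    simp
  right_inv h := by
    apply Subtype.ext
    apply LinearMap.ext
    intro x
    simp

/-- Conjugation invariance in the second variable. -/
noncomputable def intConjRight (e : V₂ ≃ₗ[K] V₂') (π₁ : Module.End K V₁) (π₂ : Module.End K V₂) :
    Int π₁ (e.conj π₂) ≃ₗ[K] Int π₁ π₂ where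
  toFun h := ⟨e.symm.toLinearMap.comp h.1, by
    rw [mem_Int]
    intro x
    have := (mem_Int.mp h.2) x
    simp only [LinearMap.comp_apply, LinearEquiv.coe_coe]
    rw [this, LinearEquiv.conj_apply_apply, LinearEquiv.symm_apply_apply]⟩
  map_add' h h' := by
    apply Subtype.ext
    apply LinearMap.ext
    intro x
    simp
  map_smul' c h := by
    apply Subtype.ext
    apply LinearMap.ext
    intro x
    simp
  invFun h := ⟨e.toLinearMap.comp h.1, by
    rw [mem_Int]
    intro x
    have := (mem_Int.mp h.2) x
    simp only [LinearMap.comp_apply, LinearEquiv.coe_coe]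
    rw [this, LinearEquiv.conj_apply_apply, LinearEquiv.symm_apply_apply]⟩
  left_inv h := by
    apply Subtype.ext
    apply LinearMap.ext
    intro x
    simp
  right_inv h := by
    apply Subtype.ext
    apply LinearMap.ext
    intro x
    simp

/-- Decomposition of an endomorphism along invariant complements. -/
theorem conj_prodEquivOfIsCompl (π : Module.End K V₁) {W W' : Submodule K V₁}
    (hW : W ∈ π.invtSubmodule) (hW' : W' ∈ π.invtSubmodule) (hc : IsCompl W W') :
    (Submodule.prodEquivOfIsCompl W W' hc).symm.conj π =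
      (π.restrict hW).prodMap (π.restrict hW') := by
  apply LinearMap.ext
  rintro ⟨x, y⟩
  rw [LinearEquiv.conj_apply_apply, LinearEquiv.symm_symm, LinearEquiv.symm_apply_eq]
  simp only [Submodule.coe_prodEquivOfIsCompl', LinearMap.prodMap_apply, map_add]
  rfl

variable [FiniteDimensional K V₁] [FiniteDimensional K V₂]

/-- The dimension of the space of intertwiners. -/
noncomputable def H (π₁ : Module.End K V₁) (π₂ : Module.End K V₂) : ℕ :=
  finrank K (Int π₁ π₂)

theorem H_decomp_left (π₁ : Module.End K V₁) (π₂ : Module.End K V₂) {W W' : Submodule K V₁}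
    (hW : W ∈ π₁.invtSubmodule) (hW' : W' ∈ π₁.invtSubmodule) (hc : IsCompl W W') :
    H π₁ π₂ = H (π₁.restrict hW) π₂ + H (π₁.restrict hW') π₂ := by
  unfold H
  rw [← Module.finrank_prod, ← LinearEquiv.finrank_eq (intProdLeft _ _ _),
    ← conj_prodEquivOfIsCompl π₁ hW hW' hc]
  exact (LinearEquiv.finrank_eq (intConjLeft _ _ _)).symm

theorem H_decomp_right (π₁ : Module.End K V₁) (π₂ : Module.End K V₂) {W W' : Submodule K V₂}
    (hW : W ∈ π₂.invtSubmodule) (hW' : W' ∈ π₂.invtSubmodule) (hc : IsCompl W W') :
    H π₁ π₂ = H π₁ (π₂.restrict hW) + H π₁ (π₂.restrict hW') := by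
  unfold H
  haveI : Module.Free K (Int π₁ (π₂.restrict hW)) :=
    Module.Free.of_divisionRing K (Int π₁ (π₂.restrict hW))
  haveI : Module.Free K (Int π₁ (π₂.restrict hW')) :=
    Module.Free.of_divisionRing K (Int π₁ (π₂.restrict hW'))
  rw [← Module.finrank_prod, ← LinearEquiv.finrank_eq (intProdRight _ _ _),
    ← conj_prodEquivOfIsCompl π₂ hW hW' hc]
  exact (LinearEquiv.finrank_eq (intConjRight _ _ _)).symm

theorem charpoly_decomp (π : Module.End K V₁) {W W' : Submodule K V₁}
    (hW : W ∈ π.invtSubmodule) (hW' : W' ∈ π.invtSubmodule) (hc : IsCompl W W') :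
    π.charpoly = (π.restrict hW).charpoly * (π.restrict hW').charpoly := by
  rw [← LinearMap.charpoly_prodMap, ← conj_prodEquivOfIsCompl π hW hW' hc,
    LinearEquiv.charpoly_conj]

end Groth.Agent.Lib.Helper9.Intertw
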