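import Groth.Agent.Lib.Helper9.IntertwA

/-!
# Simple endomorphisms and their intertwiners (helper9)

For an endomorphism `π` of a nonzero finite-dimensional space with no nontrivial invariant
subspace: every nonzero vector is cyclic, the characteristic polynomial is irreducible and equals
the minimal polynomial `μ`, and `Int π π₂ ≃ ker μ(π₂)` for every `π₂`.
-/

set_option autoImplicit false
set_option linter.style.haveILetI false
set_option linter.unusedSectionVars false

universe u v w

namespace Groth.Agent.Lib.Helper9.Intertw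

open Module Polynomial

variable {K : Type u} [Field K]
variable {V : Type v} [AddCommGroup V] [Module K V]
variable {V₂ : Type w} [AddCommGroup V₂] [Module K V₂]

/-- `π` has no nontrivial invariant subspaces and `V ≠ 0`. -/
def IsSimpleEnd (π : Module.End K V) : Prop :=
  Nontrivial V ∧ ∀ W ∈ π.invtSubmodule, W = ⊥ ∨ W = ⊤

theorem commute_aeval (π : Module.End K V) (p : K[X]) : Commute π (aeval π p) := by
  have := (Polynomial.commute_X p).map (aeval π)
  rwa [aeval_X] at this

theorem ker_mem_invt (π g : Module.End K V) (hc : Commute π g) :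
    LinearMap.ker g ∈ π.invtSubmodule := by
  rw [Module.End.mem_invtSubmodule]
  intro x hx
  rw [Submodule.mem_comap, LinearMap.mem_ker]
  rw [LinearMap.mem_ker] at hx
  have h1 : g (π x) = π (g x) := by
    have := LinearMap.congr_fun hc.eq x
    exact this.symm
  rw [h1, hx, map_zero]

/-- Evaluation at a vector: `p ↦ p(π) v`. -/
noncomputable def ev (π : Module.End K V) (v : V) : K[X] →ₗ[K] V :=
  (LinearMap.applyₗ v).comp (aeval π).toLinearMap

theorem ev_apply (π : Module.End K V) (v : V) (p : K[X]) : ev π v p = aeval π p v := rfl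

theorem ev_one (π : Module.End K V) (v : V) : ev π v 1 = v := by
  rw [ev_apply, map_one, Module.End.one_apply]

theorem ev_X_mul (π : Module.End K V) (v : V) (p : K[X]) : ev π v (X * p) = π (ev π v p) := by
  rw [ev_apply, ev_apply, map_mul, aeval_X, Module.End.mul_apply]

theorem range_ev_mem_invt (π : Module.End K V) (v : V) :
    LinearMap.range (ev π v) ∈ π.invtSubmodule := by
  rw [Module.End.mem_invtSubmodule]
  rintro x ⟨p, rfl⟩
  rw [Submodule.mem_comap]
  exact ⟨X * p, ev_X_mul π v p⟩

theorem ev_surjective {π : Module.End K V} (hs : IsSimpleEnd π) {v : V} (hv : v ≠ 0) :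
    Function.Surjective (ev π v) := by
  rw [← LinearMap.range_eq_top]
  rcases hs.2 _ (range_ev_mem_invt π v) with h | h
  · exfalso
    apply hv
    have : v ∈ LinearMap.range (ev π v) := ⟨1, ev_one π v⟩
    rw [h, Submodule.mem_bot] at this
    exact this
  · exact h

theorem aeval_eq_zero_of_ev {π : Module.End K V} (hs : IsSimpleEnd π) {v : V} (hv : v ≠ 0)
    {p : K[X]} (hp : ev π v p = 0) : aeval π p = 0 := by
  rcases hs.2 _ (ker_mem_invt π (aeval π p) (commute_aeval π p)) with h | h
  · exfalso
    apply hv
    have : v ∈ LinearMap.ker (aeval π p) := hp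
    rw [h, Submodule.mem_bot] at this
    exact this
  · exact LinearMap.ker_eq_top.mp h

variable [FiniteDimensional K V]

theorem minpoly_monic (π : Module.End K V) : (minpoly K π).Monic :=
  minpoly.monic (LinearMap.isIntegral π)

theorem finrank_le_natDegree_minpoly {π : Module.End K V} (hs : IsSimpleEnd π) :
    finrank K V ≤ (minpoly K π).natDegree := by
  haveI := hs.1
  obtain ⟨v, hv⟩ := exists_ne (0 : V)
  set μ := minpoly K π with hμ
  have hmon : μ.Monic := minpoly_monic π
  let m := μ.natDegree
  let f : degreeLT K m →ₗ[K] V := (ev π v).comp (degreeLT K m).subtype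
  have hf : Function.Surjective f := by
    intro x
    obtain ⟨p, rfl⟩ := ev_surjective hs hv x
    have hmem : p %ₘ μ ∈ degreeLT K m := by
      rw [Polynomial.mem_degreeLT]
      have := degree_modByMonic_lt p hmon
      rwa [degree_eq_natDegree hmon.ne_zero] at this
    refine ⟨⟨p %ₘ μ, hmem⟩, ?_⟩
    change ev π v (p %ₘ μ) = ev π v p
    rw [ev_apply, ev_apply, aeval_modByMonic_eq_self_of_root (minpoly.aeval K π)]
  have h1 := LinearMap.finrank_le_finrank_of_surjective hf
  have h2 : finrank K (degreeLT K m) = m := by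
    rw [LinearEquiv.finrank_eq (degreeLTEquiv K m), Module.finrank_fin_fun]
  rw [h2] at h1
  exact h1

theorem charpoly_eq_minpoly {π : Module.End K V} (hs : IsSimpleEnd π) :
    π.charpoly = minpoly K π := by
  apply Polynomial.eq_of_monic_of_dvd_of_natDegree_le (minpoly_monic π) (LinearMap.charpoly_monic π)
    (LinearMap.minpoly_dvd_charpoly π)
  rw [LinearMap.charpoly_natDegree]
  exact finrank_le_natDegree_minpoly hs

theorem minpoly_irreducible {π : Module.End K V} (hs : IsSimpleEnd π) :
    Irreducible (minpoly K π) := by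
  haveI := hs.1
  set μ := minpoly K π with hμ
  have hint : IsIntegral K π := LinearMap.isIntegral π
  rw [irreducible_iff]
  refine ⟨minpoly.not_isUnit K π, ?_⟩
  intro a b hab
  have h0 : aeval π a * aeval π b = 0 := by
    rw [← map_mul, ← hab]
    exact minpoly.aeval K π
  have key : ∀ c d : K[X], μ = c * d → aeval π c = 0 → IsUnit d := by
    intro c d hcd hc
    obtain ⟨e, he⟩ := minpoly.dvd K π hc
    have hμ0 : μ ≠ 0 := minpoly.ne_zero hint
    have : μ * 1 = μ * (e * d) := by
      rw [mul_one, ← mul_assoc, ← he]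
      exact hcd
    have h1 := mul_left_cancel₀ hμ0 this
    exact IsUnit.of_mul_eq_one e (by rw [mul_comm]; exact h1.symm)
  rcases hs.2 _ (ker_mem_invt π (aeval π a) (commute_aeval π a)) with h | h
  · -- aeval π a injective, so aeval π b = 0
    left
    apply key b a (by rw [mul_comm]; exact hab)
    apply LinearMap.ext
    intro x
    have hx : aeval π b x ∈ LinearMap.ker (aeval π a) := by
      rw [LinearMap.mem_ker, ← Module.End.mul_apply, h0, LinearMap.zero_apply]
    rw [h, Submodule.mem_bot] at hx
    rw [hx, LinearMap.zero_apply]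
  · right
    exact key a b hab (LinearMap.ker_eq_top.mp h)

theorem charpoly_irreducible {π : Module.End K V} (hs : IsSimpleEnd π) :
    Irreducible π.charpoly := by
  rw [charpoly_eq_minpoly hs]
  exact minpoly_irreducible hs

/-- Intertwiners intertwine all polynomials. -/
theorem int_aeval {π₁ : Module.End K V} {π₂ : Module.End K V₂} {h : V →ₗ[K] V₂}
    (hh : h ∈ Int π₁ π₂) (p : K[X]) : ∀ x : V, h (aeval π₁ p x) = aeval π₂ p (h x) := by
  induction p using Polynomial.induction_on with
  | C a =>
    intro x
    simp [Module.algebraMap_end_apply]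
  | add p q hp hq =>
    intro x
    simp [hp, hq]
  | monomial n a ih =>
    intro x
    have e1 : aeval π₁ (C a * X ^ (n + 1)) = aeval π₁ (C a * X ^ n) * π₁ := by
      rw [pow_succ, ← mul_assoc, map_mul (aeval π₁) (C a * X ^ n) X, aeval_X]
    have e2 : aeval π₂ (C a * X ^ (n + 1)) = aeval π₂ (C a * X ^ n) * π₂ := by
      rw [pow_succ, ← mul_assoc, map_mul (aeval π₂) (C a * X ^ n) X, aeval_X]
    rw [e1, e2, Module.End.mul_apply, Module.End.mul_apply, ih, mem_Int.mp hh]

/-- For simple `π₁`, `Int π₁ π₂ ≃ ker μ(π₂)`, in terms of dimensions. -/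
theorem H_simple_left [FiniteDimensional K V₂] {π₁ : Module.End K V} (hs : IsSimpleEnd π₁)
    (π₂ : Module.End K V₂) :
    H π₁ π₂ = finrank K (LinearMap.ker (aeval π₂ (minpoly K π₁))) := by
  haveI := hs.1
  obtain ⟨v, hv⟩ := exists_ne (0 : V)
  set μ := minpoly K π₁ with hμ
  let Φ : Int π₁ π₂ →ₗ[K] V₂ := (LinearMap.applyₗ v).comp (Int π₁ π₂).subtype
  have hΦ : ∀ h : Int π₁ π₂, Φ h = h.1 v := fun h => rfl
  have hinj : Function.Injective Φ := by
    rw [← LinearMap.ker_eq_bot, LinearMap.ker_eq_bot']
    intro h hh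
    rw [hΦ] at hh
    apply Subtype.ext
    apply LinearMap.ext
    intro x
    obtain ⟨p, rfl⟩ := ev_surjective hs hv x
    rw [ev_apply, int_aeval h.2, hh, map_zero]
    rfl
  have hrange : LinearMap.range Φ = LinearMap.ker (aeval π₂ μ) := by
    apply le_antisymm
    · rintro _ ⟨h, rfl⟩
      rw [LinearMap.mem_ker, hΦ, ← int_aeval h.2, minpoly.aeval, LinearMap.zero_apply, map_zero]
    · intro w hw
      rw [LinearMap.mem_ker] at hw
      have hsurj := ev_surjective hs hv
      have hle : LinearMap.ker (ev π₁ v) ≤ LinearMap.ker (ev π₂ w) := by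
        intro p hp
        rw [LinearMap.mem_ker] at hp ⊢
        obtain ⟨c, rfl⟩ := minpoly.dvd K π₁ (aeval_eq_zero_of_ev hs hv hp)
        rw [ev_apply, mul_comm, map_mul, Module.End.mul_apply, hw, map_zero]
      let e := (ev π₁ v).quotKerEquivOfSurjective hsurj
      let h : V →ₗ[K] V₂ :=
        ((LinearMap.ker (ev π₁ v)).liftQ (ev π₂ w) hle).comp e.symm.toLinearMap
      have hh : ∀ p, h (ev π₁ v p) = ev π₂ w p := by
        intro p
        have h1 : e.symm (ev π₁ v p) = Submodule.Quotient.mk p := by
          rw [LinearEquiv.symm_apply_eq]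
          rfl
        change (LinearMap.ker (ev π₁ v)).liftQ (ev π₂ w) hle (e.symm (ev π₁ v p)) = _
        rw [h1, Submodule.liftQ_apply]
      have hmem : h ∈ Int π₁ π₂ := by
        rw [mem_Int]
        intro x
        obtain ⟨p, rfl⟩ := hsurj x
        rw [← ev_X_mul, hh, hh, ev_X_mul]
      refine ⟨⟨h, hmem⟩, ?_⟩
      rw [hΦ]
      change h v = w
      have := hh 1
      rwa [ev_one, ev_one] at this
  unfold H
  rw [← LinearMap.finrank_range_of_inj hinj, hrange]

end Groth.Agent.Lib.Helper9.Intertw
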