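import Groth.Agent.Lib.Helper9.IntertwB

/-!
# Dimension of the space of intertwiners of semisimple endomorphisms (helper9)

`dim Hom_{K[t]}(V₁, V₂) = ∑_P mult_P(f₁) mult_P(f₂) deg P`.
-/

set_option autoImplicit false
set_option linter.style.haveILetI false
set_option linter.unusedSectionVars false

universe u v w

open scoped Classical

namespace Groth.Agent.Lib.Helper9.Intertw

open Module Polynomial UniqueFactorizationMonoid

variable {K : Type u} [Field K]

/-- The right-hand side of the formula. -/
noncomputable def r (f g : K[X]) : ℕ :=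
  ∑ P ∈ (normalizedFactors f).toFinset,
    (normalizedFactors f).count P * (normalizedFactors g).count P * P.natDegree

theorem count_mul {f g : K[X]} (hf : f ≠ 0) (hg : g ≠ 0) (P : K[X]) :
    (normalizedFactors (f * g)).count P =
      (normalizedFactors f).count P + (normalizedFactors g).count P := by
  rw [normalizedFactors_mul hf hg, Multiset.count_add]

theorem r_mul_left {f₁ f₂ : K[X]} (h₁ : f₁ ≠ 0) (h₂ : f₂ ≠ 0) (g : K[X]) :
    r (f₁ * f₂) g = r f₁ g + r f₂ g := by
  unfold r
  have hS : (normalizedFactors (f₁ * f₂)).toFinset =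
      (normalizedFactors f₁).toFinset ∪ (normalizedFactors f₂).toFinset := by
    rw [normalizedFactors_mul h₁ h₂, Multiset.toFinset_add]
  have e1 : ∑ P ∈ (normalizedFactors f₁).toFinset,
      (normalizedFactors f₁).count P * (normalizedFactors g).count P * P.natDegree =
      ∑ P ∈ (normalizedFactors f₁).toFinset ∪ (normalizedFactors f₂).toFinset,
      (normalizedFactors f₁).count P * (normalizedFactors g).count P * P.natDegree := by
    apply Finset.sum_subset Finset.subset_union_left
    intro P _ hP
    rw [Multiset.mem_toFinset] at hP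
    rw [Multiset.count_eq_zero_of_notMem hP, zero_mul, zero_mul]
  have e2 : ∑ P ∈ (normalizedFactors f₂).toFinset,
      (normalizedFactors f₂).count P * (normalizedFactors g).count P * P.natDegree =
      ∑ P ∈ (normalizedFactors f₁).toFinset ∪ (normalizedFactors f₂).toFinset,
      (normalizedFactors f₂).count P * (normalizedFactors g).count P * P.natDegree := by
    apply Finset.sum_subset Finset.subset_union_right
    intro P _ hP
    rw [Multiset.mem_toFinset] at hP
    rw [Multiset.count_eq_zero_of_notMem hP, zero_mul, zero_mul]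
  rw [hS, e1, e2, ← Finset.sum_add_distrib]
  apply Finset.sum_congr rfl
  intro P _
  rw [count_mul h₁ h₂]
  ring

theorem normalizedFactors_monic_irreducible {P : K[X]} (hm : P.Monic) (hi : Irreducible P) :
    normalizedFactors P = {P} := by
  rw [normalizedFactors_irreducible hi, hm.normalize_eq_self]

theorem r_irreducible {P : K[X]} (hm : P.Monic) (hi : Irreducible P) (g : K[X]) :
    r P g = (normalizedFactors g).count P * P.natDegree := by
  unfold r
  rw [normalizedFactors_monic_irreducible hm hi, Multiset.toFinset_singleton,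
    Finset.sum_singleton, Multiset.count_singleton_self, one_mul]

theorem r_one (g : K[X]) : r 1 g = 0 := by
  unfold r
  rw [normalizedFactors_one]
  simp

section Dim

variable {V₁ : Type v} [AddCommGroup V₁] [Module K V₁] [FiniteDimensional K V₁]
variable {V₂ : Type w} [AddCommGroup V₂] [Module K V₂] [FiniteDimensional K V₂]

theorem charpoly_eq_one_of_subsingleton {V : Type*} [AddCommGroup V] [Module K V]
    [FiniteDimensional K V] [Subsingleton V] (π : Module.End K V) : π.charpoly = 1 := by
  apply Polynomial.eq_one_of_monic_natDegree_zero (LinearMap.charpoly_monic π)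
  rw [LinearMap.charpoly_natDegree]
  exact Module.finrank_zero_of_subsingleton

theorem H_simple_simple {π₁ : Module.End K V₁} (hs₁ : IsSimpleEnd π₁) {π₂ : Module.End K V₂}
    (hs₂ : IsSimpleEnd π₂) :
    H π₁ π₂ = (normalizedFactors π₂.charpoly).count π₁.charpoly * π₁.charpoly.natDegree := by
  haveI := hs₂.1
  rw [H_simple_left hs₁ π₂, ← charpoly_eq_minpoly hs₁]
  set P := π₁.charpoly with hP
  have hPm : P.Monic := LinearMap.charpoly_monic π₁
  have hPi : Irreducible P := charpoly_irreducible hs₁
  have hQm : π₂.charpoly.Monic := LinearMap.charpoly_monic π₂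
  have hQi : Irreducible π₂.charpoly := charpoly_irreducible hs₂
  rcases hs₂.2 _ (ker_mem_invt π₂ (aeval π₂ P) (commute_aeval π₂ P)) with h | h
  · -- kernel is zero
    rw [h, finrank_bot]
    have hne : P ≠ π₂.charpoly := by
      intro heq
      have h1 : LinearMap.ker (aeval π₂ P) = ⊤ := by
        rw [heq, LinearMap.aeval_self_charpoly]
        exact LinearMap.ker_zero
      rw [h] at h1
      exact bot_ne_top h1
    rw [normalizedFactors_monic_irreducible hQm hQi, Multiset.count_singleton, if_neg hne,
      zero_mul]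
  · rw [h, finrank_top]
    have h0 : aeval π₂ P = 0 := LinearMap.ker_eq_top.mp h
    have hdvd : π₂.charpoly ∣ P := by
      rw [charpoly_eq_minpoly hs₂]
      exact minpoly.dvd K π₂ h0
    have hassoc : Associated π₂.charpoly P := hQi.associated_of_dvd hPi hdvd
    have heq : π₂.charpoly = P := Polynomial.eq_of_monic_of_associated hQm hPm hassoc
    rw [heq, normalizedFactors_monic_irreducible hPm hPi, Multiset.count_singleton_self, one_mul,
      ← heq, LinearMap.charpoly_natDegree]

theorem exists_decomp {V : Type*} [AddCommGroup V] [Module K V] [FiniteDimensional K V]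
    {π : Module.End K V} (hss : π.IsSemisimple) {W : Submodule K V} (hW : W ∈ π.invtSubmodule)
    (hb : W ≠ ⊥) (ht : W ≠ ⊤) :
    ∃ W' : Submodule K V, W' ∈ π.invtSubmodule ∧ IsCompl W W' ∧
      finrank K W < finrank K V ∧ finrank K W' < finrank K V := by
  obtain ⟨W', hW', hc⟩ := Module.End.isSemisimple_iff.mp hss W hW
  refine ⟨W', hW', hc, Submodule.finrank_lt ht, ?_⟩
  have h1 := Submodule.finrank_add_eq_of_isCompl hc
  have h2 : 0 < finrank K W := by
    rw [Nat.pos_iff_ne_zero]
    intro h0
    exact hb (Submodule.finrank_eq_zero.mp h0)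
  omega

theorem H_simple_semisimple {π₁ : Module.End K V₁} (hs₁ : IsSimpleEnd π₁) :
    ∀ (d : ℕ) (V₂ : Type w) [AddCommGroup V₂] [Module K V₂] [FiniteDimensional K V₂]
      (π₂ : Module.End K V₂), π₂.IsSemisimple → finrank K V₂ = d →
      H π₁ π₂ = (normalizedFactors π₂.charpoly).count π₁.charpoly * π₁.charpoly.natDegree := by
  intro d
  induction d using Nat.strong_induction_on with
  | _ d ih =>
  intro V₂ _ _ _ π₂ hss hd
  by_cases hdec : ∃ W ∈ π₂.invtSubmodule, W ≠ ⊥ ∧ W ≠ ⊤
  · obtain ⟨W, hW, hb, ht⟩ := hdec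
    obtain ⟨W', hW', hc, hlt, hlt'⟩ := exists_decomp hss hW hb ht
    rw [hd] at hlt hlt'
    have e1 := ih _ hlt W (π₂.restrict hW) (Module.End.IsSemisimple.restrict hW hss) rfl
    have e2 := ih _ hlt' W' (π₂.restrict hW') (Module.End.IsSemisimple.restrict hW' hss) rfl
    rw [H_decomp_right π₁ π₂ hW hW' hc, e1, e2, charpoly_decomp π₂ hW hW' hc,
      count_mul (LinearMap.charpoly_monic _).ne_zero (LinearMap.charpoly_monic _).ne_zero]
    ring
  · have hall : ∀ W ∈ π₂.invtSubmodule, W = ⊥ ∨ W = ⊤ := by
      intro W hW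
      by_contra hcon
      push Not at hcon
      exact hdec ⟨W, hW, hcon.1, hcon.2⟩
    by_cases hnt : Nontrivial V₂
    · exact H_simple_simple hs₁ ⟨hnt, hall⟩
    · rw [not_nontrivial_iff_subsingleton] at hnt
      rw [charpoly_eq_one_of_subsingleton π₂, normalizedFactors_one, Multiset.count_zero, zero_mul]
      unfold H
      haveI : Subsingleton (V₁ →ₗ[K] V₂) := ⟨fun f g => LinearMap.ext fun x => Subsingleton.elim _ _⟩
      exact Module.finrank_zero_of_subsingleton

theorem H_eq_r : ∀ (d : ℕ) (V₁ : Type v) [AddCommGroup V₁] [Module K V₁] [FiniteDimensional K V₁]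
    (π₁ : Module.End K V₁), π₁.IsSemisimple → finrank K V₁ = d →
    ∀ (V₂ : Type w) [AddCommGroup V₂] [Module K V₂] [FiniteDimensional K V₂]
      (π₂ : Module.End K V₂), π₂.IsSemisimple →
      H π₁ π₂ = r π₁.charpoly π₂.charpoly := by
  intro d
  induction d using Nat.strong_induction_on with
  | _ d ih =>
  intro V₁ _ _ _ π₁ hss hd V₂ _ _ _ π₂ hss₂
  by_cases hdec : ∃ W ∈ π₁.invtSubmodule, W ≠ ⊥ ∧ W ≠ ⊤
  · obtain ⟨W, hW, hb, ht⟩ := hdec
    obtain ⟨W', hW', hc, hlt, hlt'⟩ := exists_decomp hss hW hb ht
    rw [hd] at hlt hlt'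
    have e1 := ih _ hlt W (π₁.restrict hW) (Module.End.IsSemisimple.restrict hW hss) rfl
      V₂ π₂ hss₂
    have e2 := ih _ hlt' W' (π₁.restrict hW') (Module.End.IsSemisimple.restrict hW' hss) rfl
      V₂ π₂ hss₂
    rw [H_decomp_left π₁ π₂ hW hW' hc, e1, e2, charpoly_decomp π₁ hW hW' hc,
      r_mul_left (LinearMap.charpoly_monic _).ne_zero (LinearMap.charpoly_monic _).ne_zero]
  · have hall : ∀ W ∈ π₁.invtSubmodule, W = ⊥ ∨ W = ⊤ := by
      intro W hW
      by_contra hcon
      push Not at hcon
      exact hdec ⟨W, hW, hcon.1, hcon.2⟩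
    by_cases hnt : Nontrivial V₁
    · have hs₁ : IsSimpleEnd π₁ := ⟨hnt, hall⟩
      rw [H_simple_semisimple hs₁ _ V₂ π₂ hss₂ rfl,
        r_irreducible (LinearMap.charpoly_monic π₁) (charpoly_irreducible hs₁)]
    · rw [not_nontrivial_iff_subsingleton] at hnt
      rw [charpoly_eq_one_of_subsingleton π₁, r_one]
      unfold H
      haveI : Subsingleton (V₁ →ₗ[K] V₂) :=
        ⟨fun f g => LinearMap.ext fun x => by
          rw [Subsingleton.elim x 0, map_zero, map_zero]⟩
      exact Module.finrank_zero_of_subsingleton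

end Dim

end Groth.Agent.Lib.Helper9.Intertw
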