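import Mathlib
import Groth.Agent.Lib.Helper9.QDescA

/-!
# Local tools for regular ideals of a given kind (helper9)

Exchange in a local ring, peeling off independent generators, descent along flat local
homomorphisms, the unramified comparison of kernels, and a local-to-global principle.
-/

set_option autoImplicit false
set_option linter.style.haveILetI false
universe u

namespace Groth.Agent.Lib.Helper9.SmQ

open Groth.Agent.Lib.Helper1 Groth.Agent.Lib.Helper1.KDesc Groth.Agent.Lib.Helper9.QDesc

/-- quotient axiom: the kind passes to the quotient by the first element -/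
def QuotAx (Q : ∀ (R : Type u) [CommRing R], List R → Prop) : Prop :=
  ∀ {R : Type u} [CommRing R] (y : R) (l : List R), Q R (y :: l) →
    Q (R ⧸ Ideal.span {y}) (l.map (Ideal.Quotient.mk (Ideal.span {y})))

section Exchange

/-- one-step exchange in a local ring -/
theorem exchange_one {R : Type u} [CommRing R] [IsLocalRing R] :
    ∀ (l : List R) (x : R), x ∈ Ideal.ofList l →
      x ∉ IsLocalRing.maximalIdeal R * Ideal.ofList l →
      ∃ l' : List R, l'.length + 1 = l.length ∧ Ideal.ofList (x :: l') = Ideal.ofList l := by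
  intro l
  induction l with
  | nil =>
    intro x hx hx'
    exfalso
    rw [Ideal.ofList_nil, Ideal.mem_bot] at hx
    apply hx'
    rw [hx]
    exact Ideal.zero_mem _
  | cons g l₀ ih =>
    intro x hx hx'
    rw [Ideal.ofList_cons, Ideal.mem_span_singleton_sup] at hx
    obtain ⟨c, x₀, hx₀, hxe⟩ := hx
    by_cases hc : IsUnit c
    · refine ⟨l₀, rfl, ?_⟩
      rw [Ideal.ofList_cons, Ideal.ofList_cons]
      apply le_antisymm
      · apply sup_le
        · rw [Ideal.span_singleton_le_iff_mem, ← hxe]
          exact Ideal.add_mem _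
            (Ideal.mem_sup_left (Ideal.mul_mem_left _ _ (Ideal.mem_span_singleton_self g)))
            (Ideal.mem_sup_right hx₀)
        · exact le_sup_right
      · apply sup_le
        · rw [Ideal.span_singleton_le_iff_mem]
          obtain ⟨d, hd⟩ := hc.exists_left_inv
          have hg : g = d * x - d * x₀ := by
            rw [← hxe]
            linear_combination (-g) * hd
          rw [hg]
          exact Ideal.sub_mem _
            (Ideal.mem_sup_left (Ideal.mul_mem_left _ _ (Ideal.mem_span_singleton_self x)))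
            (Ideal.mem_sup_right (Ideal.mul_mem_left _ _ hx₀))
        · exact le_sup_right
    · have hcm : c ∈ IsLocalRing.maximalIdeal R := (IsLocalRing.mem_maximalIdeal c).mpr hc
      have hx₀' : x₀ ∉ IsLocalRing.maximalIdeal R * Ideal.ofList l₀ := by
        intro hmem
        apply hx'
        rw [← hxe, Ideal.ofList_cons]
        apply Ideal.add_mem
        · exact Ideal.mul_mem_mul hcm (Ideal.mem_sup_left (Ideal.mem_span_singleton_self g))
        · exact Ideal.mul_mono_right le_sup_right hmem
      obtain ⟨l₀', hlen, hl₀'⟩ := ih x₀ hx₀ hx₀'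
      refine ⟨g :: l₀', by simp only [List.length_cons]; omega, ?_⟩
      have hx₀e : x₀ = x - c * g := by rw [← hxe]; ring
      rw [Ideal.ofList_cons x, Ideal.ofList_cons g l₀', Ideal.ofList_cons g l₀, ← hl₀',
        Ideal.ofList_cons x₀]
      apply le_antisymm
      · apply sup_le
        · rw [Ideal.span_singleton_le_iff_mem, ← hxe]
          exact Ideal.add_mem _
            (Ideal.mem_sup_left (Ideal.mul_mem_left _ _ (Ideal.mem_span_singleton_self g)))
            (Ideal.mem_sup_right (Ideal.mem_sup_left (Ideal.mem_span_singleton_self x₀)))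
        · exact sup_le le_sup_left (le_trans le_sup_right le_sup_right)
      · apply sup_le
        · exact le_trans le_sup_left le_sup_right
        · apply sup_le
          · rw [Ideal.span_singleton_le_iff_mem, hx₀e]
            exact Ideal.sub_mem _ (Ideal.mem_sup_left (Ideal.mem_span_singleton_self x))
              (Ideal.mem_sup_right (Ideal.mem_sup_left
                (Ideal.mul_mem_left _ _ (Ideal.mem_span_singleton_self g))))
          · exact le_trans le_sup_right le_sup_right

end Exchange

section Peel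

variable {Q : ∀ (R : Type u) [CommRing R], List R → Prop}

theorem ofList_zero_cons {T : Type u} [CommRing T] (t : List T) :
    Ideal.ofList ((0 : T) :: t) = Ideal.ofList t := by
  rw [Ideal.ofList_cons, Ideal.span_singleton_eq_bot.mpr rfl, bot_sup_eq]

/-- peeling off independent generators of a regular ideal in a local ring -/
theorem peel (hQ : GoodQ Q) (hquot : QuotAx Q) :
    ∀ (n : ℕ) (R A₀ : Type u) [CommRing R] [IsLocalRing R] [CommRing A₀]
      (θ : R →+* A₀), Function.Surjective θ → ∀ (ys : List R), ys.length = n →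
      RingHom.ker θ = Ideal.ofList ys → ∀ (l : List R), Q R l →
      Ideal.ofList l ≤ IsLocalRing.maximalIdeal R → (∀ y ∈ ys, y ∈ Ideal.ofList l) →
      (∀ i (hi : i < ys.length), ∃ (D : Type u) (_ : CommRing D) (τ : R →+* D),
        τ ys[i] ≠ 0 ∧ (∀ j (hj : j < i), τ (ys[j]'(hj.trans hi)) = 0) ∧
        ∀ m ∈ IsLocalRing.maximalIdeal R, ∀ κ ∈ Ideal.ofList l, τ m * τ κ = 0) →
      ∃ l₀ : List A₀, l₀.length + n = l.length ∧ Q A₀ l₀ ∧
        (Ideal.ofList l).map θ = Ideal.ofList l₀ := by
  intro n
  induction n with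
  | zero =>
    intro R A₀ _ _ _ θ hθ ys hn hker l hl hKm hys hind
    have hys0 : ys = [] := List.length_eq_zero_iff.mp hn
    subst hys0
    rw [Ideal.ofList_nil] at hker
    have hinj : Function.Injective θ := (RingHom.injective_iff_ker_eq_bot θ).mpr hker
    let e : R ≃+* A₀ := RingEquiv.ofBijective θ ⟨hinj, hθ⟩
    refine ⟨l.map e, by simp, hQ.of_ringEquiv e l hl, ?_⟩
    rw [Ideal.map_ofList]
    rfl
  | succ n ih =>
    intro R A₀ _ _ _ θ hθ ys hn hker l hl hKm hys hind
    obtain ⟨y, ys', rfl⟩ : ∃ y ys', ys = y :: ys' := by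
      cases ys with
      | nil => simp at hn
      | cons y ys' => exact ⟨y, ys', rfl⟩
    have hn' : ys'.length = n := by simpa using hn
    have hyK : y ∈ Ideal.ofList l := hys y List.mem_cons_self
    -- step 1: `y` is not in `𝔪 K`
    have hy' : y ∉ IsLocalRing.maximalIdeal R * Ideal.ofList l := by
      obtain ⟨D, _, τ, hτy, -, hτ⟩ := hind 0 (by simp)
      intro hmem
      apply hτy
      have hkill : ∀ z ∈ IsLocalRing.maximalIdeal R * Ideal.ofList l, τ z = 0 := by
        intro z hz
        refine Submodule.mul_induction_on hz ?_ ?_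
        · intro m hm κ hκ
          rw [map_mul]
          exact hτ m hm κ hκ
        · intro a b ha hb
          rw [map_add, ha, hb, add_zero]
      simpa using hkill y hmem
    obtain ⟨l'', hlen'', hl''⟩ := exchange_one l y hyK hy'
    have hQ1 : Q R (y :: l'') :=
      hQ.of_ofList_eq (y :: l'') l (by rw [List.length_cons, hlen'']) hl'' hl
    have hQ2 := hquot y l'' hQ1
    have h𝔞m : Ideal.span {y} ≤ IsLocalRing.maximalIdeal R := by
      rw [Ideal.span_singleton_le_iff_mem]
      exact hKm hyK
    have h𝔞top : (Ideal.span {y} : Ideal R) ≠ ⊤ := fun h =>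
      (IsLocalRing.maximalIdeal.isMaximal R).ne_top (top_le_iff.mp (h ▸ h𝔞m))
    haveI : Nontrivial (R ⧸ (Ideal.span {y} : Ideal R)) := Ideal.Quotient.nontrivial_iff.mpr h𝔞top
    haveI : IsLocalRing (R ⧸ (Ideal.span {y} : Ideal R)) :=
      IsLocalRing.of_surjective' (Ideal.Quotient.mk (Ideal.span {y}))
        Ideal.Quotient.mk_surjective
    have hy0 : Ideal.Quotient.mk (Ideal.span {y}) y = 0 :=
      Ideal.Quotient.eq_zero_iff_mem.mpr (Ideal.mem_span_singleton_self y)
    have h𝔞ker : Ideal.span {y} ≤ RingHom.ker θ := by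
      rw [hker, Ideal.span_singleton_le_iff_mem]
      exact Ideal.subset_span List.mem_cons_self
    let θ' : R ⧸ (Ideal.span {y} : Ideal R) →+* A₀ := Ideal.Quotient.lift (Ideal.span {y}) θ h𝔞ker
    have hθ' : Function.Surjective θ' := fun b => by
      obtain ⟨x, hx⟩ := hθ b
      exact ⟨Ideal.Quotient.mk (Ideal.span {y}) x, hx⟩
    have hker' : RingHom.ker θ' = Ideal.ofList (ys'.map (Ideal.Quotient.mk (Ideal.span {y}))) := by
      have h1 : RingHom.ker θ' = (RingHom.ker θ).map (Ideal.Quotient.mk (Ideal.span {y})) :=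
        Ideal.ker_quotient_lift θ h𝔞ker
      rw [h1, hker, Ideal.map_ofList, List.map_cons, hy0, ofList_zero_cons]
    have hKbar : (Ideal.ofList l).map (Ideal.Quotient.mk (Ideal.span {y})) =
        Ideal.ofList (l''.map (Ideal.Quotient.mk (Ideal.span {y}))) := by
      rw [← hl'', Ideal.map_ofList, List.map_cons, hy0, ofList_zero_cons]
    have hlbm : Ideal.ofList (l''.map (Ideal.Quotient.mk (Ideal.span {y}))) ≤
        IsLocalRing.maximalIdeal (R ⧸ (Ideal.span {y} : Ideal R)) := by
      apply IsLocalRing.le_maximalIdeal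
      intro htop
      rw [← hKbar] at htop
      have h1 : (1 : R ⧸ (Ideal.span {y} : Ideal R)) ∈
          (Ideal.ofList l).map (Ideal.Quotient.mk (Ideal.span {y})) := htop ▸ Submodule.mem_top
      obtain ⟨z, hz, hz1⟩ :=
        (Ideal.mem_map_iff_of_surjective _ Ideal.Quotient.mk_surjective).mp h1
      have h2 : z - 1 ∈ (Ideal.span {y} : Ideal R) := by
        rw [← Ideal.Quotient.eq_zero_iff_mem, map_sub, hz1, map_one, sub_self]
      have h3 : (1 : R) ∈ IsLocalRing.maximalIdeal R := by
        have := Ideal.sub_mem _ (hKm hz) (h𝔞m h2)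
        simpa using this
      exact (IsLocalRing.maximalIdeal.isMaximal R).ne_top ((Ideal.eq_top_iff_one _).mpr h3)
    have hys' : ∀ yb ∈ ys'.map (Ideal.Quotient.mk (Ideal.span {y})),
        yb ∈ Ideal.ofList (l''.map (Ideal.Quotient.mk (Ideal.span {y}))) := by
      intro yb hyb
      obtain ⟨y', hy'mem, rfl⟩ := List.mem_map.mp hyb
      rw [← hKbar]
      exact Ideal.mem_map_of_mem _ (hys y' (List.mem_cons_of_mem _ hy'mem))
    have hind' : ∀ i (hi : i < (ys'.map (Ideal.Quotient.mk (Ideal.span {y}))).length),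
        ∃ (D : Type u) (_ : CommRing D) (τ : R ⧸ (Ideal.span {y} : Ideal R) →+* D),
          τ (ys'.map (Ideal.Quotient.mk (Ideal.span {y})))[i] ≠ 0 ∧
          (∀ j (hj : j < i),
            τ ((ys'.map (Ideal.Quotient.mk (Ideal.span {y})))[j]'(hj.trans hi)) = 0) ∧
          ∀ m ∈ IsLocalRing.maximalIdeal (R ⧸ (Ideal.span {y} : Ideal R)),
            ∀ κ ∈ Ideal.ofList (l''.map (Ideal.Quotient.mk (Ideal.span {y}))),
              τ m * τ κ = 0 := by
      intro i hi
      have hi' : i < ys'.length := by simpa using hi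
      obtain ⟨D, instD, τ, hτ1, hτ2, hτ3⟩ :=
        hind (i + 1) (by simp only [List.length_cons]; omega)
      have hτy : τ y = 0 := by simpa using hτ2 0 (Nat.succ_pos i)
      have h𝔞τ : Ideal.span {y} ≤ RingHom.ker τ := by
        rw [Ideal.span_singleton_le_iff_mem]
        exact hτy
      have hτ1' : τ ys'[i] ≠ 0 := by simpa using hτ1
      refine ⟨D, instD, Ideal.Quotient.lift (Ideal.span {y}) τ h𝔞τ, ?_, ?_, ?_⟩
      · rw [List.getElem_map]
        exact hτ1'
      · intro j hj
        rw [List.getElem_map]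
        have h4 := hτ2 (j + 1) (Nat.succ_lt_succ hj)
        have h5 : τ ys'[j] = 0 := by simpa using h4
        exact h5
      · intro mb hmb κb hκb
        obtain ⟨m, rfl⟩ := Ideal.Quotient.mk_surjective mb
        have hm : m ∈ IsLocalRing.maximalIdeal R := by
          rw [IsLocalRing.mem_maximalIdeal, mem_nonunits_iff] at hmb ⊢
          intro hu
          exact hmb (hu.map (Ideal.Quotient.mk (Ideal.span {y})))
        rw [← hKbar] at hκb
        obtain ⟨κ, hκ, rfl⟩ :=
          (Ideal.mem_map_iff_of_surjective _ Ideal.Quotient.mk_surjective).mp hκb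
        exact hτ3 m hm κ hκ
    obtain ⟨l₀, hl₀len, hl₀Q, hl₀I⟩ := ih (R ⧸ (Ideal.span {y} : Ideal R)) A₀ θ' hθ'
      (ys'.map (Ideal.Quotient.mk (Ideal.span {y}))) (by simpa using hn') hker'
      (l''.map (Ideal.Quotient.mk (Ideal.span {y}))) hQ2 hlbm hys' hind'
    refine ⟨l₀, ?_, hl₀Q, ?_⟩
    · have : (l''.map (Ideal.Quotient.mk (Ideal.span {y}))).length = l''.length :=
        List.length_map _
      omega
    · have hcomp : θ'.comp (Ideal.Quotient.mk (Ideal.span {y})) = θ := by
        ext x
        rfl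
      rw [← hl₀I, ← hKbar, Ideal.map_map, hcomp]

end Peel

section DescentLocal

variable {Q : ∀ (R : Type u) [CommRing R], List R → Prop}

/-- descent of generating sequences along a flat local homomorphism of local rings -/
theorem descent_local (hQ : GoodQ Q) {R' S : Type u} [CommRing R'] [CommRing S] [IsLocalRing R']
    [IsLocalRing S] [Algebra R' S] [Module.Flat R' S] [IsLocalHom (algebraMap R' S)]
    (K : Ideal R') (l : List S) (hl : Q S l)
    (hK : K.map (algebraMap R' S) = Ideal.ofList l) :
    ∃ l' : List R', l'.length = l.length ∧ Q R' l' ∧ K = Ideal.ofList l' := by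
  haveI : Module.FaithfullyFlat R' S := Module.FaithfullyFlat.of_flat_of_isLocalHom
  obtain ⟨t, htlen, htT, htgen⟩ := exists_generators_of_span (K.map (algebraMap R' S))
    ((algebraMap R' S) '' (K : Set R')) rfl l [] (by simpa using hK.symm)
  have key : ∀ t : List S,
      (∀ x ∈ t, x ∈ (algebraMap R' S) '' (K : Set R') ∨ x = 0) →
      ∃ f : List R', (∀ x ∈ f, x ∈ K) ∧ f.map (algebraMap R' S) = t := by
    intro t
    induction t with
    | nil => intro _; exact ⟨[], by simp, rfl⟩
    | cons a t ih =>
      intro h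
      obtain ⟨f, hf, hft⟩ := ih (fun x hx => h x (List.mem_cons_of_mem _ hx))
      rcases h a List.mem_cons_self with ⟨a₀, ha₀, rfl⟩ | rfl
      · refine ⟨a₀ :: f, ?_, by rw [List.map_cons, hft]⟩
        intro x hx
        rcases List.mem_cons.mp hx with rfl | hx
        · exact ha₀
        · exact hf x hx
      · refine ⟨0 :: f, ?_, by rw [List.map_cons, hft, map_zero]⟩
        intro x hx
        rcases List.mem_cons.mp hx with rfl | hx
        · exact Ideal.zero_mem _
        · exact hf x hx
  obtain ⟨f, hfK, hft⟩ := key t htT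
  have hgen : K.map (algebraMap R' S) = Ideal.ofList (f.map (algebraMap R' S)) := by
    rw [hft]
    simpa using htgen.symm
  have hKf : K = Ideal.ofList f := by
    apply le_antisymm
    · have h1 : K.map (algebraMap R' S) = (Ideal.ofList f).map (algebraMap R' S) := by
        rw [hgen, Ideal.map_ofList]
      have h2 := Ideal.comap_map_eq_self_of_faithfullyFlat (B := S) K
      have h3 := Ideal.comap_map_eq_self_of_faithfullyFlat (B := S) (Ideal.ofList f)
      rw [← h2, h1, h3]
    · rw [Ideal.ofList, Ideal.span_le]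
      intro x hx
      exact hfK x hx
  have hlen : f.length = l.length := by rw [← htlen, ← hft, List.length_map]
  refine ⟨f, hlen, ?_, hKf⟩
  have hQS : Q S (f.map (algebraMap R' S)) :=
    hQ.of_ofList_eq _ l (by simpa using hlen) (hgen.symm.trans hK) hl
  apply hQ.of_forall_prime
  intro P
  refine ⟨S, inferInstance, inferInstance, inferInstance,
    ⟨IsLocalRing.maximalIdeal S, Ideal.IsPrime.ne_top inferInstance, ?_⟩, hQS⟩
  rw [Ideal.map_le_iff_le_comap]
  intro x hx
  rw [Ideal.mem_comap, IsLocalRing.mem_maximalIdeal, mem_nonunits_iff]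
  intro hu
  have hxu : IsUnit x := isUnit_of_map_unit (algebraMap R' S) x hu
  exact P.isPrime.ne_top (Ideal.eq_top_of_isUnit_mem _ hx hxu)

end DescentLocal

section Unramified

/-- for a formally unramified algebra, the kernel of a common quotient is extended from the
base (when it is finitely generated and contained in the Jacobson radical) -/
theorem ker_eq_map_of_formallyUnramified {R' S C₀ : Type u} [CommRing R'] [CommRing S]
    [CommRing C₀] [Algebra R' S] [Algebra.FormallyUnramified R' S] (ρS : S →+* C₀)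
    (hsurj : Function.Surjective (ρS.comp (algebraMap R' S)))
    (hfg : (RingHom.ker ρS).FG) (hjac : RingHom.ker ρS ≤ Ideal.jacobson ⊥) :
    RingHom.ker ρS = (RingHom.ker (ρS.comp (algebraMap R' S))).map (algebraMap R' S) := by
  have hKJ : (RingHom.ker (ρS.comp (algebraMap R' S))).map (algebraMap R' S) ≤ RingHom.ker ρS := by
    rw [Ideal.map_le_iff_le_comap]
    intro x hx
    exact hx
  apply le_antisymm _ hKJ
  apply Submodule.le_of_le_smul_of_le_jacobson_bot hfg hjac
  intro x hx
  let 𝔟 : Ideal S := (RingHom.ker (ρS.comp (algebraMap R' S))).map (algebraMap R' S) ⊔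
    RingHom.ker ρS * RingHom.ker ρS
  let N : Ideal (S ⧸ 𝔟) := (RingHom.ker ρS).map (Ideal.Quotient.mk 𝔟)
  have hN : IsNilpotent N := by
    refine ⟨2, ?_⟩
    rw [pow_two, ← Ideal.map_mul, Ideal.zero_eq_bot, Ideal.map_eq_bot_iff_le_ker, Ideal.mk_ker]
    exact le_sup_right
  have hle : RingHom.ker (ρS.comp (algebraMap R' S)) ≤ RingHom.ker (algebraMap R' (S ⧸ 𝔟)) := by
    intro r hr
    rw [RingHom.mem_ker]
    change Ideal.Quotient.mk 𝔟 (algebraMap R' S r) = 0
    rw [Ideal.Quotient.eq_zero_iff_mem]
    exact Ideal.mem_sup_left (Ideal.mem_map_of_mem _ hr)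
  let τ : C₀ →+* S ⧸ 𝔟 :=
    (ρS.comp (algebraMap R' S)).liftOfSurjective hsurj ⟨algebraMap R' (S ⧸ 𝔟), hle⟩
  have hτ : ∀ r, τ (ρS (algebraMap R' S r)) = algebraMap R' (S ⧸ 𝔟) r := fun r =>
    RingHom.liftOfSurjective_comp_apply (ρS.comp (algebraMap R' S)) hsurj
      ⟨algebraMap R' (S ⧸ 𝔟), hle⟩ r
  let g₁ : S →ₐ[R'] S ⧸ 𝔟 := Ideal.Quotient.mkₐ R' 𝔟
  let g₂ : S →ₐ[R'] S ⧸ 𝔟 := { toRingHom := τ.comp ρS, commutes' := fun r => hτ r }
  have hg : g₁ = g₂ := by
    apply Algebra.FormallyUnramified.ext N hN
    intro s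
    obtain ⟨r, hr⟩ := hsurj (ρS s)
    have h2 : g₂ s = Ideal.Quotient.mk 𝔟 (algebraMap R' S r) := by
      change τ (ρS s) = _
      rw [← hr]
      exact hτ r
    have h1 : g₁ s = Ideal.Quotient.mk 𝔟 s := rfl
    rw [h1, h2, Ideal.Quotient.eq, ← map_sub]
    apply Ideal.mem_map_of_mem
    rw [RingHom.mem_ker, map_sub, sub_eq_zero]
    exact hr.symm
  have hx0 : g₁ x = 0 := by
    rw [hg]
    change τ (ρS x) = 0
    rw [RingHom.mem_ker.mp hx, map_zero]
  have hx𝔟 : x ∈ 𝔟 := Ideal.Quotient.eq_zero_iff_mem.mp hx0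
  exact hx𝔟

end Unramified

section LocalGlobal

variable {Q : ∀ (R : Type u) [CommRing R], List R → Prop}

/-- a finitely generated ideal which is of kind `Q` of constant length at the local rings of the
points of a neighbourhood has a chart -/
theorem exists_isQNear_of_locLen (hQ : GoodQ Q) {A : Type u} [CommRing A] (I : Ideal A)
    (hIfg : I.FG) (p : Ideal A) [p.IsPrime] (hIp : I ≤ p) (G'' : A) (hG'' : G'' ∉ p) (r : ℕ)
    (h : ∀ (p' : Ideal A) [p'.IsPrime], I ≤ p' → G'' ∉ p' → LocLen Q I p' r) :
    ∃ G : A, G ∉ p ∧ IsQNear Q I G r := by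
  have hLL : LocLen Q I p r := h p hIp hG''
  have hLL' : LocLen Q (I.map (algebraMap A A)) p r := by
    rw [Algebra.algebraMap_self, Ideal.map_id]
    exact hLL
  obtain ⟨f, hflen, hfI, hgen⟩ := LocLen.exists_generators (A := A) (B := A) I p r hLL'
  obtain ⟨G, hG, hGI⟩ := exists_factor (A := A) (B := A) I hIfg p f hgen
  have hGp : G ∉ p := by
    intro hmem
    apply hG
    rw [Algebra.algebraMap_self, Ideal.comap_id]
    exact hmem
  refine ⟨G * G'', fun hmem => ?_, ?_⟩
  · rcases Ideal.IsPrime.mem_or_mem inferInstance hmem with h1 | h1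
    · exact hGp h1
    · exact hG'' h1
  set G' := G * G'' with hG'def
  let R' := Localization.Away G'
  have huG' : IsUnit (algebraMap A R' G') := IsLocalization.Away.algebraMap_isUnit G'
  have huG : IsUnit (algebraMap A R' G) := by
    have h2 : IsUnit (algebraMap A R' G * algebraMap A R' G'') := by
      rw [← map_mul]
      exact huG'
    exact isUnit_of_mul_isUnit_left h2
  refine ⟨R', inferInstance, inferInstance, inferInstance, f.map (algebraMap A R'),
    by simpa using hflen, ?_, map_eq_ofList_of_isUnit I f G hfI hGI R' huG⟩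
  apply hQ.of_forall_prime
  intro P
  let p' : Ideal A := P.asIdeal.comap (algebraMap A R')
  haveI hp'prime : p'.IsPrime := Ideal.comap_isPrime _ _
  have hG'p' : G' ∉ p' := by
    intro hmem
    have h1 : algebraMap A R' G' ∈ P.asIdeal := hmem
    exact P.isPrime.ne_top (Ideal.eq_top_of_isUnit_mem _ h1 huG')
  have hG''p' : G'' ∉ p' := fun hmem => hG'p' (Ideal.mul_mem_left _ _ hmem)
  have hGp' : G ∉ p' := fun hmem => hG'p' (Ideal.mul_mem_right _ _ hmem)
  let Y := Localization.AtPrime p'
  have hunitG' : IsUnit (algebraMap A Y G') :=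
    IsLocalization.map_units (M := p'.primeCompl) Y ⟨G', hG'p'⟩
  have hunitG : IsUnit (algebraMap A Y G) :=
    IsLocalization.map_units (M := p'.primeCompl) Y ⟨G, hGp'⟩
  let φ : R' →+* Y := IsLocalization.Away.lift G' hunitG'
  have hφ : ∀ a, φ (algebraMap A R' a) = algebraMap A Y a :=
    fun a => IsLocalization.Away.lift_eq G' hunitG' a
  letI : Algebra R' Y := φ.toAlgebra
  haveI : IsScalarTower A R' Y := IsScalarTower.of_algebraMap_eq (fun a => (hφ a).symm)
  haveI : Module.Flat A Y := IsLocalization.flat Y p'.primeCompl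
  haveI : Module.Flat R' Y :=
    (Module.flat_iff_of_isLocalization R' (Submonoid.powers G') Y).mpr inferInstance
  refine ⟨Y, inferInstance, inferInstance, inferInstance,
    ⟨IsLocalRing.maximalIdeal Y, Ideal.IsPrime.ne_top inferInstance, ?_⟩, ?_⟩
  · have h1 : p'.map (algebraMap A R') = P.asIdeal :=
      IsLocalization.map_under (Submonoid.powers G') R' P.asIdeal
    rw [← h1, Ideal.map_map, ← IsScalarTower.algebraMap_eq,
      Localization.AtPrime.map_eq_maximalIdeal]
  · have hmm : (f.map (algebraMap A R')).map (algebraMap R' Y) = f.map (algebraMap A Y) := by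
      rw [List.map_map]
      apply List.map_congr_left
      intro a _
      exact hφ a
    rw [hmm]
    have hgenY := map_eq_ofList_of_isUnit I f G hfI hGI Y hunitG
    by_cases hIp' : I ≤ p'
    · exact LocLen.isQ hQ (h p' hIp' hG''p') _ (by simpa using hflen) hgenY
    · apply hQ.of_eq_top
      rw [← hgenY]
      obtain ⟨b, hbI, hbp⟩ := Set.not_subset.mp hIp'
      have hb : IsUnit (algebraMap A Y b) :=
        IsLocalization.map_units (M := p'.primeCompl) Y ⟨b, hbp⟩
      exact Ideal.eq_top_of_isUnit_mem _ (Ideal.mem_map_of_mem _ hbI) hb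

/-- an ideal generated by a sequence of kind `Q` is locally of kind `Q` -/
theorem isQIdeal_ofList (hQ : GoodQ Q) {R : Type u} [CommRing R] (l : List R) (hl : Q R l) :
    IsQIdeal Q (Ideal.ofList l) := by
  intro p _
  refine ⟨1, fun h => p.isPrime.ne_top ((Ideal.eq_top_iff_one _).mpr h), l.length, ?_⟩
  haveI : Module.Flat R (Localization.Away (1 : R)) :=
    IsLocalization.flat _ (Submonoid.powers (1 : R))
  exact ⟨Localization.Away (1 : R), inferInstance, inferInstance, inferInstance,
    l.map (algebraMap R _), by simp, hQ.map_of_flat l hl, Ideal.map_ofList _ l⟩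

end LocalGlobal

end Groth.Agent.Lib.Helper9.SmQ
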