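import Mathlib
import Groth.Agent.Lib.Helper22.FibReg
import Groth.Agent.Lib.Helper22.FibCIA
import Groth.Agent.Lib.Helper22.QRegNoeth
import Groth.Agent.Lib.Helper9.SmQA
import Groth.Agent.Lib.Helper9.QDescB

/-!
# Fibrewise regular sequences and a flat change of fibre rings: algebra (helper9)

`B → B'` a ring map, `𝔣 ⊂ B`, `𝔣' ⊂ B'` ideals with `B/𝔣 → B'/𝔣'` flat (the "map of fibre rings").
* `quotientMap_flat`: produce this situation from surjections `B → F`, `B' → F'` and a flat `F → F'`.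
* `ascent_alg`: a sequence of `B` which is regular modulo `𝔣` maps to one regular modulo `𝔣'`.
* `descent_alg`: conversely, if `I B'` is generated by a sequence regular modulo `𝔣'`, the fibre
  rings are Noetherian local, `B/I` is flat over `A` and `𝔣 = 𝔪 B`, then `I` is generated by a
  sequence regular modulo `𝔣`.
-/

set_option autoImplicit false
set_option linter.style.haveILetI false
universe u
open RingTheory.Sequence

namespace Groth.Agent.Lib.Helper9.KLoc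

open Groth.Agent.Lib.Helper22 Groth.Agent.Lib.Helper9.QDesc Groth.Agent.Lib.Helper9.SmQ

section FlatQuot

variable {B B' F F' : Type u} [CommRing B] [CommRing B'] [CommRing F] [CommRing F']

theorem quotientMap_flat (π : B →+* F) (hπ : Function.Surjective π) (π' : B' →+* F')
    (hπ' : Function.Surjective π') (θ : F →+* F') (hθ : θ.Flat) [IsLocalHom θ] (γ : B →+* B')
    (hcomm : π'.comp γ = θ.comp π) (𝔣 : Ideal B) (h𝔣 : RingHom.ker π = 𝔣) (𝔣' : Ideal B')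
    (h𝔣' : RingHom.ker π' = 𝔣') :
    ∃ hle : 𝔣 ≤ 𝔣'.comap γ, (Ideal.quotientMap 𝔣' γ hle).Flat ∧
      IsLocalHom (Ideal.quotientMap 𝔣' γ hle) := by
  subst h𝔣 h𝔣'
  have hle : RingHom.ker π ≤ (RingHom.ker π').comap γ := by
    intro x hx
    rw [Ideal.mem_comap, RingHom.mem_ker]
    have h1 : π' (γ x) = θ (π x) := congrArg (fun m => m x) hcomm
    rw [h1, RingHom.mem_ker.mp hx, map_zero]
  let e : B ⧸ RingHom.ker π ≃+* F := RingHom.quotientKerEquivOfSurjective hπ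
  let e' : B' ⧸ RingHom.ker π' ≃+* F' := RingHom.quotientKerEquivOfSurjective hπ'
  have he : ∀ b, e (Ideal.Quotient.mk _ b) = π b := fun b => rfl
  have he' : ∀ b, e' (Ideal.Quotient.mk _ b) = π' b := fun b => rfl
  have hq : Ideal.quotientMap (RingHom.ker π') γ hle =
      (e'.symm.toRingHom).comp (θ.comp e.toRingHom) := by
    apply Ideal.Quotient.ringHom_ext
    ext b
    simp only [RingHom.comp_apply, Ideal.quotientMap_mk, RingEquiv.toRingHom_eq_coe,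
      RingHom.coe_coe, he]
    rw [RingEquiv.eq_symm_apply, he']
    exact congrArg (fun m => m b) hcomm
  refine ⟨hle, ?_, ?_⟩
  · rw [hq]
    exact RingHom.Flat.comp (RingHom.Flat.comp (RingHom.Flat.of_bijective e.bijective) hθ)
      (RingHom.Flat.of_bijective e'.symm.bijective)
  · constructor
    intro a ha
    rw [hq] at ha
    have h1 : IsUnit (e' ((e'.symm.toRingHom).comp (θ.comp e.toRingHom) a)) := ha.map e'
    simp only [RingHom.comp_apply, RingEquiv.toRingHom_eq_coe, RingHom.coe_coe,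
      RingEquiv.apply_symm_apply] at h1
    have h2 : IsUnit (e a) := isUnit_of_map_unit θ _ h1
    have h3 := h2.map e.symm
    rwa [RingEquiv.symm_apply_apply] at h3

end FlatQuot

section Ascent

variable {B B' : Type u} [CommRing B] [CommRing B']

theorem ascent_alg (𝔣 : Ideal B) (𝔣' : Ideal B') (γ : B →+* B') (hle : 𝔣 ≤ 𝔣'.comap γ)
    (hflat : (Ideal.quotientMap 𝔣' γ hle).Flat) (rs : List B)
    (hreg : IsWeaklyRegular (B ⧸ 𝔣) (rs.map (Ideal.Quotient.mk 𝔣))) :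
    IsWeaklyRegular (B' ⧸ 𝔣') ((rs.map γ).map (Ideal.Quotient.mk 𝔣')) := by
  letI := (Ideal.quotientMap 𝔣' γ hle).toAlgebra
  haveI : Module.Flat (B ⧸ 𝔣) (B' ⧸ 𝔣') := hflat
  have h1 := hreg.of_flat (S := B' ⧸ 𝔣')
  have h2 : (rs.map (Ideal.Quotient.mk 𝔣)).map (algebraMap (B ⧸ 𝔣) (B' ⧸ 𝔣')) =
      (rs.map γ).map (Ideal.Quotient.mk 𝔣') := by
    rw [List.map_map, List.map_map]
    apply List.map_congr_left
    intro b _
    rfl
  rwa [h2] at h1

end Ascent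

section Descent

variable {A B B' : Type u} [CommRing A] [CommRing B] [CommRing B'] [Algebra A B]
  [IsLocalRing B] [IsLocalRing B']

theorem isLocalRing_quot (𝔣 : Ideal B) (h : 𝔣 ≠ ⊤) : IsLocalRing (B ⧸ 𝔣) := by
  haveI : Nontrivial (B ⧸ 𝔣) := Ideal.Quotient.nontrivial_iff.mpr h
  exact IsLocalRing.of_surjective' (Ideal.Quotient.mk 𝔣) Ideal.Quotient.mk_surjective

set_option maxHeartbeats 800000 in
theorem descent_alg (𝔪 : Ideal A) (𝔣' : Ideal B') (h𝔣' : 𝔣' ≠ ⊤) (γ : B →+* B')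
    (hle : 𝔪.map (algebraMap A B) ≤ 𝔣'.comap γ)
    (hflat : (Ideal.quotientMap 𝔣' γ hle).Flat)
    (hloc : IsLocalHom (Ideal.quotientMap 𝔣' γ hle))
    [IsNoetherianRing (B ⧸ 𝔪.map (algebraMap A B))] [IsNoetherianRing (B' ⧸ 𝔣')]
    (I : Ideal B) (hIfg : I.FG) [Module.Flat A (B ⧸ I)] (hI' : I.map γ ≠ ⊤)
    (rs' : List B') (hspan : Ideal.ofList rs' = I.map γ)
    (hreg : IsWeaklyRegular (B' ⧸ 𝔣') (rs'.map (Ideal.Quotient.mk 𝔣'))) :
    ∃ rs : List B, Ideal.ofList rs = I ∧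
      IsWeaklyRegular (B ⧸ 𝔪.map (algebraMap A B))
        (rs.map (Ideal.Quotient.mk (𝔪.map (algebraMap A B)))) := by
  set 𝔣 := 𝔪.map (algebraMap A B) with h𝔣def
  have h𝔣 : 𝔣 ≠ ⊤ := by
    intro htop
    apply h𝔣'
    rw [Ideal.eq_top_iff_one]
    have h1 : (1 : B) ∈ 𝔣 := by rw [htop]; trivial
    have h2 := hle h1
    rwa [Ideal.mem_comap, map_one] at h2
  haveI : Nontrivial (B ⧸ 𝔣) := Ideal.Quotient.nontrivial_iff.mpr h𝔣
  haveI : Nontrivial (B' ⧸ 𝔣') := Ideal.Quotient.nontrivial_iff.mpr h𝔣'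
  haveI : IsLocalRing (B ⧸ 𝔣) := isLocalRing_quot 𝔣 h𝔣
  haveI : IsLocalRing (B' ⧸ 𝔣') := isLocalRing_quot 𝔣' h𝔣'
  letI alg : Algebra (B ⧸ 𝔣) (B' ⧸ 𝔣') := (Ideal.quotientMap 𝔣' γ hle).toAlgebra
  haveI : Module.Flat (B ⧸ 𝔣) (B' ⧸ 𝔣') := hflat
  haveI : IsLocalHom (algebraMap (B ⧸ 𝔣) (B' ⧸ 𝔣')) := hloc
  have hItop : I ≠ ⊤ := by
    intro h
    apply hI'
    rw [h, Ideal.map_top]
  have hIle : I ≤ IsLocalRing.maximalIdeal B := IsLocalRing.le_maximalIdeal hItop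
  have h𝔣le : 𝔣 ≤ IsLocalRing.maximalIdeal B := IsLocalRing.le_maximalIdeal h𝔣
  set K : Ideal (B ⧸ 𝔣) := I.map (Ideal.Quotient.mk 𝔣) with hKdef
  have hKtop : K ≠ ⊤ := by
    intro h
    have h1 : K.comap (Ideal.Quotient.mk 𝔣) = ⊤ := by rw [h, Ideal.comap_top]
    rw [hKdef, Ideal.comap_map_of_surjective _ Ideal.Quotient.mk_surjective,
      ← RingHom.ker_eq_comap_bot, Ideal.mk_ker] at h1
    have h2 : I ⊔ 𝔣 ≤ IsLocalRing.maximalIdeal B := sup_le hIle h𝔣le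
    rw [h1] at h2
    exact (IsLocalRing.maximalIdeal.isMaximal B).ne_top (top_le_iff.mp h2)
  have hK : K.map (algebraMap (B ⧸ 𝔣) (B' ⧸ 𝔣')) =
      Ideal.ofList (rs'.map (Ideal.Quotient.mk 𝔣')) := by
    rw [← Ideal.map_ofList, hspan, hKdef, Ideal.map_map, Ideal.map_map]
    congr 1
  have hQ' : QQ (B' ⧸ 𝔣') (rs'.map (Ideal.Quotient.mk 𝔣')) :=
    QRegNoeth.isQuasiRegular_of_isWeaklyRegular _ hreg
  obtain ⟨l, -, hQl, hKl⟩ := descent_local goodQ_quasi K (rs'.map (Ideal.Quotient.mk 𝔣')) hQ' hK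
  have hne : Ideal.ofList l ≠ ⊤ := by rw [← hKl]; exact hKtop
  have hjac : ∀ i, l.get i ∈ Ring.jacobson (B ⧸ 𝔣) := by
    intro i
    rw [IsLocalRing.ringJacobson_eq_maximalIdeal]
    apply IsLocalRing.le_maximalIdeal hne
    exact Ideal.subset_span (List.get_mem l i)
  have hwr : IsWeaklyRegular (B ⧸ 𝔣) l := by
    have h1 := Groth.Agent.Lib.Helper14.QuasiRegReg.isWeaklyRegular_of_qr l.get hjac hQl
    rwa [List.ofFn_get] at h1
  obtain ⟨r, hr, hspanr, -, -⟩ := FibReg.lift_fibre_seq 𝔪 I hIfg (Ideal.Quotient.mk 𝔣)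
    Ideal.Quotient.mk_surjective Ideal.mk_ker l hwr hne hKl
  refine ⟨List.ofFn r, ?_, ?_⟩
  · rw [Groth.Agent.Lib.Helper14.LCF.ofList_ofFn]
    exact hspanr
  · rw [List.map_ofFn]
    have h1 : (Ideal.Quotient.mk 𝔣) ∘ r = l.get := funext hr
    rw [h1, List.ofFn_get]
    exact hwr

end Descent

end Groth.Agent.Lib.Helper9.KLoc
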