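import Mathlib
import Groth.Agent.Lib.Helper9.KLocAlg
import Groth.Agent.Lib.Helper22.FibCID
import Groth.Agent.Lib.Helper16.FlatBC1
import Groth.Agent.Lib.Helper17.FibreStalkMap
import Groth.Agent.Lib.Helper1.RegBC
import Groth.Agent.Lib.Helper1.SecReg

/-!
# The fibrewise condition for a closed immersion of flat schemes and base change (helper9)

For a closed immersion `j : U ⟶ P` of `S`-schemes and a point `x` of `P`, `FCx φ x I` says that
the ideal `I` of `O_{P,x}` is generated by a sequence which is regular on the local ring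
`O_{P,x} / 𝔪_s O_{P,x}` of the fibre.  By helper22's `FibCI` library this holds for the ideal of
`j` at `x` iff `j` is a regular immersion near `x` (for `P`, `U` flat and locally of finite
presentation over `S`).  Here: the condition is insensitive to an arbitrary base change `S' ⟶ S`
(`core`), because the local rings of the fibres change by a flat local homomorphism.
-/

set_option autoImplicit false
set_option linter.style.haveILetI false
universe u
open CategoryTheory CategoryTheory.Limits AlgebraicGeometry TopologicalSpace Opposite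
open RingTheory.Sequence

namespace Groth.Agent.Lib.Helper9.KLoc

open Groth.Agent.Lib.Helper22 Groth.Agent.Lib.Helper1

/-- the ideal of the fibre through `x` in the local ring at `x` -/
noncomputable abbrev fibIdeal {X S : Scheme.{u}} (g : X ⟶ S) (x : X) : Ideal (X.presheaf.stalk x) :=
  Ideal.map (g.stalkMap x).hom (IsLocalRing.maximalIdeal (S.presheaf.stalk (g x)))

/-- `I` is generated by a sequence which is regular on the local ring of the fibre -/
def FCx {X S : Scheme.{u}} (g : X ⟶ S) (x : X) (I : Ideal (X.presheaf.stalk x)) : Prop :=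
  ∃ rs : List (X.presheaf.stalk x), Ideal.ofList rs = I ∧
    IsWeaklyRegular (X.presheaf.stalk x ⧸ fibIdeal g x)
      (rs.map (Ideal.Quotient.mk (fibIdeal g x)))

section Single

variable {X Y S : Scheme.{u}} (g : X ⟶ S) (f : Y ⟶ X)

theorem near_of_FC [Flat g] [LocallyOfFinitePresentation g] [IsClosedImmersion f]
    [LocallyOfFinitePresentation f] (y : Y)
    (h : FCx g (f y) (RingHom.ker (f.stalkMap y).hom)) :
    ∃ V : X.Opens, f y ∈ V ∧ Mor2.IsRegularClosedImmersion (f ∣_ V) := by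
  obtain ⟨rs, hI, hreg⟩ := h
  have hlen : (rs.map (Ideal.Quotient.mk (fibIdeal g (f y)))).length = rs.length :=
    List.length_map _
  let hs : Fin (rs.map (Ideal.Quotient.mk (fibIdeal g (f y)))).length → X.presheaf.stalk (f y) :=
    fun j => rs.get (j.cast hlen)
  have hlift : ∀ j, Ideal.Quotient.mk (fibIdeal g (f y)) (hs j) =
      (rs.map (Ideal.Quotient.mk (fibIdeal g (f y)))).get j := by
    intro j
    simp only [hs, List.get_eq_getElem, List.getElem_map, Fin.val_cast]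
  have hrange : Set.range hs = {x | x ∈ rs} := by
    ext x
    constructor
    · rintro ⟨j, rfl⟩
      exact List.get_mem _ _
    · intro hx
      obtain ⟨i, rfl⟩ := List.mem_iff_get.mp hx
      exact ⟨i.cast hlen.symm, rfl⟩
  refine FibCI.near_of_fibre_regular g f y hs ?_ ?_
  · rw [hrange]
    exact hI
  · intro k w hw
    exact FibCI.colon_of_isWeaklyRegular_quot (fibIdeal g (f y)) _ hreg hs hlift k w hw

theorem FC_of_koszulAt [LocallyOfFiniteType g] [IsClosedImmersion f] [Flat (f ≫ g)] (y : Y)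
    (hk : RegImm.IsRegularImmersionAt .koszul f y) :
    FCx g (f y) (RingHom.ker (f.stalkMap y).hom) := by
  obtain ⟨⟨U, hU⟩, hyU, hcl, rs, hrs, hker⟩ := hk
  have hrs1 : LCI.IsKoszulRegularSeq Γ(X, U) rs := hrs
  have h2 : CAlgX.IsH1Regular rs.get := fun a ha =>
    H10KL.h1_of_isZero_homology Γ(X, U) rs (hrs1 (-1) (by norm_num)) a ha
  have hq : CAlgX.IsQuasiRegular rs.get := Groth.Agent.Lib.Helper14.H1Reg.qr_of_h1 rs.get h2
  haveI := hcl
  have hyU' : f y ∈ U := hyU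
  obtain ⟨hq', hspan, hfl⟩ := RelRegReg.stalk_data_chart g f hU rs hq hker y hyU'
  letI algA : Algebra (S.presheaf.stalk (g (f y))) (X.presheaf.stalk (f y)) :=
    (g.stalkMap (f y)).hom.toAlgebra
  haveI : IsNoetherianRing (X.presheaf.stalk (f y) ⧸
      (IsLocalRing.maximalIdeal (S.presheaf.stalk (g (f y)))).map
        (algebraMap (S.presheaf.stalk (g (f y))) (X.presheaf.stalk (f y)))) :=
    RelRegReg.isNoetherianRing_fibreQuot g (f y)
  have hm : ∀ j, (X.presheaf.germ U (f y) hyU').hom (rs.get j) ∈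
      IsLocalRing.maximalIdeal (X.presheaf.stalk (f y)) := by
    intro j
    apply IsLocalRing.le_maximalIdeal (RingHom.ker_ne_top (f.stalkMap y).hom)
    rw [← hspan]
    exact Ideal.subset_span ⟨j, rfl⟩
  have hcol := fun k w hw => RelRegReg.fibre_reg
    (fun j => (X.presheaf.germ U (f y) hyU').hom (rs.get j)) hm hq' hfl k w hw
  refine ⟨List.ofFn (fun j => (X.presheaf.germ U (f y) hyU').hom (rs.get j)), ?_, ?_⟩
  · rw [Groth.Agent.Lib.Helper14.LCF.ofList_ofFn]
    exact hspan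
  · have h3 := FibCI.isWeaklyRegular_quot_of_colon (fibIdeal g (f y))
      (fun j => (X.presheaf.germ U (f y) hyU').hom (rs.get j)) hcol
    rw [List.map_ofFn]
    exact h3

theorem isRegularImmersion_of_regularClosed {Z X : Scheme.{u}} (i : Z ⟶ X)
    (h : Mor2.IsRegularClosedImmersion i) : RegImm.IsRegularImmersion .koszul i := by
  obtain ⟨hcl, hpt⟩ := h
  haveI := hcl
  refine ⟨inferInstance, fun z => ?_⟩
  obtain ⟨U, hU, hzU, rs, hrs, hker⟩ := hpt z
  refine ⟨⟨U, hU⟩, hzU, inferInstance, rs,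
    SecReg.isKoszulRegularSeq_of_isWeaklyRegular rs hrs.toIsWeaklyRegular, ?_⟩
  rw [← hker]
  exact (Scheme.Hom.ker_apply i ⟨U, hU⟩).symm

theorem FCx_germ_iff [IsClosedImmersion f] {U : X.Opens} (hU : IsAffineOpen U)
    (x : X) (hx : x ∈ U) (t : Y) (h : f t = x) :
    FCx g x ((RingHom.ker (f.app U).hom).map (X.presheaf.germ U x hx).hom) ↔
      FCx g (f t) (RingHom.ker (f.stalkMap t).hom) := by
  subst h
  haveI : IsClosedImmersion (f ∣_ U) := inferInstance
  rw [← RegStalk.ker_stalkMap_eq_map_ker' f hU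
      (RegStalk.isAffineOpen_preimage_of_isClosedImmersion_restrict f hU)
      (RegStalk.app_surjective_of_isClosedImmersion_restrict f hU) t hx]

theorem germIdeal_ne_top [IsClosedImmersion f] {U : X.Opens} (hU : IsAffineOpen U)
    (x : X) (hx : x ∈ U) (t : Y) (h : f t = x) :
    (RingHom.ker (f.app U).hom).map (X.presheaf.germ U x hx).hom ≠ ⊤ := by
  subst h
  haveI : IsClosedImmersion (f ∣_ U) := inferInstance
  rw [← RegStalk.ker_stalkMap_eq_map_ker' f hU
      (RegStalk.isAffineOpen_preimage_of_isClosedImmersion_restrict f hU)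
      (RegStalk.app_surjective_of_isClosedImmersion_restrict f hU) t hx]
  exact RingHom.ker_ne_top _

end Single

section Transfer

variable {P U S P' U' S' : Scheme.{u}} (φ : P ⟶ S) (j : U ⟶ P) (h : S' ⟶ S) (gP : P' ⟶ P)
  (φ' : P' ⟶ S') (gU : U' ⟶ U) (j' : U' ⟶ P')

theorem germIdeal_baseChange (sqU : IsPullback gU j' j gP) [IsClosedImmersion j]
    {U₁ : P.Opens} (hU₁ : IsAffineOpen U₁) {U₁' : P'.Opens} (hU₁' : IsAffineOpen U₁')
    (hle : U₁' ≤ gP ⁻¹ᵁ U₁) (x' : P') (hx' : x' ∈ U₁') (hgx : gP x' ∈ U₁) :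
    (RingHom.ker (j'.app U₁').hom).map (P'.presheaf.germ U₁' x' hx').hom =
      ((RingHom.ker (j.app U₁).hom).map (P.presheaf.germ U₁ (gP x') hgx).hom).map
        (gP.stalkMap x').hom := by
  haveI : IsClosedImmersion (j ∣_ U₁) := inferInstance
  have hiU₁ := RegStalk.isAffineOpen_preimage_of_isClosedImmersion_restrict j hU₁
  have hs := RegStalk.app_surjective_of_isClosedImmersion_restrict j hU₁
  have hcat : gP.appLE U₁ U₁' hle ≫ P'.presheaf.germ U₁' x' hx' =
      P.presheaf.germ U₁ (gP x') hgx ≫ gP.stalkMap x' := by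
    rw [Scheme.Hom.germ_stalkMap, Scheme.Hom.appLE, Category.assoc, TopCat.Presheaf.germ_res]
  rw [RegBC.ker_app_of_isPullback sqU hU₁ hiU₁ hs hU₁' hle, Ideal.map_map, Ideal.map_map]
  congr 1
  exact congrArg CommRingCat.Hom.hom hcat

set_option maxHeartbeats 1600000 in
theorem transfer_aux (sqU : IsPullback gU j' j gP) [LocallyOfFiniteType φ]
    [LocallyOfFiniteType φ'] [IsClosedImmersion j] [IsClosedImmersion j']
    [LocallyOfFinitePresentation j] [Flat (j ≫ φ)]
    (x' : P') (x₁ : P) (heq : x₁ = gP x')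
    {F F' : CommRingCat.{u}} [Nontrivial F']
    (π : P.presheaf.stalk x₁ ⟶ F) (π' : P'.presheaf.stalk x' ⟶ F') (θ₀ : F ⟶ F')
    (hπs : Function.Surjective π.hom) (hπk : RingHom.ker π.hom = fibIdeal φ x₁)
    (hπ's : Function.Surjective π'.hom) (hπ'k : RingHom.ker π'.hom = fibIdeal φ' x')
    (hθ : θ₀.hom.Flat) [IsLocalHom θ₀.hom]
    (hcomm : ((P.presheaf.stalkCongr (.of_eq heq)).hom ≫ gP.stalkMap x') ≫ π' = π ≫ θ₀)
    {U₁ : P.Opens} (hU₁ : IsAffineOpen U₁) {U₁' : P'.Opens} (hU₁' : IsAffineOpen U₁')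
    (hle : U₁' ≤ gP ⁻¹ᵁ U₁) (hx' : x' ∈ U₁') (hx₁ : x₁ ∈ U₁)
    (t' : U') (ht' : j' t' = x') (t : U) (ht : j t = x₁) :
    FCx φ' x' ((RingHom.ker (j'.app U₁').hom).map (P'.presheaf.germ U₁' x' hx').hom) ↔
      FCx φ x₁ ((RingHom.ker (j.app U₁).hom).map (P.presheaf.germ U₁ x₁ hx₁).hom) := by
  let γ : P.presheaf.stalk x₁ ⟶ P'.presheaf.stalk x' :=
    (P.presheaf.stalkCongr (.of_eq heq)).hom ≫ gP.stalkMap x'
  have hcomm' : π'.hom.comp γ.hom = θ₀.hom.comp π.hom :=
    congrArg CommRingCat.Hom.hom hcomm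
  obtain ⟨hle𝔣, hfl, hloc⟩ := quotientMap_flat π.hom hπs π'.hom hπ's θ₀.hom hθ γ.hom hcomm'
    (fibIdeal φ x₁) hπk (fibIdeal φ' x') hπ'k
  -- the ideals
  have hI' : (RingHom.ker (j'.app U₁').hom).map (P'.presheaf.germ U₁' x' hx').hom =
      ((RingHom.ker (j.app U₁).hom).map (P.presheaf.germ U₁ x₁ hx₁).hom).map γ.hom := by
    have hgx : gP x' ∈ U₁ := hle hx'
    rw [germIdeal_baseChange j gP gU j' sqU hU₁ hU₁' hle x' hx' hgx, Ideal.map_map,
      Ideal.map_map]
    congr 1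
    have h1 : P.presheaf.germ U₁ x₁ hx₁ ≫ (P.presheaf.stalkCongr (.of_eq heq)).hom =
        P.presheaf.germ U₁ (gP x') hgx := by
      rw [TopCat.Presheaf.stalkCongr_hom]
      exact TopCat.Presheaf.germ_stalkSpecializes _ _ _
    have h2 : P.presheaf.germ U₁ x₁ hx₁ ≫ γ =
        P.presheaf.germ U₁ (gP x') hgx ≫ gP.stalkMap x' := by
      rw [← h1, Category.assoc]
    exact (congrArg CommRingCat.Hom.hom h2).symm
  letI algA : Algebra (S.presheaf.stalk (φ x₁)) (P.presheaf.stalk x₁) :=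
    (φ.stalkMap x₁).hom.toAlgebra
  haveI hflatI : Module.Flat (S.presheaf.stalk (φ x₁))
      (P.presheaf.stalk x₁ ⧸
        (RingHom.ker (j.app U₁).hom).map (P.presheaf.germ U₁ x₁ hx₁).hom) :=
    FibReg.flat_quot_map_germ φ j hU₁ x₁ hx₁ t ht
  haveI : IsNoetherianRing (P.presheaf.stalk x₁ ⧸
      (IsLocalRing.maximalIdeal (S.presheaf.stalk (φ x₁))).map
        (algebraMap (S.presheaf.stalk (φ x₁)) (P.presheaf.stalk x₁))) :=
    RelRegReg.isNoetherianRing_fibreQuot φ x₁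
  haveI : IsNoetherianRing (P'.presheaf.stalk x' ⧸ fibIdeal φ' x') :=
    RelRegReg.isNoetherianRing_fibreQuot φ' x'
  have hIfg : ((RingHom.ker (j.app U₁).hom).map (P.presheaf.germ U₁ x₁ hx₁).hom).FG :=
    (FibReg.ker_app_fg j hU₁).map _
  have h𝔣' : fibIdeal φ' x' ≠ ⊤ := by
    rw [← hπ'k]
    exact RingHom.ker_ne_top _
  have hI'top : ((RingHom.ker (j.app U₁).hom).map (P.presheaf.germ U₁ x₁ hx₁).hom).map γ.hom
      ≠ ⊤ := by
    rw [← hI']
    exact germIdeal_ne_top j' hU₁' x' hx' t' ht'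
  constructor
  · rintro ⟨rs', hrs', hreg'⟩
    exact descent_alg (A := S.presheaf.stalk (φ x₁))
      (IsLocalRing.maximalIdeal (S.presheaf.stalk (φ x₁))) (fibIdeal φ' x') h𝔣' γ.hom hle𝔣 hfl
      hloc _ hIfg hI'top rs' (hrs'.trans hI') hreg'
  · rintro ⟨rs, hrs, hreg⟩
    refine ⟨rs.map γ.hom, ?_, ascent_alg (fibIdeal φ x₁) (fibIdeal φ' x') γ.hom hle𝔣 hfl rs hreg⟩
    rw [← Ideal.map_ofList, hrs, hI']

set_option maxHeartbeats 1600000 in
theorem transfer (sqU : IsPullback gU j' j gP) [LocallyOfFiniteType φ]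
    [LocallyOfFiniteType φ'] [IsClosedImmersion j] [IsClosedImmersion j']
    [LocallyOfFinitePresentation j] [Flat (j ≫ φ)]
    (b' : S') (y' : φ'.fiber b') (ψ : φ'.fiber b' ⟶ φ.fiber (h b')) [Flat ψ]
    (hψ : ψ ≫ φ.fiberι (h b') = φ'.fiberι b' ≫ gP)
    {U₁ : P.Opens} (hU₁ : IsAffineOpen U₁) {U₁' : P'.Opens} (hU₁' : IsAffineOpen U₁')
    (hle : U₁' ≤ gP ⁻¹ᵁ U₁) (hx' : φ'.fiberι b' y' ∈ U₁') (hx₁ : φ.fiberι (h b') (ψ y') ∈ U₁)
    (t' : U') (ht' : j' t' = φ'.fiberι b' y') :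
    FCx φ' (φ'.fiberι b' y')
        ((RingHom.ker (j'.app U₁').hom).map (P'.presheaf.germ U₁' _ hx').hom) ↔
      FCx φ (φ.fiberι (h b') (ψ y'))
        ((RingHom.ker (j.app U₁).hom).map (P.presheaf.germ U₁ _ hx₁).hom) := by
  have heq : φ.fiberι (h b') (ψ y') = gP (φ'.fiberι b' y') :=
    congrArg (fun m => m.base y') hψ
  obtain ⟨hπ's, hπ'k⟩ := Groth.Agent.Lib.Helper17.FibreStalkMap.stalkMap_fiberι φ' b' y'
  obtain ⟨hπs, hπk⟩ := Groth.Agent.Lib.Helper17.FibreStalkMap.stalkMap_fiberι φ (h b') (ψ y')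
  have hθ : (ψ.stalkMap y').hom.Flat := Flat.stalkMap ψ y'
  have hcomm : ((P.presheaf.stalkCongr (.of_eq heq)).hom ≫ gP.stalkMap (φ'.fiberι b' y')) ≫
      (φ'.fiberι b').stalkMap y' = (φ.fiberι (h b')).stalkMap (ψ y') ≫ ψ.stalkMap y' := by
    have h1 := Scheme.Hom.stalkMap_congr_hom _ _ hψ y'
    rw [Scheme.Hom.stalkMap_comp, Scheme.Hom.stalkMap_comp] at h1
    rw [Category.assoc]
    exact h1.symm
  have ht : j (gU t') = φ.fiberι (h b') (ψ y') := by
    rw [heq, ← ht']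
    exact congrArg (fun m => m.base t') sqU.w
  exact transfer_aux φ j gP φ' gU j' sqU _ _ heq _ _ _ hπs hπk hπ's hπ'k hθ hcomm hU₁ hU₁' hle
    hx' hx₁ t' ht' (gU t') ht

set_option maxHeartbeats 1600000 in
/-- the fibrewise condition for a closed immersion of `S`-schemes is insensitive to base change -/
theorem core (sqP : IsPullback gP φ' φ h) (sqU : IsPullback gU j' j gP) [LocallyOfFiniteType φ]
    [LocallyOfFiniteType φ'] [IsClosedImmersion j] [IsClosedImmersion j']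
    [LocallyOfFinitePresentation j] [Flat (j ≫ φ)] (u' : U') :
    FCx φ' (j' u') (RingHom.ker (j'.stalkMap u').hom) ↔
      FCx φ (j (gU u')) (RingHom.ker (j.stalkMap (gU u')).hom) := by
  obtain ⟨ψ, hψfl, hψ, -⟩ :=
    Groth.Agent.Lib.Helper16.FlatBC.exists_fiber_comparison φ h gP φ' sqP (φ' (j' u'))
  haveI := hψfl
  have hy' : φ'.fiberι (φ' (j' u')) (φ'.asFiber (j' u')) = j' u' := φ'.fiberι_asFiber (j' u')
  have heq : φ.fiberι (h (φ' (j' u'))) (ψ (φ'.asFiber (j' u'))) =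
      gP (φ'.fiberι (φ' (j' u')) (φ'.asFiber (j' u'))) :=
    congrArg (fun m => m.base (φ'.asFiber (j' u'))) hψ
  obtain ⟨_, ⟨U₁, hU₁, rfl⟩, hx₁U, -⟩ := P.isBasis_affineOpens.exists_subset_of_mem_open
    (Set.mem_univ (φ.fiberι (h (φ' (j' u'))) (ψ (φ'.asFiber (j' u'))))) isOpen_univ
  have hmem : φ'.fiberι (φ' (j' u')) (φ'.asFiber (j' u')) ∈ gP ⁻¹ᵁ U₁ := by
    show gP (φ'.fiberι (φ' (j' u')) (φ'.asFiber (j' u'))) ∈ U₁
    rw [← heq]
    exact hx₁U
  obtain ⟨_, ⟨U₁', hU₁', rfl⟩, hx'U, hle⟩ :=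
    P'.isBasis_affineOpens.exists_subset_of_mem_open hmem (gP ⁻¹ᵁ U₁).2
  have hle' : U₁' ≤ gP ⁻¹ᵁ U₁ := hle
  have key := transfer φ j h gP φ' gU j' sqU (φ' (j' u')) (φ'.asFiber (j' u')) ψ hψ hU₁ hU₁'
    hle' hx'U hx₁U u' hy'.symm
  have e₁ : j (gU u') = φ.fiberι (h (φ' (j' u'))) (ψ (φ'.asFiber (j' u'))) := by
    rw [heq, hy']
    exact congrArg (fun m => m.base u') sqU.w
  rw [FCx_germ_iff φ' j' hU₁' _ hx'U u' hy'.symm, FCx_germ_iff φ j hU₁ _ hx₁U (gU u') e₁] at key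
  exact key

end Transfer

end Groth.Agent.Lib.Helper9.KLoc
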