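import Mathlib
import Groth.Agent.Lib.Helper9.KLocFC
import Groth.Agent.Lib.Helper24.KoszulSynt
import Groth.Agent.Lib.Helper1.LciLocal
import Groth.Agent.Lib.Helper1.SmDesc3
import Groth.Agent.Lib.Helper1.KDesc12
import Groth.Agent.Lib.Helper14.LCF.FibreRing

/-!
# The Koszul locus of a morphism of flat, locally finitely presented schemes commutes with base
change (helper9)

* `inK_iff`: the affine-local form of "Koszul at `x`" (an affine chart around `x` with lci ring map)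
  agrees with the factorisation form `Synt.IsKoszulAt`.
* `chart_iff`: for a chart `U ⟶ P ⟶ Y` (closed immersion, smooth) of `f : X ⟶ Y` over `S`, with `X`,
  `Y` flat and locally of finite presentation over `S`, `f` is Koszul at `u ∈ U` iff the ideal of
  `U` in `P` at `u` satisfies the fibrewise condition `FCx`.
* `main_iff`: `f'` (the base change of `f` along `S' ⟶ S`) is Koszul at `x'` iff `f` is Koszul at
  the image of `x'`.
-/

set_option autoImplicit false
set_option linter.style.haveILetI false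
universe u
open CategoryTheory CategoryTheory.Limits AlgebraicGeometry TopologicalSpace Opposite

namespace Groth.Agent.Lib.Helper9.KLoc

open Groth.Agent.Lib.Helper1 Groth.Agent.Lib.Helper22 Groth.Agent.Lib.Helper24
open Groth.Agent.Lib.Helper14

section Bridge

variable {X Y : Scheme.{u}} (f : X ⟶ Y)

/-- the affine-local form of "Koszul at `x`" -/
def InK (x : X) : Prop :=
  ∃ (U : X.Opens) (V : Y.Opens) (hU : IsAffineOpen U) (hV : IsAffineOpen V)
    (hUV : U ≤ f ⁻¹ᵁ V), x ∈ U ∧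
    letI := (f.appLE V U hUV).hom.toAlgebra
    LCI.IsLCI Γ(Y, V) Γ(X, U)

set_option maxHeartbeats 800000 in
theorem isLCI_of_forall_mem_isKoszulAt [LocallyOfFiniteType f] {U : X.Opens} {V : Y.Opens}
    (hU : IsAffineOpen U) (hV : IsAffineOpen V) (e : U ≤ f ⁻¹ᵁ V)
    (hf : ∀ x ∈ U, Synt.IsKoszulAt f x) :
    letI := (f.appLE V U e).hom.toAlgebra
    LCI.IsLCI Γ(Y, V) Γ(X, U) := by
  letI alg : Algebra Γ(Y, V) Γ(X, U) := (f.appLE V U e).hom.toAlgebra
  change LCI.IsLCI Γ(Y, V) Γ(X, U)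
  haveI hft : Algebra.FiniteType Γ(Y, V) Γ(X, U) :=
    HasRingHomProperty.appLE (P := @LocallyOfFiniteType) f inferInstance ⟨V, hV⟩ ⟨U, hU⟩ e
  obtain ⟨n, ψ, hψ⟩ := Algebra.FiniteType.iff_quotient_mvPolynomial''.mp hft
  let ψ' : CommRingCat.of (MvPolynomial (Fin n) Γ(Y, V)) ⟶ Γ(X, U) :=
    CommRingCat.ofHom ψ.toRingHom
  have hcomp : CommRingCat.ofHom (algebraMap Γ(Y, V) (MvPolynomial (Fin n) Γ(Y, V))) ≫ ψ' =
      f.appLE V U e := by
    ext a
    exact ψ.commutes a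
  haveI : IsClosedImmersion (Spec.map ψ') := IsClosedImmersion.spec_of_surjective ψ' hψ
  haveI hsm := KoszulSynt.smooth_chart hV n
  have hjπ := KoszulSynt.chart_comm f hU hV e n ψ' hcomp
  have hfU : ∀ u : (U : Scheme.{u}), Synt.IsKoszulAt (U.ι ≫ f) u := fun u =>
    LciComp.isKoszulAt_comp U.ι f u (KDesc.isKoszulAt_of_smooth U.ι u)
      (hf (U.ι u) (show (U.ι u : X) ∈ U from u.2))
  haveI : IsImmersion (hU.isoSpec.hom ≫ Spec.map ψ') := inferInstance
  have hj : RegImm.IsRegularImmersion .koszul (hU.isoSpec.hom ≫ Spec.map ψ') :=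
    SmDesc.isRegularImmersion_of_isKoszulAt (U.ι ≫ f) hfU _ _ hjπ
  have hreg : RegImm.IsRegularImmersion .koszul (Spec.map ψ') := by
    have h1 := LciComp.isRegularImmersion_comp _ _ hj
      (RegMore.isRegularImmersion_of_isIso hU.isoSpec.inv)
    rwa [Iso.inv_hom_id_assoc] at h1
  exact ⟨hft, n, ψ, hψ,
    KoszulSynt.isKoszulRegularIdeal_ker_of_isRegularImmersion_SpecMap ψ' hψ hreg⟩

theorem inK_iff [LocallyOfFiniteType f] (x : X) : InK f x ↔ Synt.IsKoszulAt f x := by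
  constructor
  · rintro ⟨U, V, hU, hV, hUV, hx, h⟩
    exact KoszulSynt.isKoszulAt_of_isLCI f x hU hV hUV hx h
  · intro hf
    obtain ⟨U₀, P, ι, π, hxU₀, hft, hι, hπ, hcomp⟩ := hf
    have hall : ∀ z ∈ U₀, Synt.IsKoszulAt f z :=
      fun z hz => ⟨U₀, P, ι, π, hz, hft, hι, hπ, hcomp⟩
    obtain ⟨_, ⟨V, hV, rfl⟩, hxV, -⟩ := Y.isBasis_affineOpens.exists_subset_of_mem_open
      (Set.mem_univ (f x)) isOpen_univ
    obtain ⟨_, ⟨U, hU, rfl⟩, hxU, hUle⟩ := X.isBasis_affineOpens.exists_subset_of_mem_open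
      (show x ∈ ((U₀ ⊓ f ⁻¹ᵁ V : X.Opens) : Set X) from ⟨hxU₀, hxV⟩) (U₀ ⊓ f ⁻¹ᵁ V).2
    have hUV : U ≤ f ⁻¹ᵁ V := fun z hz => (hUle hz).2
    exact ⟨U, V, hU, hV, hUV, hxU,
      isLCI_of_forall_mem_isKoszulAt f hU hV hUV (fun z hz => hall z (hUle hz).1)⟩

end Bridge

section Pointwise

theorem isRegularImmersionAt_of_isKoszulAt {X Y Z : Scheme.{u}} (f : X ⟶ Y) (x : X)
    (hf : Synt.IsKoszulAt f x) (p : Z ⟶ Y) [Smooth p] (i : X ⟶ Z) [IsImmersion i]
    (h : i ≫ p = f) : RegImm.IsRegularImmersionAt .koszul i x := by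
  obtain ⟨U, P, ι, π, hxU, -, hι, hπ, hcomp⟩ := hf
  haveI := hπ
  haveI := hι.1
  have hw : ι ≫ π = (U.ι ≫ i) ≫ p := by rw [Category.assoc, h, hcomp]
  let k : (U : Scheme.{u}) ⟶ pullback π p := pullback.lift ι (U.ι ≫ i) hw
  have hk1 : k ≫ pullback.fst π p = ι := pullback.lift_fst _ _ _
  have hk2 : k ≫ pullback.snd π p = U.ι ≫ i := pullback.lift_snd _ _ _
  have hk : RegImm.IsRegularImmersion .koszul k := by
    apply SmDesc.isRegularImmersion_of_comp_smooth k (pullback.fst π p)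
    rw [hk1]
    exact hι
  haveI : IsImmersion (k ≫ pullback.snd π p) := by rw [hk2]; infer_instance
  have h2 := SmDesc.isRegularImmersion_comp_smooth k (pullback.snd π p) hk
  rw [hk2] at h2
  exact SmDesc.isRegularImmersionAt_of_restrict i U x hxU (h2.2 ⟨x, hxU⟩)

end Pointwise

section Chart

variable {X Y S : Scheme.{u}} (f : X ⟶ Y) (g : Y ⟶ S)

set_option maxHeartbeats 800000 in
theorem chart_iff [Flat (f ≫ g)] [LocallyOfFinitePresentation (f ≫ g)] [Flat g]
    [LocallyOfFinitePresentation g] (U : X.Opens) {P : Scheme.{u}} (j : (U : Scheme.{u}) ⟶ P)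
    (π : P ⟶ Y) [IsClosedImmersion j] [Smooth π] (hjπ : j ≫ π = U.ι ≫ f)
    (u : (U : Scheme.{u})) :
    Synt.IsKoszulAt f (U.ι u) ↔ FCx (π ≫ g) (j u) (RingHom.ker (j.stalkMap u).hom) := by
  haveI : LocallyOfFiniteType f := locallyOfFiniteType_of_comp f g
  have hcomp : j ≫ π ≫ g = U.ι ≫ f ≫ g := by rw [← Category.assoc, hjπ, Category.assoc]
  haveI : Flat (j ≫ π ≫ g) := by rw [hcomp]; infer_instance
  haveI : LocallyOfFinitePresentation (j ≫ π ≫ g) := by rw [hcomp]; infer_instance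
  haveI : LocallyOfFinitePresentation j := LCF.locallyOfFinitePresentation_of_comp j (π ≫ g)
  constructor
  · intro hk
    have h1 : Synt.IsKoszulAt (U.ι ≫ f) u := LciLocal.isKoszulAt_isOpenImmersion_comp U.ι f u hk
    have h2 := isRegularImmersionAt_of_isKoszulAt (U.ι ≫ f) u h1 π j hjπ
    exact FC_of_koszulAt (π ≫ g) j u h2
  · intro hfc
    obtain ⟨V, huV, hreg⟩ := near_of_FC (π ≫ g) j u hfc
    have hreg' := isRegularImmersion_of_regularClosed _ hreg
    apply LciLocal.isKoszulAt_of_isOpenImmersion_comp U.ι f u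
    refine ⟨j ⁻¹ᵁ V, V, j ∣_ V, V.ι ≫ π, huV, inferInstance, hreg', inferInstance, ?_⟩
    rw [← Category.assoc, morphismRestrict_ι, Category.assoc, hjπ]

end Chart

section Main

set_option maxHeartbeats 1600000 in
theorem main_iff {X Y S X' Y' S' : Scheme.{u}} (f : X ⟶ Y) (g : Y ⟶ S)
    [Flat (f ≫ g)] [LocallyOfFinitePresentation (f ≫ g)] [Flat g]
    [LocallyOfFinitePresentation g]
    (h : S' ⟶ S) (gY : Y' ⟶ Y) (g' : Y' ⟶ S') (hY : IsPullback gY g' g h)
    (gX : X' ⟶ X) (f' : X' ⟶ Y') (hX : IsPullback gX (f' ≫ g') (f ≫ g) h)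
    (w : gX ≫ f = f' ≫ gY) (x' : X') :
    Synt.IsKoszulAt f' x' ↔ Synt.IsKoszulAt f (gX x') := by
  haveI : LocallyOfFiniteType f := locallyOfFiniteType_of_comp f g
  have hXY : IsPullback gX f' f gY := (IsPullback.of_right hX.flip w.symm hY.flip).flip
  haveI : Flat g' := MorphismProperty.of_isPullback (P := @Flat) hY inferInstance
  haveI : LocallyOfFinitePresentation g' :=
    MorphismProperty.of_isPullback (P := @LocallyOfFinitePresentation) hY inferInstance
  haveI : Flat (f' ≫ g') := MorphismProperty.of_isPullback (P := @Flat) hX inferInstance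
  haveI : LocallyOfFinitePresentation (f' ≫ g') :=
    MorphismProperty.of_isPullback (P := @LocallyOfFinitePresentation) hX inferInstance
  obtain ⟨U, P, j, π, hxU, hjcl, hπ, hjπ⟩ := KDesc.exists_closedImmersion_smooth f (gX x')
  haveI := hjcl
  haveI := hπ
  have h1 : IsPullback (gX ∣_ U) (gX ⁻¹ᵁ U).ι U.ι gX := isPullback_morphismRestrict gX U
  have h2 : IsPullback (gX ∣_ U) ((gX ⁻¹ᵁ U).ι ≫ f') (U.ι ≫ f) gY := h1.paste_vert hXY
  have h3 : IsPullback (pullback.fst π gY) (pullback.snd π gY) π gY :=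
    IsPullback.of_hasPullback π gY
  have hw : ((gX ∣_ U) ≫ j) ≫ π = ((gX ⁻¹ᵁ U).ι ≫ f') ≫ gY := by
    rw [Category.assoc, hjπ, h2.w]
  let j' : ((gX ⁻¹ᵁ U : X'.Opens) : Scheme.{u}) ⟶ pullback π gY :=
    pullback.lift ((gX ∣_ U) ≫ j) ((gX ⁻¹ᵁ U).ι ≫ f') hw
  have hj'1 : j' ≫ pullback.fst π gY = (gX ∣_ U) ≫ j := pullback.lift_fst _ _ _
  have hj'2 : j' ≫ pullback.snd π gY = (gX ⁻¹ᵁ U).ι ≫ f' := pullback.lift_snd _ _ _
  have h4 : IsPullback (gX ∣_ U) j' j (pullback.fst π gY) := by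
    refine IsPullback.of_bot ?_ hj'1.symm h3
    rw [hj'2, hjπ]
    exact h2
  have sqP : IsPullback (pullback.fst π gY) (pullback.snd π gY ≫ g') (π ≫ g) h :=
    h3.paste_vert hY
  haveI : IsClosedImmersion j' :=
    MorphismProperty.of_isPullback (P := @IsClosedImmersion) h4 inferInstance
  haveI : Smooth (pullback.snd π gY) := MorphismProperty.of_isPullback (P := @Smooth) h3 hπ
  have hcomp : j ≫ π ≫ g = U.ι ≫ f ≫ g := by rw [← Category.assoc, hjπ, Category.assoc]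
  haveI : Flat (j ≫ π ≫ g) := by rw [hcomp]; infer_instance
  haveI : LocallyOfFinitePresentation (j ≫ π ≫ g) := by rw [hcomp]; infer_instance
  haveI : LocallyOfFinitePresentation j := LCF.locallyOfFinitePresentation_of_comp j (π ≫ g)
  let u' : ((gX ⁻¹ᵁ U : X'.Opens) : Scheme.{u}) := ⟨x', hxU⟩
  have c1 := chart_iff f' g' (gX ⁻¹ᵁ U) j' (pullback.snd π gY) hj'2 u'
  have c2 := chart_iff f g U j π hjπ ((gX ∣_ U) u')
  have c3 := core (π ≫ g) j h (pullback.fst π gY) (pullback.snd π gY ≫ g') (gX ∣_ U) j' sqP h4 u'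
  have e1 : (gX ⁻¹ᵁ U).ι u' = x' := rfl
  have e2 : U.ι ((gX ∣_ U) u') = gX x' := by
    have := congrArg (fun m => m.base u') (morphismRestrict_ι gX U)
    exact this
  rw [e1] at c1
  rw [e2] at c2
  exact c1.trans (c3.trans c2.symm)

end Main

end Groth.Agent.Lib.Helper9.KLoc
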