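import Groth.Agent.Lib.Helper9.LciFl
import Groth.Agent.Lib.Helper9.KLocChart
import Groth.Agent.Lib.Helper16.WhereEngine
import Groth.Agent.Lib.Helper16.FlatBC2

/-!
# Helper library (helper9): "Koszul at a point" for morphisms of algebraic spaces
(`AlgSp.LocPNear AlgSp.lci`) can be tested on one chart diagram; openness; base change.
-/

set_option autoImplicit false
set_option linter.style.haveILetI false
set_option backward.isDefEq.respectTransparency.types false
universe u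
open CategoryTheory CategoryTheory.Limits AlgebraicGeometry

namespace Groth.Agent.Lib.Helper9.KNear

open AlgSp Groth.Agent.Lib.Helper16 Groth.Agent.Lib.Helper15 Groth.Agent.Lib.Helper1
open Groth.Agent.Lib.Helper16.DimF Groth.Agent.Lib.Helper16.FlatBC

section Sch

theorem exists_open_of_isKoszulAt {A B : Scheme.{u}} (g : A ⟶ B) (w : A)
    (h : Synt.IsKoszulAt g w) : ∃ T : A.Opens, w ∈ T ∧ ∀ t ∈ T, Synt.IsKoszulAt g t := by
  obtain ⟨U, P, i, π, hxU, hft, hi, hπ, hcomp⟩ := h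
  exact ⟨U, hxU, fun t ht => ⟨U, P, i, π, ht, hft, hi, hπ, hcomp⟩⟩

theorem isOpen_setOf_isKoszulAt {A B : Scheme.{u}} (g : A ⟶ B) :
    IsOpen {w : A | Synt.IsKoszulAt g w} := by
  rw [isOpen_iff_forall_mem_open]
  intro w hw
  obtain ⟨T, hwT, hT⟩ := exists_open_of_isKoszulAt g w hw
  exact ⟨T, fun t ht => hT t ht, T.2, hwT⟩

/-- pointwise descent of "Koszul at a point" along an etale morphism of the source -/
theorem isKoszulAt_of_etale_comp {A' A B : Scheme.{u}} (e : A' ⟶ A) [Etale e] (h : A ⟶ B) (w : A')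
    (H : Synt.IsKoszulAt (e ≫ h) w) : Synt.IsKoszulAt h (e w) := by
  obtain ⟨T, hwT, hT⟩ := exists_open_of_isKoszulAt _ w H
  let A₁ : A.Opens := ⟨e '' (T : Set A'), e.isOpenMap _ T.2⟩
  have hrange : Set.range (T.ι ≫ e) ⊆ Set.range A₁.ι := by
    rw [Scheme.Opens.range_ι]
    rintro _ ⟨t, rfl⟩
    exact ⟨t.1, t.2, rfl⟩
  let e₁ : (T : Scheme.{u}) ⟶ (A₁ : Scheme.{u}) := IsOpenImmersion.lift A₁.ι (T.ι ≫ e) hrange
  have he₁ : e₁ ≫ A₁.ι = T.ι ≫ e := IsOpenImmersion.lift_fac _ _ _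
  haveI : Etale (e₁ ≫ A₁.ι) := by rw [he₁]; infer_instance
  haveI : Etale e₁ := Etale.of_comp e₁ A₁.ι
  haveI : Surjective e₁ := by
    refine ⟨fun y => ?_⟩
    obtain ⟨t, ht, hty⟩ := y.2
    refine ⟨⟨t, ht⟩, Subtype.ext ?_⟩
    have := congrArg (fun k => k.base ⟨t, ht⟩) he₁
    simp only [Scheme.Hom.comp_base, TopCat.hom_comp, ContinuousMap.comp_apply] at this
    exact this.trans hty
  have hl : lci (e₁ ≫ (A₁.ι ≫ h)) := by
    intro t
    rw [← Category.assoc, he₁, Category.assoc]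
    exact LciLocal.isKoszulAt_isOpenImmersion_comp T.ι (e ≫ h) t (hT _ t.2)
  have h2 : lci (A₁.ι ≫ h) := LciFl.lci_ofCover' e₁ (A₁.ι ≫ h) inferInstance inferInstance hl
  have h3 := h2 ⟨e w, ⟨w, hwT, rfl⟩⟩
  exact LciLocal.isKoszulAt_of_isOpenImmersion_comp A₁.ι h ⟨e w, ⟨w, hwT, rfl⟩⟩ h3

/-- "Koszul at a point" is invariant under etale changes of source and target. -/
theorem koszulAt_square {W W' U V : Scheme.{u}} (p : W ⟶ U) (g : W ⟶ W') (π : W' ⟶ V) (h : U ⟶ V)
    [Etale p] [Etale π] (comm : g ≫ π = p ≫ h) (w : W) :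
    Synt.IsKoszulAt g w ↔ Synt.IsKoszulAt h (p w) := by
  haveI : Smooth π := inferInstance
  haveI : Smooth p := inferInstance
  constructor
  · intro hg
    have h1 : Synt.IsKoszulAt (g ≫ π) w :=
      LciComp.isKoszulAt_comp g π w hg (KDesc.isKoszulAt_of_smooth π _)
    rw [comm] at h1
    exact isKoszulAt_of_etale_comp p h w h1
  · intro hh
    have h1 : Synt.IsKoszulAt (p ≫ h) w :=
      LciComp.isKoszulAt_comp p h w (KDesc.isKoszulAt_of_smooth p w) hh
    rw [← comm] at h1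
    exact LciLocal.isKoszulAt_of_comp_smooth g π w h1

end Sch

variable {S : Scheme.{u}}

/-- chart independence of "Koszul at a point" -/
theorem koszulAt_transfer {X Y : Sp S} (f : X ⟶ Y) {U V U₁ V₁ : Over S}
    (a : (yon S).obj U ⟶ X) (b : (yon S).obj V ⟶ Y) (h : U ⟶ V)
    (a₁ : (yon S).obj U₁ ⟶ X) (b₁ : (yon S).obj V₁ ⟶ Y) (m : U₁ ⟶ V₁)
    (ha : RepWith @Etale a) (hb : RepWith @Etale b) (ha₁ : RepWith @Etale a₁)
    (hb₁ : RepWith @Etale b₁)
    (hc : a ≫ f = (yon S).map h ≫ b) (hc₁ : a₁ ≫ f = (yon S).map m ≫ b₁)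
    (u : ↥U.left) (u₁ : ↥U₁.left) (hu : Points.ofPt a u = Points.ofPt a₁ u₁) :
    Synt.IsKoszulAt h.left u ↔ Synt.IsKoszulAt m.left u₁ := by
  have key := quantity_transfer (α := Prop) (fun _ _ g w => Synt.IsKoszulAt g w)
    (fun p g π h _ _ comm w => propext (koszulAt_square p g π h comm w)) f a b h a₁ b₁ m
    ha hb ha₁ hb₁ hc hc₁ u u₁ hu
  exact iff_of_eq key

/-- "Koszul at the point" can be tested on any chart diagram through the point. -/
theorem locPNear_lci_iff {X Y : Sp S} (f : X ⟶ Y) {U V : Over S}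
    (a : (yon S).obj U ⟶ X) (b : (yon S).obj V ⟶ Y) (h : U ⟶ V)
    (ha : RepWith @Etale a) (hb : RepWith @Etale b) (hc : a ≫ f = (yon S).map h ≫ b)
    (u : ↥U.left) :
    LocPNear lci f (Points.ofPt a u) ↔ Synt.IsKoszulAt h.left u := by
  constructor
  · rintro ⟨W, j, hj, ⟨w, hw⟩, hjf⟩
    obtain ⟨UW, i, aW₀, sq⟩ := hj.rep a
    have hio : IsOpenImmersion i.left := hj.property _ _ _ sq
    have haW : RepWith @Etale aW₀ := (RepWith @Etale).of_isPullback sq.flip ha
    obtain ⟨uW, huW1, huW2⟩ := exists_point_of_isPullback_yon sq w u hw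
    have hcW : aW₀ ≫ j ≫ f = (yon S).map (i ≫ h) ≫ b := by
      rw [← Category.assoc, sq.w, Category.assoc, hc, Functor.map_comp, Category.assoc]
    have h1 : lci (i ≫ h).left := hjf aW₀ b (i ≫ h) haW hb hcW
    have h2 := h1 uW
    rw [Over.comp_left] at h2
    have h3 := LciLocal.isKoszulAt_of_isOpenImmersion_comp i.left h.left uW h2
    rwa [huW2] at h3
  · intro hk
    obtain ⟨T, huT, hT⟩ := exists_open_of_isKoszulAt _ u hk
    set A : Set (Points X) := Points.ofPt a '' (T : Set U.left) with hA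
    have hAo : IsOpen A := isOpenMap_ofPt_of_etale a ha _ T.2
    have hι := repWith_isOpenImmersion_openSubι A hAo
    refine ⟨openSub X A, openSubι X A, hι, ?_, ?_⟩
    · rw [range_map_openSubι]; exact ⟨u, huT, rfl⟩
    · intro U' V' a' b' h' ha' hb' hc' u'
      have ha'' : RepWith @Etale (a' ≫ openSubι X A) :=
        isEtaleMor_of_isOpenImmersion _ hι a' ha'
      have hc'' : (a' ≫ openSubι X A) ≫ f = (yon S).map h' ≫ b' := by
        rw [Category.assoc]; exact hc'
      have hmem : Points.ofPt (a' ≫ openSubι X A) u' ∈ A := by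
        have h0 : Points.map (openSubι X A) (Points.ofPt a' u') ∈
            Set.range (Points.map (openSubι X A)) := ⟨_, rfl⟩
        rw [range_map_openSubι A, Points.map_ofPt] at h0
        exact h0
      obtain ⟨t, htT, ht⟩ := hmem
      exact (koszulAt_transfer f _ b' h' a b h ha'' hb' ha hb hc'' hc u' t ht.symm).2 (hT t htT)

/-- A morphism of algebraic spaces is a local complete intersection morphism iff it is Koszul at every point. -/
theorem locP_lci_iff_forall {X Y : Sp S} (hX : IsAlgSpace X) (hY : IsAlgSpace Y) (f : X ⟶ Y) :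
    LocP lci f ↔ ∀ x : Points X, LocPNear lci f x := by
  constructor
  · intro H x
    obtain ⟨V₀, b₀, hb₀e, hb₀s⟩ := hY.atlas
    obtain ⟨U₀, a₀, ha₀e, ha₀s⟩ := hX.atlas
    obtain ⟨U, m, cU, hae, hac, -, -, has⟩ := exists_chart_diagram f b₀ hb₀e a₀ ha₀e
    obtain ⟨u, rfl⟩ := ofPt_surjective_of_surjective _ (has hb₀s ha₀s) x
    exact (locPNear_lci_iff f _ b₀ m hae hb₀e hac u).2 (H _ b₀ m hae hb₀e hac u)
  · intro H U V a b h ha hb hc u
    exact (locPNear_lci_iff f a b h ha hb hc u).1 (H _)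

/-- The Koszul locus of a morphism of algebraic spaces is open. -/
theorem isOpen_locPNear_lci {X Y : Sp S} (hX : IsAlgSpace X) (hY : IsAlgSpace Y) (f : X ⟶ Y) :
    IsOpen {x : Points X | LocPNear lci f x} := by
  obtain ⟨V₀, b₀, hb₀e, hb₀s⟩ := hY.atlas
  obtain ⟨U₀, a₀, ha₀e, ha₀s⟩ := hX.atlas
  obtain ⟨U, m, cU, hae, hac, -, -, has⟩ := exists_chart_diagram f b₀ hb₀e a₀ ha₀e
  have has' := has hb₀s ha₀s
  have hset : {x : Points X | LocPNear lci f x} =
      Points.ofPt ((yon S).map cU ≫ a₀) '' {u : ↥U.left | Synt.IsKoszulAt m.left u} := by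
    ext x
    constructor
    · intro hx
      obtain ⟨u, rfl⟩ := ofPt_surjective_of_surjective _ has' x
      exact ⟨u, (locPNear_lci_iff f _ b₀ m hae hb₀e hac u).1 hx, rfl⟩
    · rintro ⟨u, hu, rfl⟩
      exact (locPNear_lci_iff f _ b₀ m hae hb₀e hac u).2 hu
  rw [hset]
  exact isOpenMap_ofPt_of_etale _ hae _ (isOpen_setOf_isKoszulAt m.left)

/-- The Koszul locus commutes with base change (relative setting: `X`, `Y` flat and locally of finite
presentation over `Z`, arbitrary base change `Z' ⟶ Z`). -/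
theorem koszulLocus_baseChange {X Y Z : AlgSp.Space S} (f : X ⟶ Y) (q : Y ⟶ Z)
    (hp1 : LocP @Flat (f ≫ q).hom) (hp2 : LocP @LocallyOfFinitePresentation (f ≫ q).hom)
    (hq1 : LocP @Flat q.hom) (hq2 : LocP @LocallyOfFinitePresentation q.hom)
    {Z' Y' X' : AlgSp.Space S} (g : Z' ⟶ Z) (gY : Y' ⟶ Y) (q' : Y' ⟶ Z')
    (hY : IsPullback gY.hom q'.hom q.hom g.hom)
    (gX : X' ⟶ X) (f' : X' ⟶ Y') (hX : IsPullback gX.hom f'.hom f.hom gY.hom) :
    {x' | LocPNear lci f'.hom x'} = Points.map gX.hom ⁻¹' {x | LocPNear lci f.hom x} := by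
  obtain ⟨W, c, hce, hcs⟩ := Z.property.atlas
  obtain ⟨V₀, b₀, hb₀e, hb₀s⟩ := Y.property.atlas
  obtain ⟨U₀, a₀, ha₀e, ha₀s⟩ := X.property.atlas
  obtain ⟨V, k, cV, hbe, hbc, -, sqV₀, hbs⟩ := exists_chart_diagram q.hom c hce b₀ hb₀e
  obtain ⟨U, m, cU, hae, hac, -, sqU₀, has⟩ := exists_chart_diagram f.hom _ hbe a₀ ha₀e
  have hbs' := hbs hcs hb₀s
  have has' := has hbs' ha₀s
  have hfh : (f ≫ q).hom = f.hom ≫ q.hom := rfl
  have hacc : ((yon S).map cU ≫ a₀) ≫ (f ≫ q).hom = (yon S).map (m ≫ k) ≫ c := by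
    rw [hfh, ← Category.assoc, hac, Category.assoc, hbc, ← Category.assoc, ← Functor.map_comp]
  have hmk : Flat (m ≫ k).left := hp1 _ c (m ≫ k) hae hce hacc
  haveI hmk' : Flat (m.left ≫ k.left) := by rwa [Over.comp_left] at hmk
  have hmkp : LocallyOfFinitePresentation (m ≫ k).left := hp2 _ c (m ≫ k) hae hce hacc
  haveI hmkp' : LocallyOfFinitePresentation (m.left ≫ k.left) := by rwa [Over.comp_left] at hmkp
  haveI hkf : Flat k.left := hq1 _ c k hbe hce hbc
  haveI hkp : LocallyOfFinitePresentation k.left := hq2 _ c k hbe hce hbc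
  obtain ⟨W'₀, c'₀, hc'₀e, hc'₀s⟩ := Z'.property.atlas
  obtain ⟨W', n, cW', hc'e, hcc, -, -, hc's⟩ := exists_chart_diagram g.hom c hce c'₀ hc'₀e
  have hc's' := hc's hcs hc'₀s
  obtain ⟨b', hb'1, hb'2, hb'e, hb'pt⟩ := chart_baseChange hY c b₀ k cV sqV₀
    ((yon S).map cW' ≫ c'₀) n hcc (pullback.fst k n) (pullback.snd k n)
    (IsPullback.of_hasPullback k n) hb₀e hc'e
  obtain ⟨a', ha'1, ha'2, ha'e, ha'pt⟩ := chart_baseChange hX ((yon S).map cV ≫ b₀) a₀ m cU sqU₀
    b' (pullback.fst k n) hb'1 (pullback.fst m (pullback.fst k n))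
    (pullback.snd m (pullback.fst k n)) (IsPullback.of_hasPullback _ _) ha₀e hb'e
  ext x'
  show LocPNear lci f'.hom x' ↔ LocPNear lci f.hom (Points.map gX.hom x')
  obtain ⟨w', hw'⟩ := ofPt_surjective_of_surjective _ hc's'
    (Points.map q'.hom (Points.map f'.hom x'))
  obtain ⟨v', hv'1, hv'2⟩ := hb'pt hb₀s (Points.map f'.hom x') w' hw'
  obtain ⟨u', hu'1, hu'2⟩ := ha'pt ha₀s x' v' hv'1
  subst hu'1
  have hpt : Points.map gX.hom (Points.ofPt a' u') = Points.ofPt ((yon S).map cU ≫ a₀)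
      ((pullback.fst m (pullback.fst k n)).left u') := by
    rw [Points.map_ofPt, ha'1, ofPt_yon_map_comp]
  rw [hpt, locPNear_lci_iff f.hom _ _ m hae hbe hac,
    locPNear_lci_iff f'.hom a' b' _ ha'e hb'e ha'2 u']
  have sqVs : IsPullback (pullback.fst k n).left (pullback.snd k n).left k.left n.left :=
    (IsPullback.of_hasPullback k n).map (Over.forget S)
  have sqUs : IsPullback (pullback.fst m (pullback.fst k n)).left
      (pullback.snd m (pullback.fst k n)).left m.left (pullback.fst k n).left :=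
    (IsPullback.of_hasPullback m (pullback.fst k n)).map (Over.forget S)
  exact Groth.Agent.Lib.Helper9.KLoc.main_iff m.left k.left n.left (pullback.fst k n).left
    (pullback.snd k n).left sqVs (pullback.fst m (pullback.fst k n)).left
    (pullback.snd m (pullback.fst k n)).left (sqUs.paste_vert sqVs) sqUs.w u'

end Groth.Agent.Lib.Helper9.KNear
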