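import Mathlib
import Groth.Agent.Lib.Helper14.KoszulLCI
import Groth.Agent.Lib.Helper14.KoszulTop
import Groth.Agent.Lib.Helper1.KoszulConcat

/-!
# Top Koszul homology: a Koszul-regular sequence of positive length has zero annihilator (helper9)
-/

set_option autoImplicit false
set_option linter.style.haveILetI false
universe u
open CategoryTheory CategoryTheory.Limits CochainComplex HomComplex

namespace Groth.Agent.Lib.Helper9.KTopAnn

open CohIII Groth.Agent.Lib.Helper14.KoszulFun

variable {A : Type u} [CommRing A]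

/-- The Koszul complex of a list of length `r` vanishes in degrees `< -r`. -/
lemma isZero_koszulCx_X_lt (M : ModuleCat.{u} A) :
    ∀ (xs : List A) (n : ℤ), n < -(xs.length : ℤ) → IsZero ((koszulCx M xs).X n)
  | [], n, hn => HomologicalComplex.isZero_single_obj_X _ _ _ _ (by
      simp only [List.length_nil, Nat.cast_zero, neg_zero] at hn; omega)
  | x :: xs, n, hn => by
    rw [show koszulCx M (x :: xs) = mappingCone (x • 𝟙 (koszulCx M xs)) from rfl,
      mappingCone.isZero_X_iff]
    have hlen : ((x :: xs).length : ℤ) = xs.length + 1 := by simp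
    exact ⟨isZero_koszulCx_X_lt M xs (n + 1) (by omega), isZero_koszulCx_X_lt M xs n (by omega)⟩

/-- the "top" element: an injective map `A → K(l)^{-r}` sending annihilating elements to cycles -/
theorem exists_top (l : List A) : ∀ (n : ℤ) (_ : n = -(l.length : ℤ)),
    ∃ e : A →ₗ[A] ((koszulCx (ModuleCat.of A A) l).X n),
      Function.Injective e ∧ ∀ c : A, (∀ f ∈ l, f * c = 0) →
        ((koszulCx (ModuleCat.of A A) l).d n (n + 1)).hom (e c) = 0 := by
  induction l with
  | nil =>
    intro n hn
    simp only [List.length_nil, Nat.cast_zero, neg_zero] at hn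
    subst hn
    refine ⟨(HomologicalComplex.singleObjXSelf (ComplexShape.up ℤ) (0 : ℤ)
      (ModuleCat.of A A)).inv.hom, ?_, ?_⟩
    · exact (ConcreteCategory.bijective_of_isIso
        (HomologicalComplex.singleObjXSelf (ComplexShape.up ℤ) (0 : ℤ)
          (ModuleCat.of A A)).inv).1
    · intro c _
      have hz : IsZero ((koszulCx (ModuleCat.of A A) []).X (0 + 1)) :=
        isZero_koszulCx_X_pos _ [] _ (by omega)
      haveI := ModuleCat.subsingleton_of_isZero hz
      exact Subsingleton.elim _ _
  | cons f l ih =>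
    intro n hn
    have hlen : ((f :: l).length : ℤ) = l.length + 1 := by simp
    change ∃ e : A →ₗ[A] ((mappingCone (f • 𝟙 (koszulCx (ModuleCat.of A A) l))).X n),
      Function.Injective e ∧ ∀ c : A, (∀ g ∈ f :: l, g * c = 0) →
        ((mappingCone (f • 𝟙 (koszulCx (ModuleCat.of A A) l))).d n (n + 1)).hom (e c) = 0
    set K := koszulCx (ModuleCat.of A A) l with hK
    set φ : K ⟶ K := f • 𝟙 K with hφ
    obtain ⟨e', he'inj, he'd⟩ := ih (n + 1) (by omega)
    let inlv : K.X (n + 1) ⟶ (mappingCone φ).X n := (mappingCone.inl φ).v (n + 1) n (by omega)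
    refine ⟨inlv.hom ∘ₗ e', ?_, ?_⟩
    · have h1 := mappingCone.inl_v_fst_v φ (n + 1) n rfl
      have h2 : ∀ x, ((mappingCone.fst φ).1.v n (n + 1) rfl).hom (inlv.hom x) = x := fun x => by
        have := congrArg (fun t => t.hom x) h1
        exact this
      intro a b hab
      apply he'inj
      have h3 := congrArg ((mappingCone.fst φ).1.v n (n + 1) rfl).hom hab
      simp only [LinearMap.coe_comp, Function.comp_apply] at h3
      rwa [h2, h2] at h3
    · intro c hc
      have hc' : ∀ g ∈ l, g * c = 0 := fun g hg => hc g (List.mem_cons_of_mem _ hg)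
      have hfc : f * c = 0 := hc f List.mem_cons_self
      have h3 := mappingCone.inl_v_d φ (n + 1) n (n + 1 + 1) (by omega) (by omega)
      have h4 := congrArg (fun t => t.hom (e' c)) h3
      simp only [LinearMap.coe_comp, Function.comp_apply]
      refine Eq.trans h4 ?_
      have h5 : (K.d (n + 1) (n + 1 + 1)).hom (e' c) = 0 := he'd c hc'
      have h6 : (φ.f (n + 1)).hom (e' c) = 0 := by
        have : (φ.f (n + 1)).hom (e' c) = f • e' c := by
          rw [hφ]
          rfl
        rw [this, ← map_smul, smul_eq_mul, hfc, map_zero]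
      simp only [ModuleCat.hom_sub, ModuleCat.hom_comp, LinearMap.sub_apply, LinearMap.coe_comp,
        Function.comp_apply, h5, h6, map_zero, sub_zero]

/-- **Top Koszul homology**: a Koszul-regular sequence of positive length has zero annihilator. -/
theorem eq_zero_of_forall_mul_eq_zero (l : List A) (hl : LCI.IsKoszulRegularSeq A l)
    (hne : l ≠ []) (c : A) (hc : ∀ f ∈ l, f * c = 0) : c = 0 := by
  rw [isKoszulRegularSeq_iff] at hl
  set n : ℤ := -(l.length : ℤ) with hn
  have hn0 : n ≠ 0 := by
    have : 0 < l.length := List.length_pos_iff.mpr hne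
    omega
  set K := koszulCx (ModuleCat.of A A) l with hK
  obtain ⟨e, heinj, hed⟩ : ∃ e : A →ₗ[A] (K.X n),
      Function.Injective e ∧ ∀ c : A, (∀ f ∈ l, f * c = 0) →
        (K.d n (n + 1)).hom (e c) = 0 := exists_top l n hn
  have hex : K.ExactAt n := (HomologicalComplex.exactAt_iff_isZero_homology _ _).mpr (hl n hn0)
  rw [HomologicalComplex.exactAt_iff' K (n - 1) n (n + 1) (by simp) (by simp),
    ShortComplex.moduleCat_exact_iff] at hex
  have hex' : ∀ x₂ : K.X n, (K.d n (n + 1)).hom x₂ = 0 →
      ∃ x₁ : K.X (n - 1), (K.d (n - 1) n).hom x₁ = x₂ := hex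
  obtain ⟨y, hy⟩ := hex' (e c) (hed c hc)
  have hz : IsZero (K.X (n - 1)) := isZero_koszulCx_X_lt _ l _ (by omega)
  haveI := ModuleCat.subsingleton_of_isZero hz
  have hy0 : y = 0 := Subsingleton.elim _ _
  apply heinj
  rw [map_zero, ← hy, hy0]
  exact map_zero _

/-- if `a :: l` is Koszul-regular then `a` is a nonzerodivisor modulo `l` -/
theorem mem_of_mul_mem_of_cons (a : A) (l : List A) (hl : LCI.IsKoszulRegularSeq A l)
    (hal : LCI.IsKoszulRegularSeq A (a :: l)) (x : A) (hx : a * x ∈ Ideal.ofList l) :
    x ∈ Ideal.ofList l := by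
  have h1 := Groth.Agent.Lib.Helper1.KoszulConcat.isKoszulRegularSeq_quotient l [a] hl hal
  have h2 := eq_zero_of_forall_mul_eq_zero _ h1 (by simp) (Ideal.Quotient.mk (Ideal.ofList l) x)
    (fun g hg => by
      simp only [List.map_cons, List.map_nil, List.mem_singleton] at hg
      subst hg
      rw [← map_mul, Ideal.Quotient.eq_zero_iff_mem]
      exact hx)
  exact Ideal.Quotient.eq_zero_iff_mem.mp h2

end Groth.Agent.Lib.Helper9.KTopAnn
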