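import Mathlib
import Groth.Agent.Lib.Helper9.KTopAnn
import Groth.Agent.Lib.Helper1.KoszulSwap
import Groth.Agent.Lib.Helper1.SecReg
import Groth.Agent.Lib.Helper1.RegMore

/-!
# A Koszul-regular sequence becomes regular after a generic unipotent change of generators over an
iterated polynomial ring (helper9)
-/

set_option autoImplicit false
set_option linter.style.haveILetI false
universe u
open Polynomial

namespace Groth.Agent.Lib.Helper9.KRegGen

open Groth.Agent.Lib.Helper1 Groth.Agent.Lib.Helper9.KTopAnn

section horner

variable {T : Type u} [CommRing T]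

/-- the polynomial with coefficient list `l` -/
noncomputable def horner : List T → T[X]
  | [] => 0
  | a :: l => C a + X * horner l

lemma horner_cons (a : T) (l : List T) : horner (a :: l) = C a + X * horner l := rfl

lemma horner_mem (l : List T) : horner l ∈ Ideal.ofList (l.map (C : T →+* T[X])) := by
  induction l with
  | nil => exact Ideal.zero_mem _
  | cons a l ih =>
    rw [horner_cons, List.map_cons, Ideal.ofList_cons]
    refine Ideal.add_mem _ (Ideal.mem_sup_left (Ideal.mem_span_singleton_self _))
      (Ideal.mul_mem_left _ _ (Ideal.mem_sup_right ih))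

lemma horner_map {T' : Type u} [CommRing T'] (ψ : T →+* T') (l : List T) :
    (horner l).map ψ = horner (l.map ψ) := by
  induction l with
  | nil => simp [horner]
  | cons a l ih =>
    simp only [horner_cons, List.map_cons, Polynomial.map_add, Polynomial.map_mul,
      Polynomial.map_C, Polynomial.map_X, ih]

lemma smul_horner_eq_zero (c : T) (l : List T) (h : c • horner l = 0) : ∀ a ∈ l, a * c = 0 := by
  induction l with
  | nil => intro a ha; simp at ha
  | cons b l ih =>
    have h0 : c * b = 0 := by
      have := congrArg (fun p => p.coeff 0) h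
      simpa [horner_cons] using this
    have h1 : c • horner l = 0 := by
      ext n
      have := congrArg (fun p => p.coeff (n + 1)) h
      simpa [horner_cons, Polynomial.coeff_X_mul, Polynomial.coeff_C_succ] using this
    intro a ha
    rcases List.mem_cons.mp ha with rfl | ha
    · rw [mul_comm]; exact h0
    · exact ih h1 a ha

/-- McCoy + top Koszul homology: the generic combination of `pre` is a nonzerodivisor modulo
`tail` -/
theorem horner_mul_mem (pre tail : List T) (hpre : pre ≠ [])
    (htail : LCI.IsKoszulRegularSeq T tail) (hall : LCI.IsKoszulRegularSeq T (pre ++ tail))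
    (x : T[X]) (hx : horner pre * x ∈ (Ideal.ofList tail).map (C : T →+* T[X])) :
    x ∈ (Ideal.ofList tail).map (C : T →+* T[X]) := by
  set J := Ideal.ofList tail with hJ
  set ψ := Polynomial.mapRingHom (Ideal.Quotient.mk J) with hψ
  have hker : RingHom.ker ψ = J.map C := by rw [hψ, Polynomial.ker_mapRingHom, Ideal.mk_ker]
  have hKR := KoszulConcat.isKoszulRegularSeq_quotient tail pre htail hall
  have hnzd : ψ (horner pre) ∈ nonZeroDivisors ((T ⧸ J)[X]) := by
    rw [Polynomial.mem_nonZeroDivisors_iff]
    intro c hc
    have h1 : ψ (horner pre) = horner (pre.map (Ideal.Quotient.mk J)) := horner_map _ _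
    rw [h1] at hc
    exact eq_zero_of_forall_mul_eq_zero _ hKR (by simpa using hpre) c (smul_horner_eq_zero c _ hc)
  rw [← hker, RingHom.mem_ker] at hx ⊢
  rw [map_mul] at hx
  exact (mul_left_mem_nonZeroDivisors_eq_zero_iff hnzd).mp hx

end horner

section tails

/-- all tails of the list are Koszul-regular -/
def TailsKR (T : Type u) [CommRing T] : List T → Prop
  | [] => True
  | a :: l => LCI.IsKoszulRegularSeq T (a :: l) ∧ TailsKR T l

lemma TailsKR.kr {T : Type u} [CommRing T] : ∀ {l : List T}, TailsKR T l →
    LCI.IsKoszulRegularSeq T l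
  | [], _ => RegMore.isKoszulRegularSeq_nil T
  | _ :: _, h => h.1

lemma tailsKR_map_of_flat {T B : Type u} [CommRing T] [CommRing B] [Algebra T B]
    [Module.Flat T B] : ∀ (l : List T), TailsKR T l → TailsKR B (l.map (algebraMap T B))
  | [], _ => trivial
  | a :: l, h => ⟨KoszulConcat.isKoszulRegularSeq_map_of_flat (a :: l) h.1,
      tailsKR_map_of_flat l h.2⟩

theorem step {T : Type u} [CommRing T] (a : T) (pre tail : List T)
    (hall : LCI.IsKoszulRegularSeq T (a :: pre ++ tail)) (htail : TailsKR T tail) :
    LCI.IsKoszulRegularSeq T[X]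
        (pre.map (C : T →+* T[X]) ++ (horner (a :: pre) :: tail.map (C : T →+* T[X]))) ∧
      TailsKR T[X] (horner (a :: pre) :: tail.map (C : T →+* T[X])) ∧
      Ideal.ofList (pre.map (C : T →+* T[X]) ++
          (horner (a :: pre) :: tail.map (C : T →+* T[X]))) =
        (Ideal.ofList (a :: pre ++ tail)).map (C : T →+* T[X]) := by
  have hC : algebraMap T T[X] = C := Polynomial.algebraMap_eq
  have htail' : TailsKR T[X] (tail.map (C : T →+* T[X])) := by
    have := tailsKR_map_of_flat (B := T[X]) tail htail
    rwa [hC] at this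
  have hall' : LCI.IsKoszulRegularSeq T[X] ((a :: pre ++ tail).map (C : T →+* T[X])) := by
    have := KoszulConcat.isKoszulRegularSeq_map_of_flat (B := T[X]) _ hall
    rwa [hC] at this
  set h := horner (a :: pre) with hh
  have hnz : ∀ x : T[X], h * x ∈ Ideal.ofList (tail.map (C : T →+* T[X])) →
      x ∈ Ideal.ofList (tail.map (C : T →+* T[X])) := by
    intro x hx
    rw [← Ideal.map_ofList] at hx ⊢
    exact horner_mul_mem (a :: pre) tail (by simp) htail.kr hall x hx
  have hKRh : LCI.IsKoszulRegularSeq T[X] (h :: tail.map (C : T →+* T[X])) := by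
    have h1 : LCI.IsKoszulRegularSeq (T[X] ⧸ Ideal.ofList (tail.map (C : T →+* T[X])))
        ([h].map (Ideal.Quotient.mk _)) := by
      apply SecReg.isKoszulRegularSeq_of_isWeaklyRegular
      rw [List.map_cons, List.map_nil, RingTheory.Sequence.isWeaklyRegular_singleton_iff,
        isSMulRegular_iff_right_eq_zero_of_smul]
      intro m hm
      obtain ⟨x, rfl⟩ := Ideal.Quotient.mk_surjective m
      rw [smul_eq_mul, ← map_mul, Ideal.Quotient.eq_zero_iff_mem] at hm
      exact Ideal.Quotient.eq_zero_iff_mem.mpr (hnz x hm)
    exact KoszulConcat.isKoszulRegularSeq_append (tail.map (C : T →+* T[X])) [h] htail'.kr h1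
  have hhorn : X * horner pre ∈ Ideal.ofList (pre.map (C : T →+* T[X])) :=
    Ideal.mul_mem_left _ _ (horner_mem pre)
  have hI : Ideal.ofList (pre.map (C : T →+* T[X]) ++ (h :: tail.map (C : T →+* T[X]))) =
      Ideal.ofList ((a :: pre ++ tail).map (C : T →+* T[X])) := by
    rw [List.cons_append, List.map_cons, List.map_append, Ideal.ofList_append, Ideal.ofList_cons,
      Ideal.ofList_cons, Ideal.ofList_append]
    apply le_antisymm
    · refine sup_le (le_sup_of_le_right le_sup_left) (sup_le ?_ (le_sup_of_le_right le_sup_right))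
      rw [Ideal.span_singleton_le_iff_mem, hh, horner_cons]
      exact Ideal.add_mem _ (Ideal.mem_sup_left (Ideal.mem_span_singleton_self _))
        (Ideal.mem_sup_right (Ideal.mem_sup_left hhorn))
    · refine sup_le ?_ (sup_le le_sup_left (le_sup_of_le_right le_sup_right))
      rw [Ideal.span_singleton_le_iff_mem]
      have : (C a : T[X]) = h - X * horner pre := by rw [hh, horner_cons]; ring
      rw [this]
      exact Ideal.sub_mem _
        (Ideal.mem_sup_right (Ideal.mem_sup_left (Ideal.mem_span_singleton_self _)))
        (Ideal.mem_sup_left hhorn)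
  refine ⟨?_, ⟨hKRh, htail'⟩, ?_⟩
  · refine KoszulSwap.isKoszulRegularSeq_of_ofList_eq _ _ ?_ hI hall'
    simp only [List.length_append, List.length_map, List.length_cons]
    omega
  · rw [hI, Ideal.map_ofList]

theorem exists_tails : ∀ (m : ℕ) (T : Type u) [CommRing T] (pre tail : List T), pre.length = m →
    LCI.IsKoszulRegularSeq T (pre ++ tail) → TailsKR T tail →
    ∃ (S : Type u) (_ : CommRing S) (φ : T →+* S) (ρ : S →+* T), φ.Smooth ∧
      ρ.comp φ = RingHom.id T ∧
      ∃ gs : List S, TailsKR S gs ∧ Ideal.ofList gs = (Ideal.ofList (pre ++ tail)).map φ := by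
  intro m
  induction m with
  | zero =>
    intro T _ pre tail hlen hall htail
    have : pre = [] := List.length_eq_zero_iff.mp hlen
    subst this
    exact ⟨T, inferInstance, RingHom.id T, RingHom.id T, RingHom.Smooth.id T, rfl, tail, htail,
      by rw [Ideal.map_id, List.nil_append]⟩
  | succ m ih =>
    intro T _ pre tail hlen hall htail
    obtain ⟨a, pre', rfl⟩ : ∃ a pre', pre = a :: pre' := by
      cases pre with
      | nil => simp at hlen
      | cons a p => exact ⟨a, p, rfl⟩
    obtain ⟨h1, h2, h3⟩ := step a pre' tail hall htail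
    obtain ⟨S, instS, φ', ρ', hφ', hρ', gs, hgs, hI⟩ := ih T[X] (pre'.map (C : T →+* T[X]))
      (horner (a :: pre') :: tail.map (C : T →+* T[X])) (by simpa using hlen) h1 h2
    refine ⟨S, instS, φ'.comp C, (Polynomial.evalRingHom 0).comp ρ', ?_, ?_, gs, hgs, ?_⟩
    · have hC : (C : T →+* T[X]).Smooth := by
        rw [← Polynomial.algebraMap_eq, RingHom.smooth_algebraMap]
        exact ⟨inferInstance, Algebra.FinitePresentation.equiv (MvPolynomial.uniqueAlgEquiv.{_, 0} T PUnit)⟩
      exact hC.comp hφ'
    · ext x
      have h4 : ρ' (φ' (C x)) = C x := RingHom.congr_fun hρ' (C x)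
      simp only [RingHom.comp_apply, h4, Polynomial.coe_evalRingHom, Polynomial.eval_C,
        RingHom.id_apply]
    · rw [hI, h3, Ideal.map_map]

lemma ofList_reverse {S : Type u} [CommRing S] (l : List S) :
    Ideal.ofList l.reverse = Ideal.ofList l := by
  change Ideal.span {r | r ∈ l.reverse} = Ideal.span {r | r ∈ l}
  simp only [List.mem_reverse]

theorem isWeaklyRegular_reverse_of_tailsKR {S : Type u} [CommRing S] : ∀ (gs : List S),
    TailsKR S gs → RingTheory.Sequence.IsWeaklyRegular S gs.reverse
  | [], _ => by
    rw [List.reverse_nil]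
    exact RingTheory.Sequence.IsWeaklyRegular.nil S S
  | g :: l, h => by
    rw [List.reverse_cons, RingTheory.Sequence.isWeaklyRegular_append_iff]
    refine ⟨isWeaklyRegular_reverse_of_tailsKR l h.2, ?_⟩
    rw [RingTheory.Sequence.isWeaklyRegular_singleton_iff, isSMulRegular_iff_right_eq_zero_of_smul]
    intro m hm
    obtain ⟨y, rfl⟩ := Submodule.Quotient.mk_surjective _ m
    rw [← Submodule.Quotient.mk_smul, Submodule.Quotient.mk_eq_zero] at hm
    rw [Submodule.Quotient.mk_eq_zero]
    have htop : (Ideal.ofList l.reverse • (⊤ : Submodule S S) : Submodule S S) =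
        Ideal.ofList l := by
      rw [ofList_reverse]
      change Ideal.ofList l • (⊤ : Ideal S) = _
      rw [smul_eq_mul, Ideal.mul_top]
    rw [htop] at hm ⊢
    exact mem_of_mul_mem_of_cons g l h.2.kr h.1 y hm

/-- **Algebra core**: a Koszul-regular sequence generates, after a smooth (iterated polynomial)
extension admitting a retraction, an ideal generated by a weakly regular sequence. -/
theorem exists_smooth_weaklyRegular (R : Type u) [CommRing R] (l : List R)
    (hl : LCI.IsKoszulRegularSeq R l) :
    ∃ (S : Type u) (_ : CommRing S) (φ : R →+* S) (ρ : S →+* R), φ.Smooth ∧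
      ρ.comp φ = RingHom.id R ∧
      ∃ gs : List S, RingTheory.Sequence.IsWeaklyRegular S gs ∧
        Ideal.ofList gs = (Ideal.ofList l).map φ := by
  obtain ⟨S, i, φ, ρ, h1, h2, gs, h3, h4⟩ :=
    exists_tails l.length R l [] rfl (by rw [List.append_nil]; exact hl) trivial
  refine ⟨S, i, φ, ρ, h1, h2, gs.reverse, isWeaklyRegular_reverse_of_tailsKR gs h3, ?_⟩
  rw [ofList_reverse, h4, List.append_nil]

end tails

end Groth.Agent.Lib.Helper9.KRegGen
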