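import Mathlib
import Groth.Prelude.Def_RegImm
import Groth.Agent.Lib.Helper9.KRegGen
import Groth.Agent.Lib.Helper1.RegBC
import Groth.Agent.Lib.Helper1.ConormMap
import Groth.Agent.Lib.Helper1.UTKoszul

/-!
# A Koszul-regular closed immersion becomes a regular immersion on a smooth cover (helper9)
-/

set_option autoImplicit false
set_option linter.style.haveILetI false
universe u
open CategoryTheory CategoryTheory.Limits AlgebraicGeometry TopologicalSpace

namespace Groth.Agent.Lib.Helper9.KRegCover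

open Groth.Agent.Lib.Helper1

theorem isWeaklyRegular_map_ringEquiv {S S' : Type u} [CommRing S] [CommRing S'] (e : S ≃+* S')
    (gs : List S) (h : RingTheory.Sequence.IsWeaklyRegular S gs) :
    RingTheory.Sequence.IsWeaklyRegular S' (gs.map e) :=
  (AddEquiv.isWeaklyRegular_congr (e := e.toAddEquiv)
    (List.forall₂_map_right_iff.mpr (List.forall₂_same.mpr fun r _ x => by
      simp [smul_eq_mul]))).mp h

theorem isWeaklyRegular_map_of_bijective {S S' : Type u} [CommRing S] [CommRing S']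
    (f : S →+* S') (hf : Function.Bijective f)
    (gs : List S) (h : RingTheory.Sequence.IsWeaklyRegular S gs) :
    RingTheory.Sequence.IsWeaklyRegular S' (gs.map f) := by
  have := isWeaklyRegular_map_ringEquiv (RingEquiv.ofBijective f hf) gs h
  simpa using this

theorem appLE_eq_of_eq {X Y : Scheme.{u}} {f f' : X ⟶ Y} (h : f = f') (U : Y.Opens)
    (V : X.Opens) (e : V ≤ f ⁻¹ᵁ U) (e' : V ≤ f' ⁻¹ᵁ U) : f.appLE U V e = f'.appLE U V e' := by
  subst h; rfl

/-- the local condition on a morphism `g : Y ⟶ X` guaranteeing that the base change of `i`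
along `g` is a regular immersion at the points over `Y` -/
def Good {Z X : Scheme.{u}} (i : Z ⟶ X) {Y : Scheme.{u}} (g : Y ⟶ X) : Prop :=
  ∀ y : Y, (∃ z : Z, i z = g y) → ∃ (V : Y.Opens) (_ : IsAffineOpen V) (_ : y ∈ V)
    (U₁ : X.Opens) (_ : IsAffineOpen U₁) (_ : IsClosedImmersion (i ∣_ U₁)) (hle : V ≤ g ⁻¹ᵁ U₁)
    (rs : List Γ(Y, V)), RingTheory.Sequence.IsWeaklyRegular Γ(Y, V) rs ∧
      (RingHom.ker (i.app U₁).hom).map (g.appLE U₁ V hle).hom = Ideal.ofList rs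

theorem chartGood {Z X : Scheme.{u}} (i : Z ⟶ X) [IsClosedImmersion i]
    (hi : RegImm.IsRegularImmersion RegImm.Kind.koszul i) (z : Z) :
    ∃ (Y : Scheme.{u}) (g : Y ⟶ X), Smooth g ∧ (∃ y : Y, g y = i z) ∧ Good i g := by
  obtain ⟨⟨U₁, hU₁⟩, hzU₁, hcl₁, rs₁, hrs₁, hker₁⟩ := hi.2 z
  obtain ⟨S, instS, φ, ρ, hφ, hρ, gs, hgs, hI⟩ :=
    KRegGen.exists_smooth_weaklyRegular Γ(X, U₁) rs₁ hrs₁
  let φc : Γ(X, U₁) ⟶ CommRingCat.of S := CommRingCat.ofHom φ
  let ρc : CommRingCat.of S ⟶ Γ(X, U₁) := CommRingCat.ofHom ρ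
  have hρc : φc ≫ ρc = 𝟙 _ := by
    ext a
    exact RingHom.congr_fun hρ a
  haveI := hU₁.isOpenImmersion_fromSpec
  let g : Spec (CommRingCat.of S) ⟶ X := Spec.map φc ≫ hU₁.fromSpec
  haveI : Smooth (Spec.map φc) := (HasRingHomProperty.Spec_iff (P := @Smooth)).mpr hφ
  have hrange : ∀ y, g y ∈ U₁ := by
    intro y
    have h1 : hU₁.fromSpec (Spec.map φc y) ∈ hU₁.fromSpec.opensRange := ⟨_, rfl⟩
    rw [hU₁.opensRange_fromSpec] at h1
    exact h1
  haveI : Smooth g := inferInstanceAs (Smooth (Spec.map φc ≫ hU₁.fromSpec))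
  refine ⟨Spec (CommRingCat.of S), g, inferInstance, ?_, ?_⟩
  · have h1 : i z ∈ hU₁.fromSpec.opensRange := by rw [hU₁.opensRange_fromSpec]; exact hzU₁
    obtain ⟨p, hp⟩ := h1
    refine ⟨Spec.map ρc p, ?_⟩
    have h2 : Spec.map ρc ≫ Spec.map φc = 𝟙 _ := by rw [← Spec.map_comp, hρc, Spec.map_id]
    have h3 : Spec.map ρc ≫ g = hU₁.fromSpec := by
      change Spec.map ρc ≫ Spec.map φc ≫ hU₁.fromSpec = _
      rw [← Category.assoc, h2, Category.id_comp]
    have h4 := congrArg (fun ψ => ψ.base p) h3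
    exact h4.trans hp
  · intro y _
    have hle : (⊤ : (Spec (CommRingCat.of S)).Opens) ≤ g ⁻¹ᵁ U₁ := fun y _ => hrange y
    have happ : g.appLE U₁ ⊤ hle = φc ≫ (Scheme.ΓSpecIso (CommRingCat.of S)).inv := by
      have h1 := IsAffineOpen.SpecMap_appLE_fromSpec g hU₁ (isAffineOpen_top _) hle
      rw [IsAffineOpen.fromSpec_top, Scheme.isoSpec_Spec_inv] at h1
      have h2 : Spec.map (g.appLE U₁ ⊤ hle) =
          Spec.map (φc ≫ (Scheme.ΓSpecIso (CommRingCat.of S)).inv) := by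
        rw [← cancel_mono hU₁.fromSpec, h1, Spec.map_comp, Category.assoc]
      exact Spec.map_injective h2
    refine ⟨⊤, isAffineOpen_top _, trivial, U₁, hU₁, hcl₁, hle,
      gs.map (Scheme.ΓSpecIso (CommRingCat.of S)).inv.hom, ?_, ?_⟩
    · exact isWeaklyRegular_map_of_bijective _
        (ConcreteCategory.bijective_of_isIso (Scheme.ΓSpecIso (CommRingCat.of S)).inv) gs hgs
    · rw [happ, hker₁, CommRingCat.hom_comp, ← Ideal.map_map, ← Ideal.map_ofList]
      congr 1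
      exact hI.symm

theorem complGood {Z X : Scheme.{u}} (i : Z ⟶ X) [IsClosedImmersion i] (x : X)
    (hx : ¬ ∃ z : Z, i z = x) :
    ∃ (Y : Scheme.{u}) (g : Y ⟶ X), Smooth g ∧ (∃ y : Y, g y = x) ∧ Good i g := by
  have hcl : IsClosed (Set.range (fun z : Z => i z)) := i.isClosedEmbedding.isClosed_range
  let W : X.Opens := ⟨(Set.range (fun z : Z => i z))ᶜ, hcl.isOpen_compl⟩
  refine ⟨W, W.ι, inferInstance, ⟨⟨x, fun ⟨z, hz⟩ => hx ⟨z, hz⟩⟩, rfl⟩, ?_⟩
  rintro y ⟨z, hz⟩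
  exact absurd ⟨z, hz⟩ y.2

theorem regular_of_good {Z X : Scheme.{u}} (i : Z ⟶ X) [IsClosedImmersion i] {J : Type u}
    (Y : J → Scheme.{u}) (g : ∀ j, Y j ⟶ X) (hgood : ∀ j, Good i (g j)) :
    RegImm.IsRegularImmersion RegImm.Kind.regular (pullback.snd i (Sigma.desc g)) := by
  set G := Sigma.desc g with hG
  have hsq : IsPullback (pullback.fst i G) (pullback.snd i G) i G := IsPullback.of_hasPullback i G
  refine ⟨inferInstance, fun z' => ?_⟩
  obtain ⟨⟨j, y⟩, hjy⟩ := (sigmaMk Y).surjective ((pullback.snd i G) z')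
  rw [sigmaMk_mk] at hjy
  have h1 : i ((pullback.fst i G) z') = G ((pullback.snd i G) z') := by
    have := congrArg (fun φ => φ.base z') hsq.w
    exact this
  have h2 : ∀ w, G (Sigma.ι Y j w) = g j w := by
    intro w
    have := congrArg (fun φ => φ.base w) (Sigma.ι_desc g j)
    exact this
  have hGy : i ((pullback.fst i G) z') = g j y := by rw [h1, ← hjy, h2]
  obtain ⟨V, hV, hyV, U₁, hU₁, hcl, hle, rs, hrs, hker⟩ := hgood j y ⟨_, hGy⟩
  haveI := hcl
  set ι := Sigma.ι Y j with hι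
  have hU'a : IsAffineOpen (ι ''ᵁ V) := hV.image_of_isOpenImmersion ι
  have hU'le : ι ''ᵁ V ≤ G ⁻¹ᵁ U₁ := by
    rintro _ ⟨w, hw, rfl⟩
    change G (ι w) ∈ U₁
    rw [h2]
    exact hle hw
  obtain ⟨hiU₁, hsU₁⟩ := ConormMap.good_of_le_coborderRange i hU₁
    (UTKoszul.le_coborderRange_of_isClosedImmersion_restrict i U₁)
  have hkerU' := RegBC.ker_app_of_isPullback hsq hU₁ hiU₁ hsU₁ hU'a hU'le
  have hcomp : G.appLE U₁ (ι ''ᵁ V) hU'le ≫ (ι.appIso V).hom = (g j).appLE U₁ V hle := by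
    rw [Scheme.Hom.appIso_hom', Scheme.Hom.appLE_comp_appLE]
    exact appLE_eq_of_eq (Sigma.ι_desc g j) _ _ _ _
  have hGapp : G.appLE U₁ (ι ''ᵁ V) hU'le = (g j).appLE U₁ V hle ≫ (ι.appIso V).inv := by
    rw [← hcomp, Category.assoc, Iso.hom_inv_id, Category.comp_id]
  have hK : RingHom.ker ((pullback.snd i G).app (ι ''ᵁ V)).hom =
      Ideal.ofList (rs.map (ι.appIso V).inv.hom) := by
    rw [hkerU', hGapp, CommRingCat.hom_comp, ← Ideal.map_map, hker, Ideal.map_ofList]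
  have hmem : (pullback.snd i G) z' ∈ ι ''ᵁ V := ⟨y, hyV, hjy⟩
  refine ⟨⟨ι ''ᵁ V, hU'a⟩, hmem, RegBC.isClosedImmersion_restrict_of_isPullback hsq hU'le,
    rs.map (ι.appIso V).inv.hom, ?_, hK⟩
  change RingTheory.Sequence.IsRegular _ _
  refine ⟨isWeaklyRegular_map_of_bijective _
    (ConcreteCategory.bijective_of_isIso (ι.appIso V).inv) rs hrs, ?_⟩
  intro htop
  have h3 : (Ideal.ofList (rs.map (ι.appIso V).inv.hom) • (⊤ : Submodule Γ(∐ Y, ι ''ᵁ V)
      Γ(∐ Y, ι ''ᵁ V)) : Submodule _ _) = Ideal.ofList (rs.map (ι.appIso V).inv.hom) := by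
    change Ideal.ofList _ • (⊤ : Ideal Γ(∐ Y, ι ''ᵁ V)) = _
    rw [smul_eq_mul, Ideal.mul_top]
  rw [h3, ← hK] at htop
  have h4 : (1 : Γ(∐ Y, ι ''ᵁ V)) ∈ RingHom.ker ((pullback.snd i G).app (ι ''ᵁ V)).hom := by
    rw [← htop]; trivial
  rw [RingHom.mem_ker, map_one] at h4
  haveI : Nonempty (((pullback.snd i G) ⁻¹ᵁ (ι ''ᵁ V) : (pullback i G).Opens) : Scheme.{u}) :=
    ⟨⟨z', hmem⟩⟩
  exact one_ne_zero h4

/-- **Main theorem**: a Koszul-regular closed immersion becomes a regular immersion after base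
change along a smooth surjective morphism. -/
theorem main {Z X : Scheme.{u}} (i : Z ⟶ X) [IsClosedImmersion i]
    (hi : RegImm.IsRegularImmersion RegImm.Kind.koszul i) :
    ∃ (X' : Scheme.{u}) (g : X' ⟶ X), Smooth g ∧ Surjective g ∧
      RegImm.IsRegularImmersion RegImm.Kind.regular (pullback.snd i g) := by
  have hpt : ∀ x : X, ∃ (Y : Scheme.{u}) (g : Y ⟶ X), Smooth g ∧ (∃ y : Y, g y = x) ∧
      Good i g := by
    intro x
    by_cases hx : ∃ z : Z, i z = x
    · obtain ⟨z, rfl⟩ := hx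
      exact chartGood i hi z
    · exact complGood i x hx
  choose Y g hsm hrange hgood using hpt
  haveI : IsZariskiLocalAtSource @Smooth.{u} := HasRingHomProperty.instIsZariskiLocalAtSource
  refine ⟨∐ Y, Sigma.desc g, IsZariskiLocalAtSource.sigmaDesc (P := @Smooth) hsm, ⟨fun x => ?_⟩,
    regular_of_good i Y g hgood⟩
  obtain ⟨y, hy⟩ := hrange x
  refine ⟨Sigma.ι Y x y, ?_⟩
  have := congrArg (fun φ => φ.base y) (Sigma.ι_desc g x)
  exact this.trans hy

end Groth.Agent.Lib.Helper9.KRegCover
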