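import Mathlib
import Groth.Agent.Lib.Helper22.RelRegReg
import Groth.Agent.Lib.Helper22.RegFlatBC
import Groth.Agent.Lib.Helper10.KoszulLow
import Groth.Agent.Lib.Helper14.H1Reg
import Groth.Agent.Lib.Helper1.KoszulConcat
import Groth.Agent.Lib.Helper14.LCF.SliceSeq

/-!
# Fibre regularity of Koszul-regular generators with flat quotient (helper9)

`colon_T`: for a finite type `A`-algebra `T`, an ideal `K` with `T/K` flat over `A`, generated
near a prime `𝔔 ⊇ K` by a Koszul-regular sequence `k`, the sequence `k` is regular on the local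
ring of the fibre of `T` through `𝔔` (colon form in `T_𝔔`).
-/

set_option autoImplicit false
set_option linter.style.haveILetI false
set_option linter.unusedSectionVars false
set_option maxHeartbeats 800000
universe u

namespace Groth.Agent.Lib.Helper9.KSy

open Groth.Agent.Lib.Helper1 Groth.Agent.Lib.Helper22

/-- Koszul-regular (list form) gives quasi-regular (function form) -/
theorem qr_of_koszul_ofFn {W : Type u} [CommRing W] {s : ℕ} (r : Fin s → W)
    (h : LCI.IsKoszulRegularSeq W (List.ofFn r)) : CAlgX.IsQuasiRegular r := by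
  have h1 : CAlgX.IsH1Regular (List.ofFn r).get := fun a ha =>
    H10KL.h1_of_isZero_homology W (List.ofFn r) (h (-1) (by norm_num)) a ha
  have h2 : CAlgX.IsQuasiRegular (List.ofFn r).get :=
    Groth.Agent.Lib.Helper14.H1Reg.qr_of_h1 _ h1
  have hlen : s = (List.ofFn r).length := (List.length_ofFn).symm
  have h3 := RegFlatBC.isQuasiRegular_cast hlen (List.ofFn r).get h2
  have h4 : (fun i : Fin s => (List.ofFn r).get (Fin.cast hlen i)) = r := by
    funext i
    simp
  rwa [h4] at h3

section ColonT

variable {A T : Type u} [CommRing A] [CommRing T] [Algebra A T] [Algebra.FiniteType A T]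

theorem colon_T (𝔔 : Ideal T) [𝔔.IsPrime] (K : Ideal T) (hK𝔔 : K ≤ 𝔔)
    [Module.Flat A (T ⧸ K)] (g : T) (hg : g ∉ 𝔔) {s : ℕ} (k : Fin s → T) (hkK : ∀ j, k j ∈ K)
    (hgen : K.map (algebraMap T (Localization.Away g)) =
      Ideal.ofList (List.ofFn fun j => algebraMap T (Localization.Away g) (k j)))
    (hreg : LCI.IsKoszulRegularSeq (Localization.Away g)
      (List.ofFn fun j => algebraMap T (Localization.Away g) (k j)))
    (i : Fin s) (w : Localization.AtPrime 𝔔)
    (hw : algebraMap T (Localization.AtPrime 𝔔) (k i) * w ∈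
      (((𝔔.comap (algebraMap A T)).map (algebraMap A T)) ⊔
        Ideal.span (k '' {j | j < i})).map (algebraMap T (Localization.AtPrime 𝔔))) :
    w ∈ (((𝔔.comap (algebraMap A T)).map (algebraMap A T)) ⊔
        Ideal.span (k '' {j | j < i})).map (algebraMap T (Localization.AtPrime 𝔔)) := by
  set 𝔮 := 𝔔.comap (algebraMap A T) with h𝔮
  haveI h𝔮p : 𝔮.IsPrime := Ideal.comap_isPrime _ _
  let Aq := Localization.AtPrime 𝔮
  let W := Localization.AtPrime 𝔔
  let φ : Aq →+* W := Localization.localRingHom 𝔮 𝔔 (algebraMap A T) rfl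
  letI algAqW : Algebra Aq W := φ.toAlgebra
  haveI tow1 : IsScalarTower A Aq W := IsScalarTower.of_algebraMap_eq (fun a => by
    rw [IsScalarTower.algebraMap_apply A T W]
    exact (Localization.localRingHom_to_map 𝔮 𝔔 (algebraMap A T) rfl a).symm)
  let r : Fin s → W := fun j => algebraMap T W (k j)
  have hm : ∀ j, r j ∈ IsLocalRing.maximalIdeal W := fun j => by
    rw [← Localization.AtPrime.map_eq_maximalIdeal]
    exact Ideal.mem_map_of_mem _ (hK𝔔 (hkK j))
  -- Koszul-regularity in `W`
  have hunit : IsUnit (algebraMap T W g) :=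
    IsLocalization.map_units (M := 𝔔.primeCompl) W ⟨g, hg⟩
  let ι : Localization.Away g →+* W := IsLocalization.Away.lift g hunit
  have hι : ∀ t, ι (algebraMap T (Localization.Away g) t) = algebraMap T W t :=
    fun t => IsLocalization.Away.lift_eq g hunit t
  letI algι : Algebra (Localization.Away g) W := ι.toAlgebra
  haveI tow2 : IsScalarTower T (Localization.Away g) W :=
    IsScalarTower.of_algebraMap_eq (fun t => (hι t).symm)
  haveI flTW : Module.Flat T W := IsLocalization.flat W 𝔔.primeCompl
  haveI flgW : Module.Flat (Localization.Away g) W :=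
    (Module.flat_iff_of_isLocalization (Localization.Away g) (Submonoid.powers g) W).mpr
      inferInstance
  have hmapfn : (List.ofFn fun j => algebraMap T (Localization.Away g) (k j)).map
      (algebraMap (Localization.Away g) W) = List.ofFn r := by
    rw [List.map_ofFn]
    congr 1
    funext j
    exact hι (k j)
  have hregW : LCI.IsKoszulRegularSeq W (List.ofFn r) := by
    have h1 := KoszulConcat.isKoszulRegularSeq_map_of_flat (B := W) _ hreg
    rwa [hmapfn] at h1
  have hq : CAlgX.IsQuasiRegular r := qr_of_koszul_ofFn r hregW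
  have hspan : Ideal.span (Set.range r) = K.map (algebraMap T W) := by
    have h1 : K.map (algebraMap T W) =
        (K.map (algebraMap T (Localization.Away g))).map
          (algebraMap (Localization.Away g) W) := by
      rw [Ideal.map_map, ← IsScalarTower.algebraMap_eq]
    rw [h1, hgen, Ideal.map_ofList, hmapfn, Groth.Agent.Lib.Helper14.LCF.ofList_ofFn]
  -- flatness of the quotient
  haveI hflW : Module.Flat Aq (W ⧸ Ideal.span (Set.range r)) := by
    rw [hspan]
    haveI : IsScalarTower A (T ⧸ K) (W ⧸ K.map (algebraMap T W)) := by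
      refine IsScalarTower.of_algebraMap_eq (R := A) (S := T ⧸ K)
        (A := W ⧸ K.map (algebraMap T W)) (fun a => ?_)
      rw [IsScalarTower.algebraMap_apply A T (T ⧸ K),
        IsScalarTower.algebraMap_apply A W (W ⧸ K.map (algebraMap T W)),
        IsScalarTower.algebraMap_apply A T W]
      rfl
    haveI : Module.Flat (T ⧸ K) (W ⧸ K.map (algebraMap T W)) :=
      IsLocalization.flat _ (Algebra.algebraMapSubmonoid (T ⧸ K) 𝔔.primeCompl)
    haveI : Module.Flat A (W ⧸ K.map (algebraMap T W)) :=
      Module.Flat.trans A (T ⧸ K) _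
    exact (Module.flat_iff_of_isLocalization Aq 𝔮.primeCompl
      (W ⧸ K.map (algebraMap T W))).mpr inferInstance
  -- the fibre ring is Noetherian
  haveI : Algebra.EssFiniteType T W := Algebra.EssFiniteType.of_isLocalization W 𝔔.primeCompl
  haveI : Algebra.EssFiniteType A W := Algebra.EssFiniteType.comp A T W
  haveI : Algebra.EssFiniteType Aq W := Algebra.EssFiniteType.of_comp A Aq W
  letI : Field (Aq ⧸ IsLocalRing.maximalIdeal Aq) :=
    Ideal.Quotient.field (IsLocalRing.maximalIdeal Aq)
  haveI : IsNoetherianRing (W ⧸ (IsLocalRing.maximalIdeal Aq).map (algebraMap Aq W)) :=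
    Algebra.EssFiniteType.isNoetherianRing (Aq ⧸ IsLocalRing.maximalIdeal Aq) _
  -- identification of the ideals
  have hmax : (IsLocalRing.maximalIdeal Aq).map (algebraMap Aq W) =
      (𝔮.map (algebraMap A T)).map (algebraMap T W) := by
    rw [← Localization.AtPrime.map_eq_maximalIdeal (I := 𝔮), Ideal.map_map, Ideal.map_map,
      ← IsScalarTower.algebraMap_eq, ← IsScalarTower.algebraMap_eq]
  have hsp : ∀ S : Set (Fin s), Ideal.span (r '' S) =
      (Ideal.span (k '' S)).map (algebraMap T W) := by
    intro S
    rw [Ideal.map_span, Set.image_image]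
  have hb : (IsLocalRing.maximalIdeal Aq).map (algebraMap Aq W) ⊔
      Ideal.span (r '' {j : Fin s | j < i}) =
      ((𝔮.map (algebraMap A T)) ⊔ Ideal.span (k '' {j | j < i})).map (algebraMap T W) := by
    rw [Ideal.map_sup, hmax, hsp]
  have key := RelRegReg.fibre_reg r hm hq hflW i w (by rw [hb]; exact hw)
  rw [hb] at key
  exact key

end ColonT

end Groth.Agent.Lib.Helper9.KSy
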