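import Mathlib
import Groth.Agent.Lib.Helper9.SmQA
import Groth.Agent.Lib.Helper1.SecReg

/-!
# The polynomial case over a local ring (helper9)

`A₁` a local ring, `a : Fin n → A₁` a point, `R'` the local ring of `A₁[t]` at the point: an ideal
of `A₁` is generated by a sequence of kind `Q` as soon as its preimage under evaluation is so
in `R'`.
-/

set_option autoImplicit false
set_option linter.style.haveILetI false
universe u

namespace Groth.Agent.Lib.Helper9.SmQ

open Groth.Agent.Lib.Helper1 Groth.Agent.Lib.Helper1.KDesc Groth.Agent.Lib.Helper9.QDesc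
open MvPolynomial

section KerEval

variable {A : Type u} [CommRing A] {n : ℕ} (a : Fin n → A)

theorem sub_C_eval_mem (p : MvPolynomial (Fin n) A) :
    p - C (eval a p) ∈
      Ideal.span (Set.range fun k : Fin n => (X k - C (a k) : MvPolynomial (Fin n) A)) := by
  induction p using MvPolynomial.induction_on with
  | C c =>
    rw [eval_C, sub_self]
    exact Ideal.zero_mem _
  | add p q hp hq =>
    have h0 : p + q - C (eval a (p + q)) = (p - C (eval a p)) + (q - C (eval a q)) := by
      rw [map_add, C_add]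
      ring
    rw [h0]
    exact Ideal.add_mem _ hp hq
  | mul_X p k hp =>
    have h0 : p * X k - C (eval a (p * X k)) =
        (p - C (eval a p)) * X k + C (eval a p) * (X k - C (a k)) := by
      rw [map_mul, eval_X, C_mul]
      ring
    rw [h0]
    exact Ideal.add_mem _ (Ideal.mul_mem_right _ _ hp)
      (Ideal.mul_mem_left _ _ (Ideal.subset_span ⟨k, rfl⟩))

theorem ker_eval : RingHom.ker (eval a) =
    Ideal.span (Set.range fun k : Fin n => (X k - C (a k) : MvPolynomial (Fin n) A)) := by
  apply le_antisymm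
  · intro p hp
    have h := sub_C_eval_mem a p
    rw [RingHom.mem_ker.mp hp, C_0, sub_zero] at h
    exact h
  · rw [Ideal.span_le]
    rintro _ ⟨k, rfl⟩
    rw [SetLike.mem_coe, RingHom.mem_ker, map_sub, eval_X, eval_C, sub_self]

theorem eval_surjective : Function.Surjective (eval a) := fun x => ⟨C x, eval_C x⟩

end KerEval

section PolyLocal

variable {Q : ∀ (R : Type u) [CommRing R], List R → Prop}

variable {A₁ : Type u} [CommRing A₁] [IsLocalRing A₁] {n : ℕ} (a : Fin n → A₁)

/-- the prime of the point `a` -/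
noncomputable abbrev qP : Ideal (MvPolynomial (Fin n) A₁) := (IsLocalRing.maximalIdeal A₁).comap (eval a)

theorem isUnit_eval_of_notMem (s : MvPolynomial (Fin n) A₁) (hs : s ∈ (qP a).primeCompl) :
    IsUnit (eval a s) := by
  by_contra h
  exact hs ((IsLocalRing.mem_maximalIdeal _).mpr h)

/-- evaluation at `a` on the local ring at `a` -/
noncomputable def thetaHom : Localization.AtPrime (qP a) →+* A₁ :=
  IsLocalization.lift (M := (qP a).primeCompl) (g := eval a)
    (fun s => isUnit_eval_of_notMem a s.1 s.2)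

theorem thetaHom_algebraMap (p : MvPolynomial (Fin n) A₁) :
    thetaHom a (algebraMap _ _ p) = eval a p :=
  IsLocalization.lift_eq _ p

theorem thetaHom_surjective : Function.Surjective (thetaHom a) := fun x =>
  ⟨algebraMap _ _ (C x), by rw [thetaHom_algebraMap, eval_C]⟩

theorem ker_thetaHom : RingHom.ker (thetaHom a) =
    (RingHom.ker (eval a)).map
      (algebraMap (MvPolynomial (Fin n) A₁) (Localization.AtPrime (qP a))) := by
  apply le_antisymm
  · intro z hz
    obtain ⟨p, s, rfl⟩ := IsLocalization.exists_mk'_eq (qP a).primeCompl z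
    rw [RingHom.mem_ker, thetaHom, IsLocalization.lift_mk'_spec, mul_zero] at hz
    rw [IsLocalization.mk'_mem_map_algebraMap_iff]
    exact ⟨1, Submonoid.one_mem _, by rw [one_mul]; exact hz⟩
  · rw [Ideal.map_le_iff_le_comap]
    intro p hp
    rw [Ideal.mem_comap, RingHom.mem_ker, thetaHom_algebraMap]
    exact hp

open IsLocalRing in
/-- the first-order arc in the direction `k` -/
noncomputable def tau0 (k : Fin n) :
    MvPolynomial (Fin n) A₁ →+* DualNumber (ResidueField A₁) :=
  eval₂Hom ((TrivSqZeroExt.inlHom (ResidueField A₁) (ResidueField A₁)).comp (residue A₁))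
    (fun j => TrivSqZeroExt.inl (residue A₁ (a j)) + if j = k then DualNumber.eps else 0)

open IsLocalRing in
theorem fst_tau0 (k : Fin n) (p : MvPolynomial (Fin n) A₁) :
    (tau0 a k p).fst = residue A₁ (eval a p) := by
  induction p using MvPolynomial.induction_on with
  | C c =>
    simp [tau0]
  | add p q hp hq =>
    rw [map_add, map_add, map_add, TrivSqZeroExt.fst_add, hp, hq]
  | mul_X p j hp =>
    rw [map_mul, map_mul, map_mul, TrivSqZeroExt.fst_mul, hp]
    congr 1
    simp only [tau0, eval₂Hom_X', eval_X, TrivSqZeroExt.fst_add, TrivSqZeroExt.fst_inl]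
    split_ifs <;> simp

open IsLocalRing in
theorem isUnit_tau0 (k : Fin n) (s : (qP a).primeCompl) : IsUnit (tau0 a k s.1) := by
  rw [TrivSqZeroExt.isUnit_iff_isUnit_fst, fst_tau0]
  exact (isUnit_eval_of_notMem a s.1 s.2).map (residue A₁)

open IsLocalRing in
/-- the first-order arc on the local ring -/
noncomputable def tauHom (k : Fin n) :
    Localization.AtPrime (qP a) →+* DualNumber (ResidueField A₁) :=
  IsLocalization.lift (M := (qP a).primeCompl) (g := tau0 a k) (isUnit_tau0 a k)

theorem tauHom_algebraMap (k : Fin n) (p : MvPolynomial (Fin n) A₁) :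
    tauHom a k (algebraMap _ _ p) = tau0 a k p :=
  IsLocalization.lift_eq _ p

open IsLocalRing in
theorem fst_tauHom_of_mem (k : Fin n) (z : Localization.AtPrime (qP a))
    (hz : z ∈ maximalIdeal (Localization.AtPrime (qP a))) : (tauHom a k z).fst = 0 := by
  let F : Localization.AtPrime (qP a) →+* ResidueField A₁ :=
    (TrivSqZeroExt.fstHom (ResidueField A₁) (ResidueField A₁) (ResidueField A₁)).toRingHom.comp
      (tauHom a k)
  have hle : maximalIdeal (Localization.AtPrime (qP a)) ≤ RingHom.ker F := by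
    rw [← Localization.AtPrime.map_eq_maximalIdeal, Ideal.map_le_iff_le_comap]
    intro p hp
    rw [Ideal.mem_comap, RingHom.mem_ker]
    change (tauHom a k (algebraMap _ _ p)).fst = 0
    rw [tauHom_algebraMap, fst_tau0, residue_eq_zero_iff]
    exact hp
  exact hle hz

theorem tauHom_gen (k j : Fin n) :
    tauHom a k (algebraMap _ _ (X j - C (a j))) = if j = k then DualNumber.eps else 0 := by
  rw [tauHom_algebraMap]
  simp [tau0]

theorem exists_tau (k : Fin n) :
    ∃ (D : Type u) (_ : CommRing D) (τ : Localization.AtPrime (qP a) →+* D),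
      τ (algebraMap _ _ (X k - C (a k))) ≠ 0 ∧
      (∀ j : Fin n, j ≠ k → τ (algebraMap _ _ (X j - C (a j))) = 0) ∧
      ∀ m ∈ IsLocalRing.maximalIdeal (Localization.AtPrime (qP a)),
        ∀ m' ∈ IsLocalRing.maximalIdeal (Localization.AtPrime (qP a)), τ m * τ m' = 0 := by
  refine ⟨DualNumber (IsLocalRing.ResidueField A₁), inferInstance, tauHom a k, ?_, ?_, ?_⟩
  · rw [tauHom_gen, if_pos rfl]
    intro h
    have := congrArg TrivSqZeroExt.snd h
    simp at this
  · intro j hj
    rw [tauHom_gen, if_neg hj]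
  · intro m hm m' hm'
    have h1 := fst_tauHom_of_mem a k m hm
    have h2 := fst_tauHom_of_mem a k m' hm'
    apply TrivSqZeroExt.ext
    · rw [TrivSqZeroExt.fst_mul, h1, zero_mul, TrivSqZeroExt.fst_zero]
    · rw [TrivSqZeroExt.snd_mul, h1, h2]
      simp

/-- the polynomial case -/
theorem poly_local (hQ : GoodQ Q) (hquot : QuotAx Q) (I₁ : Ideal A₁) (hI₁ : I₁ ≠ ⊤)
    (l : List (Localization.AtPrime (qP a))) (hl : Q (Localization.AtPrime (qP a)) l)
    (hK : (I₁.comap (eval a)).map
      (algebraMap (MvPolynomial (Fin n) A₁) (Localization.AtPrime (qP a))) = Ideal.ofList l) :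
    ∃ l₀ : List A₁, l₀.length + n = l.length ∧ Q A₁ l₀ ∧ I₁ = Ideal.ofList l₀ := by
  let R' := Localization.AtPrime (qP a)
  let ys : List R' :=
    List.ofFn (fun k : Fin n => algebraMap (MvPolynomial (Fin n) A₁) R' (X k - C (a k)))
  have hyslen : ys.length = n := List.length_ofFn
  have hker : RingHom.ker (thetaHom a) = Ideal.ofList ys := by
    rw [ker_thetaHom, ker_eval, Ideal.map_span, SecReg.ofList_ofFn, ← Set.range_comp]
    rfl
  have hKm : Ideal.ofList l ≤ IsLocalRing.maximalIdeal R' := by
    rw [← hK, ← Localization.AtPrime.map_eq_maximalIdeal]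
    apply Ideal.map_mono
    intro p hp
    exact IsLocalRing.le_maximalIdeal hI₁ hp
  have hys : ∀ y ∈ ys, y ∈ Ideal.ofList l := by
    intro y hy
    rw [List.mem_ofFn] at hy
    obtain ⟨k, rfl⟩ := hy
    rw [← hK]
    apply Ideal.mem_map_of_mem
    rw [Ideal.mem_comap, map_sub, eval_X, eval_C, sub_self]
    exact Ideal.zero_mem _
  have hind : ∀ i (hi : i < ys.length), ∃ (D : Type u) (_ : CommRing D) (τ : R' →+* D),
      τ ys[i] ≠ 0 ∧ (∀ j (hj : j < i), τ (ys[j]'(hj.trans hi)) = 0) ∧
      ∀ m ∈ IsLocalRing.maximalIdeal R', ∀ κ ∈ Ideal.ofList l, τ m * τ κ = 0 := by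
    intro i hi
    have hi' : i < n := hyslen ▸ hi
    obtain ⟨D, instD, τ, h1, h2, h3⟩ := exists_tau a ⟨i, hi'⟩
    refine ⟨D, instD, τ, ?_, ?_, ?_⟩
    · simp only [ys, List.getElem_ofFn]
      exact h1
    · intro j hj
      simp only [ys, List.getElem_ofFn]
      refine h2 ⟨j, hj.trans hi'⟩ ?_
      intro h
      rw [Fin.mk.injEq] at h
      omega
    · intro m hm κ hκ
      exact h3 m hm κ (hKm hκ)
  obtain ⟨l₀, hlen, hl₀, hI⟩ := peel hQ hquot n R' A₁ (thetaHom a) (thetaHom_surjective a) ys
    hyslen hker l hl hKm hys hind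
  refine ⟨l₀, hlen, hl₀, ?_⟩
  have hcomp : (thetaHom a).comp (algebraMap (MvPolynomial (Fin n) A₁) R') = eval a :=
    RingHom.ext (fun p => thetaHom_algebraMap a p)
  rw [← hI, ← hK, Ideal.map_map, hcomp, Ideal.map_comap_of_surjective _ (eval_surjective a)]

end PolyLocal

end Groth.Agent.Lib.Helper9.SmQ
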