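import Mathlib
import Groth.Agent.Lib.Helper9.SmQC

/-!
# Regular ideals under a smooth algebra: the local main lemma (helper9)
-/

set_option autoImplicit false
set_option linter.style.haveILetI false
universe u

namespace Groth.Agent.Lib.Helper9.SmQ

open Groth.Agent.Lib.Helper1 Groth.Agent.Lib.Helper1.KDesc Groth.Agent.Lib.Helper9.QDesc
open MvPolynomial

/-- a surjection from a local ring onto a nontrivial ring reflects units -/
theorem isUnit_of_map_of_surjective {R₀ T₀ : Type*} [CommRing R₀] [IsLocalRing R₀] [CommRing T₀]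
    [Nontrivial T₀] (f : R₀ →+* T₀) (hf : Function.Surjective f) (x : R₀) (hx : IsUnit (f x)) :
    IsUnit x := by
  by_contra hnu
  have hxm : x ∈ IsLocalRing.maximalIdeal R₀ := (IsLocalRing.mem_maximalIdeal x).mpr hnu
  obtain ⟨c, hc⟩ := hx.exists_right_inv
  obtain ⟨w, rfl⟩ := hf c
  have hker_le : RingHom.ker f ≤ IsLocalRing.maximalIdeal R₀ :=
    IsLocalRing.le_maximalIdeal (RingHom.ker_ne_top f)
  have h1 : x * w - 1 ∈ RingHom.ker f := by
    rw [RingHom.mem_ker, map_sub, map_mul, map_one, hc, sub_self]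
  have h2 : (1 : R₀) ∈ IsLocalRing.maximalIdeal R₀ := by
    have := Ideal.sub_mem _ (Ideal.mul_mem_right w _ hxm) (hker_le h1)
    simpa using this
  exact (IsLocalRing.maximalIdeal.isMaximal R₀).ne_top ((Ideal.eq_top_iff_one _).mpr h2)

section LocalMain

variable {Q : ∀ (R : Type u) [CommRing R], List R → Prop}

/-- the local main lemma -/
theorem local_main (hQ : GoodQ Q) (hquot : QuotAx Q) {A₁ S C₀ : Type u} [CommRing A₁]
    [CommRing S] [CommRing C₀] [IsLocalRing A₁] [IsLocalRing S] [Nontrivial C₀] [Algebra A₁ S]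
    (n : ℕ) [Algebra (MvPolynomial (Fin n) A₁) S] [IsScalarTower A₁ (MvPolynomial (Fin n) A₁) S]
    [Module.Flat (MvPolynomial (Fin n) A₁) S]
    [Algebra.FormallyUnramified (MvPolynomial (Fin n) A₁) S]
    (ρS : S →+* C₀) (hsurj : Function.Surjective (ρS.comp (algebraMap A₁ S)))
    (l : List S) (hl : Q S l) (hker : RingHom.ker ρS = Ideal.ofList l) :
    ∃ l₀ : List A₁, l₀.length + n = l.length ∧ Q A₁ l₀ ∧
      RingHom.ker (ρS.comp (algebraMap A₁ S)) = Ideal.ofList l₀ := by
  classical
  have hρSsurj : Function.Surjective ρS := fun c => by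
    obtain ⟨x, hx⟩ := hsurj c
    exact ⟨algebraMap A₁ S x, hx⟩
  have hkerS_le : RingHom.ker ρS ≤ IsLocalRing.maximalIdeal S :=
    IsLocalRing.le_maximalIdeal (RingHom.ker_ne_top ρS)
  -- the point
  choose a ha using fun k : Fin n =>
    hsurj (ρS (algebraMap (MvPolynomial (Fin n) A₁) S (X k)))
  have hcomp : ρS.comp (algebraMap (MvPolynomial (Fin n) A₁) S) =
      (ρS.comp (algebraMap A₁ S)).comp (eval a) := by
    apply MvPolynomial.ringHom_ext
    · intro c
      change ρS (algebraMap (MvPolynomial (Fin n) A₁) S (C c)) =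
        ρS (algebraMap A₁ S (eval a (C c)))
      rw [eval_C, ← MvPolynomial.algebraMap_eq, ← IsScalarTower.algebraMap_apply]
    · intro k
      change ρS (algebraMap (MvPolynomial (Fin n) A₁) S (X k)) =
        (ρS.comp (algebraMap A₁ S)) (eval a (X k))
      rw [eval_X]
      exact (ha k).symm
  have hcomp' : ∀ p : MvPolynomial (Fin n) A₁,
      ρS (algebraMap (MvPolynomial (Fin n) A₁) S p) =
        (ρS.comp (algebraMap A₁ S)) (eval a p) := fun p => RingHom.congr_fun hcomp p
  -- units in `S`
  have hunitS : ∀ s : (qP a).primeCompl,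
      IsUnit (algebraMap (MvPolynomial (Fin n) A₁) S s.1) := by
    intro s
    have h1 : IsUnit (eval a s.1) := isUnit_eval_of_notMem a s.1 s.2
    have h2 : IsUnit (ρS (algebraMap (MvPolynomial (Fin n) A₁) S s.1)) := by
      rw [hcomp']
      exact h1.map _
    exact isUnit_of_map_of_surjective ρS hρSsurj _ h2
  let R' := Localization.AtPrime (qP a)
  let φ : R' →+* S := IsLocalization.lift (M := (qP a).primeCompl) hunitS
  have hφ : ∀ p, φ (algebraMap (MvPolynomial (Fin n) A₁) R' p) =
      algebraMap (MvPolynomial (Fin n) A₁) S p := fun p => IsLocalization.lift_eq _ p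
  letI algR'S : Algebra R' S := φ.toAlgebra
  haveI : IsScalarTower (MvPolynomial (Fin n) A₁) R' S :=
    IsScalarTower.of_algebraMap_eq (fun p => (hφ p).symm)
  haveI : Module.Flat R' S :=
    (Module.flat_iff_of_isLocalization R' (qP a).primeCompl S).mpr inferInstance
  haveI : Algebra.FormallyUnramified R' S :=
    Algebra.FormallyUnramified.of_restrictScalars (MvPolynomial (Fin n) A₁) R' S
  haveI : IsLocalHom (algebraMap R' S) := by
    refine ((IsLocalRing.local_hom_TFAE (algebraMap R' S)).out 0 2).mpr ?_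
    rw [← Localization.AtPrime.map_eq_maximalIdeal, Ideal.map_map,
      ← IsScalarTower.algebraMap_eq, Ideal.map_le_iff_le_comap]
    intro p hp
    rw [Ideal.mem_comap, IsLocalRing.mem_maximalIdeal, mem_nonunits_iff]
    intro hu
    have h2 : IsUnit ((ρS.comp (algebraMap A₁ S)) (eval a p)) := by
      rw [← hcomp']
      exact hu.map ρS
    have h3 := isUnit_of_map_of_surjective _ hsurj _ h2
    exact (IsLocalRing.mem_maximalIdeal _).mp hp h3
  -- the kernel on `R'`
  have hρPalg : ∀ p, (ρS.comp (algebraMap R' S)) (algebraMap (MvPolynomial (Fin n) A₁) R' p) =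
      (ρS.comp (algebraMap A₁ S)) (eval a p) := by
    intro p
    change ρS (algebraMap R' S (algebraMap (MvPolynomial (Fin n) A₁) R' p)) = _
    rw [← IsScalarTower.algebraMap_apply, hcomp']
  have hρPsurj : Function.Surjective (ρS.comp (algebraMap R' S)) := by
    intro c
    obtain ⟨x, hx⟩ := hsurj c
    exact ⟨algebraMap (MvPolynomial (Fin n) A₁) R' (C x), by rw [hρPalg, eval_C]; exact hx⟩
  have hU := ker_eq_map_of_formallyUnramified (R' := R') ρS hρPsurj
    (by rw [hker]; exact ofList_fg l)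
    (by rw [IsLocalRing.jacobson_eq_maximalIdeal ⊥ bot_ne_top]; exact hkerS_le)
  obtain ⟨l', hl'len, hl'Q, hl'K⟩ := descent_local hQ (RingHom.ker (ρS.comp (algebraMap R' S)))
    l hl (by rw [← hU, hker])
  have hK : ((RingHom.ker (ρS.comp (algebraMap A₁ S))).comap (eval a)).map
      (algebraMap (MvPolynomial (Fin n) A₁) R') = Ideal.ofList l' := by
    rw [← hl'K]
    have h1 : (RingHom.ker (ρS.comp (algebraMap A₁ S))).comap (eval a) =
        (RingHom.ker (ρS.comp (algebraMap R' S))).comap
          (algebraMap (MvPolynomial (Fin n) A₁) R') := by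
      ext p
      rw [Ideal.mem_comap, Ideal.mem_comap, RingHom.mem_ker, RingHom.mem_ker, hρPalg]
    rw [h1]
    exact IsLocalization.map_under (qP a).primeCompl R' _
  obtain ⟨l₀, hlen, hl₀Q, hl₀I⟩ := poly_local a hQ hquot
    (RingHom.ker (ρS.comp (algebraMap A₁ S))) (RingHom.ker_ne_top _) l' hl'Q hK
  exact ⟨l₀, by omega, hl₀Q, hl₀I⟩

end LocalMain

section LocalRingHom

variable {R₀ P₀ : Type*} [CommRing R₀] [CommRing P₀] (I : Ideal R₀) [I.IsPrime] (J : Ideal P₀)
  [J.IsPrime] (f : R₀ →+* P₀) (hIJ : I = J.comap f)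

include hIJ in
theorem notMem_of_map_notMem {y : R₀} (h : f y ∈ J.primeCompl) : y ∈ I.primeCompl := by
  intro hmem
  rw [hIJ] at hmem
  exact h hmem

theorem localRingHom_surjective (hf : Function.Surjective f) :
    Function.Surjective (Localization.localRingHom I J f hIJ) := by
  intro z
  obtain ⟨c, ⟨t, ht⟩, rfl⟩ := IsLocalization.exists_mk'_eq J.primeCompl z
  obtain ⟨x, rfl⟩ := hf c
  obtain ⟨y, rfl⟩ := hf t
  exact ⟨IsLocalization.mk' _ x ⟨y, notMem_of_map_notMem I J f hIJ ht⟩,
    Localization.localRingHom_mk' _ _ _ _ _ _⟩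

theorem ker_localRingHom (hf : Function.Surjective f) :
    RingHom.ker (Localization.localRingHom I J f hIJ) =
      (RingHom.ker f).map (algebraMap R₀ (Localization.AtPrime I)) := by
  apply le_antisymm
  · intro z hz
    obtain ⟨x, s, rfl⟩ := IsLocalization.exists_mk'_eq I.primeCompl z
    rw [RingHom.mem_ker, Localization.localRingHom_mk', IsLocalization.mk'_eq_zero_iff] at hz
    obtain ⟨⟨t, ht⟩, htx⟩ := hz
    obtain ⟨y, rfl⟩ := hf t
    rw [IsLocalization.mk'_mem_map_algebraMap_iff]
    exact ⟨y, notMem_of_map_notMem I J f hIJ ht, by rw [RingHom.mem_ker, map_mul]; exact htx⟩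
  · rw [Ideal.map_le_iff_le_comap]
    intro x hx
    rw [Ideal.mem_comap, RingHom.mem_ker, Localization.localRingHom_to_map,
      RingHom.mem_ker.mp hx, map_zero]

end LocalRingHom

end Groth.Agent.Lib.Helper9.SmQ
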