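import Mathlib
import Groth.Agent.Lib.Helper9.KSyA
import Groth.Agent.Lib.Helper9.SmQD
import Groth.Agent.Lib.Helper14.LCF.SliceSeq

/-!
# Transfer of the fibre colon conditions along a closed immersion of the base, and slicing
(helper9)
-/

set_option autoImplicit false
set_option linter.style.haveILetI false
set_option linter.unusedSectionVars false
set_option maxHeartbeats 800000
universe u

namespace Groth.Agent.Lib.Helper9.KSy

open Groth.Agent.Lib.Helper1 Groth.Agent.Lib.Helper22

section Transfer

variable {P D A T : Type u} [CommRing P] [CommRing D] [CommRing A] [CommRing T]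
  [Algebra P D] [Algebra A T] (α : P →+* A) (β : D →+* T)

theorem hreg_D (hα : Function.Surjective α) (hβ : Function.Surjective β)
    (hcomm : ∀ p, β (algebraMap P D p) = algebraMap A T (α p))
    (hker : RingHom.ker β = (RingHom.ker α).map (algebraMap P D))
    (𝔔 : Ideal T) [𝔔.IsPrime] (Q' : Ideal D) [Q'.IsPrime] (hQ' : Q' = 𝔔.comap β)
    {s : ℕ} (H : Fin s → D)
    (hT : ∀ (i : Fin s) (w : Localization.AtPrime 𝔔),
      algebraMap T (Localization.AtPrime 𝔔) (β (H i)) * w ∈
        (((𝔔.comap (algebraMap A T)).map (algebraMap A T)) ⊔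
          Ideal.span ((fun j => β (H j)) '' {j | j < i})).map
            (algebraMap T (Localization.AtPrime 𝔔)) →
      w ∈ (((𝔔.comap (algebraMap A T)).map (algebraMap A T)) ⊔
          Ideal.span ((fun j => β (H j)) '' {j | j < i})).map
            (algebraMap T (Localization.AtPrime 𝔔)))
    (i : Fin s) (w : Localization.AtPrime Q')
    (hw : algebraMap D (Localization.AtPrime Q') (H i) * w ∈
      (((Q'.comap (algebraMap P D)).map (algebraMap P D)) ⊔
        Ideal.span (H '' {j | j < i})).map (algebraMap D (Localization.AtPrime Q'))) :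
    w ∈ (((Q'.comap (algebraMap P D)).map (algebraMap P D)) ⊔
        Ideal.span (H '' {j | j < i})).map (algebraMap D (Localization.AtPrime Q')) := by
  let WD := Localization.AtPrime Q'
  let WT := Localization.AtPrime 𝔔
  let Θ : WD →+* WT := Localization.localRingHom Q' 𝔔 β hQ'
  have hΘs : Function.Surjective Θ := SmQ.localRingHom_surjective Q' 𝔔 β hQ' hβ
  have hΘk : RingHom.ker Θ = (RingHom.ker β).map (algebraMap D WD) :=
    SmQ.ker_localRingHom Q' 𝔔 β hQ' hβ
  have hΘa : ∀ d, Θ (algebraMap D WD d) = algebraMap T WT (β d) :=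
    fun d => Localization.localRingHom_to_map Q' 𝔔 β hQ' d
  set Q := Q'.comap (algebraMap P D) with hQdef
  set 𝔮 := 𝔔.comap (algebraMap A T) with h𝔮def
  have hQ𝔮 : Q = 𝔮.comap α := by
    ext p
    rw [hQdef, h𝔮def, Ideal.mem_comap, Ideal.mem_comap, Ideal.mem_comap, hQ', Ideal.mem_comap,
      hcomm]
  have hQmap : Q.map α = 𝔮 := by
    rw [hQ𝔮]
    exact Ideal.map_comap_of_surjective α hα 𝔮
  set bD := (Q.map (algebraMap P D)) ⊔ Ideal.span (H '' {j | j < i}) with hbD
  set bT := (𝔮.map (algebraMap A T)) ⊔ Ideal.span ((fun j => β (H j)) '' {j | j < i}) with hbT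
  have hbmap : bD.map β = bT := by
    have h1 : (β.comp (algebraMap P D)) = (algebraMap A T).comp α := RingHom.ext hcomm
    rw [hbD, Ideal.map_sup, Ideal.map_map, Ideal.map_span, Set.image_image, h1, ← Ideal.map_map,
      hQmap]
  have hkerle : RingHom.ker β ≤ bD := by
    rw [hker]
    refine le_sup_of_le_left (Ideal.map_mono ?_)
    intro p hp
    rw [hQ𝔮, Ideal.mem_comap, RingHom.mem_ker.mp hp]
    exact Ideal.zero_mem _
  have hcompΘ : Θ.comp (algebraMap D WD) = (algebraMap T WT).comp β := RingHom.ext hΘa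
  have hmapΘ : (bD.map (algebraMap D WD)).map Θ = bT.map (algebraMap T WT) := by
    rw [Ideal.map_map, hcompΘ, ← Ideal.map_map, hbmap]
  have h1 : Θ (algebraMap D WD (H i) * w) ∈ (bD.map (algebraMap D WD)).map Θ :=
    Ideal.mem_map_of_mem Θ hw
  rw [map_mul, hΘa, hmapΘ] at h1
  have h2 := hT i (Θ w) h1
  rw [← hmapΘ] at h2
  have h3 : w ∈ ((bD.map (algebraMap D WD)).map Θ).comap Θ := h2
  rw [Ideal.comap_map_of_surjective Θ hΘs] at h3
  have h4 : Ideal.comap Θ ⊥ ≤ bD.map (algebraMap D WD) := by
    rw [← RingHom.ker_eq_comap_bot, hΘk]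
    exact Ideal.map_mono hkerle
  exact (sup_le le_rfl h4) h3

end Transfer

section Slice

variable {P D : Type u} [CommRing P] [CommRing D] [Algebra P D] [Module.Flat P D]
  [Algebra.FinitePresentation P D]

theorem slice (Q' : Ideal D) [Q'.IsPrime] {s : ℕ} (H : Fin s → D) (hH : ∀ i, H i ∈ Q')
    (hcol : ∀ (i : Fin s) (w : Localization.AtPrime Q'),
      algebraMap D (Localization.AtPrime Q') (H i) * w ∈
        (((Q'.comap (algebraMap P D)).map (algebraMap P D)) ⊔
          Ideal.span (H '' {j | j < i})).map (algebraMap D (Localization.AtPrime Q')) →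
      w ∈ (((Q'.comap (algebraMap P D)).map (algebraMap P D)) ⊔
          Ideal.span (H '' {j | j < i})).map (algebraMap D (Localization.AtPrime Q'))) :
    ∃ c : D, c ∉ Q' ∧ ∀ (c' : D) (C' : Type u) [CommRing C'] [Algebra D C'] [Algebra P C']
      [IsScalarTower P D C'] [IsLocalization.Away (c * c') C'],
      RingTheory.Sequence.IsWeaklyRegular C' (List.ofFn fun i => algebraMap D C' (H i)) ∧
        Module.Flat P (C' ⧸ Ideal.span (Set.range fun i => algebraMap D C' (H i))) := by
  let W := Localization.AtPrime Q'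
  haveI : IsLocalizedModule Q'.primeCompl (Algebra.linearMap D W) :=
    isLocalizedModule_iff_isLocalization.mpr inferInstance
  haveI : Module.Flat D W := IsLocalization.flat W Q'.primeCompl
  haveI : Module.Flat P W := Module.Flat.trans P D W
  refine Groth.Agent.Lib.Helper14.LCF.exists_away_regular_seq' (A := P) Q' H hH
    (W := W) (Algebra.linearMap D W) ?_
  intro k w hw
  rw [Ideal.smul_top_eq_map] at hw ⊢
  rw [Submodule.restrictScalars_mem] at hw ⊢
  rw [Algebra.smul_def] at hw
  exact hcol k w hw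

end Slice

end Groth.Agent.Lib.Helper9.KSy
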