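import Mathlib
import Groth.Prelude.Def_CAlgX
import Groth.Agent.Lib.Helper6.QuasiRegBasis
import Groth.Agent.Lib.Helper1.KDesc8
import Groth.Agent.Lib.Helper1.KRegIdeal6

/-!
# Two auxiliary lemmas for the descent of Koszul-regularity (helper9)

* `exists_dual`: coordinate functionals on an ideal `J = ker θ + (e)` whose generators `e` become
  quasi-regular in the quotient by `ker θ`.
* `descent_open`: descent of Koszul-regularity of an extended ideal along a flat finitely
  presented algebra, on a basic open subset of the (open) image.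
-/

set_option autoImplicit false
set_option linter.style.haveILetI false
set_option maxHeartbeats 800000
universe u

namespace Groth.Agent.Lib.Helper9.KSyX

open Groth.Agent.Lib.Helper1

theorem exists_dual {R T' : Type u} [CommRing R] [CommRing T'] (θ : R →+* T')
    (hθ : Function.Surjective θ) (J : Ideal R) (s : ℕ) (e : Fin s → J)
    (hJ : J = RingHom.ker θ ⊔ Ideal.span (Set.range fun i => (e i : R)))
    (hq : CAlgX.IsQuasiRegular (fun i => θ (e i))) :
    ∃ lam : Fin s → (J →ₗ[R] R ⧸ J), ∀ i j, lam i (e j) = if i = j then 1 else 0 := by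
  classical
  set K₀ : Ideal R := RingHom.ker θ with hK₀
  have hK₀J : K₀ ≤ J := le_sup_left.trans hJ.ge
  have hspanJ : Ideal.span (Set.range fun i => (e i : R)) ≤ J := le_sup_right.trans hJ.ge
  let F : (K₀ × (Fin s → R)) →ₗ[R] J :=
    (Submodule.inclusion hK₀J).coprod (Fintype.linearCombination R e)
  have hFval : ∀ (a : K₀) (c : Fin s → R),
      ((F (a, c) : J) : R) = (a : R) + ∑ j, c j * (e j : R) := by
    intro a c
    simp only [F, LinearMap.coprod_apply, Fintype.linearCombination_apply, Submodule.coe_add,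
      Submodule.coe_inclusion, Submodule.coe_sum, Submodule.coe_smul, smul_eq_mul]
  have hFsurj : Function.Surjective F := by
    rintro ⟨x, hx⟩
    have hx' : x ∈ K₀ ⊔ Ideal.span (Set.range fun i => (e i : R)) := hJ.le hx
    obtain ⟨a, ha, b, hb, rfl⟩ := Submodule.mem_sup.mp hx'
    obtain ⟨c, hc⟩ := (Ideal.mem_span_range_iff_exists_fun).mp hb
    refine ⟨(⟨a, ha⟩, c), Subtype.ext ?_⟩
    rw [hFval, hc]
  let gi : Fin s → ((K₀ × (Fin s → R)) →ₗ[R] R ⧸ J) := fun i =>
    (Submodule.mkQ J) ∘ₗ (LinearMap.proj i) ∘ₗ (LinearMap.snd R K₀ (Fin s → R))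
  have hgi : ∀ i (a : K₀) (c : Fin s → R), gi i (a, c) = Submodule.Quotient.mk (c i) := by
    intro i a c
    rfl
  have hle : ∀ i, LinearMap.ker F ≤ LinearMap.ker (gi i) := by
    rintro i ⟨a, c⟩ hac
    rw [LinearMap.mem_ker] at hac ⊢
    rw [hgi, Submodule.Quotient.mk_eq_zero]
    have h0 : (a : R) + ∑ j, c j * (e j : R) = 0 := by
      rw [← hFval, hac]
      rfl
    have h1 : ∑ j, θ (c j) * θ (e j : R) = 0 := by
      have h2 := congrArg θ h0
      rw [map_add, map_zero, RingHom.mem_ker.mp a.2, zero_add, map_sum] at h2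
      simpa only [map_mul] using h2
    have h3 : θ (c i) ∈ Ideal.span (Set.range fun j => θ (e j : R)) :=
      Groth.Agent.Lib.Helper6.QuasiRegBasis.coeff_mem_of_sum_mem_sq (fun j => θ (e j : R)) hq
        (fun j => θ (c j)) (by rw [h1]; exact zero_mem _) i
    have h4 : Ideal.span (Set.range fun j => θ (e j : R)) =
        (Ideal.span (Set.range fun j => (e j : R))).map θ := by
      rw [Ideal.map_span, ← Set.range_comp]
      rfl
    rw [h4] at h3
    obtain ⟨y, hy, hyc⟩ := (Ideal.mem_map_iff_of_surjective θ hθ).mp h3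
    have h5 : c i - y ∈ K₀ := by
      rw [hK₀, RingHom.mem_ker, map_sub, hyc, sub_self]
    have h6 : c i = (c i - y) + y := by ring
    rw [h6]
    exact J.add_mem (hK₀J h5) (hspanJ hy)
  let eq := F.quotKerEquivOfSurjective hFsurj
  let lam : Fin s → (J →ₗ[R] R ⧸ J) := fun i =>
    ((LinearMap.ker F).liftQ (gi i) (hle i)) ∘ₗ eq.symm.toLinearMap
  have hlamF : ∀ i z, lam i (F z) = gi i z := by
    intro i z
    have h1 : eq.symm (F z) = Submodule.Quotient.mk z := by
      rw [LinearEquiv.symm_apply_eq]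
      rfl
    show ((LinearMap.ker F).liftQ (gi i) (hle i)) (eq.symm (F z)) = _
    rw [h1, Submodule.liftQ_apply]
  refine ⟨lam, fun i j => ?_⟩
  have hej : e j = F ((0 : K₀), Pi.single j (1 : R)) := by
    apply Subtype.ext
    rw [hFval]
    simp [Pi.single_apply]
  rw [hej, hlamF, hgi, Pi.single_apply]
  split_ifs
  · rfl
  · rfl

theorem descent_open {P E : Type u} [CommRing P] [CommRing E] [Algebra P E] [Module.Flat P E]
    [Algebra.FinitePresentation P E] (I₀ : Ideal P)
    (hK : LCI.IsKoszulRegularIdeal (I₀.map (algebraMap P E))) (q : Ideal E) [hqp : q.IsPrime] :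
    ∃ G : P, G ∉ q.comap (algebraMap P E) ∧
      LCI.IsKoszulRegularIdeal (I₀.map (algebraMap P (Localization.Away G))) := by
  have hopen : IsOpenMap (PrimeSpectrum.comap (algebraMap P E)) :=
    PrimeSpectrum.isOpenMap_comap_of_hasGoingDown_of_finitePresentation
  have hU : IsOpen (Set.range (PrimeSpectrum.comap (algebraMap P E))) := hopen.isOpen_range
  have hq : PrimeSpectrum.comap (algebraMap P E) ⟨q, hqp⟩ ∈
      Set.range (PrimeSpectrum.comap (algebraMap P E)) := ⟨_, rfl⟩
  obtain ⟨_, ⟨G, rfl⟩, hqG, hGU⟩ :=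
    PrimeSpectrum.isTopologicalBasis_basic_opens.exists_subset_of_mem_open hq hU
  refine ⟨G, hqG, ?_⟩
  let PG := Localization.Away G
  let EG := Localization.Away (algebraMap P E G)
  let φ : PG →+* EG := IsLocalization.Away.map PG EG (algebraMap P E) G
  have hφ : ∀ a, φ (algebraMap P PG a) = algebraMap E EG (algebraMap P E a) :=
    fun a => IsLocalization.map_eq _ a
  letI algφ : Algebra PG EG := φ.toAlgebra
  haveI tow : IsScalarTower P PG EG := IsScalarTower.of_algebraMap_eq (fun a => by
    rw [IsScalarTower.algebraMap_apply P E EG]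
    exact (hφ a).symm)
  haveI : Module.Flat E EG := IsLocalization.flat EG (Submonoid.powers (algebraMap P E G))
  haveI : Module.Flat P EG := Module.Flat.trans P E EG
  haveI : Module.Flat PG EG :=
    (Module.flat_iff_of_isLocalization PG (Submonoid.powers G) EG).mpr inferInstance
  haveI : Module.FaithfullyFlat PG EG := by
    apply Module.FaithfullyFlat.of_comap_surjective
    intro p
    let p₀ : PrimeSpectrum P := PrimeSpectrum.comap (algebraMap P PG) p
    have hGp₀ : G ∉ p₀.asIdeal := fun hmem =>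
      p.isPrime.ne_top (Ideal.eq_top_of_isUnit_mem _ hmem
        (IsLocalization.Away.algebraMap_isUnit G))
    obtain ⟨q₀, hq₀⟩ := hGU (show p₀ ∈ (PrimeSpectrum.basicOpen G : Set _) from hGp₀)
    have hq₀' : ∀ a : P, algebraMap P E a ∈ q₀.asIdeal ↔ a ∈ p₀.asIdeal := by
      intro a
      rw [← hq₀]
      rfl
    have hGq₀ : algebraMap P E G ∉ q₀.asIdeal := fun hmem => hGp₀ ((hq₀' G).mp hmem)
    have hdisj : Disjoint (Submonoid.powers (algebraMap P E G) : Set E) (q₀.asIdeal : Set E) := by
      rw [Set.disjoint_left]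
      rintro _ ⟨m, rfl⟩ hmem
      exact hGq₀ (q₀.isPrime.mem_of_pow_mem m hmem)
    have hq₁p : (q₀.asIdeal.map (algebraMap E EG)).IsPrime :=
      IsLocalization.isPrime_of_isPrime_disjoint (Submonoid.powers (algebraMap P E G)) EG
        q₀.asIdeal q₀.isPrime hdisj
    have hq₁c : (q₀.asIdeal.map (algebraMap E EG)).comap (algebraMap E EG) = q₀.asIdeal :=
      IsLocalization.under_map_of_isPrime_disjoint (Submonoid.powers (algebraMap P E G)) EG
        q₀.isPrime hdisj
    refine ⟨⟨q₀.asIdeal.map (algebraMap E EG), hq₁p⟩, ?_⟩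
    apply PrimeSpectrum.localization_comap_injective PG (Submonoid.powers G)
    ext a
    show algebraMap PG EG (algebraMap P PG a) ∈ q₀.asIdeal.map (algebraMap E EG) ↔
      a ∈ p₀.asIdeal
    have h1 : algebraMap PG EG (algebraMap P PG a) = algebraMap E EG (algebraMap P E a) := hφ a
    rw [h1, ← Ideal.mem_comap, hq₁c, hq₀']
  apply KDesc.isKoszulRegularIdeal_of_faithfullyFlat (B := EG) (I₀.map (algebraMap P PG))
  have h1 := KRegIdeal.isKoszulRegularIdeal_map_of_flat (R' := EG) (I₀.map (algebraMap P E)) hK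
  rw [Ideal.map_map] at h1 ⊢
  have h2 : (algebraMap PG EG).comp (algebraMap P PG) = (algebraMap E EG).comp (algebraMap P E) :=
    RingHom.ext hφ
  rw [h2]
  exact h1

end Groth.Agent.Lib.Helper9.KSyX
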