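import Mathlib
import Groth.Agent.Lib.Helper9.KSyB
import Groth.Agent.Lib.Helper9.KSyX
import Groth.Agent.Lib.Helper1.KRegIdeal12
import Groth.Agent.Lib.Helper1.KDesc8
import Groth.Agent.Lib.Helper1.SecReg

/-!
# Descent of Koszul-regularity along a flat lci map: ring core (helper9)
-/

set_option autoImplicit false
set_option linter.style.haveILetI false
set_option linter.unusedSectionVars false
set_option maxHeartbeats 1600000
universe u

namespace Groth.Agent.Lib.Helper9.KSy

open Groth.Agent.Lib.Helper1 Groth.Agent.Lib.Helper22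

section Core

variable {P D A T A' : Type u} [CommRing P] [CommRing D] [CommRing A] [CommRing T] [CommRing A']
  [Algebra P D] [Module.Flat P D] [Algebra.FinitePresentation P D]
  [Algebra A T] [Algebra.FiniteType A T] [Algebra A A'] [Algebra T A'] [IsScalarTower A T A']
  [Module.Flat A A']

theorem core_ring (α : P →+* A) (β : D →+* T) (hα : Function.Surjective α)
    (hβ : Function.Surjective β)
    (hcomm : ∀ p, β (algebraMap P D p) = algebraMap A T (α p))
    (hker : RingHom.ker β = (RingHom.ker α).map (algebraMap P D))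
    (hψ : Function.Surjective (algebraMap T A'))
    (hK : LCI.IsKoszulRegularIdeal (RingHom.ker (algebraMap T A')))
    (hJ : LCI.IsKoszulRegularIdeal (RingHom.ker ((algebraMap T A').comp β)))
    (𝔮' : Ideal A') [𝔮'.IsPrime] :
    ∃ G : P, algebraMap A A' (α G) ∉ 𝔮' ∧
      LCI.IsKoszulRegularIdeal ((RingHom.ker α).map (algebraMap P (Localization.Away G))) := by
  classical
  set ψ := algebraMap T A' with hψdef
  set K := RingHom.ker ψ with hKdef
  set J := RingHom.ker (ψ.comp β) with hJdef
  set 𝔔 := 𝔮'.comap ψ with h𝔔def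
  haveI h𝔔p : 𝔔.IsPrime := Ideal.comap_isPrime _ _
  set Q' := 𝔔.comap β with hQ'def
  haveI hQ'p : Q'.IsPrime := Ideal.comap_isPrime _ _
  have hK𝔔 : K ≤ 𝔔 := fun x hx => by
    rw [h𝔔def, Ideal.mem_comap, RingHom.mem_ker.mp hx]
    exact zero_mem _
  have hJK : ∀ x, x ∈ J ↔ β x ∈ K := fun x => by
    rw [hJdef, hKdef, RingHom.mem_ker, RingHom.mem_ker, RingHom.comp_apply]
  have hJQ' : J ≤ Q' := fun x hx => hK𝔔 ((hJK x).mp hx)
  have hkerβJ : RingHom.ker β ≤ J := fun x hx => by
    rw [hJK, RingHom.mem_ker.mp hx]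
    exact zero_mem _
  -- flatness of `T ⧸ K`
  haveI hflTK : Module.Flat A (T ⧸ K) := by
    let ψA : T →ₐ[A] A' := IsScalarTower.toAlgHom A T A'
    have hψA : Function.Surjective ψA := hψ
    let e : (T ⧸ RingHom.ker ψA) ≃ₐ[A] A' := Ideal.quotientKerAlgEquivOfSurjective hψA
    exact Module.Flat.of_linearEquiv e.toLinearEquiv
  -- Step 1: chart for `K` at `𝔔`
  obtain ⟨g, hg, s, hNK⟩ := (KRegIdeal.isKoszulRegularIdeal_iff K).mp hK ⟨𝔔, h𝔔p⟩ hK𝔔
  obtain ⟨kl, hkllen, hklgen⟩ := hNK.exists_genAway
  set n := kl.length with hn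
  let k : Fin n → T := fun j => ((kl.get j : K) : T)
  have hkK : ∀ j, k j ∈ K := fun j => (kl.get j).2
  have hofFn : List.ofFn k = kl.map Subtype.val := by
    have h1 : List.ofFn k = (List.ofFn kl.get).map Subtype.val := by
      rw [List.map_ofFn]
      rfl
    rw [h1, List.ofFn_get]
  have hofFn' : ∀ {S : Type u} [CommRing S] (f : T →+* S),
      (List.ofFn fun j => f (k j)) = (kl.map Subtype.val).map f := by
    intro S _ f
    rw [← hofFn, List.map_ofFn]
    rfl
  have hH0 : ∀ j : Fin n, ∃ h : D, β h = k j := fun j => hβ (k j)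
  choose H hH using hH0
  obtain ⟨G₁, hG₁⟩ := hβ g
  have hkfun : (fun j => β (H j)) = k := funext hH
  have hHJ : ∀ i, H i ∈ J := fun i => by
    rw [hJK, hH]
    exact hkK i
  have hHQ' : ∀ i, H i ∈ Q' := fun i => hJQ' (hHJ i)
  have hG₁Q' : G₁ ∉ Q' := fun hmem => by
    apply hg
    have : β G₁ ∈ 𝔔 := hmem
    rwa [hG₁] at this
  -- generation and regularity in `T_g`
  have hgen : K.map (algebraMap T (Localization.Away g)) =
      Ideal.ofList (List.ofFn fun j => algebraMap T (Localization.Away g) (k j)) := by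
    rw [hofFn']
    exact hklgen.map_eq (Localization.Away g) (IsLocalization.Away.algebraMap_isUnit g)
  have hreg : LCI.IsKoszulRegularSeq (Localization.Away g)
      (List.ofFn fun j => algebraMap T (Localization.Away g) (k j)) := by
    obtain ⟨l, hlen, hl, hKl⟩ := hNK.forall_loc (Localization.Away g)
    refine KoszulSwap.isKoszulRegularSeq_of_ofList_eq _ l ?_ (hgen.symm.trans hKl) hl
    rw [List.length_ofFn, hlen, ← hkllen]
  -- Step 2: fibre colon conditions and slicing
  have hcolT := colon_T (A := A) 𝔔 K hK𝔔 g hg k hkK hgen hreg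
  have hcolT' : ∀ (i : Fin n) (w : Localization.AtPrime 𝔔),
      algebraMap T (Localization.AtPrime 𝔔) (β (H i)) * w ∈
        (((𝔔.comap (algebraMap A T)).map (algebraMap A T)) ⊔
          Ideal.span ((fun j => β (H j)) '' {j | j < i})).map
            (algebraMap T (Localization.AtPrime 𝔔)) →
      w ∈ (((𝔔.comap (algebraMap A T)).map (algebraMap A T)) ⊔
          Ideal.span ((fun j => β (H j)) '' {j | j < i})).map
            (algebraMap T (Localization.AtPrime 𝔔)) := by
    intro i w hw
    rw [hkfun] at hw ⊢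
    rw [hH] at hw
    exact hcolT i w hw
  have hcolD := hreg_D α β hα hβ hcomm hker 𝔔 Q' rfl H hcolT'
  obtain ⟨c₀, hc₀, hslice⟩ := slice (P := P) Q' H hHQ' hcolD
  -- Step 3: the localization `R = D_c`
  set c := c₀ * G₁ with hc
  have hcQ' : c ∉ Q' := fun hmem => by
    rcases hQ'p.mem_or_mem hmem with h | h
    · exact hc₀ h
    · exact hG₁Q' h
  let R := Localization.Away c
  obtain ⟨hwr, hflE⟩ := hslice G₁ R
  haveI flDR : Module.Flat D R := IsLocalization.flat R (Submonoid.powers c)
  set JR := J.map (algebraMap D R) with hJRdef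
  let e : Fin n → JR := fun i => ⟨algebraMap D R (H i), Ideal.mem_map_of_mem _ (hHJ i)⟩
  have hefun : (fun i => ((e i : JR) : R)) = fun i => algebraMap D R (H i) := rfl
  have hes : LCI.IsKoszulRegularSeq R (List.ofFn fun i => ((e i : JR) : R)) := by
    rw [hefun]
    exact SecReg.isKoszulRegularSeq_of_isWeaklyRegular _ hwr
  set IE := Ideal.span (Set.range fun i => algebraMap D R (H i)) with hIE
  let E := R ⧸ IE
  let π : R →+* E := Ideal.Quotient.mk IE
  have hπs : Function.Surjective π := Ideal.Quotient.mk_surjective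
  have hkerπ : RingHom.ker π = Ideal.ofList (List.ofFn fun i => ((e i : JR) : R)) := by
    rw [hefun, Groth.Agent.Lib.Helper14.LCF.ofList_ofFn]
    exact Ideal.mk_ker
  -- the quotient `T_c`
  have hβc : β c = g * β c₀ := by rw [hc, map_mul, hG₁, mul_comm]
  let Tc := Localization.Away (g * β c₀)
  haveI : IsLocalization.Away (β c) Tc := by rw [hβc]; infer_instance
  obtain ⟨θ, hθcomm, hθsurj, hθker⟩ := KRegIdeal.loc_data β hβ c R Tc
  have hunitG₁ : IsUnit (algebraMap D R G₁) := by
    have h2 : IsUnit (algebraMap D R c₀ * algebraMap D R G₁) := by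
      rw [← map_mul]
      exact IsLocalization.Away.algebraMap_isUnit c
    exact isUnit_of_mul_isUnit_right h2
  have hspank : Ideal.span (Set.range k) = (Ideal.span (Set.range H)).map β := by
    rw [Ideal.map_span, ← Set.range_comp]
    congr 2
    exact hkfun.symm
  have hJR : JR = RingHom.ker θ ⊔ Ideal.span (Set.range fun i => ((e i : JR) : R)) := by
    rw [hefun]
    apply le_antisymm
    · rw [hJRdef, Ideal.map_le_iff_le_comap]
      intro x hx
      rw [Ideal.mem_comap]
      obtain ⟨N, hN⟩ := (KRegIdeal.genAway_iff g kl).mp hklgen (β x) ((hJK x).mp hx)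
      rw [← hofFn, Groth.Agent.Lib.Helper14.LCF.ofList_ofFn, hspank] at hN
      obtain ⟨y, hy, hyx⟩ := (Ideal.mem_map_iff_of_surjective β hβ).mp hN
      have hdiff : G₁ ^ N * x - y ∈ RingHom.ker β := by
        rw [RingHom.mem_ker, map_sub, map_mul, map_pow, hG₁, hyx, sub_self]
      have h1 : algebraMap D R (G₁ ^ N * x) ∈
          RingHom.ker θ ⊔ Ideal.span (Set.range fun i => algebraMap D R (H i)) := by
        have h2 : G₁ ^ N * x = (G₁ ^ N * x - y) + y := by ring
        rw [h2, map_add]
        refine Ideal.add_mem _ (Ideal.mem_sup_left ?_) (Ideal.mem_sup_right ?_)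
        · rw [hθker]
          exact Ideal.mem_map_of_mem _ hdiff
        · have h3 : Ideal.span (Set.range fun i => algebraMap D R (H i)) =
              (Ideal.span (Set.range H)).map (algebraMap D R) := by
            rw [Ideal.map_span, ← Set.range_comp]
            rfl
          rw [h3]
          exact Ideal.mem_map_of_mem _ hy
      rw [map_mul, map_pow] at h1
      exact (Ideal.unit_mul_mem_iff_mem _ (hunitG₁.pow N)).mp h1
    · refine sup_le ?_ ?_
      · rw [hθker, hJRdef]
        exact Ideal.map_mono hkerβJ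
      · rw [Ideal.span_le]
        rintro _ ⟨i, rfl⟩
        exact Ideal.mem_map_of_mem _ (hHJ i)
  -- quasi-regularity of the images in `T_c`
  have hq : CAlgX.IsQuasiRegular (fun i => θ (e i)) := by
    have hfun : (fun i => θ ((e i : JR) : R)) = fun i => algebraMap T Tc (k i) := by
      funext i
      show θ (algebraMap D R (H i)) = _
      rw [hθcomm, hH]
    rw [hfun]
    apply qr_of_koszul_ofFn
    obtain ⟨l, hlen, hl, hKl⟩ := (hNK.mul (β c₀)).forall_loc Tc
    have hgen' : K.map (algebraMap T Tc) =
        Ideal.ofList (List.ofFn fun j => algebraMap T Tc (k j)) := by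
      rw [hofFn']
      exact (hklgen.mul (β c₀)).map_eq Tc (IsLocalization.Away.algebraMap_isUnit (g * β c₀))
    refine KoszulSwap.isKoszulRegularSeq_of_ofList_eq _ l ?_ (hgen'.symm.trans hKl) hl
    rw [List.length_ofFn, hlen, ← hkllen]
  obtain ⟨lam, hlam⟩ := KSyX.exists_dual θ hθsurj JR n e hJR hq
  have hW' : LCI.IsKoszulRegularIdeal (JR.map π) :=
    KRegIdeal.isKoszulRegularIdeal_map_of_exchange π hπs JR n e hes hkerπ lam
      (fun i j hji => by rw [hlam, if_neg (ne_of_gt hji)])
      (fun i => by rw [hlam, if_pos rfl])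
      (KRegIdeal.isKoszulRegularIdeal_map_of_flat J hJ)
  -- the ideal `I₀ E`
  have hIEmap : JR.map π = (RingHom.ker α).map (algebraMap P E) := by
    have h1 : (Ideal.span (Set.range fun i => algebraMap D R (H i))).map π = ⊥ := by
      rw [Ideal.map_eq_bot_iff_le_ker]
      exact le_of_eq (Ideal.mk_ker).symm
    have h2 : algebraMap P E = π.comp ((algebraMap D R).comp (algebraMap P D)) := by
      rw [IsScalarTower.algebraMap_eq P R E, IsScalarTower.algebraMap_eq P D R]
      rfl
    rw [hJR, hefun, Ideal.map_sup, h1, sup_bot_eq, hθker, hker, Ideal.map_map, Ideal.map_map,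
      h2, RingHom.comp_assoc]
  -- finite presentation and flatness of `E`
  haveI : Algebra.FinitePresentation D R := IsLocalization.Away.finitePresentation c
  haveI : Algebra.FinitePresentation P R := Algebra.FinitePresentation.trans P D R
  haveI : Algebra.FinitePresentation R E :=
    Algebra.FinitePresentation.quotient (Submodule.fg_span (Set.finite_range _))
  haveI : Algebra.FinitePresentation P E := Algebra.FinitePresentation.trans P R E
  haveI : Module.Flat P E := hflE
  -- the prime of `E`
  have hdisj : Disjoint (Submonoid.powers c : Set D) (Q' : Set D) := by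
    rw [Set.disjoint_left]
    rintro _ ⟨m, rfl⟩ hmem
    exact hcQ' (hQ'p.mem_of_pow_mem m hmem)
  have hQ'Rp : (Q'.map (algebraMap D R)).IsPrime :=
    IsLocalization.isPrime_of_isPrime_disjoint (Submonoid.powers c) R Q' hQ'p hdisj
  have hkerle : RingHom.ker π ≤ Q'.map (algebraMap D R) := by
    rw [Ideal.mk_ker, hIE, Ideal.span_le]
    rintro _ ⟨i, rfl⟩
    exact Ideal.mem_map_of_mem _ (hHQ' i)
  set qE := (Q'.map (algebraMap D R)).map π with hqE
  haveI hqEp : qE.IsPrime := Ideal.map_isPrime_of_surjective hπs hkerle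
  have hqEcomap : ∀ d : D, π (algebraMap D R d) ∈ qE ↔ d ∈ Q' := by
    intro d
    have h1 : qE.comap π = Q'.map (algebraMap D R) := by
      rw [hqE, Ideal.comap_map_of_surjective π hπs, ← RingHom.ker_eq_comap_bot]
      exact sup_eq_left.mpr hkerle
    have h2 : (Q'.map (algebraMap D R)).comap (algebraMap D R) = Q' :=
      IsLocalization.under_map_of_isPrime_disjoint (Submonoid.powers c) R hQ'p hdisj
    rw [← Ideal.mem_comap, h1, ← Ideal.mem_comap, h2]
  obtain ⟨G, hG, hKG⟩ := KSyX.descent_open (P := P) (E := E) (RingHom.ker α)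
    (by rw [← hIEmap]; exact hW') qE
  refine ⟨G, fun hmem => hG ?_, hKG⟩
  rw [Ideal.mem_comap]
  have h2 : algebraMap P E G = π (algebraMap D R (algebraMap P D G)) := by
    rw [IsScalarTower.algebraMap_apply P R E, IsScalarTower.algebraMap_apply P D R]
    rfl
  rw [h2, hqEcomap]
  show ψ (β (algebraMap P D G)) ∈ 𝔮'
  rw [hcomm, hψdef, ← IsScalarTower.algebraMap_apply A T A']
  exact hmem

end Core

end Groth.Agent.Lib.Helper9.KSy
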