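import Mathlib
import Groth.Agent.Lib.Helper9.KSyC
import Groth.Agent.Lib.Helper1.KRegIdeal12

/-!
# A ring through which an lci map factors flat-lci-ly is lci near the image (helper9)

`isLCI_away`: for `R₀ → A → A'` with `A` of finite type over `R₀`, `A → A'` flat and lci and
`R₀ → A'` lci, every prime of `A'` has a basic open neighbourhood `D(s)`, `s ∈ A`, of its image
in `Spec A` with `R₀ → A_s` lci.
-/

set_option autoImplicit false
set_option linter.style.haveILetI false
set_option linter.unusedSectionVars false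
set_option maxHeartbeats 1600000
universe u

namespace Groth.Agent.Lib.Helper9.KSy

open Groth.Agent.Lib.Helper1 MvPolynomial

section RL

variable (R₀ A A' : Type u) [CommRing R₀] [CommRing A] [CommRing A'] [Algebra R₀ A] [Algebra A A']
  [Algebra R₀ A'] [IsScalarTower R₀ A A']

theorem isLCI_away (hft : Algebra.FiniteType R₀ A) [Module.Flat A A'] (h1 : LCI.IsLCI A A')
    (h2 : LCI.IsLCI R₀ A') (𝔮' : Ideal A') [𝔮'.IsPrime] :
    ∃ s : A, algebraMap A A' s ∉ 𝔮' ∧ ∀ (As : Type u) [CommRing As] [Algebra A As]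
      [Algebra R₀ As] [IsScalarTower R₀ A As] [IsLocalization.Away s As], LCI.IsLCI R₀ As := by
  obtain ⟨n, α, hα⟩ := Algebra.FiniteType.iff_quotient_mvPolynomial''.mp hft
  obtain ⟨-, m, ψ, hψ, hKψ⟩ := h1
  obtain ⟨-, n₀, α₀, hα₀, hI₀⟩ := h2
  let P := MvPolynomial (Fin n) R₀
  let D := MvPolynomial (Fin m) P
  let T := MvPolynomial (Fin m) A
  let αr : P →+* A := α.toRingHom
  have hαr : Function.Surjective αr := hα
  let β : D →+* T := MvPolynomial.map αr
  have hβ : Function.Surjective β := MvPolynomial.map_surjective αr hαr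
  letI algTA' : Algebra T A' := ψ.toRingHom.toAlgebra
  haveI tow : IsScalarTower A T A' :=
    IsScalarTower.of_algebraMap_eq (fun a => (ψ.commutes a).symm)
  have hcomm : ∀ p, β (algebraMap P D p) = algebraMap A T (αr p) := fun p => by
    show MvPolynomial.map αr (C p) = C (αr p)
    exact MvPolynomial.map_C _ _
  have hker : RingHom.ker β = (RingHom.ker αr).map (algebraMap P D) := MvPolynomial.ker_map αr
  -- the kernel of `D → A'` is Koszul-regular
  let Φ : MvPolynomial (Fin (m + n)) R₀ ≃ₐ[R₀] D :=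
    (renameEquiv R₀ finSumFinEquiv.symm).trans (sumAlgEquiv R₀ (Fin m) (Fin n))
  let πm : D →ₐ[R₀] T := mapAlgHom α
  have hπm : ∀ x, πm x = β x := fun x => rfl
  let γ : MvPolynomial (Fin (m + n)) R₀ →ₐ[R₀] A' :=
    (ψ.restrictScalars R₀).comp (πm.comp Φ.toAlgHom)
  have hγ : Function.Surjective γ := hψ.comp (hβ.comp Φ.surjective)
  have hKγ := KRegIdeal.isKoszulRegularIdeal_ker_of_other_presentation R₀ A' n₀ (m + n) α₀ hα₀
    γ hγ hI₀
  have hJ : LCI.IsKoszulRegularIdeal (RingHom.ker ((algebraMap T A').comp β)) := by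
    have h3 := KRegIdeal.isKoszulRegularIdeal_comap_equiv (Φ.symm.toRingEquiv) _ hKγ
    convert h3 using 1
    ext x
    rw [RingHom.mem_ker, Ideal.mem_comap, RingHom.mem_ker]
    have h4 : γ.toRingHom ((Φ.symm.toRingEquiv : D →+* MvPolynomial (Fin (m + n)) R₀) x) =
        ((algebraMap T A').comp β) x := by
      show ψ (πm (Φ (Φ.symm x))) = ψ (β x)
      rw [AlgEquiv.apply_symm_apply, hπm]
    rw [h4]
  obtain ⟨G, hG, hKG⟩ := core_ring (P := P) (D := D) (A := A) (T := T) (A' := A') αr β hαr hβ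
    hcomm hker hψ hKψ hJ 𝔮'
  refine ⟨αr G, hG, ?_⟩
  intro As _ _ _ _ _
  let PG := Localization.Away G
  obtain ⟨α', hα'comm, hα's, hα'k⟩ := KRegIdeal.loc_data αr hαr G PG As
  letI algPGAs : Algebra PG As := α'.toAlgebra
  have hL1 : LCI.IsLCI PG As := by
    refine KRegIdeal.isLCI_of_surjective PG As hα's ?_
    have h5 : RingHom.ker (algebraMap PG As) = RingHom.ker α' := rfl
    rw [h5, hα'k]
    exact hKG
  haveI smP : Algebra.Smooth R₀ P := ⟨inferInstance, inferInstance⟩
  haveI smPG' : Algebra.Smooth P PG := Algebra.Smooth.of_isLocalization_Away G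
  haveI smPG : Algebra.Smooth R₀ PG := Algebra.Smooth.comp R₀ P PG
  have hL0 : LCI.IsLCI R₀ PG := KRegIdeal.isLCI_of_smooth R₀ PG
  haveI tow2 : IsScalarTower R₀ PG As := IsScalarTower.of_algebraMap_eq (fun r => by
    rw [IsScalarTower.algebraMap_apply R₀ A As, IsScalarTower.algebraMap_apply R₀ P PG]
    show _ = α' (algebraMap P PG (algebraMap R₀ P r))
    rw [hα'comm]
    congr 1
    exact (α.commutes r).symm)
  exact KRegIdeal.isLCI_comp R₀ PG As hL0 hL1

end RL

end Groth.Agent.Lib.Helper9.KSy
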