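import Mathlib
import Groth.Agent.Lib.Helper4.FlatFibre

/-!
# Fibre local rings under base change (helper9)

For a pushout square `A → B`, `A → A'`, `B' = A' ⊗_A B` of Noetherian rings and a prime `q'` of
`B'` with contraction `q` to `B`, the fibre local ring of `A' → B'` at `q'` is flat over the fibre
local ring of `A → B` at `q`; in particular its depth is at least as large.
-/

set_option autoImplicit false
set_option linter.style.haveILetI false
set_option linter.unusedSectionVars false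
universe u
open IsLocalRing TensorProduct

namespace Groth.Agent.Lib.Helper9.KollarBC1

open Groth.Agent.Lib.Helper4.FlatFibre

section equiv

variable (A B A' B' : Type u) [CommRing A] [CommRing B] [CommRing A'] [CommRing B']
  [Algebra A B] [Algebra A A'] [Algebra B B'] [Algebra A' B'] [Algebra A B']
  [IsScalarTower A B B'] [IsScalarTower A A' B'] [Algebra.IsPushout A B A' B']
  (k k' : Type u) [CommRing k] [CommRing k'] [Algebra A k] [Algebra A k'] [Algebra A' k']
  [Algebra k k'] [IsScalarTower A k k'] [IsScalarTower A A' k']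

theorem exists_fibre_equiv :
    ∃ e : ((k ⊗[A] B) ⊗[k] k') ≃+* (k' ⊗[A'] B'),
      ∀ b : B, e (((1 : k) ⊗ₜ[A] b) ⊗ₜ[k] (1 : k')) = (1 : k') ⊗ₜ[A'] algebraMap B B' b := by
  haveI : Algebra.IsPushout A A' B B' := Algebra.IsPushout.symm inferInstance
  let e1 : ((k ⊗[A] B) ⊗[k] k') ≃ₐ[k] (k' ⊗[k] (k ⊗[A] B)) :=
    Algebra.TensorProduct.comm k (k ⊗[A] B) k'
  let e2 : (k' ⊗[k] (k ⊗[A] B)) ≃ₐ[k'] (k' ⊗[A] B) :=
    Algebra.TensorProduct.cancelBaseChange A k k' k' B
  let e3 : (k' ⊗[A'] (A' ⊗[A] B)) ≃ₐ[k'] (k' ⊗[A] B) :=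
    Algebra.TensorProduct.cancelBaseChange A A' k' k' B
  let e4 : (A' ⊗[A] B) ≃ₐ[A'] B' := Algebra.IsPushout.equiv A A' B B'
  let e5 : (k' ⊗[A'] (A' ⊗[A] B)) ≃ₐ[k'] (k' ⊗[A'] B') :=
    Algebra.TensorProduct.congr AlgEquiv.refl e4
  refine ⟨e1.toRingEquiv.trans (e2.toRingEquiv.trans (e3.symm.toRingEquiv.trans e5.toRingEquiv)),
    fun b => ?_⟩
  simp [e1, e2, e3, e4, e5, Algebra.IsPushout.equiv_tmul]

end equiv

section field

variable (k : Type u) [Field k]

/-- over a field, the fibre local ring is the local ring -/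
theorem nonempty_fibLocRing_field_equiv (X : Type u) [CommRing X] [Algebra k X]
    (r : Ideal X) [r.IsPrime] :
    Nonempty (EGA4.FibLocRing k X r ≃+* Localization.AtPrime r) := by
  have h0 : r.comap (algebraMap k X) = ⊥ := by
    have hne : r.comap (algebraMap k X) ≠ ⊤ := (Ideal.IsPrime.comap (algebraMap k X)).ne_top
    rcases Ideal.eq_bot_or_top (r.comap (algebraMap k X)) with h | h
    · exact h
    · exact absurd h hne
  have h1 : (r.comap (algebraMap k X)).map (algebraMap k (Localization.AtPrime r)) = ⊥ := by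
    rw [h0, Ideal.map_bot]
  exact ⟨(Ideal.quotEquivOfEq h1).trans (RingEquiv.quotientBot _)⟩

theorem depth_localization_le_flat (F T : Type u) [CommRing F] [CommRing T] [Algebra k F]
    [Algebra F T] [Algebra k T] [IsScalarTower k F T] [Module.Flat F T]
    [IsNoetherianRing F] [IsNoetherianRing T] (Q : Ideal T) [Q.IsPrime] :
    LocCoh.depth (Localization.AtPrime (Q.comap (algebraMap F T)))
        (Localization.AtPrime (Q.comap (algebraMap F T))) ≤
      LocCoh.depth (Localization.AtPrime Q) (Localization.AtPrime Q) := by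
  have h := (fibLocRing_trans k F T Q).1
  obtain ⟨e1⟩ := nonempty_fibLocRing_field_equiv k T Q
  obtain ⟨e2⟩ := nonempty_fibLocRing_field_equiv k F (Q.comap (algebraMap F T))
  rw [depth_eq_of_ringEquiv e1, depth_eq_of_ringEquiv e2] at h
  rw [h]
  exact le_self_add

end field

section crux

variable (A B A' B' : Type u) [CommRing A] [CommRing B] [CommRing A'] [CommRing B']
  [IsNoetherianRing A] [IsNoetherianRing B] [IsNoetherianRing A'] [IsNoetherianRing B']
  [Algebra A B] [Algebra A A'] [Algebra B B'] [Algebra A' B'] [Algebra A B']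
  [IsScalarTower A B B'] [IsScalarTower A A' B']

theorem depth_fibLocRing_congr (q1 q2 : Ideal B) [q1.IsPrime] [q2.IsPrime] (h : q1 = q2) :
    LocCoh.depth (EGA4.FibLocRing A B q1) (EGA4.FibLocRing A B q1) =
      LocCoh.depth (EGA4.FibLocRing A B q2) (EGA4.FibLocRing A B q2) := by
  subst h; rfl

theorem crux_aux (p : Ideal A) [p.IsPrime] (p' : Ideal A') [p'.IsPrime]
    (T : Type u) [CommRing T] [Algebra (p.Fiber B) T]
    [Algebra p.ResidueField T] [IsScalarTower p.ResidueField (p.Fiber B) T]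
    [Module.Flat (p.Fiber B) T]
    (e : T ≃+* p'.Fiber B')
    (he : ∀ b : B, e (algebraMap (p.Fiber B) T ((1 : p.ResidueField) ⊗ₜ[A] b)) =
      (1 : p'.ResidueField) ⊗ₜ[A'] algebraMap B B' b)
    (q' : Ideal B') [q'.IsPrime] (hp' : q'.comap (algebraMap A' B') = p') :
    LocCoh.depth (EGA4.FibLocRing A B (q'.comap (algebraMap B B')))
        (EGA4.FibLocRing A B (q'.comap (algebraMap B B'))) ≤
      LocCoh.depth (EGA4.FibLocRing A' B' q') (EGA4.FibLocRing A' B' q') := by
  haveI : IsNoetherianRing (p.Fiber B) := isNoetherianRing_fiber A B p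
  haveI : IsNoetherianRing (p'.Fiber B') := isNoetherianRing_fiber A' B' p'
  haveI : IsNoetherianRing T := isNoetherianRing_of_ringEquiv _ e.symm
  obtain ⟨Q', hQ', hQ'q⟩ := exists_fiber_prime A' B' p' q' hp'
  haveI := hQ'
  obtain ⟨Q'', hQ''⟩ : ∃ Q'' : Ideal T, Q'' = Q'.comap (e : _ →+* _) := ⟨_, rfl⟩
  haveI : Q''.IsPrime := hQ'' ▸ Ideal.IsPrime.comap _
  obtain ⟨Q, hQ⟩ : ∃ Q : Ideal (p.Fiber B), Q = Q''.comap (algebraMap (p.Fiber B) T) := ⟨_, rfl⟩
  haveI : Q.IsPrime := hQ ▸ Ideal.IsPrime.comap _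
  have hQq : Q.comap (Algebra.TensorProduct.includeRight : B →ₐ[A] p.Fiber B) =
      q'.comap (algebraMap B B') := by
    ext b
    rw [Ideal.mem_comap, Ideal.mem_comap, hQ, Ideal.mem_comap, hQ'', Ideal.mem_comap,
      ← hQ'q, Ideal.mem_comap]
    have h1 : (Algebra.TensorProduct.includeRight : B →ₐ[A] p.Fiber B) b =
        ((1 : p.ResidueField) ⊗ₜ[A] b) := rfl
    rw [h1]
    have h2 : (e : _ →+* _) (algebraMap (p.Fiber B) T ((1 : p.ResidueField) ⊗ₜ[A] b)) =
        (1 : p'.ResidueField) ⊗ₜ[A'] algebraMap B B' b := he b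
    rw [h2]
    rfl
  obtain ⟨e1⟩ := nonempty_localization_fiber_equiv A B p Q
  obtain ⟨e2⟩ := nonempty_localization_fiber_equiv A' B' p' Q'
  have e3 := Localization.localRingEquiv Q'' Q' e hQ''
  have hX := depth_localization_le_flat p.ResidueField (p.Fiber B) T Q''
  have d1 := depth_eq_of_ringEquiv (X := Localization.AtPrime Q) e1
  have d2 := depth_eq_of_ringEquiv (X := Localization.AtPrime Q') e2
  have d3 := depth_eq_of_ringEquiv (X := Localization.AtPrime Q'') (Y := Localization.AtPrime Q') e3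
  rw [← depth_fibLocRing_congr A B _ _ hQq, ← d1,
    ← depth_fibLocRing_congr A' B' _ _ hQ'q, ← d2, ← d3]
  subst hQ
  exact hX

variable [Algebra.IsPushout A B A' B']

/-- **Fibre depth can only go up under base change.** -/
theorem depth_fibLocRing_le_baseChange (q' : Ideal B') [q'.IsPrime] :
    LocCoh.depth (EGA4.FibLocRing A B (q'.comap (algebraMap B B')))
        (EGA4.FibLocRing A B (q'.comap (algebraMap B B'))) ≤
      LocCoh.depth (EGA4.FibLocRing A' B' q') (EGA4.FibLocRing A' B' q') := by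
  obtain ⟨p', hp'⟩ : ∃ p' : Ideal A', p' = q'.comap (algebraMap A' B') := ⟨_, rfl⟩
  haveI : p'.IsPrime := hp' ▸ Ideal.IsPrime.comap _
  obtain ⟨p, hp⟩ : ∃ p : Ideal A, p = p'.comap (algebraMap A A') := ⟨_, rfl⟩
  haveI : p.IsPrime := hp ▸ Ideal.IsPrime.comap _
  letI : Algebra p.ResidueField p'.ResidueField :=
    (Ideal.ResidueField.map p p' (algebraMap A A') hp).toAlgebra
  haveI : IsScalarTower A p.ResidueField p'.ResidueField :=
    IsScalarTower.of_algebraMap_eq (fun a => by
      rw [RingHom.algebraMap_toAlgebra, Ideal.ResidueField.map_algebraMap,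
        ← IsScalarTower.algebraMap_apply])
  obtain ⟨e, he⟩ := exists_fibre_equiv A B A' B' p.ResidueField p'.ResidueField
  exact crux_aux A B A' B' p p' ((p.Fiber B) ⊗[p.ResidueField] p'.ResidueField) e he q' hp'.symm

end crux

end Groth.Agent.Lib.Helper9.KollarBC1
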