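import Mathlib
import Groth.Agent.S18702
import Groth.Agent.Lib.Helper9.QuotRegPD
import Groth.Agent.Lib.Helper9.KollarGlobal
import Groth.Agent.Lib.Helper9.KollarBC1

/-!
# Generic lemmas for the base change of Kollár's flatness criterion (helper9)
-/

set_option autoImplicit false
set_option linter.style.haveILetI false
set_option linter.unusedSectionVars false
universe u
open IsLocalRing TensorProduct

namespace Groth.Agent.Lib.Helper9.KollarBC2

/-! ### fibre stalks of finite projective modules -/

theorem fib_depth_proj (A B : Type u) [CommRing A] [CommRing B] [IsNoetherianRing B] [Algebra A B]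
    (E : Type u) [AddCommGroup E] [Module B E] [Module.Finite B E] [Module.Projective B E]
    (q : Ideal B) [q.IsPrime] (I : Ideal (EGA4.FibLocRing A B q)) :
    (1 ≤ LocCoh.idealDepth I (EGA4.FibLocRing A B q) →
      1 ≤ LocCoh.idealDepth I (EGA4.FibLocMod A B q E)) ∧
    (2 ≤ LocCoh.idealDepth I (EGA4.FibLocRing A B q) →
      2 ≤ LocCoh.idealDepth I (EGA4.FibLocMod A B q E)) := by
  haveI : Module.Projective (EGA4.FibLocRing A B q) (EGA4.FibLocMod A B q E) :=
    Groth.Agent.Lib.Helper9.projective_quot_smul_top _ (LocalizedModule q.primeCompl E)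
  haveI : Module.Finite (EGA4.FibLocRing A B q) (EGA4.FibLocMod A B q E) :=
    Module.Finite.of_restrictScalars_finite (Localization.AtPrime q) _ _
  have h := Groth.Agent.S18702.result (EGA4.FibLocRing A B q) I (EGA4.FibLocMod A B q E)
  exact ⟨h.1, h.2.1⟩

/-! ### base change of a module free at a prime -/

theorem free_localized_baseChange (R R' : Type u) [CommRing R] [CommRing R'] [Algebra R R']
    (M : Type u) [AddCommGroup M] [Module R M] (q' : Ideal R') [q'.IsPrime]
    (h : Module.Free (Localization.AtPrime (q'.comap (algebraMap R R')))
      (LocalizedModule (q'.comap (algebraMap R R')).primeCompl M)) :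
    Module.Free (Localization.AtPrime q') (LocalizedModule q'.primeCompl (R' ⊗[R] M)) := by
  obtain ⟨q, hq⟩ : ∃ q : Ideal R, q = q'.comap (algebraMap R R') := ⟨_, rfl⟩
  haveI : q.IsPrime := hq ▸ Ideal.IsPrime.comap _
  haveI : q'.LiesOver q := ⟨hq⟩
  subst hq
  letI := Localization.AtPrime.algebraOfLiesOver (q'.comap (algebraMap R R')) q'
  have h1 : IsBaseChange (Localization.AtPrime (q'.comap (algebraMap R R')))
      (LocalizedModule.mkLinearMap (q'.comap (algebraMap R R')).primeCompl M) :=
    IsLocalizedModule.isBaseChange (q'.comap (algebraMap R R')).primeCompl _ _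
  have h2 : IsBaseChange (Localization.AtPrime q')
      (TensorProduct.mk (Localization.AtPrime (q'.comap (algebraMap R R')))
        (Localization.AtPrime q')
        (LocalizedModule (q'.comap (algebraMap R R')).primeCompl M) 1) :=
    TensorProduct.isBaseChange _ _ _
  have h12 := IsBaseChange.comp h1 h2
  have g1 : IsBaseChange R' (TensorProduct.mk R R' M 1) := TensorProduct.isBaseChange R M R'
  have g2 : IsBaseChange (Localization.AtPrime q')
      (LocalizedModule.mkLinearMap q'.primeCompl (R' ⊗[R] M)) :=
    IsLocalizedModule.isBaseChange q'.primeCompl _ _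
  have g12 := IsBaseChange.comp g1 g2
  exact Module.Free.of_equiv (h12.equiv.symm.trans g12.equiv)

/-! ### projectivity of the kernel of a split four-term sequence -/

theorem projective_of_fourTerm {R : Type u} [CommRing R] {K P0 P1 Q : Type u}
    [AddCommGroup K] [Module R K] [AddCommGroup P0] [Module R P0] [AddCommGroup P1] [Module R P1]
    [AddCommGroup Q] [Module R Q] [Module.Projective R P0] [Module.Projective R P1]
    [Module.Projective R Q]
    (f : K →ₗ[R] P0) (u : P0 →ₗ[R] P1) (v : P1 →ₗ[R] Q)
    (hf : Function.Injective f) (hfu : Function.Exact f u) (huv : Function.Exact u v)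
    (hv : Function.Surjective v) : Module.Projective R K := by
  -- a section of `v`
  obtain ⟨s, hs⟩ := Module.projective_lifting_property v LinearMap.id hv
  -- `range u = ker v` is a direct summand of `P1`
  have hrange : ∀ y : P1, y - s (v y) ∈ LinearMap.range u := by
    intro y
    rw [← LinearMap.exact_iff.mp huv, LinearMap.mem_ker, map_sub]
    have : v (s (v y)) = v y := LinearMap.congr_fun hs (v y)
    rw [this, sub_self]
  let r : P1 →ₗ[R] LinearMap.range u :=
    LinearMap.codRestrict (LinearMap.range u) (LinearMap.id - s ∘ₗ v) (fun y => hrange y)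
  haveI : Module.Projective R (LinearMap.range u) := by
    refine Module.Projective.of_split (LinearMap.range u).subtype r ?_
    ext ⟨y, hy⟩
    obtain ⟨x, rfl⟩ := hy
    have : v (u x) = 0 := huv.apply_apply_eq_zero x
    simp [r, this]
  -- a section of `P0 → range u`
  obtain ⟨t, ht⟩ := Module.projective_lifting_property u.rangeRestrict LinearMap.id
    (LinearMap.surjective_rangeRestrict u)
  have hker : ∀ x : P0, x - t (u.rangeRestrict x) ∈ LinearMap.range f := by
    intro x
    rw [← LinearMap.exact_iff.mp hfu, LinearMap.mem_ker, map_sub]
    have h1 : u.rangeRestrict (t (u.rangeRestrict x)) = u.rangeRestrict x :=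
      LinearMap.congr_fun ht (u.rangeRestrict x)
    have h2 : u (t (u.rangeRestrict x)) = u x := congrArg Subtype.val h1
    rw [h2, sub_self]
  let e : K ≃ₗ[R] LinearMap.range f := LinearEquiv.ofInjective f hf
  let ρ : P0 →ₗ[R] LinearMap.range f :=
    LinearMap.codRestrict (LinearMap.range f) (LinearMap.id - t ∘ₗ u.rangeRestrict)
      (fun x => hker x)
  haveI : Module.Projective R (LinearMap.range f) := by
    refine Module.Projective.of_split (LinearMap.range f).subtype ρ ?_
    ext ⟨y, hy⟩
    obtain ⟨x, rfl⟩ := hy
    have h0 : u (f x) = 0 := hfu.apply_apply_eq_zero x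
    have : u.rangeRestrict (f x) = 0 := Subtype.ext h0
    simp [ρ, this]
  exact Module.Projective.of_equiv e.symm

/-- localized form of `projective_of_fourTerm`. -/
theorem projective_localized_of_fourTerm {R : Type u} [CommRing R] (q : Ideal R) [q.IsPrime]
    {K P0 P1 Q : Type u}
    [AddCommGroup K] [Module R K] [AddCommGroup P0] [Module R P0] [AddCommGroup P1] [Module R P1]
    [AddCommGroup Q] [Module R Q] [Module.Projective R P0] [Module.Projective R P1]
    (f : K →ₗ[R] P0) (u : P0 →ₗ[R] P1) (v : P1 →ₗ[R] Q)
    (hf : Function.Injective f) (hfu : Function.Exact f u) (huv : Function.Exact u v)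
    (hv : Function.Surjective v)
    (hQ : Module.Projective (Localization.AtPrime q) (LocalizedModule q.primeCompl Q)) :
    Module.Projective (Localization.AtPrime q) (LocalizedModule q.primeCompl K) :=
  projective_of_fourTerm
    (R := Localization.AtPrime q)
    (K := LocalizedModule q.primeCompl K)
    (P0 := LocalizedModule q.primeCompl P0)
    (P1 := LocalizedModule q.primeCompl P1)
    (Q := LocalizedModule q.primeCompl Q)
    (LocalizedModule.map q.primeCompl f)
    (LocalizedModule.map q.primeCompl u)
    (LocalizedModule.map q.primeCompl v)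
    (LocalizedModule.map_injective q.primeCompl _ hf)
    (LocalizedModule.map_exact q.primeCompl _ _ hfu)
    (LocalizedModule.map_exact q.primeCompl _ _ huv)
    (LocalizedModule.map_surjective q.primeCompl _ hv)

/-- reflexivity of the localized kernel. -/
theorem isReflexive_localized_of_fourTerm {R : Type u} [CommRing R] (q : Ideal R) [q.IsPrime]
    {K P0 P1 Q : Type u}
    [AddCommGroup K] [Module R K] [Module.Finite R K]
    [AddCommGroup P0] [Module R P0] [AddCommGroup P1] [Module R P1]
    [AddCommGroup Q] [Module R Q] [Module.Projective R P0] [Module.Projective R P1]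
    (f : K →ₗ[R] P0) (u : P0 →ₗ[R] P1) (v : P1 →ₗ[R] Q)
    (hf : Function.Injective f) (hfu : Function.Exact f u) (huv : Function.Exact u v)
    (hv : Function.Surjective v)
    (hQ : Module.Free (Localization.AtPrime q) (LocalizedModule q.primeCompl Q)) :
    Module.IsReflexive (Localization.AtPrime q) (LocalizedModule q.primeCompl K) := by
  haveI : Module.Projective (Localization.AtPrime q) (LocalizedModule q.primeCompl K) :=
    projective_localized_of_fourTerm q f u v hf hfu huv hv inferInstance
  infer_instance

/-! ### flatness from flatness at all primes of the algebra -/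

theorem flat_of_forall_localized (A B : Type u) [CommRing A] [CommRing B] [Algebra A B]
    (X : Type u) [AddCommGroup X] [Module B X] [Module A X] [IsScalarTower A B X]
    (h : ∀ (q : Ideal B) [q.IsPrime], Module.Flat A (LocalizedModule q.primeCompl X)) :
    Module.Flat A X :=
  Module.flat_of_isLocalized_maximal (R := A) B X
    (fun P _ => LocalizedModule P.primeCompl X)
    (fun P _ => LocalizedModule.mkLinearMap P.primeCompl X)
    (fun P hP => haveI : P.IsPrime := hP.isPrime; h P)

/-! ### flatness at a prime where the module is free -/

theorem flat_of_free_localized (A B : Type u) [CommRing A] [CommRing B] [Algebra A B]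
    [Module.Flat A B]
    (X : Type u) [AddCommGroup X] [Module B X] [Module A X] [IsScalarTower A B X]
    (q : Ideal B) [q.IsPrime]
    (h : Module.Free (Localization.AtPrime q) (LocalizedModule q.primeCompl X)) :
    Module.Flat A (LocalizedModule q.primeCompl X) := by
  haveI : IsScalarTower A (Localization.AtPrime q) (LocalizedModule q.primeCompl X) :=
    IsScalarTower.of_algebraMap_smul fun a x => by
      induction x using LocalizedModule.induction_on with
      | h m s =>
        rw [IsScalarTower.algebraMap_apply A B (Localization.AtPrime q), algebraMap_smul,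
          LocalizedModule.smul'_mk, LocalizedModule.smul'_mk, algebraMap_smul]
  exact Module.Flat.trans A (Localization.AtPrime q) _

/-! ### depth along an ideal of the fibre local ring -/

theorem idealDepth_fib_conv (A B : Type u) [CommRing A] [CommRing B] [IsNoetherianRing B]
    [Algebra A B] (J : Ideal B)
    (X : Type u) [AddCommGroup X] [Module B X] [Module.Finite B X] (q : Ideal B) [q.IsPrime] :
    LocCoh.idealDepth (J.map (algebraMap B (EGA4.FibLocRing A B q))) (EGA4.FibLocMod A B q X) =
      LocCoh.idealDepth (J.map (algebraMap B (Localization.AtPrime q)))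
        (EGA4.FibLocMod A B q X) := by
  haveI : Module.Finite (EGA4.FibLocRing A B q) (EGA4.FibLocMod A B q X) :=
    Module.Finite.of_restrictScalars_finite (Localization.AtPrime q) _ _
  have h := Groth.Agent.Lib.Helper4.idealDepth_map_eq (A := Localization.AtPrime q)
    (B := EGA4.FibLocRing A B q) (J.map (algebraMap B (Localization.AtPrime q)))
    (EGA4.FibLocMod A B q X)
  rw [h, Ideal.map_map, ← IsScalarTower.algebraMap_eq]

end Groth.Agent.Lib.Helper9.KollarBC2
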