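import Mathlib
import Groth.Agent.Lib.Helper4.DualLoc
import Groth.Agent.Lib.Helper22.CyclesSeq
import Groth.Agent.Lib.Helper9.KollarBC2

/-!
# Duals under base change: a Hartogs argument via quasi-inverses (helper9)

* `qinv γ`: the ideal of all `c` such that `γ` has an inverse up to multiplication by `c`;
* `dualMap_bijective_of_depth`: if `depth_{qinv γ} R ≥ 2` then `γ.dualMap` is bijective;
* `dualMap_dualMap_baseChange_bijective`: if `γ` is an isomorphism off `V(J)` and
  `depth_{JB'} B' ≥ 2`, then the double dual of `γ.baseChange B'` is bijective;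
* `two_le_idealDepth_dual`: duals have depth `≥ 2` along ideals of depth `≥ 2`;
* `baseChange_injective_of_flat_coker`, `nonempty_equiv_ker_baseChange`: base change of
  four-term exact sequences with flat cokernel.
-/

set_option autoImplicit false
set_option linter.style.haveILetI false
set_option linter.unusedSectionVars false
universe u
open IsLocalRing TensorProduct

namespace Groth.Agent.Lib.Helper9.KollarBC3

section qinv

variable {R : Type u} [CommRing R] {X Y : Type u} [AddCommGroup X] [Module R X]
  [AddCommGroup Y] [Module R Y]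

/-- the ideal of all `c` such that `γ` is invertible up to `c` -/
def qinv (γ : X →ₗ[R] Y) : Ideal R where
  carrier := {c | ∃ δ : Y →ₗ[R] X, δ ∘ₗ γ = c • LinearMap.id ∧ γ ∘ₗ δ = c • LinearMap.id}
  zero_mem' := ⟨0, by rw [LinearMap.zero_comp, zero_smul], by rw [LinearMap.comp_zero, zero_smul]⟩
  add_mem' := by
    rintro a b ⟨δ₁, h1, h1'⟩ ⟨δ₂, h2, h2'⟩
    exact ⟨δ₁ + δ₂, by rw [LinearMap.add_comp, h1, h2, add_smul],
      by rw [LinearMap.comp_add, h1', h2', add_smul]⟩
  smul_mem' := by
    rintro r c ⟨δ, h, h'⟩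
    exact ⟨r • δ, by rw [LinearMap.smul_comp, h, smul_eq_mul, mul_smul],
      by rw [LinearMap.comp_smul, h', smul_eq_mul, mul_smul]⟩

theorem mem_qinv_iff (γ : X →ₗ[R] Y) (c : R) : c ∈ qinv γ ↔
    ∃ δ : Y →ₗ[R] X, δ ∘ₗ γ = c • LinearMap.id ∧ γ ∘ₗ δ = c • LinearMap.id := Iff.rfl

theorem map_mem_qinv_baseChange (R' : Type u) [CommRing R'] [Algebra R R'] (γ : X →ₗ[R] Y)
    {c : R} (hc : c ∈ qinv γ) : algebraMap R R' c ∈ qinv (γ.baseChange R') := by
  obtain ⟨δ, h1, h2⟩ := hc
  have key : ∀ (Z : Type u) [AddCommGroup Z] [Module R Z],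
      ((c • LinearMap.id : Z →ₗ[R] Z)).baseChange R' =
        algebraMap R R' c • (LinearMap.id : R' ⊗[R] Z →ₗ[R'] R' ⊗[R] Z) := by
    intro Z _ _
    refine LinearMap.ext fun z => ?_
    induction z using TensorProduct.induction_on with
    | zero => simp
    | tmul a x =>
      simp only [LinearMap.baseChange_tmul, LinearMap.smul_apply, LinearMap.id_coe, id_eq,
        TensorProduct.smul_tmul']
      rw [← TensorProduct.smul_tmul, Algebra.smul_def, smul_eq_mul]
    | add x y hx hy => simp only [map_add, hx, hy]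
  refine ⟨δ.baseChange R', ?_, ?_⟩
  · rw [← LinearMap.baseChange_comp, h1, key]
  · rw [← LinearMap.baseChange_comp, h2, key]

/-- Hartogs' argument with two quasi-inverses. -/
theorem dualMap_bijective_of_regular (γ : X →ₗ[R] Y) (x y : R) (hx : IsSMulRegular R x)
    (hy : ∀ a b : R, y * a = x * b → ∃ c, a = x * c)
    (hxq : x ∈ qinv γ) (hyq : y ∈ qinv γ) : Function.Bijective γ.dualMap := by
  obtain ⟨δx, hx1, hx2⟩ := hxq
  obtain ⟨δy, hy1, hy2⟩ := hyq
  have hinj : Function.Injective γ.dualMap := by
    rw [injective_iff_map_eq_zero]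
    intro g hg
    ext n
    apply hx
    show x • g n = x • (0 : Module.Dual R Y) n
    have h1 : γ (δx n) = x • n := LinearMap.congr_fun hx2 n
    have h2 : g (γ (δx n)) = 0 := LinearMap.congr_fun hg (δx n)
    rw [LinearMap.zero_apply, smul_zero, ← map_smul, ← h1, h2]
  refine ⟨hinj, fun h => ?_⟩
  obtain ⟨gx, hgx⟩ : ∃ gx : Module.Dual R Y, gx = h ∘ₗ δx := ⟨_, rfl⟩
  obtain ⟨gy, hgy⟩ : ∃ gy : Module.Dual R Y, gy = h ∘ₗ δy := ⟨_, rfl⟩
  have hgx' : γ.dualMap gx = x • h := by
    ext m
    have : δx (γ m) = x • m := LinearMap.congr_fun hx1 m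
    rw [LinearMap.dualMap_apply, hgx, LinearMap.comp_apply, this, map_smul, LinearMap.smul_apply]
  have hgy' : γ.dualMap gy = y • h := by
    ext m
    have : δy (γ m) = y • m := LinearMap.congr_fun hy1 m
    rw [LinearMap.dualMap_apply, hgy, LinearMap.comp_apply, this, map_smul, LinearMap.smul_apply]
  have hcomm : y • gx = x • gy := hinj (by rw [map_smul, map_smul, hgx', hgy', smul_comm])
  have hdiv : ∀ n, ∃ c, gx n = x * c := fun n => hy (gx n) (gy n) (by
    have := LinearMap.congr_fun hcomm n
    simpa [smul_eq_mul] using this)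
  choose c hc using hdiv
  let g : Module.Dual R Y :=
    { toFun := c
      map_add' := fun a b => hx (by
        show x • c (a + b) = x • (c a + c b)
        rw [smul_eq_mul, smul_eq_mul, mul_add, ← hc, ← hc, ← hc, map_add])
      map_smul' := fun r a => hx (by
        show x • c (r • a) = x • (r • c a)
        rw [smul_eq_mul, smul_eq_mul, smul_eq_mul, ← hc, map_smul, smul_eq_mul,
          hc a]
        ring) }
  refine ⟨g, ?_⟩
  ext m
  apply hx
  show x • g (γ m) = x • h m
  have h1 : gx (γ m) = x • h m := LinearMap.congr_fun hgx' m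
  rw [← h1, smul_eq_mul]
  exact (hc (γ m)).symm

theorem dualMap_bijective_of_depth (γ : X →ₗ[R] Y)
    (h : 2 ≤ LocCoh.idealDepth (qinv γ) R) : Function.Bijective γ.dualMap := by
  by_cases htop : (qinv γ) • (⊤ : Submodule R R) = ⊤
  · have h1 : (1 : R) ∈ qinv γ := by
      have : qinv γ = ⊤ := by
        have h2 : (qinv γ) • (⊤ : Submodule R R) = qinv γ := by
          rw [smul_eq_mul, Ideal.mul_top]
        rw [← h2, htop]
      rw [this]; trivial
    exact dualMap_bijective_of_regular γ 1 1 (IsSMulRegular.one R)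
      (fun a _ _ => ⟨a, (one_mul a).symm⟩) h1 h1
  · obtain ⟨rs, hlen, hmem, hreg⟩ :=
      Groth.Agent.Lib.Helper4.exists_isWeaklyRegular_of_le_idealDepth (qinv γ) htop 2
        (by exact_mod_cast h)
    match rs, hlen, hmem, hreg with
    | [x, y], _, hmem, hreg =>
      rw [RingTheory.Sequence.isWeaklyRegular_cons_iff] at hreg
      obtain ⟨hx, hreg2⟩ := hreg
      rw [RingTheory.Sequence.isWeaklyRegular_cons_iff] at hreg2
      obtain ⟨hy, -⟩ := hreg2
      refine dualMap_bijective_of_regular γ x y hx ?_ (hmem x (by simp)) (hmem y (by simp))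
      intro a b hab
      have h0 : y • (Submodule.Quotient.mk a : QuotSMulTop x R) = y • 0 := by
        rw [smul_zero, ← Submodule.Quotient.mk_smul, Submodule.Quotient.mk_eq_zero, smul_eq_mul,
          hab]
        exact Submodule.smul_mem_pointwise_smul b x ⊤ Submodule.mem_top
      have h1 := hy h0
      rw [Submodule.Quotient.mk_eq_zero, Submodule.mem_smul_pointwise_iff_exists] at h1
      obtain ⟨c, -, hc⟩ := h1
      exact ⟨c, hc.symm⟩

/-- a map which is bijective after localizing at `S` has a quasi-inverse up to some `c ∈ S` -/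
theorem exists_mem_qinv_mem (S : Submonoid R) (γ : X →ₗ[R] Y) [Module.Finite R X]
    [Module.FinitePresentation R Y]
    (hb : Function.Bijective (LocalizedModule.map S γ)) : ∃ c ∈ qinv γ, c ∈ S := by
  let f := LocalizedModule.mkLinearMap S X
  let g := LocalizedModule.mkLinearMap S Y
  have hb' : Function.Bijective (IsLocalizedModule.map S f g γ) := hb
  let e : LocalizedModule S X ≃ₗ[R] LocalizedModule S Y := LinearEquiv.ofBijective _ hb'
  obtain ⟨l', s₀, H⟩ := Module.FinitePresentation.exists_lift_of_isLocalizedModule S f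
    (e.symm.toLinearMap.comp g)
  have H₁ : g ∘ₗ γ ∘ₗ l' = g ∘ₗ (s₀ • LinearMap.id) := by
    ext a; simpa [-EmbeddingLike.apply_eq_iff_eq, e] using congr(e ($H a))
  obtain ⟨s₁, hs₁⟩ := Module.Finite.exists_smul_of_comp_eq_of_isLocalizedModule S g _ _ H₁
  have H₂ : f ∘ₗ l' ∘ₗ γ = f ∘ₗ (s₀ • LinearMap.id) := by
    rw [← LinearMap.comp_assoc, H, LinearMap.smul_comp, LinearMap.comp_assoc,
      ← IsLocalizedModule.map_comp S f g γ, ← LinearMap.comp_assoc]
    change s₀ • (e.symm.toLinearMap ∘ₗ e.toLinearMap) ∘ₗ _ = _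
    simp [LinearMap.comp_smul]
  obtain ⟨s₂, hs₂⟩ := Module.Finite.exists_smul_of_comp_eq_of_isLocalizedModule S f _ _ H₂
  refine ⟨(s₁ : R) * (s₂ : R) * (s₀ : R), ⟨((s₁ : R) * (s₂ : R)) • l', ?_, ?_⟩,
    S.mul_mem (S.mul_mem s₁.2 s₂.2) s₀.2⟩
  · have h2 : (s₂ : R) • (l' ∘ₗ γ) = (s₂ : R) • ((s₀ : R) • LinearMap.id) := hs₂
    rw [LinearMap.smul_comp, mul_smul, h2, mul_smul, mul_smul]
  · have h1 : (s₁ : R) • (γ ∘ₗ l') = (s₁ : R) • ((s₀ : R) • LinearMap.id) := hs₁
    rw [LinearMap.comp_smul, mul_comm (s₁ : R), mul_smul, h1, mul_smul, mul_smul]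

end qinv

section main

variable (B B' : Type u) [CommRing B] [CommRing B'] [IsNoetherianRing B] [IsNoetherianRing B']
  [Algebra B B'] (J : Ideal B)

theorem dualMap_dualMap_baseChange_bijective
    (hd : 2 ≤ LocCoh.idealDepth (J.map (algebraMap B B')) B')
    {X Y : Type u} [AddCommGroup X] [Module B X] [Module.Finite B X]
    [AddCommGroup Y] [Module B Y] [Module.Finite B Y] (γ : X →ₗ[B] Y)
    (hγ : ∀ (q : Ideal B) [q.IsPrime], ¬ J ≤ q →
      Function.Bijective (LocalizedModule.map q.primeCompl γ)) :
    Function.Bijective (γ.baseChange B').dualMap.dualMap := by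
  haveI : Module.FinitePresentation B Y := Module.finitePresentation_of_finite B Y
  have hV : PrimeSpectrum.zeroLocus ((qinv (γ.baseChange B') : Ideal B') : Set B') ⊆
      PrimeSpectrum.zeroLocus ((J.map (algebraMap B B') : Ideal B') : Set B') := by
    intro q' hq'
    rw [PrimeSpectrum.mem_zeroLocus, SetLike.coe_subset_coe] at hq' ⊢
    by_contra hJ
    have hJq : ¬ J ≤ q'.asIdeal.comap (algebraMap B B') := fun h =>
      hJ (Ideal.map_le_iff_le_comap.mpr h)
    obtain ⟨c, hc, hcS⟩ := exists_mem_qinv_mem (q'.asIdeal.comap (algebraMap B B')).primeCompl γ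
      (hγ _ hJq)
    exact hcS (hq' (map_mem_qinv_baseChange B' γ hc))
  have h2 : 2 ≤ LocCoh.idealDepth (qinv (γ.baseChange B')) B' :=
    le_trans hd (Groth.Agent.Lib.Helper4.idealDepth_le_of_zeroLocus_subset _ _ B' hV)
  have hb := dualMap_bijective_of_depth (γ.baseChange B') h2
  exact (LinearEquiv.ofBijective _ hb).dualMap.bijective

end main

section depthDual

variable (R : Type u) [CommRing R] [IsNoetherianRing R] (I : Ideal R)

theorem two_le_idealDepth_dual (N : Type u) [AddCommGroup N] [Module R N] [Module.Finite R N]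
    (h : 2 ≤ LocCoh.idealDepth I R) : 2 ≤ LocCoh.idealDepth I (Module.Dual R N) := by
  obtain ⟨n, π, hπ⟩ := Module.Finite.exists_fin' R N
  obtain ⟨m, ρ, hρ⟩ := Module.Finite.exists_fin' R (LinearMap.ker π)
  let v : (Fin m → R) →ₗ[R] (Fin n → R) := (LinearMap.ker π).subtype ∘ₗ ρ
  have hv : LinearMap.range v = LinearMap.ker π := by
    rw [LinearMap.range_comp, LinearMap.range_eq_top.mpr hρ, Submodule.map_top,
      Submodule.range_subtype]
  have hinj : Function.Injective π.dualMap := LinearMap.dualMap_injective_of_surjective hπ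
  have hex : Function.Exact π.dualMap v.dualMap := by
    rw [LinearMap.exact_iff, LinearMap.range_dualMap_eq_dualAnnihilator_ker_of_surjective π hπ,
      ← hv, LinearMap.ker_dualMap_eq_dualAnnihilator_range]
  have h0 : 2 ≤ LocCoh.idealDepth I (Module.Dual R (Fin n → R)) :=
    le_trans h (Groth.Agent.Lib.Helper28.le_idealDepth_of_free I _)
  have h1 : 1 ≤ LocCoh.idealDepth I (Module.Dual R (Fin m → R)) :=
    le_trans (by norm_num) (le_trans h (Groth.Agent.Lib.Helper28.le_idealDepth_of_free I _))
  exact Groth.Agent.Lib.Helper26.KollarDepth.two_le_idealDepth_ker I π.dualMap v.dualMap hinj hex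
    h0 h1

end depthDual

section ringDepth

variable (A B : Type u) [CommRing A] [CommRing B] [IsNoetherianRing A] [IsNoetherianRing B]
  [Algebra A B] [Module.Flat A B] (J : Ideal B)

theorem two_le_idealDepth_ring
    (hZ : ∀ q : PrimeSpectrum B, J ≤ q.asIdeal →
      2 ≤ LocCoh.idealDepth (q.asIdeal.map (algebraMap B (EGA4.FibLocRing A B q.asIdeal)))
        (EGA4.FibLocRing A B q.asIdeal)) : 2 ≤ LocCoh.idealDepth J B := by
  have := Groth.Agent.Lib.Helper28.le_idealDepth_of_forall_localization (M := B) J 2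
    (fun p _ hJp _ => by
      exact_mod_cast Groth.Agent.Lib.Helper26.KollarDepth.le_depth_ring A B p 2
        (hZ ⟨p, inferInstance⟩ hJp))
  exact_mod_cast this

end ringDepth

section bcExact

theorem baseChange_injective_of_flat_coker
    (A B A' B' : Type u) [CommRing A] [CommRing B] [CommRing A'] [CommRing B']
    [Algebra A B] [Algebra A A'] [Algebra B B'] [Algebra A' B'] [Algebra A B']
    [IsScalarTower A B B'] [IsScalarTower A A' B'] [Algebra.IsPushout A B A' B'] {M N P : Type u}
    [AddCommGroup M] [Module B M] [Module A M] [IsScalarTower A B M]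
    [AddCommGroup N] [Module B N] [Module A N] [IsScalarTower A B N]
    [AddCommGroup P] [Module B P] [Module A P] [IsScalarTower A B P] [Module.Flat A P]
    (g : M →ₗ[B] N) (f : N →ₗ[B] P) (hg : Function.Injective g) (hf : Function.Surjective f)
    (H : Function.Exact g f) : Function.Injective (g.baseChange B') := by
  haveI : Algebra.IsPushout A A' B B' := Algebra.IsPushout.symm inferInstance
  let θM := (Algebra.IsPushout.cancelBaseChange A A' B B' M).symm
  let θN := (Algebra.IsPushout.cancelBaseChange A A' B B' N).symm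
  have hcomm : ∀ z : A' ⊗[A] M,
      g.baseChange B' (θM z) = θN ((g.restrictScalars A).lTensor A' z) := by
    intro z
    induction z using TensorProduct.induction_on with
    | zero => simp
    | tmul a m =>
      simp only [θM, θN, Algebra.IsPushout.cancelBaseChange_symm_tmul, LinearMap.baseChange_tmul,
        LinearMap.lTensor_tmul, LinearMap.coe_restrictScalars]
    | add x y hx hy => simp only [map_add, hx, hy]
  have hinj := LinearMap.lTensor_injective_of_exact_of_flat (f.restrictScalars A) hf
    (g.restrictScalars A) hg H A'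
  intro x y hxy
  obtain ⟨x', rfl⟩ := θM.surjective x
  obtain ⟨y', rfl⟩ := θM.surjective y
  rw [hcomm, hcomm] at hxy
  exact congrArg θM (hinj (θN.injective hxy))

theorem nonempty_equiv_ker_baseChange
    (A B A' B' : Type u) [CommRing A] [CommRing B] [CommRing A'] [CommRing B']
    [Algebra A B] [Algebra A A'] [Algebra B B'] [Algebra A' B'] [Algebra A B']
    [IsScalarTower A B B'] [IsScalarTower A A' B'] [Algebra.IsPushout A B A' B']
    {F E0 E1 G : Type u}
    [AddCommGroup F] [Module B F] [Module A F] [IsScalarTower A B F]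
    [AddCommGroup E0] [Module B E0] [Module A E0] [IsScalarTower A B E0]
    [AddCommGroup E1] [Module B E1] [Module A E1] [IsScalarTower A B E1] [Module.Flat A E1]
    [AddCommGroup G] [Module B G] [Module A G] [IsScalarTower A B G] [Module.Flat A G]
    (f : F →ₗ[B] E0) (u : E0 →ₗ[B] E1) (v : E1 →ₗ[B] G)
    (hf : Function.Injective f) (hfu : Function.Exact f u) (huv : Function.Exact u v)
    (hv : Function.Surjective v) :
    Nonempty ((B' ⊗[B] F) ≃ₗ[B'] LinearMap.ker (u.baseChange B')) := by
  -- the image of `u`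
  have hι : Function.Exact (LinearMap.range u).subtype v := by
    intro y
    rw [huv y]
    constructor
    · rintro ⟨x, rfl⟩; exact ⟨⟨u x, x, rfl⟩, rfl⟩
    · rintro ⟨⟨_, x, rfl⟩, rfl⟩; exact ⟨x, rfl⟩
  haveI : Module.Flat A (LinearMap.range u) :=
    Groth.Agent.Lib.Helper22.flat_of_exact_of_flat
      ((LinearMap.range u).subtype.restrictScalars A) (v.restrictScalars A)
      (Submodule.subtype_injective _) hv hι
  have hfu0 : Function.Exact f u.rangeRestrict := fun y => by
    rw [← hfu y]
    exact ⟨fun h => congrArg Subtype.val h, fun h => Subtype.ext h⟩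
  have hι' : Function.Injective ((LinearMap.range u).subtype.baseChange B') :=
    baseChange_injective_of_flat_coker A B A' B' (LinearMap.range u).subtype v
      (Submodule.subtype_injective _) hv hι
  have hf' : Function.Injective (f.baseChange B') :=
    baseChange_injective_of_flat_coker A B A' B' f u.rangeRestrict hf
      (LinearMap.surjective_rangeRestrict u) hfu0
  have hex' : Function.Exact (f.baseChange B') (u.rangeRestrict.baseChange B') := by
    rw [LinearMap.baseChange_eq_ltensor, LinearMap.baseChange_eq_ltensor]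
    exact lTensor_exact B' hfu0 (LinearMap.surjective_rangeRestrict u)
  have hcomp : u.baseChange B' =
      ((LinearMap.range u).subtype.baseChange B') ∘ₗ (u.rangeRestrict.baseChange B') := by
    rw [← LinearMap.baseChange_comp]
    rfl
  have hker : LinearMap.range (f.baseChange B') = LinearMap.ker (u.baseChange B') := by
    ext z
    rw [LinearMap.mem_ker, hcomp, LinearMap.comp_apply, LinearMap.mem_range]
    constructor
    · intro h
      have h0 : (u.rangeRestrict.baseChange B') z = 0 := (hex' z).mpr h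
      rw [h0, map_zero]
    · intro h
      exact (hex' z).mp (hι' (by rw [h, map_zero]))
  exact ⟨(LinearEquiv.ofInjective (f.baseChange B') hf').trans (LinearEquiv.ofEq _ _ hker)⟩

end bcExact

end Groth.Agent.Lib.Helper9.KollarBC3
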