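import Mathlib
import Groth.Agent.Lib.Helper9.KollarS2
import Groth.Agent.Lib.Helper9.AssTensor
import Groth.Agent.Lib.Helper4.LC3
import Groth.Agent.Lib.Helper26.KollarDepth

/-!
# Kollár's `H²` flatness criterion (helper9)

Setting of `KollarS2`: `A → B` local homomorphism of Noetherian local rings,
`0 → F → E0 → E1 → G → 0` exact, `E0`, `E1` flat over `A`, `G` flat off `V(J)`,
`depth_J (E0/𝔪E0) ≥ 2`, `depth_J (E1/𝔪E1) ≥ 1`.  If `H²_J (F/𝔪F) = 0` then `G` is flat.
-/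

set_option autoImplicit false
set_option maxHeartbeats 400000
set_option linter.unusedSectionVars false
set_option linter.unusedVariables false
universe u

open TensorProduct
open scoped Pointwise

namespace Groth.Agent.Lib.Helper9.KollarH2

open Groth.Agent.Lib.Helper9.FlatCoker Groth.Agent.Lib.Helper9.RegFlat
  Groth.Agent.Lib.Helper9.DetectFlat Groth.Agent.Lib.Helper9.KollarS2 RingTheory.Sequence
  Groth.Agent.Lib.Helper4.LC

/-! ### torsion -/

section torsion

variable {B : Type u} [CommRing B] [IsNoetherianRing B] (J : Ideal B)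

theorem isPowerTorsion_of_forall_prime (N : Type u) [AddCommGroup N] [Module B N]
    (h : ∀ x : N, ∀ q : PrimeSpectrum B, ¬ J ≤ q.asIdeal →
      ∃ s : B, s ∉ q.asIdeal ∧ s • x = 0) :
    LocCoh.IsPowerTorsion J N := by
  intro x
  have hrad : J ≤ ((Submodule.span B {x}).annihilator).radical := by
    rw [Ideal.radical_eq_sInf]
    refine le_sInf ?_
    rintro q ⟨hq𝔠, hqprime⟩
    by_contra hJq
    obtain ⟨s, hs, hsx⟩ := h x ⟨q, hqprime⟩ hJq
    apply hs
    apply hq𝔠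
    rw [Submodule.mem_annihilator_span_singleton]
    exact hsx
  obtain ⟨k, hk⟩ := Ideal.exists_pow_le_of_le_radical_of_fg hrad (IsNoetherian.noetherian J)
  refine ⟨k, fun a ha => ?_⟩
  have := hk ha
  rw [Submodule.mem_annihilator_span_singleton] at this
  exact this

end torsion

/-! ### abstract local cohomology steps -/

section lcstep

variable {B : Type u} [CommRing B] [IsNoetherianRing B] (J : Ideal B)
  {K X Y : Type u} [AddCommGroup K] [Module B K] [AddCommGroup X] [Module B X]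
  [AddCommGroup Y] [Module B Y]

theorem surjective_of_H2 (ι : K →ₗ[B] X) (π : X →ₗ[B] Y) (hι : Function.Injective ι)
    (hex : Function.Exact ι π)
    (hK2 : Subsingleton (HH J (ModuleCat.of B K) 2))
    (hX1 : Subsingleton (HH J (ModuleCat.of B X) 1))
    (hY0 : Subsingleton (HH J (ModuleCat.of B Y) 0))
    (htors : ∀ y : Y, ∀ q : PrimeSpectrum B, ¬ J ≤ q.asIdeal →
      ∃ s : B, s ∉ q.asIdeal ∧ s • y ∈ LinearMap.range π) :
    Function.Surjective π := by
  have hπ' : Function.Surjective π.rangeRestrict := LinearMap.surjective_rangeRestrict π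
  have hex' : Function.Exact ι π.rangeRestrict := by
    intro x
    rw [← hex x]
    constructor
    · intro h
      exact congrArg Subtype.val h
    · intro h
      exact Subtype.ext h
  have hS1 := sesOf_shortExact ι π.rangeRestrict hex' hι hπ'
  have hS2 := sesOf_shortExact (LinearMap.range π).subtype (LinearMap.range π).mkQ
    (LinearMap.exact_subtype_mkQ _) (Submodule.injective_subtype _) (Submodule.mkQ_surjective _)
  have hI1 : Subsingleton (HH J (ModuleCat.of B (LinearMap.range π)) 1) := by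
    have hinj := HH.δ_injective J hS1 1 hX1
    exact @Function.Injective.subsingleton _ _ _ hinj hK2
  have hC0 : Subsingleton (HH J (ModuleCat.of B (Y ⧸ LinearMap.range π)) 0) := by
    have hinj := HH.δ_injective J hS2 0 hY0
    exact @Function.Injective.subsingleton _ _ _ hinj hI1
  have hCt : LocCoh.IsPowerTorsion J (Y ⧸ LinearMap.range π) := by
    apply isPowerTorsion_of_forall_prime
    intro c q hq
    obtain ⟨y, rfl⟩ := Submodule.mkQ_surjective _ c
    obtain ⟨s, hs, hsy⟩ := htors y q hq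
    refine ⟨s, hs, ?_⟩
    rw [← map_smul, Submodule.mkQ_apply, Submodule.Quotient.mk_eq_zero]
    exact hsy
  have hCsub : Subsingleton (Y ⧸ LinearMap.range π) := by
    have h1 := (HH0_subsingleton_iff J (ModuleCat.of B (Y ⧸ LinearMap.range π))).mp hC0
    have h2 := (isPowerTorsion_iff J (Y ⧸ LinearMap.range π)).mp hCt
    have h3 : (⊥ : Submodule B (Y ⧸ LinearMap.range π)) = ⊤ := h1.symm.trans h2
    exact (Submodule.subsingleton_iff B).mp (subsingleton_of_bot_eq_top h3)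
  intro y
  have h0 : (LinearMap.range π).mkQ y = 0 := Subsingleton.elim _ _
  rw [Submodule.mkQ_apply, Submodule.Quotient.mk_eq_zero] at h0
  exact h0

theorem H2_of_torsion_ker_coker {M N : Type u} [AddCommGroup M] [Module B M] [AddCommGroup N]
    [Module B N] (g : M →ₗ[B] N)
    (hker : LocCoh.IsPowerTorsion J (LinearMap.ker g))
    (hcoker : LocCoh.IsPowerTorsion J (N ⧸ LinearMap.range g))
    (hM : Subsingleton (HH J (ModuleCat.of B M) 2)) :
    Subsingleton (HH J (ModuleCat.of B N) 2) := by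
  have hex : Function.Exact (LinearMap.ker g).subtype g.rangeRestrict := by
    intro x
    constructor
    · intro h
      exact ⟨⟨x, congrArg Subtype.val h⟩, rfl⟩
    · rintro ⟨⟨y, hy⟩, rfl⟩
      exact Subtype.ext hy
  have hS1 := sesOf_shortExact (LinearMap.ker g).subtype g.rangeRestrict hex
    (Submodule.injective_subtype _) (LinearMap.surjective_rangeRestrict g)
  have hS2 := sesOf_shortExact (LinearMap.range g).subtype (LinearMap.range g).mkQ
    (LinearMap.exact_subtype_mkQ _) (Submodule.injective_subtype _) (Submodule.mkQ_surjective _)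
  have hk3 : Subsingleton (HH J (ModuleCat.of B (LinearMap.ker g)) (2 + 1)) :=
    HH.subsingleton_of_isPowerTorsion J 2 _ hker
  have hc2 : Subsingleton (HH J (ModuleCat.of B (N ⧸ LinearMap.range g)) (1 + 1)) :=
    HH.subsingleton_of_isPowerTorsion J 1 _ hcoker
  have hr2 : Subsingleton (HH J (ModuleCat.of B (LinearMap.range g)) 2) :=
    HH.subsingleton_X₃ J hS1 2 hM hk3
  exact HH.subsingleton_X₂ J hS2 2 hr2 hc2

end lcstep

/-! ### flat colon -/

section colon

variable {A B : Type u} [CommRing A] [CommRing B] [Algebra A B]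

theorem mem_of_smul_mem_of_colon (N : Type u) [AddCommGroup N] [Module B N] [Module A N]
    [IsScalarTower A B N] [Module.Flat A N] (𝔞 p : Ideal A) (a : A)
    (hcol : ∀ r : A, r * a ∈ 𝔞 ↔ r ∈ p) {n : N}
    (h : a • n ∈ (𝔞.map (algebraMap A B)) • (⊤ : Submodule B N)) :
    n ∈ (p.map (algebraMap A B)) • (⊤ : Submodule B N) := by
  have hm : ∀ r : A, r • (Ideal.Quotient.mk 𝔞 a : A ⧸ 𝔞) = 0 ↔ r ∈ p := by
    intro r
    rw [← hcol r, ← Ideal.Quotient.eq_zero_iff_mem, map_mul]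
    rfl
  have hinj := Groth.Agent.Lib.Helper9.AssTensor.quotToTensor_injective (S := B) N p
    (Ideal.Quotient.mk 𝔞 a : A ⧸ 𝔞) hm
  have h0 : Groth.Agent.Lib.Helper9.AssTensor.quotToTensor (S := B) N p
      (Ideal.Quotient.mk 𝔞 a : A ⧸ 𝔞) (fun r hr => (hm r).mpr hr) (Submodule.Quotient.mk n) = 0 := by
    rw [Groth.Agent.Lib.Helper9.AssTensor.quotToTensor_mk]
    have h1 : (Ideal.Quotient.mk 𝔞 a : A ⧸ 𝔞) = a • (Ideal.Quotient.mk 𝔞 1 : A ⧸ 𝔞) := by
      rw [Algebra.smul_def, Ideal.Quotient.algebraMap_eq, ← map_mul, mul_one]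
    rw [h1, ← TensorProduct.smul_tmul]
    apply (TensorProduct.tensorQuotEquivQuotSMul N 𝔞).injective
    rw [TensorProduct.tensorQuotEquivQuotSMul_tmul_mk, map_zero, one_smul,
      Submodule.Quotient.mk_eq_zero]
    exact mem_smul_top_of_mem_map_smul_top 𝔞 h
  have h2 := hinj (h0.trans (map_zero _).symm)
  exact (Submodule.Quotient.mk_eq_zero _).mp h2

end colon

/-! ### the modules `F'_𝔞` -/

section setup

variable {A B : Type u} [CommRing A] [CommRing B] [Algebra A B]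

/-- `X/𝔞X → X/𝔞'X`, `[x] ↦ [a x]`. -/
noncomputable def mulQ (X : Type u) [AddCommGroup X] [Module B X] [Module A X]
    [IsScalarTower A B X] (𝔞 𝔞' : Ideal A) (a : A) (h : ∀ r ∈ 𝔞, r * a ∈ 𝔞') :
    (X ⧸ (𝔞.map (algebraMap A B)) • (⊤ : Submodule B X)) →ₗ[B]
      (X ⧸ (𝔞'.map (algebraMap A B)) • (⊤ : Submodule B X)) :=
  Submodule.mapQ _ _ (algebraMap A B a • (LinearMap.id : X →ₗ[B] X)) (by
    intro x hx
    rw [Submodule.mem_comap, LinearMap.smul_apply, LinearMap.id_apply, algebraMap_smul]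
    have hx' := mem_smul_top_of_mem_map_smul_top 𝔞 hx
    apply mem_map_smul_top_of_mem_smul_top 𝔞'
    refine Submodule.smul_induction_on hx' ?_ ?_
    · intro r hr y _
      rw [smul_smul, mul_comm]
      exact Submodule.smul_mem_smul (h r hr) Submodule.mem_top
    · intro y z hy hz
      rw [smul_add]
      exact add_mem hy hz)

lemma mulQ_mk (X : Type u) [AddCommGroup X] [Module B X] [Module A X]
    [IsScalarTower A B X] (𝔞 𝔞' : Ideal A) (a : A) (h : ∀ r ∈ 𝔞, r * a ∈ 𝔞') (x : X) :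
    mulQ X 𝔞 𝔞' a h
      (Submodule.Quotient.mk x : X ⧸ (𝔞.map (algebraMap A B)) • (⊤ : Submodule B X)) =
      (Submodule.Quotient.mk (a • x) : X ⧸ (𝔞'.map (algebraMap A B)) • (⊤ : Submodule B X)) := by
  have h1 : mulQ X 𝔞 𝔞' a h
      (Submodule.Quotient.mk x : X ⧸ (𝔞.map (algebraMap A B)) • (⊤ : Submodule B X)) =
      (Submodule.Quotient.mk ((algebraMap A B a • (LinearMap.id : X →ₗ[B] X)) x) :
        X ⧸ (𝔞'.map (algebraMap A B)) • (⊤ : Submodule B X)) := rfl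
  rw [h1, LinearMap.smul_apply, LinearMap.id_apply, algebraMap_smul]

variable {E0 E1 : Type u} [AddCommGroup E0] [Module B E0] [Module A E0] [IsScalarTower A B E0]
  [AddCommGroup E1] [Module B E1] [Module A E1] [IsScalarTower A B E1] (u : E0 →ₗ[B] E1)

lemma map_smul_A (a : A) (e : E0) : u (a • e) = a • u e := by
  rw [← algebraMap_smul B a e, map_smul, algebraMap_smul]

lemma barMap_mulQ (𝔞 𝔞' : Ideal A) (a : A) (h : ∀ r ∈ 𝔞, r * a ∈ 𝔞')
    (x : E0 ⧸ (𝔞.map (algebraMap A B)) • (⊤ : Submodule B E0)) :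
    barMap (𝔞'.map (algebraMap A B)) u (mulQ E0 𝔞 𝔞' a h x) =
      mulQ E1 𝔞 𝔞' a h (barMap (𝔞.map (algebraMap A B)) u x) := by
  obtain ⟨e, rfl⟩ := Submodule.mkQ_surjective _ x
  rw [Submodule.mkQ_apply, mulQ_mk, barMap_mk, barMap_mk, mulQ_mk, map_smul_A]

/-- `F'_𝔞 = ker (E0/𝔞E0 → E1/𝔞E1)`. -/
noncomputable abbrev Fp (𝔞 : Ideal A) : Submodule B (E0 ⧸ (𝔞.map (algebraMap A B)) • (⊤ : Submodule B E0)) :=
  LinearMap.ker (barMap (𝔞.map (algebraMap A B)) u)

lemma mk_mem_Fp (𝔞 : Ideal A) (e : E0) :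
    (Submodule.Quotient.mk e : E0 ⧸ (𝔞.map (algebraMap A B)) • (⊤ : Submodule B E0)) ∈ Fp u 𝔞 ↔
      u e ∈ (𝔞.map (algebraMap A B)) • (⊤ : Submodule B E1) := by
  rw [LinearMap.mem_ker, barMap_mk, Submodule.Quotient.mk_eq_zero]

/-- the induced map `F'_𝔞 → F'_𝔞'`. -/
noncomputable def kerMap (𝔞 𝔞' : Ideal A) (a : A) (h : ∀ r ∈ 𝔞, r * a ∈ 𝔞') :
    Fp u 𝔞 →ₗ[B] Fp u 𝔞' :=
  ((mulQ E0 𝔞 𝔞' a h).comp (Fp u 𝔞).subtype).codRestrict (Fp u 𝔞') (by
    intro x
    rw [LinearMap.mem_ker, LinearMap.comp_apply, Submodule.subtype_apply, barMap_mulQ,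
      LinearMap.mem_ker.mp x.2, map_zero])

lemma kerMap_val (𝔞 𝔞' : Ideal A) (a : A) (h : ∀ r ∈ 𝔞, r * a ∈ 𝔞') (x : Fp u 𝔞) :
    ((kerMap u 𝔞 𝔞' a h x : Fp u 𝔞') :
      E0 ⧸ (𝔞'.map (algebraMap A B)) • (⊤ : Submodule B E0)) = mulQ E0 𝔞 𝔞' a h x.1 := rfl

end setup

/-! ### depth of `F'_𝔞` -/

section depths

open IsLocalRing

variable (A B : Type u) [CommRing A] [CommRing B] [IsNoetherianRing A] [IsNoetherianRing B]
  [IsLocalRing A] [IsLocalRing B] [Algebra A B] [IsLocalHom (algebraMap A B)] (J : Ideal B)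
  (E0 E1 : Type u)
  [AddCommGroup E0] [Module B E0] [Module A E0] [IsScalarTower A B E0] [Module.Finite B E0]
  [Module.Flat A E0]
  [AddCommGroup E1] [Module B E1] [Module A E1] [IsScalarTower A B E1] [Module.Finite B E1]
  [Module.Flat A E1] (u : E0 →ₗ[B] E1)

theorem depthQ0
    (h0 : 2 ≤ LocCoh.idealDepth J
      (E0 ⧸ ((maximalIdeal A).map (algebraMap A B)) • (⊤ : Submodule B E0))) (𝔞 : Ideal A) :
    2 ≤ LocCoh.idealDepth J (E0 ⧸ (𝔞.map (algebraMap A B)) • (⊤ : Submodule B E0)) := by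
  obtain ⟨x, y, hxJ, hyJ, hx, hy⟩ := exists_regular_pair_of_two_le_depth J _ h0
  exact two_le_idealDepth_quot J E0 x y hxJ hyJ hx hy 𝔞

theorem depthQ1
    (h1 : 1 ≤ LocCoh.idealDepth J
      (E1 ⧸ ((maximalIdeal A).map (algebraMap A B)) • (⊤ : Submodule B E1))) (𝔞 : Ideal A) :
    1 ≤ LocCoh.idealDepth J (E1 ⧸ (𝔞.map (algebraMap A B)) • (⊤ : Submodule B E1)) := by
  obtain ⟨x', hx'J, hx'⟩ := exists_regular_of_one_le_depth J _ h1
  obtain ⟨hx'M, hfl⟩ := regular_and_flat_quot E1 x' hx'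
  haveI := hfl
  exact one_le_idealDepth_of_regular J hx'J (isSMulRegular_quot_of_flat_quot E1 x' hx'M 𝔞)

theorem depthFp
    (h0 : 2 ≤ LocCoh.idealDepth J
      (E0 ⧸ ((maximalIdeal A).map (algebraMap A B)) • (⊤ : Submodule B E0)))
    (h1 : 1 ≤ LocCoh.idealDepth J
      (E1 ⧸ ((maximalIdeal A).map (algebraMap A B)) • (⊤ : Submodule B E1))) (𝔞 : Ideal A) :
    2 ≤ LocCoh.idealDepth J (Fp u 𝔞) :=
  Groth.Agent.Lib.Helper26.KollarDepth.two_le_idealDepth_ker J (Fp u 𝔞).subtype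
    (barMap (𝔞.map (algebraMap A B)) u) (Submodule.subtype_injective _)
    (LinearMap.exact_subtype_ker_map _) (depthQ0 A B J E0 h0 𝔞) (depthQ1 A B J E1 h1 𝔞)

end depths

/-! ### main argument -/

section main

open IsLocalRing

variable (A B : Type u) [CommRing A] [CommRing B] [IsNoetherianRing A] [IsNoetherianRing B]
  [IsLocalRing A] [IsLocalRing B] [Algebra A B] [IsLocalHom (algebraMap A B)] (J : Ideal B)
  (F E0 E1 G : Type u) [AddCommGroup F] [Module B F] [Module A F] [IsScalarTower A B F]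
  [Module.Finite B F]
  [AddCommGroup E0] [Module B E0] [Module A E0] [IsScalarTower A B E0] [Module.Finite B E0]
  [Module.Flat A E0]
  [AddCommGroup E1] [Module B E1] [Module A E1] [IsScalarTower A B E1] [Module.Finite B E1]
  [Module.Flat A E1]
  [AddCommGroup G] [Module B G] [Module A G] [IsScalarTower A B G] [Module.Finite B G]
  (f : F →ₗ[B] E0) (u : E0 →ₗ[B] E1) (v : E1 →ₗ[B] G)
  (hf : Function.Injective f) (hfu : Function.Exact f u) (huv : Function.Exact u v)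
  (hv : Function.Surjective v)
  (hGU : ∀ q : PrimeSpectrum B, ¬ J ≤ q.asIdeal →
    Module.Flat A (LocalizedModule q.asIdeal.primeCompl G))

include hfu huv hv hGU in
theorem app1' (𝔞 : Ideal A) (e : E0)
    (he : u e ∈ (𝔞.map (algebraMap A B)) • (⊤ : Submodule B E1))
    (q : PrimeSpectrum B) (hq : ¬ J ≤ q.asIdeal) :
    ∃ s : B, s ∉ q.asIdeal ∧
      ∃ e' ∈ (𝔞.map (algebraMap A B)) • (⊤ : Submodule B E0),
        ∃ φ : F, s • e = e' + f φ := by
  haveI := hGU q hq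
  obtain ⟨s, p', hp', hα⟩ := exists_smul_eq_map_of_flat_localized (A := A) u v hv huv
    q.asIdeal.primeCompl 𝔞 (u e) (mem_smul_top_of_mem_map_smul_top _ he)
    (huv.apply_apply_eq_zero e)
  have h1 : u ((s : B) • e - p') = 0 := by
    rw [map_sub, map_smul, hα, sub_self]
  obtain ⟨φ, hφ⟩ := (hfu _).mp h1
  refine ⟨s, s.2, p', mem_map_smul_top_of_mem_smul_top _ hp', φ, ?_⟩
  rw [hφ]
  abel

include hf hfu huv hv hGU in
/-- `H²_J (F'_𝔪) = 0`. -/
theorem H2_Fp
    (hH2 : Subsingleton (HH J (ModuleCat.of B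
      (F ⧸ ((maximalIdeal A).map (algebraMap A B)) • (⊤ : Submodule B F))) 2)) :
    Subsingleton (HH J (ModuleCat.of B (Fp u (maximalIdeal A))) 2) := by
  set 𝔟 : Ideal B := (maximalIdeal A).map (algebraMap A B) with h𝔟
  have hmem : ∀ x, barMap 𝔟 f x ∈ Fp u (maximalIdeal A) := by
    intro x
    obtain ⟨φ, rfl⟩ := Submodule.mkQ_surjective _ x
    rw [Submodule.mkQ_apply, barMap_mk, mk_mem_Fp, hfu.apply_apply_eq_zero]
    exact zero_mem _
  let g : (F ⧸ 𝔟 • (⊤ : Submodule B F)) →ₗ[B] Fp u (maximalIdeal A) :=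
    (barMap 𝔟 f).codRestrict _ hmem
  have hg_mk : ∀ φ : F, ((g (Submodule.Quotient.mk φ) : Fp u (maximalIdeal A)) :
      E0 ⧸ 𝔟 • (⊤ : Submodule B E0)) = Submodule.Quotient.mk (f φ) := fun φ => rfl
  refine H2_of_torsion_ker_coker J g ?_ ?_ hH2
  · apply isPowerTorsion_of_forall_prime
    rintro ⟨x, hx⟩ q hq
    obtain ⟨φ, rfl⟩ := Submodule.mkQ_surjective _ x
    rw [Submodule.mkQ_apply] at hx
    have h1 : f φ ∈ 𝔟 • (⊤ : Submodule B E0) := by
      have h2 : ((g (Submodule.Quotient.mk φ) : Fp u (maximalIdeal A)) :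
          E0 ⧸ 𝔟 • (⊤ : Submodule B E0)) = 0 := by
        rw [LinearMap.mem_ker.mp hx]
        rfl
      rw [hg_mk] at h2
      exact (Submodule.Quotient.mk_eq_zero _).mp h2
    obtain ⟨s, hs, hsφ⟩ := app2 A B J F E0 E1 G f u v hf hfu huv hv hGU φ h1 q hq
    refine ⟨s, hs, Subtype.ext ?_⟩
    show s • (Submodule.mkQ _ φ) = 0
    rw [Submodule.mkQ_apply, ← Submodule.Quotient.mk_smul, Submodule.Quotient.mk_eq_zero]
    exact hsφ
  · apply isPowerTorsion_of_forall_prime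
    intro c q hq
    obtain ⟨⟨x, hx⟩, rfl⟩ := Submodule.mkQ_surjective _ c
    obtain ⟨e, rfl⟩ := Submodule.mkQ_surjective _ x
    rw [Submodule.mkQ_apply] at hx
    have he : u e ∈ 𝔟 • (⊤ : Submodule B E1) := (mk_mem_Fp u _ e).mp hx
    obtain ⟨s, hs, e', he', φ, hse⟩ := app1 A B J F E0 E1 G f u v hfu huv hv hGU e he q hq
    refine ⟨s, hs, ?_⟩
    rw [← map_smul, Submodule.mkQ_apply, Submodule.Quotient.mk_eq_zero, LinearMap.mem_range]
    refine ⟨Submodule.Quotient.mk φ, Subtype.ext ?_⟩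
    rw [hg_mk]
    show Submodule.Quotient.mk (f φ) = s • (Submodule.mkQ _ e)
    rw [Submodule.mkQ_apply, ← Submodule.Quotient.mk_smul, hse, Submodule.Quotient.mk_add,
      (Submodule.Quotient.mk_eq_zero _).mpr he', zero_add]

include hfu huv hv hGU in
/-- one step of the lifting. -/
theorem step
    (h0 : 2 ≤ LocCoh.idealDepth J
      (E0 ⧸ ((maximalIdeal A).map (algebraMap A B)) • (⊤ : Submodule B E0)))
    (h1 : 1 ≤ LocCoh.idealDepth J
      (E1 ⧸ ((maximalIdeal A).map (algebraMap A B)) • (⊤ : Submodule B E1)))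
    (hK2 : Subsingleton (HH J (ModuleCat.of B (Fp u (maximalIdeal A))) 2))
    (𝔞 : Ideal A) (a : A)
    (hcol : ∀ r : A, r * a ∈ 𝔞 ↔ r ∈ maximalIdeal A)
    (h1a : ∀ r ∈ 𝔞, r * 1 ∈ 𝔞 ⊔ Ideal.span {a}) :
    Function.Surjective (kerMap u 𝔞 (𝔞 ⊔ Ideal.span {a}) 1 h1a) := by
  have hma : ∀ r ∈ maximalIdeal A, r * a ∈ 𝔞 := fun r hr => (hcol r).mpr hr
  have hX1 : Subsingleton (HH J (ModuleCat.of B (Fp u 𝔞)) 1) :=
    HH.subsingleton_of_lt_idealDepth J (Fp u 𝔞) 1
      (lt_of_lt_of_le (by norm_num) (depthFp A B J E0 E1 u h0 h1 𝔞))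
  have hY0 : Subsingleton (HH J (ModuleCat.of B (Fp u (𝔞 ⊔ Ideal.span {a}))) 0) :=
    HH.subsingleton_of_lt_idealDepth J (Fp u (𝔞 ⊔ Ideal.span {a})) 0
      (lt_of_lt_of_le (by norm_num) (depthFp A B J E0 E1 u h0 h1 _))
  refine surjective_of_H2 J (kerMap u (maximalIdeal A) 𝔞 a hma)
    (kerMap u 𝔞 (𝔞 ⊔ Ideal.span {a}) 1 h1a) ?_ ?_ hK2 hX1 hY0 ?_
  · -- injectivity
    rw [injective_iff_map_eq_zero]
    rintro ⟨x, hx⟩ h
    obtain ⟨e, rfl⟩ := Submodule.mkQ_surjective _ x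
    have h2 : mulQ E0 (maximalIdeal A) 𝔞 a hma (Submodule.Quotient.mk e) = 0 :=
      congrArg Subtype.val h
    rw [mulQ_mk, Submodule.Quotient.mk_eq_zero] at h2
    have h3 := mem_of_smul_mem_of_colon E0 𝔞 (maximalIdeal A) a hcol h2
    exact Subtype.ext ((Submodule.Quotient.mk_eq_zero _).mpr h3)
  · -- exactness
    rintro ⟨x, hx⟩
    obtain ⟨e₀, rfl⟩ := Submodule.mkQ_surjective _ x
    rw [Submodule.mkQ_apply] at hx
    have hu0 : u e₀ ∈ (𝔞.map (algebraMap A B)) • (⊤ : Submodule B E1) := (mk_mem_Fp u 𝔞 e₀).mp hx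
    constructor
    · intro h
      have h2 : mulQ E0 𝔞 (𝔞 ⊔ Ideal.span {a}) 1 h1a (Submodule.Quotient.mk e₀) = 0 :=
        congrArg Subtype.val h
      rw [mulQ_mk, one_smul, Submodule.Quotient.mk_eq_zero] at h2
      have h3 := mem_smul_top_of_mem_map_smul_top _ h2
      rw [Submodule.sup_smul, Submodule.mem_sup] at h3
      obtain ⟨e₁, he₁, z, hz, hsum⟩ := h3
      rw [Submodule.ideal_span_singleton_smul, Submodule.mem_smul_pointwise_iff_exists] at hz
      obtain ⟨e, -, rfl⟩ := hz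
      have he₁B : e₁ ∈ (𝔞.map (algebraMap A B)) • (⊤ : Submodule B E0) :=
        mem_map_smul_top_of_mem_smul_top _ he₁
      have hue₁ : u e₁ ∈ (𝔞.map (algebraMap A B)) • (⊤ : Submodule B E1) :=
        Submodule.smul_top_le_comap_smul_top _ u he₁B
      have hue : a • u e ∈ (𝔞.map (algebraMap A B)) • (⊤ : Submodule B E1) := by
        have h4 : a • u e = u e₀ - u e₁ := by
          rw [← map_smul_A, ← map_sub, ← hsum, add_sub_cancel_left]
        rw [h4]
        exact sub_mem hu0 hue₁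
      have h5 := mem_of_smul_mem_of_colon E1 𝔞 (maximalIdeal A) a hcol hue
      refine ⟨⟨Submodule.Quotient.mk e, (mk_mem_Fp u _ e).mpr h5⟩, Subtype.ext ?_⟩
      rw [kerMap_val, mulQ_mk]
      show (Submodule.Quotient.mk (a • e) : E0 ⧸ _) = Submodule.mkQ _ e₀
      rw [Submodule.mkQ_apply, Submodule.Quotient.eq, ← hsum, sub_add_cancel_right]
      exact neg_mem he₁B
    · rintro ⟨⟨k, hk⟩, hkx⟩
      obtain ⟨e, rfl⟩ := Submodule.mkQ_surjective _ k
      have h2 : mulQ E0 (maximalIdeal A) 𝔞 a hma (Submodule.Quotient.mk e) =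
          Submodule.mkQ _ e₀ := congrArg Subtype.val hkx
      apply Subtype.ext
      rw [kerMap_val]
      show mulQ E0 𝔞 (𝔞 ⊔ Ideal.span {a}) 1 h1a (Submodule.mkQ _ e₀) = 0
      rw [← h2, mulQ_mk, mulQ_mk, one_smul, Submodule.Quotient.mk_eq_zero,
        ← algebraMap_smul B a e]
      exact Submodule.smul_mem_smul (Ideal.mem_map_of_mem _
        (Ideal.mem_sup_right (Ideal.mem_span_singleton_self a))) Submodule.mem_top
  · -- torsion cokernel
    rintro ⟨y, hy⟩ q hq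
    obtain ⟨e, rfl⟩ := Submodule.mkQ_surjective _ y
    rw [Submodule.mkQ_apply] at hy
    have he := (mk_mem_Fp u _ e).mp hy
    obtain ⟨s, hs, e', he', φ, hse⟩ := app1' A B J F E0 E1 G f u v hfu huv hv hGU _ e he q hq
    refine ⟨s, hs, ?_⟩
    rw [LinearMap.mem_range]
    have hφ : (Submodule.Quotient.mk (f φ) : E0 ⧸ (𝔞.map (algebraMap A B)) • (⊤ : Submodule B E0))
        ∈ Fp u 𝔞 := by
      rw [mk_mem_Fp, hfu.apply_apply_eq_zero]
      exact zero_mem _
    refine ⟨⟨Submodule.Quotient.mk (f φ), hφ⟩, Subtype.ext ?_⟩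
    rw [kerMap_val, mulQ_mk, one_smul]
    show (Submodule.Quotient.mk (f φ) : E0 ⧸ _) = s • (Submodule.mkQ _ e)
    rw [Submodule.mkQ_apply, ← Submodule.Quotient.mk_smul, hse, Submodule.Quotient.mk_add,
      (Submodule.Quotient.mk_eq_zero _).mpr he', zero_add]

/-- the lifting property for the ideal `𝔞`. -/
def Lift (𝔞 : Ideal A) : Prop :=
  ∀ e : E0, u e ∈ ((maximalIdeal A).map (algebraMap A B)) • (⊤ : Submodule B E1) →
    ∃ e' : E0, e' - e ∈ ((maximalIdeal A).map (algebraMap A B)) • (⊤ : Submodule B E0) ∧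
      u e' ∈ (𝔞.map (algebraMap A B)) • (⊤ : Submodule B E1)

include hfu huv hv hGU in
theorem lift_step
    (h0 : 2 ≤ LocCoh.idealDepth J
      (E0 ⧸ ((maximalIdeal A).map (algebraMap A B)) • (⊤ : Submodule B E0)))
    (h1 : 1 ≤ LocCoh.idealDepth J
      (E1 ⧸ ((maximalIdeal A).map (algebraMap A B)) • (⊤ : Submodule B E1)))
    (hK2 : Subsingleton (HH J (ModuleCat.of B (Fp u (maximalIdeal A))) 2))
    (𝔞 : Ideal A) (a : A) (ha : a ∈ maximalIdeal A) (h𝔞 : 𝔞 ≤ maximalIdeal A)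
    (hcol : ∀ r : A, r * a ∈ 𝔞 ↔ r ∈ maximalIdeal A)
    (hL : Lift A B E0 E1 u (𝔞 ⊔ Ideal.span {a})) : Lift A B E0 E1 u 𝔞 := by
  intro e he
  obtain ⟨e₁, he₁, hue₁⟩ := hL e he
  have h1a : ∀ r ∈ 𝔞, r * 1 ∈ 𝔞 ⊔ Ideal.span {a} := fun r hr => by
    rw [mul_one]; exact Ideal.mem_sup_left hr
  have hsurj := step A B J F E0 E1 G f u v hfu huv hv hGU h0 h1 hK2 𝔞 a hcol h1a
  obtain ⟨⟨x, hx⟩, hxy⟩ := hsurj ⟨Submodule.Quotient.mk e₁, (mk_mem_Fp u _ e₁).mpr hue₁⟩
  obtain ⟨e₂, rfl⟩ := Submodule.mkQ_surjective _ x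
  rw [Submodule.mkQ_apply] at hx
  have h2 : mulQ E0 𝔞 (𝔞 ⊔ Ideal.span {a}) 1 h1a (Submodule.Quotient.mk e₂) =
      Submodule.Quotient.mk e₁ := congrArg Subtype.val hxy
  rw [mulQ_mk, one_smul, Submodule.Quotient.eq] at h2
  have hle : (𝔞 ⊔ Ideal.span {a}).map (algebraMap A B) ≤ (maximalIdeal A).map (algebraMap A B) :=
    Ideal.map_mono (sup_le h𝔞 ((Ideal.span_singleton_le_iff_mem _).mpr ha))
  refine ⟨e₂, ?_, (mk_mem_Fp u _ e₂).mp hx⟩
  have h3 : e₂ - e = (e₂ - e₁) + (e₁ - e) := by abel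
  rw [h3]
  exact add_mem (Submodule.smul_mono_left hle h2) he₁

include hfu huv hv hGU in
theorem lift_all
    (h0 : 2 ≤ LocCoh.idealDepth J
      (E0 ⧸ ((maximalIdeal A).map (algebraMap A B)) • (⊤ : Submodule B E0)))
    (h1 : 1 ≤ LocCoh.idealDepth J
      (E1 ⧸ ((maximalIdeal A).map (algebraMap A B)) • (⊤ : Submodule B E1)))
    (hK2 : Subsingleton (HH J (ModuleCat.of B (Fp u (maximalIdeal A))) 2)) (N : ℕ) :
    ∀ 𝔞 : Ideal A, (maximalIdeal A) ^ N ≤ 𝔞 → 𝔞 ≤ maximalIdeal A → Lift A B E0 E1 u 𝔞 := by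
  intro 𝔞
  induction 𝔞 using IsNoetherian.induction with
  | hgt 𝔞 ih =>
    intro hN h𝔞
    by_cases heq : 𝔞 = maximalIdeal A
    · subst heq
      intro e he
      exact ⟨e, by rw [sub_self]; exact zero_mem _, he⟩
    · have hlt : 𝔞 < maximalIdeal A := lt_of_le_of_ne h𝔞 heq
      have hex : ∃ k, (maximalIdeal A) ^ k ≤ 𝔞 := ⟨N, hN⟩
      classical
      have hk := Nat.find_spec hex
      have hmin := fun j => Nat.find_min hex (m := j)
      set k := Nat.find hex with hkdef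
      have hk0 : k ≠ 0 := by
        intro h
        rw [h, pow_zero, Ideal.one_eq_top, top_le_iff] at hk
        exact (IsLocalRing.maximalIdeal.isMaximal A).ne_top (top_le_iff.mp (hk ▸ h𝔞))
      have hk1 : k ≠ 1 := by
        intro h
        rw [h, pow_one] at hk
        exact heq (le_antisymm h𝔞 hk)
      obtain ⟨j, hj⟩ : ∃ j, k = j + 1 := Nat.exists_eq_succ_of_ne_zero hk0
      have hj0 : j ≠ 0 := by
        intro h
        rw [h] at hj
        exact hk1 hj
      have hnot : ¬ (maximalIdeal A) ^ j ≤ 𝔞 := hmin j (by omega)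
      obtain ⟨a, haj, ha𝔞⟩ := SetLike.not_le_iff_exists.mp hnot
      have ham : a ∈ maximalIdeal A := Ideal.pow_le_self hj0 haj
      have hma : ∀ r ∈ maximalIdeal A, r * a ∈ 𝔞 := by
        intro r hr
        apply hk
        rw [hj, pow_succ']
        exact Ideal.mul_mem_mul hr haj
      have hcol : ∀ r : A, r * a ∈ 𝔞 ↔ r ∈ maximalIdeal A := by
        intro r
        refine ⟨fun h => ?_, hma r⟩
        by_contra hr
        have hunit : IsUnit r := IsLocalRing.notMem_maximalIdeal.mp hr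
        obtain ⟨r', rfl⟩ := hunit
        apply ha𝔞
        have h2 := Ideal.mul_mem_left 𝔞 (↑r'⁻¹ : A) h
        rwa [← mul_assoc, Units.inv_mul, one_mul] at h2
      have hgt : 𝔞 < 𝔞 ⊔ Ideal.span {a} := by
        refine lt_of_le_of_ne le_sup_left ?_
        intro h
        apply ha𝔞
        rw [h]
        exact Ideal.mem_sup_right (Ideal.mem_span_singleton_self a)
      have hL := ih (𝔞 ⊔ Ideal.span {a}) hgt (le_trans hN le_sup_left)
        (sup_le h𝔞 ((Ideal.span_singleton_le_iff_mem _).mpr ham))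
      exact lift_step A B J F E0 E1 G f u v hfu huv hv hGU h0 h1 hK2 𝔞 a ham h𝔞 hcol hL

include hfu huv hv hGU in
/-- the key surjectivity `F/𝔪F → F'_𝔪`. -/
theorem exists_sub_mem
    (h0 : 2 ≤ LocCoh.idealDepth J
      (E0 ⧸ ((maximalIdeal A).map (algebraMap A B)) • (⊤ : Submodule B E0)))
    (h1 : 1 ≤ LocCoh.idealDepth J
      (E1 ⧸ ((maximalIdeal A).map (algebraMap A B)) • (⊤ : Submodule B E1)))
    (hK2 : Subsingleton (HH J (ModuleCat.of B (Fp u (maximalIdeal A))) 2)) :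
    ∀ e : E0, u e ∈ ((maximalIdeal A).map (algebraMap A B)) • (⊤ : Submodule B E1) →
      ∃ φ : F, e - f φ ∈ ((maximalIdeal A).map (algebraMap A B)) • (⊤ : Submodule B E0) := by
  set 𝔟 : Ideal B := (maximalIdeal A).map (algebraMap A B) with h𝔟
  obtain ⟨c, hc⟩ := Ideal.exists_pow_inf_eq_pow_smul 𝔟 (LinearMap.range u)
  intro e he
  have hL := lift_all A B J F E0 E1 G f u v hfu huv hv hGU h0 h1 hK2 (c + 1)
    ((maximalIdeal A) ^ (c + 1)) le_rfl (Ideal.pow_le_self (Nat.succ_ne_zero c))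
  obtain ⟨e', he', hue'⟩ := hL e he
  rw [Ideal.map_pow] at hue'
  have h2 : u e' ∈ 𝔟 ^ (c + 1) • (⊤ : Submodule B E1) ⊓ LinearMap.range u :=
    ⟨hue', LinearMap.mem_range_self u e'⟩
  rw [hc (c + 1) (Nat.le_succ c), Nat.add_sub_cancel_left, pow_one] at h2
  have h3 : u e' ∈ 𝔟 • LinearMap.range u := Submodule.smul_mono le_rfl inf_le_right h2
  have h4 : ∃ e'' ∈ 𝔟 • (⊤ : Submodule B E0), u e'' = u e' := by
    refine Submodule.smul_induction_on h3 ?_ ?_
    · rintro b hb _ ⟨e₀, rfl⟩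
      exact ⟨b • e₀, Submodule.smul_mem_smul hb Submodule.mem_top, map_smul _ _ _⟩
    · rintro t1 t2 ⟨v1, hv1, e1⟩ ⟨v2, hv2, e2⟩
      exact ⟨v1 + v2, add_mem hv1 hv2, by rw [map_add, e1, e2]⟩
  obtain ⟨e'', he'', hue''⟩ := h4
  have h5 : u (e' - e'') = 0 := by rw [map_sub, hue'', sub_self]
  obtain ⟨φ, hφ⟩ := (hfu _).mp h5
  refine ⟨φ, ?_⟩
  have h6 : e - f φ = -(e' - e) + e'' := by rw [hφ]; abel
  rw [h6]
  exact add_mem (neg_mem he') he''

include hf hfu huv hv hGU in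
/-- `H²_J (F/𝔪F) = 0` implies that `G` is flat. -/
theorem flat_of_H2
    (h0 : 2 ≤ LocCoh.idealDepth J
      (E0 ⧸ ((maximalIdeal A).map (algebraMap A B)) • (⊤ : Submodule B E0)))
    (h1 : 1 ≤ LocCoh.idealDepth J
      (E1 ⧸ ((maximalIdeal A).map (algebraMap A B)) • (⊤ : Submodule B E1)))
    (hH2 : Subsingleton (HH J (ModuleCat.of B
      (F ⧸ ((maximalIdeal A).map (algebraMap A B)) • (⊤ : Submodule B F))) 2)) :
    Module.Flat A G := by
  set 𝔟 : Ideal B := (maximalIdeal A).map (algebraMap A B) with h𝔟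
  have hK2 := H2_Fp A B J F E0 E1 G f u v hf hfu huv hv hGU hH2
  have hKle := exists_sub_mem A B J F E0 E1 G f u v hfu huv hv hGU h0 h1 hK2
  have hle : LinearMap.range f ≤ LinearMap.ker u := by
    rintro _ ⟨φ, rfl⟩
    exact hfu.apply_apply_eq_zero φ
  let u' : (E0 ⧸ LinearMap.range f) →ₗ[B] E1 := (LinearMap.range f).liftQ u hle
  have hu' : ∀ w : E0 ⧸ LinearMap.range f,
      u' w ∈ (maximalIdeal A) • (⊤ : Submodule A E1) →
        w ∈ (maximalIdeal A) • (⊤ : Submodule A (E0 ⧸ LinearMap.range f)) := by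
    intro w hw
    obtain ⟨e, rfl⟩ := Submodule.mkQ_surjective _ w
    have he : u e ∈ 𝔟 • (⊤ : Submodule B E1) := mem_map_smul_top_of_mem_smul_top _ hw
    obtain ⟨φ, hφ⟩ := hKle e he
    have h1 : (LinearMap.range f).mkQ e = (LinearMap.range f).mkQ (e - f φ) := by
      have h2 : (LinearMap.range f).mkQ (f φ) = 0 := by
        rw [Submodule.mkQ_apply, Submodule.Quotient.mk_eq_zero]
        exact LinearMap.mem_range_self f φ
      rw [map_sub, h2, sub_zero]
    rw [h1]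
    exact Groth.Agent.Lib.Helper9.ComplexFlat.map_mem_smul_top (maximalIdeal A)
      ((LinearMap.range f).mkQ.restrictScalars A) (mem_smul_top_of_mem_map_smul_top _ hφ)
  obtain ⟨-, hflat⟩ := injective_and_flat_coker (A := A) (B := B) u' hu'
  have hrange : LinearMap.range u' = LinearMap.ker v := by
    rw [Submodule.range_liftQ]
    exact (LinearMap.exact_iff.mp huv).symm
  let eG : (E1 ⧸ LinearMap.range u') ≃ₗ[B] G :=
    (Submodule.quotEquivOfEq _ _ hrange).trans (v.quotKerEquivOfSurjective hv)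
  exact Module.Flat.of_linearEquiv (eG.restrictScalars A).symm

end main

end Groth.Agent.Lib.Helper9.KollarH2
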