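import Mathlib
import Groth.Agent.Lib.Helper4.LC3
import Groth.Agent.S0326

/-!
# Local cohomology and weakly regular sequences on arbitrary modules (helper9)

* `isWeaklyRegular_of_flat`: a weakly regular sequence on the ring stays weakly regular on any
  flat module.
* `HH_subsingleton_of_isWeaklyRegular`: if `I` contains a weakly `M`-regular sequence of length
  `r`, then `H^j_I(M) = 0` for `j < r` (no finiteness assumption on `M`).
* `H_subsingleton_of_flat`: for a regular sequence `ts` in a Noetherian ring `R` and a flat module
  `M`, `H^j_{(ts)}(M) = 0` for all `j ≠ ts.length`.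
-/

set_option autoImplicit false
set_option linter.style.haveILetI false
set_option linter.unusedSectionVars false
universe u v

namespace Groth.Agent.Lib.Helper9.LCReg

open CategoryTheory Groth.Agent.Lib.Helper4.LC TensorProduct

/-- a weakly regular sequence on the ring is weakly regular on every flat module. -/
theorem isWeaklyRegular_of_flat {R : Type u} [CommRing R] (M : Type v) [AddCommGroup M]
    [Module R M] [Module.Flat R M] {rs : List R}
    (h : RingTheory.Sequence.IsWeaklyRegular R rs) :
    RingTheory.Sequence.IsWeaklyRegular M rs := by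
  refine ⟨fun i hi => ?_⟩
  have h1 := h.regular_mod_prev i hi
  have h2 := IsSMulRegular.rTensor M h1
  have hJ : (Ideal.ofList (rs.take i) • (⊤ : Submodule R R)) = Ideal.ofList (rs.take i) := by
    rw [smul_eq_mul, Ideal.mul_top]
  let e1 : (R ⧸ (Ideal.ofList (rs.take i) • (⊤ : Submodule R R))) ≃ₗ[R]
      (R ⧸ Ideal.ofList (rs.take i)) := Submodule.quotEquivOfEq _ _ hJ
  let e2 : (R ⧸ Ideal.ofList (rs.take i)) ⊗[R] M ≃ₗ[R]
      M ⧸ (Ideal.ofList (rs.take i) • (⊤ : Submodule R M)) :=
    TensorProduct.quotTensorEquivQuotSMul M (Ideal.ofList (rs.take i))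
  let e := (TensorProduct.congr e1 (LinearEquiv.refl R M)).trans e2
  exact (e.isSMulRegular_congr _).mp h2

variable {R : Type u} [CommRing R] (I : Ideal R)

/-- local cohomology vanishes below the length of a weakly regular sequence contained in `I`. -/
theorem HH_subsingleton_of_isWeaklyRegular (rs : List R) : ∀ (M : ModuleCat.{u} R),
    RingTheory.Sequence.IsWeaklyRegular M rs → (∀ r ∈ rs, r ∈ I) → ∀ j, j < rs.length →
    Subsingleton (HH I M j) := by
  induction rs with
  | nil =>
    intro M _ _ j hj
    exact absurd hj (by simp)
  | cons x rs ih =>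
    intro M hreg hmem j hj
    rw [RingTheory.Sequence.isWeaklyRegular_cons_iff] at hreg
    obtain ⟨hx, hrs⟩ := hreg
    have hxI : x ∈ I := hmem x List.mem_cons_self
    have hS := hx.smulShortComplex_shortExact
    have key : Function.Injective (HH.map I (M.smulShortComplex x).f j) := by
      cases j with
      | zero => exact HH.map_f_injective_zero I hS
      | succ j' =>
        refine HH.map_f_injective_succ I hS j' ?_
        exact ih (ModuleCat.of R (QuotSMulTop x M)) hrs
          (fun r hr => hmem r (List.mem_cons_of_mem _ hr)) j' (by simpa using hj)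
    apply HH.subsingleton_of_smul_injective I x hxI
    intro z1 z2 hz
    apply key
    show HH.map I (x • 𝟙 M) j z1 = HH.map I (x • 𝟙 M) j z2
    rw [← HH.smul_eq_map, ← HH.smul_eq_map]
    exact hz

/-- For a regular sequence `ts` in a Noetherian ring and a flat module `M`, the local cohomology
of `M` with support in `(ts)` is concentrated in degree `ts.length`. -/
theorem H_subsingleton_of_flat [IsNoetherianRing R] (ts : List R)
    (hreg : RingTheory.Sequence.IsWeaklyRegular R ts) (M : Type u) [AddCommGroup M] [Module R M]
    [Module.Flat R M] (j : ℕ) (hj : j ≠ ts.length) :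
    Subsingleton (LocCoh.H (Ideal.ofList ts) j M) := by
  classical
  rcases lt_or_gt_of_ne hj with hlt | hgt
  · rw [subsingleton_H_iff]
    exact HH_subsingleton_of_isWeaklyRegular (Ideal.ofList ts) ts (ModuleCat.of R M)
      (isWeaklyRegular_of_flat M hreg) (fun r hr => Ideal.subset_span hr) j hlt
  · have h := Groth.Agent.S0326.result R ts.toFinset
    have hI : Ideal.span (ts.toFinset : Set R) = Ideal.ofList ts := by
      rw [Ideal.ofList]
      congr 1
      ext x
      simp
    rw [hI] at h
    exact h M j (lt_of_le_of_lt (List.toFinset_card_le ts) hgt)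

end Groth.Agent.Lib.Helper9.LCReg
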