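import Mathlib

/-!
# Lazard's theorem: flat modules are directed colimits of finite free modules
-/

set_option autoImplicit false
set_option linter.style.haveILetI false

namespace Groth.Agent.Lib.Helper9.Lazard

universe u

open CategoryTheory Limits

section backward

variable {R : Type u} [CommRing R]

theorem flat_colimit {J : Type u} [Preorder J] [IsDirected J (· ≤ ·)] [Nonempty J]
    (F : J ⥤ ModuleCat.{u} R) (hF : ∀ j, Module.Flat R (F.obj j)) :
    Module.Flat R (colimit F : ModuleCat.{u} R) := by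
  classical
  apply Module.Flat.of_forall_isTrivialRelation
  intro l f x hfx
  have hrep : ∀ i, ∃ (j : J) (y : F.obj j), (colimit.ι F j).hom y = x i :=
    fun i => Concrete.colimit_exists_rep F (x i)
  choose j y hy using hrep
  obtain ⟨j₀, hj₀⟩ := Finset.exists_le (Finset.univ.image j)
  have hle : ∀ i, j i ≤ j₀ := fun i => hj₀ _ (Finset.mem_image_of_mem _ (Finset.mem_univ i))
  let y₀ : Fin l → F.obj j₀ := fun i => (F.map (homOfLE (hle i))).hom (y i)
  have hy₀ : ∀ i, (colimit.ι F j₀).hom (y₀ i) = x i := by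
    intro i
    rw [← hy i]
    have := colimit.w F (homOfLE (hle i))
    exact congrArg (fun g => g.hom (y i)) this
  have h0 : (colimit.ι F j₀).hom (∑ i, f i • y₀ i) = (colimit.ι F j₀).hom 0 := by
    rw [map_sum, map_zero]
    simp_rw [map_smul, hy₀]
    exact hfx
  obtain ⟨k, g, g', hk⟩ := (Concrete.colimit_rep_eq_iff_exists F _ _).mp h0
  let y₁ : Fin l → F.obj k := fun i => (F.map g).hom (y₀ i)
  have h1 : ∑ i, f i • y₁ i = 0 := by
    have hk' : (F.map g).hom (∑ i, f i • y₀ i) = (F.map g').hom 0 := hk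
    rw [map_sum, map_zero] at hk'
    simp_rw [map_smul] at hk'
    exact hk'
  obtain ⟨m, a, z, hz1, hz2⟩ := (Module.Flat.iff_forall_isTrivialRelation.mp (hF k)) h1
  refine ⟨m, a, fun t => (colimit.ι F k).hom (z t), ?_, hz2⟩
  intro i
  have hw := colimit.w F g
  have : x i = (colimit.ι F k).hom (y₁ i) := by
    rw [← hy₀ i]
    exact (congrArg (fun g => g.hom (y₀ i)) hw).symm
  rw [this, hz1 i, map_sum]
  simp_rw [map_smul]

end backward

section forward

variable (R : Type u) [CommRing R] (M : Type u) [AddCommGroup M] [Module R M]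

/-- objects: finite free modules `R^n` with a map to `M` -/
structure LObj where
  n : ℕ
  φ : (Fin n →₀ R) →ₗ[R] M

variable {R M}

/-- morphisms -/
@[ext]
structure LHom (X Y : LObj R M) : Type u where
  a : (Fin X.n →₀ R) →ₗ[R] (Fin Y.n →₀ R)
  comm : Y.φ ∘ₗ a = X.φ

noncomputable instance : Category.{u} (LObj R M) where
  Hom X Y := LHom X Y
  id X := ⟨LinearMap.id, by simp⟩
  comp {X Y Z} f g := ⟨g.a ∘ₗ f.a, by rw [← LinearMap.comp_assoc, g.comm, f.comm]⟩
  id_comp f := LHom.ext (by simp)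
  comp_id f := LHom.ext (by simp)
  assoc f g h := LHom.ext (by simp [LinearMap.comp_assoc])

theorem LObj.hom_ext {X Y : LObj R M} (f g : X ⟶ Y) (h : LHom.a f = LHom.a g) : f = g :=
  LHom.ext h

theorem LObj.comp_a {X Y Z : LObj R M} (f : X ⟶ Y) (g : Y ⟶ Z) :
    LHom.a (f ≫ g) = LHom.a g ∘ₗ LHom.a f := rfl

theorem LObj.id_a (X : LObj R M) : LHom.a (𝟙 X : X ⟶ X) = LinearMap.id := rfl

variable (R M)

/-- the diagram -/
noncomputable def G : LObj R M ⥤ ModuleCat.{u} R where
  obj X := ModuleCat.of R (Fin X.n →₀ R)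
  map f := ModuleCat.ofHom (LHom.a f)
  map_id X := rfl
  map_comp f g := rfl

/-- the cocone -/
noncomputable def coconeM : Cocone (G R M) where
  pt := ModuleCat.of R M
  ι := { app := fun X => ModuleCat.ofHom X.φ
         naturality := fun X Y f => by
           ext : 1
           simp only [G, Functor.const_obj_obj, Functor.const_obj_map, Category.comp_id]
           exact LHom.comm f }

variable {R M}

instance [Module.Flat R M] : IsFiltered (LObj R M) where
  nonempty := ⟨⟨0, 0⟩⟩
  cocone_objs X Y := by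
    obtain ⟨k, h₂, h₃, h⟩ := Module.Flat.exists_factorization_of_finitePresentation
      (R := R) (M := M) (X.φ.coprod Y.φ)
    let Z : LObj R M := ⟨k, h₃⟩
    have h1 : Z.φ ∘ₗ (h₂ ∘ₗ LinearMap.inl R _ _) = X.φ := by
      change h₃ ∘ₗ (h₂ ∘ₗ LinearMap.inl R _ _) = X.φ
      rw [← LinearMap.comp_assoc, ← h, LinearMap.coprod_inl]
    have h2 : Z.φ ∘ₗ (h₂ ∘ₗ LinearMap.inr R _ _) = Y.φ := by
      change h₃ ∘ₗ (h₂ ∘ₗ LinearMap.inr R _ _) = Y.φ
      rw [← LinearMap.comp_assoc, ← h, LinearMap.coprod_inr]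
    exact ⟨Z, (⟨_, h1⟩ : X ⟶ Z), (⟨_, h2⟩ : Y ⟶ Z), trivial⟩
  cocone_maps X Y f g := by
    have h0 : Y.φ ∘ₗ (LHom.a f - LHom.a g) = 0 := by
      rw [LinearMap.comp_sub, LHom.comm f, LHom.comm g, sub_self]
    obtain ⟨k, a, y, hya, haf⟩ := Module.Flat.exists_factorization_of_comp_eq_zero_of_free
      (R := R) (M := M) h0
    let Z : LObj R M := ⟨k, y⟩
    let hh : Y ⟶ Z := ⟨a, hya.symm⟩
    refine ⟨Z, hh, ?_⟩
    apply LObj.hom_ext
    rw [LObj.comp_a, LObj.comp_a]
    change a ∘ₗ LHom.a f = a ∘ₗ LHom.a g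
    rw [LinearMap.comp_sub] at haf
    exact sub_eq_zero.mp haf

theorem surj (m : M) : ∃ (X : LObj R M) (v : Fin X.n →₀ R), X.φ v = m :=
  ⟨⟨1, Finsupp.linearCombination R (fun _ => m)⟩, Finsupp.single 0 1, by simp⟩

theorem inj [Module.Flat R M] (X : LObj R M) (v w : Fin X.n →₀ R) (h : X.φ v = X.φ w) :
    ∃ (Y : LObj R M) (f : X ⟶ Y), LHom.a f v = LHom.a f w := by
  have h0 : X.φ (v - w) = 0 := by rw [map_sub, h, sub_self]
  obtain ⟨k, a, y, hya, haf⟩ := Module.Flat.exists_factorization_of_apply_eq_zero_of_free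
    (R := R) (M := M) h0
  let Y : LObj R M := ⟨k, y⟩
  let f : X ⟶ Y := ⟨a, hya.symm⟩
  refine ⟨Y, f, ?_⟩
  change a v = a w
  rw [map_sub, sub_eq_zero] at haf
  exact haf

variable (R M) in
/-- the cocone is a colimit cocone -/
noncomputable def isColimitCoconeM [Module.Flat R M] : IsColimit (coconeM R M) := by
  haveI : ReflectsColimit (G R M) (forget (ModuleCat.{u} R)) :=
    reflectsColimit_of_reflectsIsomorphisms _ _
  refine isColimitOfReflects (forget (ModuleCat.{u} R)) ?_
  apply Types.FilteredColimit.isColimitOf'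
  · intro x
    obtain ⟨X, v, hv⟩ := surj (R := R) (M := M) x
    exact ⟨X, v, hv.symm⟩
  · intro X v w h
    obtain ⟨Y, f, hf⟩ := inj X v w h
    exact ⟨Y, f, hf⟩

end forward

theorem lazard {R : Type u} [CommRing R] (M : Type u) [AddCommGroup M] [Module R M] :
    Module.Flat R M ↔
      ∃ (J : Type u) (_ : Preorder J) (_ : IsDirected J (fun a b => a ≤ b)) (_ : Nonempty J)
        (F : J ⥤ ModuleCat.{u} R), (∀ j, Module.Finite R (F.obj j) ∧ Module.Free R (F.obj j)) ∧
        Nonempty (Limits.colimit F ≅ ModuleCat.of R M) := by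
  constructor
  · intro hM
    obtain ⟨α, hα, hdir, hne, F, hF⟩ := IsFiltered.exists_directed (LObj R M)
    refine ⟨α, inferInstance, hdir, hne, F ⋙ G R M, ?_, ?_⟩
    · intro j
      change Module.Finite R (Fin (F.obj j).n →₀ R) ∧ Module.Free R (Fin (F.obj j).n →₀ R)
      exact ⟨inferInstance, inferInstance⟩
    · exact ⟨Functor.Final.colimitIso F (G R M) ≪≫
        IsColimit.coconePointUniqueUpToIso (colimit.isColimit _) (isColimitCoconeM R M)⟩
  · rintro ⟨J, hJ, hdir, hne, F, hF, ⟨e⟩⟩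
    have h1 : Module.Flat R (colimit F : ModuleCat.{u} R) :=
      flat_colimit F (fun j => by
        haveI := (hF j).1
        haveI := (hF j).2
        infer_instance)
    exact Module.Flat.of_linearEquiv e.toLinearEquiv.symm

end Groth.Agent.Lib.Helper9.Lazard
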