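import Groth.Agent.Lib.Helper16.LocPFpqc
import Groth.Agent.S9730
import Groth.Agent.Lib.Helper24.SmoothSynt
import Groth.Agent.Lib.Helper1.LciLocal2
import Groth.Agent.Lib.Helper1.RegBC

/-!
# Helper library (helper9): `AlgSp.LocP P` for properties stable under FLAT base change only
(e.g. `AlgSp.lci`), and fpqc locality on the base of `AlgSp.IsLCIMor`.
-/

set_option autoImplicit false
set_option linter.style.haveILetI false
set_option backward.isDefEq.respectTransparency.types false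
universe u
open CategoryTheory CategoryTheory.Limits AlgebraicGeometry Opposite Topology MorphismProperty

namespace Groth.Agent.Lib.Helper9.LciFl

open AlgSp Groth.Agent.Lib.Helper16 Groth.Agent.Lib.Helper1

/-- Flat-base-change variant of helper16's `EtLocalST`. -/
structure EtLocalFl (P : MorphismProperty Scheme.{u}) : Prop where
  flatBC : ∀ ⦃A B A' B' : Scheme.{u}⦄ ⦃fst : A' ⟶ A⦄ ⦃snd : A' ⟶ B'⦄ ⦃f : A ⟶ B⦄ ⦃g : B' ⟶ B⦄,
    IsPullback fst snd f g → Flat g → P f → P snd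
  precomp : ∀ ⦃A B C : Scheme.{u}⦄ (e : A ⟶ B) (h : B ⟶ C), Etale e → P h → P (e ≫ h)
  postcomp : ∀ ⦃A B C : Scheme.{u}⦄ (h : A ⟶ B) (e : B ⟶ C), Etale e → P h → P (h ≫ e)
  ofCover' : ∀ ⦃A' A B : Scheme.{u}⦄ (e : A' ⟶ A) (h : A ⟶ B), Etale e → Surjective e →
    P (e ≫ h) → P h

/-! ### scheme level facts for `lci` -/

section Sch

variable {A B C A' B' : Scheme.{u}}

theorem lci_flatBC {fst : A' ⟶ A} {snd : A' ⟶ B'} {f : A ⟶ B} {g : B' ⟶ B}
    (sq : IsPullback fst snd f g) (hg : Flat g) (hf : lci f) : lci snd := by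
  intro x'
  haveI := hg
  exact RegBC.isKoszulAt_baseChange_flat sq x' (hf (fst x'))

theorem lci_precomp (e : A ⟶ B) (h : B ⟶ C) (he : Etale e) (hh : lci h) : lci (e ≫ h) := by
  intro x
  haveI := he
  haveI : Smooth e := inferInstance
  exact LciComp.isKoszulAt_comp e h x (KDesc.isKoszulAt_of_smooth e x) (hh (e x))

theorem lci_postcomp (h : A ⟶ B) (e : B ⟶ C) (he : Etale e) (hh : lci h) : lci (h ≫ e) := by
  intro x
  haveI := he
  haveI : Smooth e := inferInstance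
  exact LciComp.isKoszulAt_comp h e x (hh x) (KDesc.isKoszulAt_of_smooth e _)

theorem lci_ofCover' (e : A' ⟶ A) (h : A ⟶ B) (he : Etale e) (hs : Surjective e)
    (H : lci (e ≫ h)) : lci h := by
  haveI := he
  haveI := hs
  haveI : Smooth e := inferInstance
  exact (Groth.Agent.S9730.result e (Groth.Agent.Lib.Helper24.SmoothSynt.main e) h).1 H

theorem etLocalFl_lci : EtLocalFl (lci : MorphismProperty Scheme.{u}) where
  flatBC := fun _ _ _ _ _ _ _ _ sq hg hf => lci_flatBC sq hg hf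
  precomp := fun _ _ _ e h he hh => lci_precomp e h he hh
  postcomp := fun _ _ _ h e he hh => lci_postcomp h e he hh
  ofCover' := fun _ _ _ e h he hs H => lci_ofCover' e h he hs H

instance lci_respectsIso : (lci : MorphismProperty Scheme.{u}).RespectsIso :=
  MorphismProperty.RespectsIso.mk _
    (fun e f hf => lci_precomp e.hom f inferInstance hf)
    (fun e f hf => lci_postcomp f e.hom inferInstance hf)

instance lci_isZariskiLocalAtTarget : IsZariskiLocalAtTarget (lci : MorphismProperty Scheme.{u}) := by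
  apply IsZariskiLocalAtTarget.mk'
  · intro X Y f U hf
    exact lci_flatBC (isPullback_morphismRestrict f U).flip inferInstance hf
  · intro X Y f ι U hU H x
    have hx : f x ∈ (iSup U : Y.Opens) := by rw [hU]; trivial
    obtain ⟨i, hi⟩ := TopologicalSpace.Opens.mem_iSup.1 hx
    have h1 : Synt.IsKoszulAt (f ∣_ U i) ⟨x, hi⟩ := H i ⟨x, hi⟩
    have h2 : Synt.IsKoszulAt ((f ∣_ U i) ≫ (U i).ι) ⟨x, hi⟩ :=
      LciComp.isKoszulAt_comp _ _ _ h1 (KDesc.isKoszulAt_of_smooth _ _)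
    rw [morphismRestrict_ι] at h2
    exact LciLocal.isKoszulAt_of_isOpenImmersion_comp (f ⁻¹ᵁ U i).ι f ⟨x, hi⟩ h2

instance lci_descendsAlong : (lci : MorphismProperty Scheme.{u}).DescendsAlong
    (@Surjective ⊓ @Flat ⊓ @QuasiCompact) :=
  ⟨fun {A X Y Z fst snd f g} sq hf hfst => by
    haveI : Surjective f := hf.1.1
    haveI : Flat f := hf.1.2
    haveI : QuasiCompact f := hf.2
    exact fun y => KDesc.isKoszulAt_of_fpqc sq.flip hfst y⟩

end Sch

/-! ### generic `SrcP` lemmas with flat base change -/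

variable {S : Scheme.{u}} {P : MorphismProperty Scheme.{u}}

theorem srcP_of_atlas' (hP : EtLocalFl P) {X : Sp S} {V : Over S} (φ : X ⟶ (yon S).obj V)
    {U₁ : Over S} (a₁ : (yon S).obj U₁ ⟶ X) (h₁ : U₁ ⟶ V) (ha₁ : RepWith @Etale a₁)
    (ha₁s : RepWith @Surjective a₁) (c : a₁ ≫ φ = (yon S).map h₁) (hh : P h₁.left) : SrcP P φ := by
  intro U a h ha hc
  obtain ⟨W, i, p₀, sqW⟩ := ha₁.rep a
  obtain ⟨p, rfl⟩ := (yon S).map_surjective p₀
  have hi_e : Etale i.left := ha₁.property _ _ _ sqW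
  have hi_s : Surjective i.left := ha₁s.property _ _ _ sqW
  have hp_e : Etale p.left := ha.property _ _ _ sqW.flip
  have hpi : p ≫ h₁ = i ≫ h := by
    apply (yon S).map_injective
    rw [Functor.map_comp, Functor.map_comp, ← c, ← hc, ← Category.assoc, sqW.w, Category.assoc]
  have h1 : P (p ≫ h₁).left := by rw [Over.comp_left]; exact hP.precomp _ _ hp_e hh
  rw [hpi, Over.comp_left] at h1
  exact hP.ofCover' _ _ hi_e hi_s h1

theorem srcP_flat_baseChange (hP : EtLocalFl P) {X : Sp S}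
    (hX : ∃ (U : Over S) (a : (yon S).obj U ⟶ X), RepWith @Etale a ∧ RepWith @Surjective a)
    {V V' : Over S} (φ : X ⟶ (yon S).obj V) (hφ : SrcP P φ) (m : V' ⟶ V) (hm : Flat m.left)
    {X' : Sp S} (fst : X' ⟶ X) (φ' : X' ⟶ (yon S).obj V')
    (sq : IsPullback fst φ' φ ((yon S).map m)) : SrcP P φ' := by
  obtain ⟨U₁, a₁, ha₁, ha₁s⟩ := hX
  obtain ⟨h₁, hh₁⟩ := (yon S).map_surjective (a₁ ≫ φ)
  have hPh₁ : P h₁.left := hφ a₁ h₁ ha₁ hh₁.symm
  obtain ⟨a', ha'₁, sqa⟩ := chart_baseChange sq a₁ h₁ hh₁.symm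
  have ha'e : RepWith @Etale a' := (RepWith @Etale).of_isPullback sqa.flip ha₁
  have ha's : RepWith @Surjective a' := (RepWith @Surjective).of_isPullback sqa.flip ha₁s
  exact srcP_of_atlas' hP φ' a' (pullback.snd h₁ m) ha'e ha's ha'₁
    (hP.flatBC (isPullback_left_forget h₁ m) hm hPh₁)

theorem srcP_of_etale_cover' (hP : EtLocalFl P) {X : Sp S} {V V' : Over S}
    (φ : X ⟶ (yon S).obj V) (m : V' ⟶ V) (hm : Etale m.left) (hms : Surjective m.left)
    {X' : Sp S} (fst : X' ⟶ X) (φ' : X' ⟶ (yon S).obj V')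
    (sq : IsPullback fst φ' φ ((yon S).map m)) (H : SrcP P φ') : SrcP P φ := by
  intro U a h ha hc
  obtain ⟨a', ha'₁, sqa⟩ := chart_baseChange sq a h hc
  have ha'e : RepWith @Etale a' := (RepWith @Etale).of_isPullback sqa.flip ha
  have h1 : P (pullback.snd h m).left := H a' _ ha'e ha'₁
  have hfe : Etale (pullback.fst h m).left :=
    MorphismProperty.of_isPullback (P := @Etale) (isPullback_left_forget h m).flip hm
  have hfs : Surjective (pullback.fst h m).left :=
    MorphismProperty.of_isPullback (P := @Surjective) (isPullback_left_forget h m).flip hms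
  have h2 : P ((pullback.snd h m).left ≫ m.left) := hP.postcomp _ _ hm h1
  rw [← Over.comp_left, ← pullback.condition, Over.comp_left] at h2
  exact hP.ofCover' _ _ hfe hfs h2

/-- `LocP P f` gives `SrcP P` for the base change of `f` along a FLAT morphism from a scheme. -/
theorem srcP_of_locP_flat (hP : EtLocalFl P) {X Y : Sp S} (hX : IsAlgSpace X) (hY : IsAlgSpace Y)
    (f : X ⟶ Y) (hf : LocP P f) {T : Over S} (t : (yon S).obj T ⟶ Y) (ht : LocP @Flat t)
    {Z : Sp S} (p : Z ⟶ X) (φ : Z ⟶ (yon S).obj T) (sq : IsPullback p φ f t) : SrcP P φ := by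
  obtain ⟨V₀, c, hce, hcs⟩ := hY.atlas
  obtain ⟨T', i, j₀, sqT⟩ := hce.rep t
  obtain ⟨j, rfl⟩ := (yon S).map_surjective j₀
  have hie : Etale i.left := hce.property _ _ _ sqT
  have his : Surjective i.left := hcs.property _ _ _ sqT
  have hjf : Flat j.left :=
    ht ((yon S).map i) c j ((repWith_yon_map_iff _ _).2 hie) hce sqT.w.symm
  have h0 : SrcP P (pullback.snd f c) := srcP_of_locP hf c hce _ _ (IsPullback.of_hasPullback f c)
  have hZ₀ : IsAlgSpace (pullback f c) :=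
    isAlgSpace_of_isPullback hX hY.diag (IsAlgSpace.yon_obj V₀) (IsPullback.of_hasPullback f c)
  have sq1 : IsPullback (pullback.fst φ ((yon S).map i) ≫ p) (pullback.snd φ ((yon S).map i)) f
      ((yon S).map j ≫ c) := by
    rw [sqT.w]
    exact (IsPullback.of_hasPullback φ ((yon S).map i)).paste_horiz sq
  have w : (pullback.fst φ ((yon S).map i) ≫ p) ≫ f =
      (pullback.snd φ ((yon S).map i) ≫ (yon S).map j) ≫ c := by
    rw [Category.assoc]; exact sq1.w
  have sq2 : IsPullback (pullback.lift _ _ w) (pullback.snd φ ((yon S).map i)) (pullback.snd f c)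
      ((yon S).map j) := by
    refine IsPullback.of_right ?_ (pullback.lift_snd _ _ _) (IsPullback.of_hasPullback f c)
    rw [pullback.lift_fst]
    exact sq1
  have h1 : SrcP P (pullback.snd φ ((yon S).map i)) :=
    srcP_flat_baseChange hP hZ₀.atlas _ h0 j hjf _ _ sq2
  exact srcP_of_etale_cover' hP φ i hie his _ _ (IsPullback.of_hasPullback φ ((yon S).map i)) h1

/-- Flat base change of `LocP P`. -/
theorem locP_of_isPullback_flat (hP : EtLocalFl P) {X Y X' Y' : Sp S} (hX : IsAlgSpace X)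
    (hY : IsAlgSpace Y) {f : X ⟶ Y} {g : Y' ⟶ Y} (hg : LocP @Flat g) {fst : X' ⟶ X} {f' : X' ⟶ Y'}
    (sq : IsPullback fst f' f g) (hf : LocP P f) : LocP P f' := by
  apply locP_of_srcP
  intro V' b' hb'
  refine srcP_of_locP_flat hP hX hY f hf (b' ≫ g) ?_ _ _
    ((IsPullback.of_hasPullback f' b').paste_horiz sq)
  intro U V a b h ha hb comm
  exact hg (a ≫ b') b h ((RepWith @Etale).comp_mem _ _ ha hb') hb
    (by rw [Category.assoc]; exact comm)

/-! ### refinement of an fpqc covering by etale lifts -/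

theorem refine_one {ι : Type u} {Y : Sp S} (Yi : ι → Sp S) (g : ∀ i, Yi i ⟶ Y) (i : ι)
    (hYi : IsAlgSpace (Yi i)) (hfl : LocP @Flat (g i)) {Z W : Over S} (hW : IsAffine W.left)
    (c : W ⟶ Z) (h : (yon S).obj Z ⟶ Y) (hh : RepWith @Etale h) (l : (yon S).obj W ⟶ Yi i)
    (hl : l ≫ g i = (yon S).map c ≫ h) :
    ∃ (κ : Type u) (_ : Finite κ) (Q : κ → Over S) (d : ∀ k, Q k ⟶ Z),
      (∀ k, IsAffine (Q k).left) ∧ (∀ k, Flat (d k).left) ∧
      (∀ w : W.left, ∃ k, c.left w ∈ Set.range (d k).left) ∧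
      ∀ k, ∃ e : (yon S).obj (Q k) ⟶ Yi i, RepWith @Etale e ∧
        e ≫ g i = (yon S).map (d k) ≫ h := by
  obtain ⟨V₀, c₀, hc₀e, hc₀s⟩ := hYi.atlas
  obtain ⟨T', s, r₀, sqT⟩ := hc₀e.rep l
  have hse : Etale s.left := hc₀e.property _ _ _ sqT
  have hss : Surjective s.left := hc₀s.property _ _ _ sqT
  obtain ⟨V₁, β, α₀, sqV⟩ := hh.rep (c₀ ≫ g i)
  obtain ⟨α, rfl⟩ := (yon S).map_surjective α₀
  have hβe : Etale β.left := hh.property _ _ _ sqV
  have hαf : Flat α.left := hfl ((yon S).map β ≫ c₀) h α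
    ((RepWith @Etale).comp_mem _ _ ((repWith_yon_map_iff _ _).2 hβe) hc₀e) hh
    (by rw [Category.assoc]; exact sqV.w.symm)
  have w : (yon S).map (s ≫ c) ≫ h = r₀ ≫ c₀ ≫ g i := by
    rw [← Category.assoc r₀, sqT.w, Category.assoc, hl, Functor.map_comp, Category.assoc]
  obtain ⟨k, hk⟩ := (yon S).map_surjective (sqV.lift _ _ w)
  have hkα : k ≫ α = s ≫ c :=
    (yon S).map_injective (by rw [Functor.map_comp, hk, sqV.lift_fst])
  have hpt : ∀ w : W.left, ∃ (t : T'.left) (O : V₁.left.Opens),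
      IsAffineOpen O ∧ s.left t = w ∧ k.left t ∈ O := by
    intro w
    obtain ⟨t, rfl⟩ := hss.surj w
    obtain ⟨_, ⟨O, hO, rfl⟩, htO, -⟩ :=
      V₁.left.isBasis_affineOpens.exists_subset_of_mem_open (Set.mem_univ (k.left t)) isOpen_univ
    exact ⟨t, O, hO, rfl, htO⟩
  choose t O hO hst hkO using hpt
  have hopen : ∀ w : W.left, IsOpen (s.left '' (k.left ⁻¹' (O w : Set V₁.left))) := fun w =>
    s.left.isOpenMap _ ((O w).2.preimage k.left.continuous)
  have hcov : (Set.univ : Set W.left) ⊆ ⋃ w, s.left '' (k.left ⁻¹' (O w : Set V₁.left)) :=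
    fun w _ => Set.mem_iUnion.2 ⟨w, t w, hkO w, hst w⟩
  haveI : CompactSpace W.left := inferInstance
  obtain ⟨F, hF⟩ := isCompact_univ.elim_finite_subcover _ hopen hcov
  refine ⟨{w // w ∈ F}, inferInstance, fun w => Over.mk ((O w.1).ι ≫ V₁.hom),
    fun w => Over.homMk (O w.1).ι rfl ≫ α, ?_, ?_, ?_, ?_⟩
  · intro w
    exact hO w.1
  · intro w
    haveI := hαf
    show Flat ((O w.1).ι ≫ α.left)
    infer_instance
  · intro w'
    obtain ⟨w, hw, t', ht'O, rfl⟩ := Set.mem_iUnion₂.1 (hF (Set.mem_univ w'))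
    refine ⟨⟨w, hw⟩, ⟨k.left t', ht'O⟩, ?_⟩
    have e1 : (k ≫ α).left t' = (s ≫ c).left t' := by rw [hkα]
    rw [Over.comp_left, Over.comp_left, Scheme.Hom.comp_apply, Scheme.Hom.comp_apply] at e1
    exact e1
  · intro w
    refine ⟨(yon S).map (Over.homMk (O w.1).ι rfl) ≫ (yon S).map β ≫ c₀, ?_, ?_⟩
    · exact (RepWith @Etale).comp_mem _ _
        ((repWith_yon_map_iff _ _).2 (show Etale (O w.1).ι from inferInstance))
        ((RepWith @Etale).comp_mem _ _ ((repWith_yon_map_iff _ _).2 hβe) hc₀e)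
    · rw [Functor.map_comp]
      simp only [Category.assoc]
      rw [sqV.w]

theorem exists_etale_refinement {ι : Type u} {Y : Sp S} (Yi : ι → Sp S)
    (hYi : ∀ i, IsAlgSpace (Yi i)) (g : ∀ i, Yi i ⟶ Y) (hfl : ∀ i, LocP @Flat (g i))
    (href : FpqcRefines Yi g) (Z : Over S) (hZ : IsAffine Z.left) (h : (yon S).obj Z ⟶ Y)
    (hh : RepWith @Etale h) :
    ∃ (m : ℕ) (Q : Fin m → Over S) (d : ∀ k, Q k ⟶ Z), (∀ k, IsAffine (Q k).left) ∧
      (∀ k, Flat (d k).left) ∧ (∀ z : Z.left, ∃ k, z ∈ Set.range (d k).left) ∧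
      ∀ k, ∃ (i : ι) (e : (yon S).obj (Q k) ⟶ Yi i), RepWith @Etale e ∧
        e ≫ g i = (yon S).map (d k) ≫ h := by
  obtain ⟨m, W, c, hWa, hcf, hcs, hl⟩ := href Z hZ h
  choose i l hl using hl
  have H := fun j => refine_one Yi g (i j) (hYi (i j)) (hfl (i j)) (hWa j) (c j) h hh (l j) (hl j)
  choose κ hκ Q d hQa hdf hds he using H
  haveI : ∀ j, Finite (κ j) := hκ
  obtain ⟨n, ⟨ε⟩⟩ := Finite.exists_equiv_fin (Σ j, κ j)
  refine ⟨n, fun k => Q (ε.symm k).1 (ε.symm k).2, fun k => d (ε.symm k).1 (ε.symm k).2,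
    fun k => hQa _ _, fun k => hdf _ _, ?_, fun k => ⟨i (ε.symm k).1, he _ _⟩⟩
  intro z
  obtain ⟨j, w, rfl⟩ := hcs z
  obtain ⟨k, hk⟩ := hds j w
  refine ⟨ε ⟨j, k⟩, ?_⟩
  have key : ∀ x : (Σ j, κ j), x = ⟨j, k⟩ →
      (c j).left w ∈ Set.range (d x.1 x.2).left := by
    rintro _ rfl
    exact hk
  exact key _ (ε.symm_apply_apply ⟨j, k⟩)

/-! ### fpqc locality on the base of `LocP lci` -/

set_option backward.isDefEq.respectTransparency.types false in
theorem locP_lci_of_fpqc {ι : Type u} {Y : Sp S} (Yi : ι → Sp S) (hYi : ∀ i, IsAlgSpace (Yi i))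
    (g : ∀ i, Yi i ⟶ Y) (hfl : ∀ i, LocP @Flat (g i)) (href : FpqcRefines Yi g) {X : Sp S}
    (f : X ⟶ Y) (Xi : ι → Sp S) (p : ∀ i, Xi i ⟶ Yi i) (q : ∀ i, Xi i ⟶ X)
    (sq : ∀ i, IsPullback (q i) (p i) f (g i)) (hp : ∀ i, LocP lci (p i)) : LocP lci f := by
  apply locP_of_srcP
  intro V b hb U a h ha hc
  apply IsZariskiLocalAtTarget.of_forall_exists_morphismRestrict
  intro v
  obtain ⟨_, ⟨(O : V.left.Opens), hO, rfl⟩, hvO, -⟩ :=
    V.left.isBasis_affineOpens.exists_subset_of_mem_open (Set.mem_univ v) isOpen_univ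
  refine ⟨O, hvO, ?_⟩
  let VO : Over S := Over.mk (O.ι ≫ V.hom)
  let ιO : VO ⟶ V := Over.homMk O.ι rfl
  have hVO : IsAffine VO.left := hO
  have hιb : RepWith @Etale ((yon S).map ιO ≫ b) :=
    (RepWith @Etale).comp_mem _ _
      ((repWith_yon_map_iff _ _).2 (show Etale O.ι from inferInstance)) hb
  obtain ⟨m, Q, d, hQa, hdf, hds, he⟩ :=
    exists_etale_refinement Yi hYi g hfl href VO hVO ((yon S).map ιO ≫ b) hιb
  have : IsAffine (Scheme.Opens.toScheme (X := V.left) O) := hO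
  have : ∀ j, IsAffine (Q j).left := hQa
  refine of_std_fpqc_cover (h.left ∣_ O) (fun j => (Q j).left) (fun j => (d j).left) hdf hds ?_
  intro j
  obtain ⟨i, e, hee, he'⟩ := he j
  have hl'' : e ≫ g i = (yon S).map (d j ≫ ιO) ≫ b := by
    rw [he', Functor.map_comp, Category.assoc]
  have sqW : IsPullback (pullback.fst (p i) e ≫ q i) (pullback.snd (p i) e) f
      ((yon S).map (d j ≫ ιO) ≫ b) := by
    rw [← hl'']
    exact (IsPullback.of_hasPullback (p i) e).paste_horiz (sq i)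
  have hsrc : SrcP lci (pullback.snd (p i) e) :=
    srcP_of_locP (hp i) e hee _ _ (IsPullback.of_hasPullback (p i) e)
  have h1 : lci (pullback.snd h (d j ≫ ιO)).left :=
    P_of_srcP_of_isPullback b (d j ≫ ιO) sqW hsrc a h ha hc
  have sqA : IsPullback (pullback.fst (h.left ∣_ O) (d j).left ≫ (h.left ⁻¹ᵁ O).ι)
      (pullback.snd (h.left ∣_ O) (d j).left) h.left ((d j).left ≫ O.ι) :=
    (IsPullback.of_hasPullback (h.left ∣_ O) (d j).left).paste_horiz
      (isPullback_morphismRestrict h.left O).flip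
  exact P_snd_of_isPullback sqA (isPullback_left_forget h (d j ≫ ιO)) h1

/-- `AlgSp.IsLCIMor` is fpqc local on the base. -/
theorem isLocalOnBase_fpqc_isLCIMor : IsLocalOnBase (IsFpqcCover (S := S)) IsLCIMor := by
  intro ι Y Yi g hY hYi hcov X f hX Xi p q hXi sq
  exact ⟨fun hf i => locP_of_isPullback_flat etLocalFl_lci hX hY (hcov.1 i) (sq i) hf,
    fun hp => locP_lci_of_fpqc Yi hYi g hcov.1 hcov.2 f Xi p q sq hp⟩

end Groth.Agent.Lib.Helper9.LciFl
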