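import Groth.Prelude.Def_TopMod
import Mathlib.Topology.Algebra.Group.Basic
import Mathlib.Topology.Order

/-!
# Small helpers for topological modules with deduced topologies
-/

set_option autoImplicit false
universe u v w

namespace Groth.Agent.Lib.Helper9.TopModLib

/-- An additive map from a topological group to a discrete space, killing a neighbourhood of `0`,
is continuous. -/
lemma continuous_of_ker {N : Type v} {E : Type w} [AddCommGroup N] [TopologicalSpace N]
    [IsTopologicalAddGroup N] [AddCommGroup E] [TopologicalSpace E] [DiscreteTopology E]
    (w : N →+ E) (S : Set N) (hS : S ∈ nhds (0 : N)) (hker : ∀ y ∈ S, w y = 0) :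
    Continuous w := by
  refine continuous_discrete_rng.2 (fun e => isOpen_iff_mem_nhds.2 (fun n hn => ?_))
  have hcont : ContinuousAt (fun y : N => y - n) n := (continuous_sub_right n).continuousAt
  have hS' : S ∈ nhds ((fun y : N => y - n) n) := by simpa using hS
  refine Filter.mem_of_superset (hcont.preimage_mem_nhds hS') ?_
  intro y hy
  have h0 : w (y - n) = 0 := hker _ hy
  have hn' : w n = e := hn
  show w y = e
  rw [map_sub, sub_eq_zero] at h0
  rw [h0, hn']

end Groth.Agent.Lib.Helper9.TopModLib
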