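import Groth.Prelude.Def_TopMod
import Groth.Agent.Lib.Helper9.TopModLib
import Mathlib.Algebra.Module.Projective
import Mathlib.Algebra.Module.Torsion.Basic
import Mathlib.RingTheory.Ideal.Quotient.Operations
import Mathlib.RingTheory.Ideal.Operations
import Mathlib.Algebra.Ring.GeomSum
import Mathlib.Topology.Algebra.IsUniformGroup.Basic
import Mathlib.Topology.UniformSpace.Cauchy
import Mathlib.Topology.Algebra.Group.Basic

/-!
# Left inverses of linear maps `u : M → N` built from left inverses modulo a countable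
decreasing family of ideals (EGA 0_IV 19.1.x)
-/

set_option autoImplicit false
universe u v w

namespace Groth.Agent.Lib.Helper9.LeftInv

section algebra

variable {A : Type u} [CommRing A]

/-- Lifting property of a module projective over `A ⧸ I`, against `A`-linear surjections whose
source is killed by `I`. -/
theorem exists_lift_of_projective_quotient (I : Ideal A) {P : Type*} [AddCommGroup P] [Module A P]
    [Module (A ⧸ I) P] [IsScalarTower A (A ⧸ I) P] [Module.Projective (A ⧸ I) P]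
    {X Y : Type*} [AddCommGroup X] [Module A X] [AddCommGroup Y] [Module A Y]
    (hX : Module.IsTorsionBySet A X I) (f : X →ₗ[A] Y) (hf : Function.Surjective f)
    (g : P →ₗ[A] Y) : ∃ h : P →ₗ[A] X, ∀ p, f (h p) = g p := by
  have hY : Module.IsTorsionBySet A Y I := by
    intro y a
    obtain ⟨x, rfl⟩ := hf y
    have := @hX x a
    rw [← map_smul, this, map_zero]
  letI := hX.module
  letI := hY.module
  haveI : IsScalarTower A (A ⧸ I) X := hX.isScalarTower
  haveI : IsScalarTower A (A ⧸ I) Y := hY.isScalarTower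
  have hs : Function.Surjective (algebraMap A (A ⧸ I)) := Ideal.Quotient.mk_surjective
  obtain ⟨h, hh⟩ := Module.projective_lifting_property (f.extendScalarsOfSurjective hs)
    (g.extendScalarsOfSurjective hs) hf
  exact ⟨h.restrictScalars A, fun p => LinearMap.congr_fun hh p⟩

variable {M : Type v} {N : Type w} [AddCommGroup M] [Module A M] [AddCommGroup N] [Module A N]

lemma smul_mk_eq_zero (J : Ideal A) {a : A} (ha : a ∈ J) (ξ : M ⧸ (J • ⊤ : Submodule A M)) :
    a • ξ = 0 := by
  obtain ⟨x, rfl⟩ := Submodule.Quotient.mk_surjective _ ξ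
  rw [← Submodule.Quotient.mk_smul, Submodule.Quotient.mk_eq_zero]
  exact Submodule.smul_mem_smul ha Submodule.mem_top

lemma eq_zero_of_mem_smul_top (J : Ideal A) {ξ : M ⧸ (J • ⊤ : Submodule A M)}
    (h : ξ ∈ (J • ⊤ : Submodule A (M ⧸ (J • ⊤ : Submodule A M)))) : ξ = 0 := by
  refine Submodule.smul_induction_on h (fun a ha η _ => smul_mk_eq_zero J ha η) ?_
  intro x y hx hy
  rw [hx, hy, add_zero]

lemma mk_mem_smul_top (I J : Ideal A) {x : M} (hx : x ∈ (J • ⊤ : Submodule A M)) :
    (Submodule.Quotient.mk x : M ⧸ (I • ⊤ : Submodule A M)) ∈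
      (J • ⊤ : Submodule A (M ⧸ (I • ⊤ : Submodule A M))) := by
  refine Submodule.smul_induction_on hx (fun a ha y _ => ?_) (fun y y' h1 h2 => ?_)
  · rw [Submodule.Quotient.mk_smul]
    exact Submodule.smul_mem_smul ha Submodule.mem_top
  · rw [Submodule.Quotient.mk_add]
    exact Submodule.add_mem _ h1 h2

/-- One step of the construction of a compatible system of left inverses. -/
theorem step (u : M →ₗ[A] N) {I J : Ideal A} (hIJ : I ≤ J)
    [Module.Projective (A ⧸ I)
      ((N ⧸ LinearMap.range u) ⧸ (I • ⊤ : Submodule A (N ⧸ LinearMap.range u)))]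
    (w' : N →ₗ[A] M ⧸ (J • ⊤ : Submodule A M))
    (hw' : ∀ x, w' (u x) = Submodule.Quotient.mk x)
    (w : N →ₗ[A] M ⧸ (I • ⊤ : Submodule A M)) (hw : ∀ x, w (u x) = Submodule.Quotient.mk x) :
    ∃ w'' : N →ₗ[A] M ⧸ (I • ⊤ : Submodule A M),
      (∀ x, w'' (u x) = Submodule.Quotient.mk x) ∧
      ∀ y, Submodule.factor (Submodule.smul_mono_left hIJ) (w'' y) = w' y := by
  have hle : (I • ⊤ : Submodule A M) ≤ J • ⊤ := Submodule.smul_mono_left hIJ
  have ht_mk : ∀ x : M, Submodule.factor hle (Submodule.Quotient.mk x) =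
      Submodule.Quotient.mk x := fun x => rfl
  have ht_surj : Function.Surjective (Submodule.factor hle) := Submodule.factor_surjective _
  let δ : N →ₗ[A] M ⧸ (J • ⊤ : Submodule A M) := (Submodule.factor hle) ∘ₗ w - w'
  have hδ : ∀ y, δ y = Submodule.factor hle (w y) - w' y := fun y => rfl
  have hδu : ∀ x, δ (u x) = 0 := fun x => by
    rw [hδ, hw, hw', ht_mk, sub_self]
  let δ₁ : (N ⧸ LinearMap.range u) →ₗ[A] M ⧸ (J • ⊤ : Submodule A M) :=
    (LinearMap.range u).liftQ δ (by
      rintro _ ⟨x, rfl⟩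
      exact LinearMap.mem_ker.mpr (hδu x))
  let δ₂ : ((N ⧸ LinearMap.range u) ⧸ (I • ⊤ : Submodule A (N ⧸ LinearMap.range u))) →ₗ[A]
      M ⧸ (J • ⊤ : Submodule A M) :=
    (I • ⊤ : Submodule A (N ⧸ LinearMap.range u)).liftQ δ₁ (by
      rw [Submodule.smul_le]
      intro a ha q _
      rw [LinearMap.mem_ker, map_smul]
      exact smul_mk_eq_zero J (hIJ ha) _)
  have hδ₂ : ∀ y : N, δ₂ (Submodule.Quotient.mk (Submodule.Quotient.mk y)) = δ y := fun y => rfl
  obtain ⟨h, hh⟩ := exists_lift_of_projective_quotient I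
    (Module.isTorsionBySet_quotient_ideal_smul M I) (Submodule.factor hle) ht_surj δ₂
  let δ' : N →ₗ[A] M ⧸ (I • ⊤ : Submodule A M) :=
    h ∘ₗ (Submodule.mkQ _) ∘ₗ (Submodule.mkQ (LinearMap.range u))
  have hδ' : ∀ y, δ' y = h (Submodule.Quotient.mk (Submodule.Quotient.mk y)) := fun y => rfl
  refine ⟨w - δ', fun x => ?_, fun y => ?_⟩
  · have h0 : (Submodule.Quotient.mk (u x) : N ⧸ LinearMap.range u) = 0 :=
      (Submodule.Quotient.mk_eq_zero _).2 ⟨x, rfl⟩
    rw [LinearMap.sub_apply, hδ', h0, Submodule.Quotient.mk_zero, map_zero, sub_zero, hw]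
  · rw [LinearMap.sub_apply, map_sub, hδ', hh, hδ₂, hδ, sub_sub_cancel]

/-- A compatible system of left inverses modulo `J n`. -/
theorem exists_compatible (u : M →ₗ[A] N) (J : ℕ → Ideal A) (hJ : Antitone J)
    (hproj : ∀ n, Module.Projective (A ⧸ J n)
      ((N ⧸ LinearMap.range u) ⧸ (J n • ⊤ : Submodule A (N ⧸ LinearMap.range u))))
    (hw : ∀ n, ∃ w : N →ₗ[A] M ⧸ (J n • ⊤ : Submodule A M),
      ∀ x, w (u x) = Submodule.Quotient.mk x) :
    ∃ W : ∀ n, N →ₗ[A] M ⧸ (J n • ⊤ : Submodule A M),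
      (∀ n x, W n (u x) = Submodule.Quotient.mk x) ∧
      ∀ n y, Submodule.factor (Submodule.smul_mono_left (hJ (Nat.le_succ n))) (W (n + 1) y) =
        W n y := by
  classical
  let T : ℕ → Type (max v w) := fun n =>
    {w : N →ₗ[A] M ⧸ (J n • ⊤ : Submodule A M) // ∀ x, w (u x) = Submodule.Quotient.mk x}
  have hstep : ∀ n (w' : T n), ∃ w'' : T (n + 1),
      ∀ y, Submodule.factor (Submodule.smul_mono_left (hJ (Nat.le_succ n))) (w''.1 y) =
        w'.1 y := by
    intro n w'
    obtain ⟨w, hw1⟩ := hw (n + 1)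
    haveI := hproj (n + 1)
    obtain ⟨w'', h1, h2⟩ := step u (hJ (Nat.le_succ n)) w'.1 w'.2 w hw1
    exact ⟨⟨w'', h1⟩, h2⟩
  let W₀ : T 0 := ⟨Classical.choose (hw 0), Classical.choose_spec (hw 0)⟩
  let W : ∀ n, T n := fun n => Nat.rec W₀ (fun n w' => Classical.choose (hstep n w')) n
  refine ⟨fun n => (W n).1, fun n => (W n).2, fun n y => ?_⟩
  exact Classical.choose_spec (hstep n (W n)) y

end algebra

section topology

variable {A : Type u} {M : Type v} {N : Type w} [CommRing A] [AddCommGroup M] [Module A M]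
  [UniformSpace M] [IsUniformAddGroup M] [AddCommGroup N] [Module A N]

theorem eq_of_forall_mk_eq [T2Space M] (J : ℕ → Ideal A)
    (hbasis : ∀ S ∈ nhds (0 : M), ∃ n, ((J n • ⊤ : Submodule A M) : Set M) ⊆ S) (x x' : M)
    (h : ∀ n, (Submodule.Quotient.mk x : M ⧸ (J n • ⊤ : Submodule A M)) =
      Submodule.Quotient.mk x') : x = x' := by
  by_contra hne
  have hne' : x - x' ≠ 0 := sub_ne_zero.mpr hne
  have hS : ({x - x'}ᶜ : Set M) ∈ nhds (0 : M) :=
    isOpen_compl_singleton.mem_nhds (fun h0 : (0 : M) = x - x' => hne' h0.symm)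
  obtain ⟨n, hn⟩ := hbasis _ hS
  have hmem : x - x' ∈ (J n • ⊤ : Submodule A M) := (Submodule.Quotient.eq _).1 (h n)
  exact hn hmem rfl

theorem exists_limit [CompleteSpace M] [T2Space M] (J : ℕ → Ideal A) (hJ : Antitone J)
    (hnhds : ∀ n, ((J n • ⊤ : Submodule A M) : Set M) ∈ nhds (0 : M))
    (hbasis : ∀ S ∈ nhds (0 : M), ∃ n, ((J n • ⊤ : Submodule A M) : Set M) ⊆ S)
    (W : ∀ n, N →ₗ[A] M ⧸ (J n • ⊤ : Submodule A M))
    (hW : ∀ n y, Submodule.factor (Submodule.smul_mono_left (hJ (Nat.le_succ n)))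
      (W (n + 1) y) = W n y) :
    ∃ w : N →ₗ[A] M, ∀ n y,
      (Submodule.Quotient.mk (w y) : M ⧸ (J n • ⊤ : Submodule A M)) = W n y := by
  have hex : ∀ y : N, ∃ x : M,
      ∀ n, (Submodule.Quotient.mk x : M ⧸ (J n • ⊤ : Submodule A M)) = W n y := by
    intro y
    choose xs hxs using fun n =>
      Submodule.Quotient.mk_surjective (J n • ⊤ : Submodule A M) (W n y)
    have hstep : ∀ n, xs (n + 1) - xs n ∈ (J n • ⊤ : Submodule A M) := by
      intro n
      rw [← Submodule.Quotient.eq, hxs n, ← hW n y, ← hxs (n + 1)]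
      rfl
    have hk : ∀ n k, xs (n + k) - xs n ∈ (J n • ⊤ : Submodule A M) := by
      intro n k
      induction k with
      | zero => rw [Nat.add_zero, sub_self]; exact Submodule.zero_mem _
      | succ k ih =>
        have h1 : xs (n + k + 1) - xs (n + k) ∈ (J n • ⊤ : Submodule A M) :=
          Submodule.smul_mono_left (hJ (Nat.le_add_right n k)) (hstep (n + k))
        have h2 : xs (n + (k + 1)) - xs n =
            (xs (n + k + 1) - xs (n + k)) + (xs (n + k) - xs n) := by
          rw [← add_assoc]; abel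
        rw [h2]
        exact Submodule.add_mem _ h1 ih
    have hge : ∀ n m, n ≤ m → xs m - xs n ∈ (J n • ⊤ : Submodule A M) := by
      intro n m hnm
      obtain ⟨k, rfl⟩ := Nat.exists_eq_add_of_le hnm
      exact hk n k
    have hC : CauchySeq xs := by
      rw [cauchySeq_iff]
      intro V hV
      rw [uniformity_eq_comap_nhds_zero M, Filter.mem_comap] at hV
      obtain ⟨S, hS, hSV⟩ := hV
      obtain ⟨n, hn⟩ := hbasis S hS
      refine ⟨n, fun k hk' l hl => hSV ?_⟩
      show xs l - xs k ∈ S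
      apply hn
      have h3 : xs l - xs k = (xs l - xs n) - (xs k - xs n) := by abel
      rw [h3]
      exact Submodule.sub_mem _ (hge n l hl) (hge n k hk')
    obtain ⟨x, hx⟩ := cauchySeq_tendsto_of_complete hC
    refine ⟨x, fun n => ?_⟩
    rw [← hxs n, Submodule.Quotient.eq]
    have hnx : {z : M | z - x ∈ (J n • ⊤ : Submodule A M)} ∈ nhds x := by
      have hcont : ContinuousAt (fun z : M => z - x) x := (continuous_sub_right x).continuousAt
      have h0 : ((J n • ⊤ : Submodule A M) : Set M) ∈ nhds ((fun z : M => z - x) x) := by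
        simpa using hnhds n
      exact hcont.preimage_mem_nhds h0
    obtain ⟨m, hm1, hm2⟩ := ((hx.eventually hnx).and (Filter.eventually_ge_atTop n)).exists
    have h4 : x - xs n = (xs m - xs n) - (xs m - x) := by abel
    rw [h4]
    exact Submodule.sub_mem _ (hge n m hm2) hm1
  choose wf hwf using hex
  refine ⟨{ toFun := wf, map_add' := fun y y' => ?_, map_smul' := fun a y => ?_ },
    fun n y => hwf y n⟩
  · apply eq_of_forall_mk_eq J hbasis
    intro n
    rw [Submodule.Quotient.mk_add, hwf, hwf, hwf, map_add]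
  · apply eq_of_forall_mk_eq J hbasis
    intro n
    rw [RingHom.id_apply, Submodule.Quotient.mk_smul, hwf, hwf, map_smul]

/-- Core statement: left inverses modulo each `J n` plus projectivity of the cokernels modulo
`J n` plus completeness give a left inverse. -/
theorem exists_leftInverse [CompleteSpace M] [T2Space M] (J : ℕ → Ideal A) (hJ : Antitone J)
    (hnhds : ∀ n, ((J n • ⊤ : Submodule A M) : Set M) ∈ nhds (0 : M))
    (hbasis : ∀ S ∈ nhds (0 : M), ∃ n, ((J n • ⊤ : Submodule A M) : Set M) ⊆ S)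
    (u : M →ₗ[A] N)
    (hproj : ∀ n, Module.Projective (A ⧸ J n)
      ((N ⧸ LinearMap.range u) ⧸ (J n • ⊤ : Submodule A (N ⧸ LinearMap.range u))))
    (hw : ∀ n, ∃ w : N →ₗ[A] M ⧸ (J n • ⊤ : Submodule A M),
      ∀ x, w (u x) = Submodule.Quotient.mk x) :
    ∃ w : N →ₗ[A] M, ∀ x, w (u x) = x := by
  obtain ⟨W, hW1, hW2⟩ := exists_compatible u J hJ hproj hw
  obtain ⟨w, hw'⟩ := exists_limit J hJ hnhds hbasis W hW2
  refine ⟨w, fun x => eq_of_forall_mk_eq J hbasis _ _ (fun n => ?_)⟩
  rw [hw', hW1]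

end topology

end Groth.Agent.Lib.Helper9.LeftInv
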