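import Groth.Agent.Lib.Helper9.LeftInv

/-!
# Left inverses modulo an open ideal from a left inverse modulo an ideal of definition
-/

set_option autoImplicit false
universe u v w

namespace Groth.Agent.Lib.Helper9.LeftInv

section lemmaC

variable {A : Type u} [CommRing A] {M : Type v} {N : Type w} [AddCommGroup M] [Module A M]
  [AddCommGroup N] [Module A N]

theorem exists_leftInverse_mod (u : M →ₗ[A] N) (I L : Ideal A) (k : ℕ) (hk : L ^ k ≤ I)
    [Module.Projective (A ⧸ I) (N ⧸ (I • ⊤ : Submodule A N))]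
    (w₀ : N →ₗ[A] M ⧸ (L • ⊤ : Submodule A M))
    (hw₀ : ∀ x, w₀ (u x) = Submodule.Quotient.mk x) :
    ∃ w : N →ₗ[A] M ⧸ (I • ⊤ : Submodule A M), ∀ x, w (u x) = Submodule.Quotient.mk x := by
  have hleX : (I • ⊤ : Submodule A M) ≤ (L ⊔ I) • ⊤ := Submodule.smul_mono_left le_sup_right
  have hleL : (L • ⊤ : Submodule A M) ≤ (L ⊔ I) • ⊤ := Submodule.smul_mono_left le_sup_left
  have hf_surj : Function.Surjective (Submodule.factor hleX) := Submodule.factor_surjective _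
  let g₀ : N →ₗ[A] M ⧸ ((L ⊔ I) • ⊤ : Submodule A M) := (Submodule.factor hleL) ∘ₗ w₀
  let g : (N ⧸ (I • ⊤ : Submodule A N)) →ₗ[A] M ⧸ ((L ⊔ I) • ⊤ : Submodule A M) :=
    (I • ⊤ : Submodule A N).liftQ g₀ (by
      rw [Submodule.smul_le]
      intro a ha y _
      rw [LinearMap.mem_ker, map_smul]
      exact smul_mk_eq_zero (L ⊔ I) (Ideal.mem_sup_right ha) _)
  have hg : ∀ y : N, g (Submodule.Quotient.mk y) = Submodule.factor hleL (w₀ y) := fun y => rfl
  obtain ⟨h, hh⟩ := exists_lift_of_projective_quotient I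
    (Module.isTorsionBySet_quotient_ideal_smul M I) (Submodule.factor hleX) hf_surj g
  let v : N →ₗ[A] M ⧸ (I • ⊤ : Submodule A M) := h ∘ₗ Submodule.mkQ _
  have hv : ∀ y, v y = h (Submodule.Quotient.mk y) := fun y => rfl
  have hfv : ∀ x : M, Submodule.factor hleX (v (u x)) =
      Submodule.factor hleX (Submodule.Quotient.mk x) := by
    intro x
    rw [hv, hh, hg, hw₀]
    rfl
  let e₀ : M →ₗ[A] M ⧸ (I • ⊤ : Submodule A M) := v ∘ₗ u
  let ē : Module.End A (M ⧸ (I • ⊤ : Submodule A M)) :=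
    (I • ⊤ : Submodule A M).liftQ e₀ (by
      rw [Submodule.smul_le]
      intro a ha x _
      rw [LinearMap.mem_ker, map_smul]
      exact smul_mk_eq_zero I ha _)
  have hē : ∀ x : M, ē (Submodule.Quotient.mk x) = v (u x) := fun x => rfl
  let ε : Module.End A (M ⧸ (I • ⊤ : Submodule A M)) := 1 - ē
  have hεapp : ∀ ξ, ε ξ = ξ - ē ξ := fun ξ => rfl
  have hker : ∀ ξ : M ⧸ (I • ⊤ : Submodule A M), Submodule.factor hleX ξ = 0 →
      ξ ∈ (L • ⊤ : Submodule A (M ⧸ (I • ⊤ : Submodule A M))) := by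
    intro ξ hξ
    obtain ⟨x, rfl⟩ := Submodule.Quotient.mk_surjective _ ξ
    have hx : x ∈ ((L ⊔ I) • ⊤ : Submodule A M) := (Submodule.Quotient.mk_eq_zero _).1 hξ
    rw [Submodule.sup_smul] at hx
    obtain ⟨a, ha, b, hb, rfl⟩ := Submodule.mem_sup.1 hx
    rw [Submodule.Quotient.mk_add, (Submodule.Quotient.mk_eq_zero _).2 hb, add_zero]
    exact mk_mem_smul_top I L ha
  have hε1 : ∀ ξ, ε ξ ∈ (L • ⊤ : Submodule A (M ⧸ (I • ⊤ : Submodule A M))) := by
    intro ξ
    apply hker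
    obtain ⟨x, rfl⟩ := Submodule.Quotient.mk_surjective _ ξ
    rw [hεapp, map_sub, hē, hfv, sub_self]
  have hε2 : ∀ j ξ, (ε ^ j) ξ ∈
      ((L ^ j) • ⊤ : Submodule A (M ⧸ (I • ⊤ : Submodule A M))) := by
    intro j
    induction j with
    | zero =>
      intro ξ
      rw [pow_zero, Ideal.one_eq_top, Submodule.top_smul]
      exact Submodule.mem_top
    | succ j ih =>
      intro ξ
      have hpow : (ε ^ (j + 1)) ξ = ε ((ε ^ j) ξ) := by
        rw [pow_succ' ε j, Module.End.mul_apply]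
      rw [hpow]
      have hmaps : ∀ η ∈ ((L ^ j) • ⊤ : Submodule A (M ⧸ (I • ⊤ : Submodule A M))),
          ε η ∈ ((L ^ (j + 1)) • ⊤ : Submodule A (M ⧸ (I • ⊤ : Submodule A M))) := by
        intro η hη
        refine Submodule.smul_induction_on hη (fun a ha ζ _ => ?_) (fun y y' h1 h2 => ?_)
        · rw [map_smul, pow_succ L j, Submodule.mul_smul]
          exact Submodule.smul_mem_smul ha (hε1 ζ)
        · rw [map_add]; exact Submodule.add_mem _ h1 h2
      exact hmaps _ (ih ξ)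
  have hε3 : ε ^ k = 0 := by
    apply LinearMap.ext
    intro ξ
    have h1 := hε2 k ξ
    have h2 : (ε ^ k) ξ ∈ (I • ⊤ : Submodule A (M ⧸ (I • ⊤ : Submodule A M))) :=
      Submodule.smul_mono_left hk h1
    rw [eq_zero_of_mem_smul_top I h2]
    rfl
  let S : Module.End A (M ⧸ (I • ⊤ : Submodule A M)) := ∑ j ∈ Finset.range k, ε ^ j
  have hS : S * ē = 1 := by
    have h1 : S * (1 - ε) = 1 - ε ^ k := geom_sum_mul_neg ε k
    have h2 : (1 : Module.End A (M ⧸ (I • ⊤ : Submodule A M))) - ε = ē := sub_sub_cancel 1 ē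
    rw [h2, hε3, sub_zero] at h1
    exact h1
  refine ⟨S ∘ₗ v, fun x => ?_⟩
  show S (v (u x)) = _
  rw [← hē, ← Module.End.mul_apply, hS]
  rfl

theorem projective_coker_mod (u : M →ₗ[A] N) (I : Ideal A)
    [Module.Projective (A ⧸ I) (N ⧸ (I • ⊤ : Submodule A N))]
    (w : N →ₗ[A] M ⧸ (I • ⊤ : Submodule A M)) (hw : ∀ x, w (u x) = Submodule.Quotient.mk x) :
    Module.Projective (A ⧸ I)
      ((N ⧸ LinearMap.range u) ⧸ (I • ⊤ : Submodule A (N ⧸ LinearMap.range u))) := by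
  let ū : (M ⧸ (I • ⊤ : Submodule A M)) →ₗ[A] N ⧸ (I • ⊤ : Submodule A N) :=
    (I • ⊤ : Submodule A M).liftQ ((Submodule.mkQ _) ∘ₗ u) (by
      rw [Submodule.smul_le]
      intro a ha x _
      rw [LinearMap.mem_ker, map_smul]
      exact smul_mk_eq_zero I ha _)
  have hū : ∀ x : M, ū (Submodule.Quotient.mk x) = Submodule.Quotient.mk (u x) := fun x => rfl
  let ρ₀ : N →ₗ[A] N ⧸ (I • ⊤ : Submodule A N) := Submodule.mkQ _ - ū ∘ₗ w
  have hρ₀ : ∀ y, ρ₀ y = Submodule.Quotient.mk y - ū (w y) := fun y => rfl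
  let ρ₁ : (N ⧸ LinearMap.range u) →ₗ[A] N ⧸ (I • ⊤ : Submodule A N) :=
    (LinearMap.range u).liftQ ρ₀ (by
      rintro _ ⟨x, rfl⟩
      rw [LinearMap.mem_ker, hρ₀, hw, hū, sub_self])
  let s : ((N ⧸ LinearMap.range u) ⧸ (I • ⊤ : Submodule A (N ⧸ LinearMap.range u))) →ₗ[A]
      N ⧸ (I • ⊤ : Submodule A N) :=
    (I • ⊤ : Submodule A (N ⧸ LinearMap.range u)).liftQ ρ₁ (by
      rw [Submodule.smul_le]
      intro a ha q _
      rw [LinearMap.mem_ker, map_smul]
      exact smul_mk_eq_zero I ha _)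
  have hs : ∀ y : N, s (Submodule.Quotient.mk (Submodule.Quotient.mk y)) =
      Submodule.Quotient.mk y - ū (w y) := fun y => rfl
  let π : (N ⧸ (I • ⊤ : Submodule A N)) →ₗ[A]
      ((N ⧸ LinearMap.range u) ⧸ (I • ⊤ : Submodule A (N ⧸ LinearMap.range u))) :=
    (I • ⊤ : Submodule A N).liftQ ((Submodule.mkQ _) ∘ₗ (Submodule.mkQ (LinearMap.range u))) (by
      rw [Submodule.smul_le]
      intro a ha y _
      rw [LinearMap.mem_ker, map_smul]
      exact smul_mk_eq_zero I ha _)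
  have hπ : ∀ y : N, π (Submodule.Quotient.mk y) =
      Submodule.Quotient.mk (Submodule.Quotient.mk y) := fun y => rfl
  have hπū : ∀ ξ, π (ū ξ) = 0 := by
    intro ξ
    obtain ⟨x, rfl⟩ := Submodule.Quotient.mk_surjective _ ξ
    rw [hū, hπ]
    have h0 : (Submodule.Quotient.mk (u x) : N ⧸ LinearMap.range u) = 0 :=
      (Submodule.Quotient.mk_eq_zero _).2 ⟨x, rfl⟩
    rw [h0, Submodule.Quotient.mk_zero]
  have hπs : ∀ q, π (s q) = q := by
    intro q
    obtain ⟨q', rfl⟩ := Submodule.Quotient.mk_surjective _ q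
    obtain ⟨y, rfl⟩ := Submodule.Quotient.mk_surjective _ q'
    rw [hs, map_sub, hπ, hπū, sub_zero]
  have hsurj : Function.Surjective (algebraMap A (A ⧸ I)) := Ideal.Quotient.mk_surjective
  exact Module.Projective.of_split (s.extendScalarsOfSurjective hsurj)
    (π.extendScalarsOfSurjective hsurj) (LinearMap.ext hπs)

end lemmaC

end Groth.Agent.Lib.Helper9.LeftInv
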