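import Mathlib
import Groth.Prelude.Def_CAlg
import Groth.Agent.Lib.Helper4.CM

/-!
# Lifting a system of parameters of a Cohen–Macaulay localization (EGA IV 18-type lemma)
-/

set_option autoImplicit false
set_option linter.style.haveILetI false

namespace Groth.Agent.Lib.Helper9.LiftSOP

open RingTheory.Sequence IsLocalRing

universe u

section dim

variable {A : Type u} [CommRing A] [IsNoetherianRing A] [IsLocalRing A]

theorem dim_step (I : Ideal A) (x : A) (hx : x ∈ maximalIdeal A)
    (hn : ∀ q ∈ I.minimalPrimes, x ∉ q) :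
    ringKrullDim (A ⧸ (I ⊔ Ideal.span {x})) + 1 = ringKrullDim (A ⧸ I) := by
  have h1 := Module.supportDim_quotSMulTop_succ_eq_of_notMem_minimalPrimes_of_mem_maximalIdeal
    (R := A) (M := A ⧸ I) (x := x) (by rwa [Ideal.annihilator_quotient]) hx
  rw [Module.supportDim_quotient_eq_ringKrullDim] at h1
  rw [← h1, ← Module.supportDim_quotient_eq_ringKrullDim]
  congr 1
  unfold Module.supportDim
  have : Module.support A (A ⧸ (I ⊔ Ideal.span {x})) =
      Module.support A (QuotSMulTop x (A ⧸ I)) := by
    rw [Module.support_quotSMulTop, Module.support_eq_zeroLocus, Module.support_eq_zeroLocus,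
      Ideal.annihilator_quotient, Ideal.annihilator_quotient, PrimeSpectrum.zeroLocus_sup,
      PrimeSpectrum.zeroLocus_span]
  rw [this]

end dim

section step

variable {A : Type u} [CommRing A] [IsNoetherianRing A] [IsLocalRing A] (p : Ideal A) [p.IsPrime]

theorem step (I : Ideal A) (T : Ideal (Localization.AtPrime p))
    (hIT : I.map (algebraMap A (Localization.AtPrime p)) = T)
    (hT : T ≤ maximalIdeal (Localization.AtPrime p)) (τ : Localization.AtPrime p)
    (hτ : τ ∈ maximalIdeal (Localization.AtPrime p))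
    (hreg : ∀ Q ∈ T.minimalPrimes, τ ∉ Q) :
    ∃ x a : A, x ∈ p ∧ a ∉ p ∧
      algebraMap A (Localization.AtPrime p) x - algebraMap A (Localization.AtPrime p) a * τ ∈ T ∧
      ringKrullDim (A ⧸ (I ⊔ Ideal.span {x})) + 1 = ringKrullDim (A ⧸ I) := by
  classical
  have hpmax : p ≤ maximalIdeal A := IsLocalRing.le_maximalIdeal (Ideal.IsPrime.ne_top ‹_›)
  have hcomapmax : (maximalIdeal (Localization.AtPrime p)).comap
      (algebraMap A (Localization.AtPrime p)) = p :=
    Localization.AtPrime.under_maximalIdeal
  obtain ⟨⟨y, b⟩, hyb⟩ := IsLocalization.surj p.primeCompl τ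
  simp only at hyb
  have hbu : IsUnit (algebraMap A (Localization.AtPrime p) (b : A)) :=
    IsLocalization.map_units _ b
  have hyp : y ∈ p := by
    rw [← hcomapmax, Ideal.mem_comap, ← hyb]
    exact Ideal.mul_mem_right _ _ hτ
  set J : Ideal A := T.comap (algebraMap A (Localization.AtPrime p)) with hJ
  have hJp : J ≤ p := by
    rw [← hcomapmax]; exact Ideal.comap_mono hT
  have hIJ : I ≤ J := by
    rw [hJ, ← Ideal.map_le_iff_le_comap, hIT]
  -- minimal primes inside p
  have hc : ∀ q ∈ I.minimalPrimes, q ≤ p → y ∉ q ∧ J ≤ q := by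
    intro q hq hqp
    haveI : q.IsPrime := hq.1.1
    have hdisj : Disjoint (p.primeCompl : Set A) q := by
      rw [Set.disjoint_left]
      intro z hz hzq
      exact hz (hqp hzq)
    have hQprime : (q.map (algebraMap A (Localization.AtPrime p))).IsPrime :=
      IsLocalization.isPrime_of_isPrime_disjoint p.primeCompl _ q ‹_› hdisj
    have hcomap : (q.map (algebraMap A (Localization.AtPrime p))).comap
        (algebraMap A (Localization.AtPrime p)) = q :=
      IsLocalization.comap_map_of_isPrime_disjoint p.primeCompl _ ‹_› hdisj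
    have hQmin : q.map (algebraMap A (Localization.AtPrime p)) ∈ T.minimalPrimes := by
      rw [← hIT, IsLocalization.minimalPrimes_map p.primeCompl (Localization.AtPrime p) I]
      change (q.map _).under A ∈ I.minimalPrimes
      rw [Ideal.under_def, hcomap]; exact hq
    constructor
    · intro hy
      apply hreg _ hQmin
      have : algebraMap A (Localization.AtPrime p) y ∈
          q.map (algebraMap A (Localization.AtPrime p)) := Ideal.mem_map_of_mem _ hy
      rw [← hyb] at this
      exact (hQprime.mem_or_mem this).resolve_right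
        (fun h => hQprime.ne_top (Ideal.eq_top_of_isUnit_mem _ h hbu))
    · intro z hz
      rw [← hcomap]
      exact Ideal.comap_mono hQmin.1.2 hz
  -- minimal primes outside p
  have hd : ∀ q ∈ I.minimalPrimes, J ≤ q → q ≤ p := by
    intro q hq hJq
    have hqJ : q ∈ J.minimalPrimes :=
      ⟨⟨hq.1.1, hJq⟩, fun r hr hrq => hq.2 ⟨hr.1, hIJ.trans hr.2⟩ hrq⟩
    rw [hJ, IsLocalization.minimalPrimes_comap p.primeCompl (Localization.AtPrime p) T] at hqJ
    obtain ⟨Q, hQ, rfl⟩ := hqJ
    haveI := hQ.1.1
    calc Q.comap _ ≤ (maximalIdeal (Localization.AtPrime p)).comap _ :=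
          Ideal.comap_mono (IsLocalRing.le_maximalIdeal hQ.1.1.ne_top)
      _ = p := hcomapmax
  let S : Finset (Ideal A) := (Ideal.finite_minimalPrimes_of_isNoetherianRing A I).toFinset
  have hS : ∀ q, q ∈ S ↔ q ∈ I.minimalPrimes := fun q => Set.Finite.mem_toFinset _
  let S₂ : Finset (Ideal A) := S.filter (fun q => ¬ q ≤ p)
  have hS₂ : ∀ q, q ∈ S₂ ↔ q ∈ I.minimalPrimes ∧ ¬ q ≤ p := by
    intro q; rw [Finset.mem_filter, hS]
  obtain ⟨a, haS, hap⟩ : ∃ a, (∀ q ∈ S₂, a ∈ q) ∧ a ∉ p := by
    have : ¬ S₂.inf id ≤ p := by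
      rw [Ideal.IsPrime.inf_le' ‹p.IsPrime›]
      push Not
      intro q hq; exact ((hS₂ q).mp hq).2
    obtain ⟨a, ha, hap⟩ := SetLike.not_le_iff_exists.mp this
    exact ⟨a, fun q hq => (Finset.inf_le hq : S₂.inf id ≤ id q) ha, hap⟩
  obtain ⟨z, hzJ, hzS⟩ : ∃ z ∈ J, ∀ q ∈ S₂, z ∉ q := by
    by_contra hcon
    push Not at hcon
    have hsub : (J : Set A) ⊆ ⋃ q ∈ (S₂ : Set (Ideal A)), ((id q : Ideal A) : Set A) := by
      intro z hz
      obtain ⟨q, hq, hzq⟩ := hcon z hz
      exact Set.mem_biUnion (Finset.mem_coe.mpr hq) hzq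
    rw [Ideal.subset_union_prime (R := A) (f := id) ⊥ ⊥
      (fun q hq _ _ => ((hS₂ q).mp hq).1.1.1)] at hsub
    obtain ⟨q, hq, hJq⟩ := hsub
    exact ((hS₂ q).mp hq).2 (hd q ((hS₂ q).mp hq).1 hJq)
  refine ⟨a * y + z, a * b, ?_, ?_, ?_, ?_⟩
  · exact p.add_mem (p.mul_mem_left _ hyp) (hJp hzJ)
  · intro h
    rcases (Ideal.IsPrime.mem_or_mem ‹p.IsPrime› h) with h | h
    · exact hap h
    · exact b.2 h
  · have : algebraMap A (Localization.AtPrime p) (a * y + z) -
        algebraMap A (Localization.AtPrime p) (a * b) * τ =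
        algebraMap A (Localization.AtPrime p) z := by
      rw [map_add, map_mul, map_mul, ← hyb]; ring
    rw [this]
    exact hzJ
  · apply dim_step
    · exact hpmax (p.add_mem (p.mul_mem_left _ hyp) (hJp hzJ))
    · intro q hq hxq
      haveI : q.IsPrime := hq.1.1
      by_cases hqp : q ≤ p
      · obtain ⟨hyq, hJq⟩ := hc q hq hqp
        have hay : a * y ∈ q := by
          have := q.sub_mem hxq (hJq hzJ)
          rwa [add_sub_cancel_right] at this
        rcases Ideal.IsPrime.mem_or_mem ‹q.IsPrime› hay with h | h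
        · exact hap (hqp h)
        · exact hyq h
      · have hq2 : q ∈ S₂ := (hS₂ q).mpr ⟨hq, hqp⟩
        have hzq : z ∈ q := by
          have := q.sub_mem hxq (q.mul_mem_right y (haS q hq2))
          rwa [add_sub_cancel_left] at this
        exact hzS q hq2 hzq

end step

section main

variable (A : Type u) [CommRing A] [IsNoetherianRing A] [IsLocalRing A] (p : Ideal A) [p.IsPrime]

theorem sup_span_eq {R : Type*} [CommRing R] (T : Ideal R) (ξ τ u : R) (hu : IsUnit u)
    (h : ξ - u * τ ∈ T) : Ideal.span {ξ} ⊔ T = Ideal.span {τ} ⊔ T := by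
  apply le_antisymm
  · refine sup_le ?_ le_sup_right
    rw [Ideal.span_singleton_le_iff_mem]
    have : ξ = u * τ + (ξ - u * τ) := by ring
    rw [this]
    exact Ideal.add_mem _ (Ideal.mem_sup_left (Ideal.mul_mem_left _ _
      (Ideal.mem_span_singleton_self τ))) (Ideal.mem_sup_right h)
  · refine sup_le ?_ le_sup_right
    rw [Ideal.span_singleton_le_iff_mem]
    obtain ⟨v, hv⟩ := hu.exists_left_inv
    have : τ = v * ξ - v * (ξ - u * τ) := by
      have : v * (u * τ) = τ := by rw [← mul_assoc, hv, one_mul]
      rw [mul_sub, sub_sub_cancel, this]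
    rw [this]
    exact Ideal.sub_mem _ (Ideal.mem_sup_left (Ideal.mul_mem_left _ _
      (Ideal.mem_span_singleton_self ξ))) (Ideal.mem_sup_right (Ideal.mul_mem_left _ _ h))

theorem main [LocCoh.IsCohenMacaulayLocalRing (Localization.AtPrime p)] (s : ℕ)
    (hs : ringKrullDim (Localization.AtPrime p) = s) (t : Fin s → Localization.AtPrime p)
    (ht : ∀ i, t i ∈ IsLocalRing.maximalIdeal (Localization.AtPrime p))
    (hsop : ringKrullDim (Localization.AtPrime p ⧸ Ideal.span (Set.range t)) = 0) :
    ∃ x a : Fin s → A, (∀ i, x i ∈ p) ∧ (∀ i, a i ∉ p) ∧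
      ringKrullDim (A ⧸ Ideal.span (Set.range x)) + (s : WithBot ℕ∞) = ringKrullDim A ∧
      ∀ i : Fin s, algebraMap A (Localization.AtPrime p) (x i) -
          algebraMap A (Localization.AtPrime p) (a i) * t i ∈
        Ideal.span (t '' {j : Fin s | j < i}) := by
  classical
  have hM : LocCoh.IsCohenMacaulayModule (Localization.AtPrime p) (Localization.AtPrime p) :=
    LocCoh.IsCohenMacaulayLocalRing.supportDim_eq_depth
  have hts : ∀ x ∈ List.ofFn t, x ∈ maximalIdeal (Localization.AtPrime p) := by
    intro x hx; rw [List.mem_ofFn] at hx; obtain ⟨i, rfl⟩ := hx; exact ht i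
  have hofList : Ideal.ofList (List.ofFn t) = Ideal.span (Set.range t) := by
    unfold Ideal.ofList; congr 1; ext x; simp [List.mem_ofFn]
  have hwr : IsWeaklyRegular (Localization.AtPrime p) (List.ofFn t) := by
    apply Groth.Agent.Lib.Helper4.cm_isWeaklyRegular_of_supportDim hM _ hts
    rw [List.length_ofFn, smul_eq_mul, Ideal.mul_top, hofList,
      Module.supportDim_quotient_eq_ringKrullDim, hsop, Module.supportDim_self_eq_ringKrullDim, hs]
    simp
  let t' : ℕ → Localization.AtPrime p := fun j => if h : j < s then t ⟨j, h⟩ else 0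
  have ht'mem : ∀ j, t' j ∈ maximalIdeal (Localization.AtPrime p) := by
    intro j
    simp only [t']
    split_ifs
    · exact ht _
    · exact Ideal.zero_mem _
  have hreg : ∀ k, k < s → ∀ Q ∈ (Ideal.span (t' '' {j | j < k})).minimalPrimes, t' k ∉ Q := by
    intro k hk Q hQ
    have h1 := hwr.regular_mod_prev k (by rw [List.length_ofFn]; exact hk)
    have hset : Ideal.ofList ((List.ofFn t).take k) = Ideal.span (t' '' {j | j < k}) := by
      unfold Ideal.ofList
      congr 1
      ext r
      simp only [Set.mem_setOf_eq, List.mem_take_iff_getElem, List.getElem_ofFn,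
        List.length_ofFn, Set.mem_image]
      constructor
      · rintro ⟨i, hi, rfl⟩
        have hik : i < k := lt_of_lt_of_le hi (min_le_left _ _)
        have his : i < s := lt_of_lt_of_le hi (min_le_right _ _)
        exact ⟨i, hik, by simp [t', his]⟩
      · rintro ⟨i, hik, rfl⟩
        have his : i < s := hik.trans hk
        exact ⟨i, lt_min hik his, by simp [t', his]⟩
    have h2 : (List.ofFn t)[k]'(by rw [List.length_ofFn]; exact hk) = t' k := by
      simp [t', hk]
    rw [h2] at h1
    refine h1.notMem_of_mem_minimalPrimes ?_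
    rw [smul_eq_mul, Ideal.mul_top, Ideal.annihilator_quotient, hset]
    exact hQ
  have key : ∀ k, k ≤ s → ∃ x a : ℕ → A, (∀ i < k, x i ∈ p) ∧ (∀ i < k, a i ∉ p) ∧
      (Ideal.span (x '' {j | j < k})).map (algebraMap A (Localization.AtPrime p)) =
        Ideal.span (t' '' {j | j < k}) ∧
      ringKrullDim (A ⧸ Ideal.span (x '' {j | j < k})) + (k : WithBot ℕ∞) = ringKrullDim A ∧
      ∀ i < k, algebraMap A (Localization.AtPrime p) (x i) -
        algebraMap A (Localization.AtPrime p) (a i) * t' i ∈ Ideal.span (t' '' {j | j < i}) := by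
    intro k
    induction k with
    | zero =>
      intro _
      refine ⟨fun _ => 0, fun _ => 0, by simp, by simp, by simp, ?_, by simp⟩
      have : (fun _ : ℕ => (0 : A)) '' {j | j < 0} = ∅ := by simp
      rw [this, Ideal.span_empty]
      simp only [Nat.cast_zero, add_zero]
      exact ringKrullDim_eq_of_ringEquiv (RingEquiv.quotientBot A)
    | succ k ih =>
      intro hk
      obtain ⟨x, a, hxp, hap, hmap, hdim, hcong⟩ := ih (Nat.le_of_succ_le hk)
      have hT : Ideal.span (t' '' {j | j < k}) ≤ maximalIdeal (Localization.AtPrime p) := by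
        rw [Ideal.span_le]
        rintro _ ⟨j, _, rfl⟩
        exact ht'mem j
      obtain ⟨xk, ak, hxk, hak, hck, hdk⟩ := step p (Ideal.span (x '' {j | j < k}))
        (Ideal.span (t' '' {j | j < k})) hmap hT (t' k) (ht'mem k) (hreg k hk)
      have himg : ∀ (f : ℕ → A) (c : A),
          (Function.update f k c) '' {j | j < k + 1} = insert c (f '' {j | j < k}) := by
        intro f c
        ext r
        simp only [Set.mem_image, Set.mem_setOf_eq, Set.mem_insert_iff]
        constructor
        · rintro ⟨j, hj, rfl⟩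
          rcases Nat.lt_succ_iff_lt_or_eq.mp hj with h | h
          · right; exact ⟨j, h, by rw [Function.update_of_ne (ne_of_lt h)]⟩
          · left; rw [h, Function.update_self]
        · rintro (rfl | ⟨j, hj, rfl⟩)
          · exact ⟨k, Nat.lt_succ_self k, Function.update_self _ _ _⟩
          · exact ⟨j, Nat.lt_succ_of_lt hj, by rw [Function.update_of_ne (ne_of_lt hj)]⟩
      have himg' : t' '' {j | j < k + 1} = insert (t' k) (t' '' {j | j < k}) := by
        ext r
        simp only [Set.mem_image, Set.mem_setOf_eq, Set.mem_insert_iff]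
        constructor
        · rintro ⟨j, hj, rfl⟩
          rcases Nat.lt_succ_iff_lt_or_eq.mp hj with h | h
          · right; exact ⟨j, h, rfl⟩
          · left; rw [h]
        · rintro (rfl | ⟨j, hj, rfl⟩)
          · exact ⟨k, Nat.lt_succ_self k, rfl⟩
          · exact ⟨j, Nat.lt_succ_of_lt hj, rfl⟩
      have haku : IsUnit (algebraMap A (Localization.AtPrime p) ak) :=
        IsLocalization.map_units _ (⟨ak, hak⟩ : p.primeCompl)
      refine ⟨Function.update x k xk, Function.update a k ak, ?_, ?_, ?_, ?_, ?_⟩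
      · intro i hi
        rcases Nat.lt_succ_iff_lt_or_eq.mp hi with h | h
        · rw [Function.update_of_ne (ne_of_lt h)]; exact hxp i h
        · rw [h, Function.update_self]; exact hxk
      · intro i hi
        rcases Nat.lt_succ_iff_lt_or_eq.mp hi with h | h
        · rw [Function.update_of_ne (ne_of_lt h)]; exact hap i h
        · rw [h, Function.update_self]; exact hak
      · rw [himg, himg', Ideal.span_insert, Ideal.span_insert, Ideal.map_sup, hmap,
          Ideal.map_span, Set.image_singleton]
        exact sup_span_eq _ _ _ _ haku hck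
      · rw [himg, Ideal.span_insert, sup_comm]
        rw [← hdim, ← hdk]
        push_cast
        rw [add_assoc, add_comm (1 : WithBot ℕ∞)]
      · intro i hi
        rcases Nat.lt_succ_iff_lt_or_eq.mp hi with h | h
        · rw [Function.update_of_ne (ne_of_lt h), Function.update_of_ne (ne_of_lt h)]
          exact hcong i h
        · rw [h, Function.update_self, Function.update_self]; exact hck
  obtain ⟨x, a, hxp, hap, -, hdim, hcong⟩ := key s le_rfl
  refine ⟨fun i => x i, fun i => a i, fun i => hxp i i.2, fun i => hap i i.2, ?_, ?_⟩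
  · have : Set.range (fun i : Fin s => x i) = x '' {j | j < s} := by
      ext r
      simp only [Set.mem_range, Set.mem_image, Set.mem_setOf_eq]
      constructor
      · rintro ⟨i, rfl⟩; exact ⟨i, i.2, rfl⟩
      · rintro ⟨j, hj, rfl⟩; exact ⟨⟨j, hj⟩, rfl⟩
    rw [this]; exact hdim
  · intro i
    have h1 := hcong i i.2
    have h2 : t' i = t i := by simp [t', i.2]
    have h3 : t' '' {j | j < (i : ℕ)} = t '' {j : Fin s | j < i} := by
      ext r
      simp only [Set.mem_image, Set.mem_setOf_eq]
      constructor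
      · rintro ⟨j, hj, rfl⟩
        have hjs : j < s := hj.trans i.2
        exact ⟨⟨j, hjs⟩, hj, by simp [t', hjs]⟩
      · rintro ⟨j, hj, rfl⟩
        exact ⟨j, hj, by simp [t', j.2]⟩
    rw [h2, h3] at h1
    exact h1

end main

end Groth.Agent.Lib.Helper9.LiftSOP
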