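import Mathlib

set_option autoImplicit false

namespace Groth.Agent.Lib.Helper9.LogCartA

/-! ### Abstract operator algebra: Cartan homotopy with Fermat idempotents -/

section Ring

variable {𝔈 : Type*} [Ring 𝔈] (D : 𝔈) (hDD : D * D = 0) {κ : Type*} (J : κ → 𝔈)

include hDD in
theorem commute_N (ν : κ) : Commute D (D * J ν + J ν * D) := by
  show D * (D * J ν + J ν * D) = (D * J ν + J ν * D) * D
  have h1 : D * (D * J ν + J ν * D) = D * J ν * D := by
    rw [mul_add, ← mul_assoc, ← mul_assoc, hDD, zero_mul, zero_add]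
  have h2 : (D * J ν + J ν * D) * D = D * J ν * D := by
    rw [add_mul, mul_assoc (J ν) D D, hDD, mul_zero, add_zero]
  rw [h1, h2]

include hDD in
theorem homotopy_list (k : ℕ) (l : List κ) :
    ∃ H : 𝔈, 1 - (l.map (fun ν => 1 - (D * J ν + J ν * D) ^ (k + 1))).prod = D * H + H * D ∧
      Commute D (l.map (fun ν => 1 - (D * J ν + J ν * D) ^ (k + 1))).prod := by
  induction l with
  | nil => exact ⟨0, by simp, by simp⟩
  | cons ν l ih =>
    obtain ⟨H, hH, hc⟩ := ih
    set N := D * J ν + J ν * D with hN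
    set P := (l.map (fun ν => 1 - (D * J ν + J ν * D) ^ (k + 1))).prod with hP
    have hcN : Commute D N := commute_N D hDD J ν
    have hcNk : Commute D (N ^ k) := hcN.pow_right k
    have hπ : Commute D (1 - N ^ (k + 1)) := (Commute.one_right D).sub_right (hcN.pow_right _)
    have hh : N ^ (k + 1) = D * (N ^ k * J ν) + (N ^ k * J ν) * D := by
      rw [pow_succ, hN, mul_add, ← hN, ← mul_assoc, ← mul_assoc, ← hcNk.eq, mul_assoc, mul_assoc]
    refine ⟨N ^ k * J ν + (1 - N ^ (k + 1)) * H, ?_, ?_⟩
    · rw [List.map_cons, List.prod_cons, ← hP]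
      have e1 : 1 - (1 - N ^ (k + 1)) * P = N ^ (k + 1) + (1 - N ^ (k + 1)) * (1 - P) := by
        noncomm_ring
      have e2 : (1 - N ^ (k + 1)) * (D * H + H * D) =
          D * ((1 - N ^ (k + 1)) * H) + (1 - N ^ (k + 1)) * H * D := by
        rw [mul_add, ← mul_assoc, ← hπ.eq, mul_assoc, mul_assoc]
      rw [e1, hH, e2, mul_add, add_mul]
      generalize (1 - N ^ (k + 1)) * H = Q
      rw [hh]
      abel
    · rw [List.map_cons, List.prod_cons]
      exact hπ.mul_right hc

end Ring

section Eigen

variable {R M : Type*} [CommRing R] [AddCommGroup M] [Module R M] {κ : Type*}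
  (N : κ → Module.End R M) (k : ℕ) (v : M) (lam : κ → R) (hv : ∀ ν, N ν v = lam ν • v)

include hv in
theorem pow_eigen (ν : κ) (j : ℕ) : ((N ν) ^ j) v = (lam ν) ^ j • v := by
  induction j with
  | zero => simp
  | succ j ih =>
    rw [pow_succ, Module.End.mul_apply, hv, map_smul, ih, smul_smul, pow_succ, mul_comm]

include hv in
theorem prod_eigen (l : List κ) :
    (l.map (fun ν => 1 - (N ν) ^ (k + 1))).prod v =
      (l.map (fun ν => 1 - (lam ν) ^ (k + 1))).prod • v := by
  induction l with
  | nil => simp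
  | cons ν l ih =>
    rw [List.map_cons, List.prod_cons, List.map_cons, List.prod_cons, Module.End.mul_apply, ih,
      map_smul, LinearMap.sub_apply, Module.End.one_apply, pow_eigen N v lam hv]
    module

end Eigen

/-! ### Total complex as a Pi type -/

section Tot

variable {R : Type*} [CommRing R] {X : ℕ → Type*} [∀ q, AddCommGroup (X q)] [∀ q, Module R (X q)]

/-- shift up -/
def upFun (d : ∀ q, X q →ₗ[R] X (q + 1)) (ω : ∀ q, X q) : ∀ q, X q
  | 0 => 0
  | (q + 1) => d q (ω q)

/-- The total differential. -/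
def Dtot (d : ∀ q, X q →ₗ[R] X (q + 1)) : Module.End R (∀ q, X q) where
  toFun ω := upFun d ω
  map_add' x y := by
    funext q; cases q with
    | zero => simp [upFun]
    | succ q => simp [upFun]
  map_smul' c x := by
    funext q; cases q with
    | zero => simp [upFun]
    | succ q => simp [upFun]

/-- The total contraction. -/
def Jtot (j : ∀ q, X (q + 1) →ₗ[R] X q) : Module.End R (∀ q, X q) where
  toFun ω q := j q (ω (q + 1))
  map_add' x y := by funext q; simp
  map_smul' c x := by funext q; simp

variable (d : ∀ q, X q →ₗ[R] X (q + 1)) (j : ∀ q, X (q + 1) →ₗ[R] X q)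

@[simp] theorem Dtot_apply_zero (ω : ∀ q, X q) : Dtot d ω 0 = 0 := rfl
@[simp] theorem Dtot_apply_succ (ω : ∀ q, X q) (q : ℕ) : Dtot d ω (q + 1) = d q (ω q) := rfl
@[simp] theorem Jtot_apply (ω : ∀ q, X q) (q : ℕ) : Jtot j ω q = j q (ω (q + 1)) := rfl

theorem Dtot_single (k : ℕ) (x : X k) :
    Dtot d (Pi.single k x) = Pi.single (k + 1) (d k x) := by
  funext q
  cases q with
  | zero => rw [Dtot_apply_zero, Pi.single_eq_of_ne (Nat.succ_ne_zero k).symm]
  | succ q =>
    rw [Dtot_apply_succ]
    by_cases h : q = k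
    · subst h; rw [Pi.single_eq_same, Pi.single_eq_same]
    · rw [Pi.single_eq_of_ne h, Pi.single_eq_of_ne (by omega), map_zero]

theorem Jtot_single_succ (k : ℕ) (x : X (k + 1)) :
    Jtot j (Pi.single (k + 1) x) = Pi.single k (j k x) := by
  funext q
  rw [Jtot_apply]
  by_cases h : q = k
  · subst h; rw [Pi.single_eq_same, Pi.single_eq_same]
  · rw [Pi.single_eq_of_ne h, Pi.single_eq_of_ne (by omega), map_zero]

theorem Jtot_single_zero (x : X 0) : Jtot j (Pi.single 0 x) = 0 := by
  funext q
  rw [Jtot_apply, Pi.single_eq_of_ne (Nat.succ_ne_zero q), map_zero]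
  rfl

theorem Dtot_sq (hd : ∀ q, d (q + 1) ∘ₗ d q = 0) : Dtot d * Dtot d = 0 := by
  apply LinearMap.ext
  intro ω
  funext q
  rw [Module.End.mul_apply]
  cases q with
  | zero => rfl
  | succ q =>
    rw [Dtot_apply_succ]
    cases q with
    | zero => rw [Dtot_apply_zero, map_zero]; rfl
    | succ q =>
      rw [Dtot_apply_succ]
      exact LinearMap.congr_fun (hd q) (ω q)

/-- The Lie-derivative operator applied to a homogeneous element, degree zero. -/
theorem N_single_zero (x : X 0) :
    (Dtot d * Jtot j + Jtot j * Dtot d) (Pi.single 0 x) = Pi.single 0 (j 0 (d 0 x)) := by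
  rw [LinearMap.add_apply, Module.End.mul_apply, Module.End.mul_apply, Jtot_single_zero, map_zero,
    zero_add, Dtot_single, Jtot_single_succ]

/-- The Lie-derivative operator applied to a homogeneous element, positive degree. -/
theorem N_single_succ (k : ℕ) (x : X (k + 1)) :
    (Dtot d * Jtot j + Jtot j * Dtot d) (Pi.single (k + 1) x) =
      Pi.single (k + 1) (d k (j k x) + j (k + 1) (d (k + 1) x)) := by
  rw [LinearMap.add_apply, Module.End.mul_apply, Module.End.mul_apply, Jtot_single_succ,
    Dtot_single, Dtot_single, Jtot_single_succ, Pi.single_add]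

end Tot

end Groth.Agent.Lib.Helper9.LogCartA
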