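import Mathlib
import Groth.Prelude.Def_LogDiff

set_option autoImplicit false
universe u

namespace Groth.Agent.Lib.Helper9.LogCartC

open MvPolynomial KaehlerDifferential

variable {R : Type u} [CommRing R] {n r : ℕ} (hr : r ≤ n)
  {L : Type u} [AddCommGroup L] [Module (MvPolynomial (Fin n) R) L]
  (ι : (Ω[MvPolynomial (Fin n) R⁄R]) →ₗ[MvPolynomial (Fin n) R] L) (dl : Fin r → L)

/-- The candidate basis of `L`. -/
noncomputable def w' (ν : Fin n) : L :=
  if h : (ν : ℕ) < r then dl ⟨ν, h⟩ else ι (D R (MvPolynomial (Fin n) R) (X ν))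

variable (R r) in
/-- `σ ν • w' ν = ι (d t_ν)`. -/
noncomputable def sg (ν : Fin n) : MvPolynomial (Fin n) R := if (ν : ℕ) < r then X ν else 1

variable (R r) in
/-- The vector field `τ ν ∂/∂ w'_ν` is `t_ν ∂_ν`. -/
noncomputable def tau (ν : Fin n) : MvPolynomial (Fin n) R := if (ν : ℕ) < r then 1 else X ν

variable (R r) in
/-- `der (τ ν) = ε ν • w' ν`. -/
noncomputable def eps (ν : Fin n) : MvPolynomial (Fin n) R := if (ν : ℕ) < r then 0 else 1

theorem tau_mul_sg (ν : Fin n) : tau R r ν * sg R r ν = X ν := by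
  unfold tau sg
  split_ifs <;> simp

variable (hL : LogDiff.IsLog (KaehlerDifferential.D R (MvPolynomial (Fin n) R))
      (fun i : Fin r => (MvPolynomial.X (Fin.castLE hr i) : MvPolynomial (Fin n) R)) ι dl)

include hL in
theorem sg_smul_w' (ν : Fin n) :
    sg R r ν • w' ι dl ν = ι (D R (MvPolynomial (Fin n) R) (X ν)) := by
  unfold sg w'
  split_ifs with h
  · have := hL.1 ⟨ν, h⟩
    have e : Fin.castLE hr ⟨ν, h⟩ = ν := Fin.ext rfl
    simp only [e] at this
    exact this
  · rw [one_smul]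

theorem D_eq_sum (f : MvPolynomial (Fin n) R) :
    D R (MvPolynomial (Fin n) R) f =
      ∑ ν, pderiv ν f • D R (MvPolynomial (Fin n) R) (X ν) := by
  have := (mvPolynomialBasis R (Fin n)).sum_repr (D R (MvPolynomial (Fin n) R) f)
  conv_lhs => rw [← this]
  refine Finset.sum_congr rfl fun ν _ => ?_
  rw [mvPolynomialBasis_repr_apply, mvPolynomialBasis_apply]

include hL in
theorem ι_D_eq_sum (f : MvPolynomial (Fin n) R) :
    ι (D R (MvPolynomial (Fin n) R) f) = ∑ ν, (sg R r ν * pderiv ν f) • w' ι dl ν := by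
  rw [D_eq_sum f, map_sum]
  refine Finset.sum_congr rfl fun ν _ => ?_
  rw [map_smul, ← sg_smul_w' hr ι dl hL ν, smul_smul, mul_comm]

include hL in
theorem span_w' : ⊤ ≤ Submodule.span (MvPolynomial (Fin n) R) (Set.range (w' ι dl)) := by
  rw [← hL.2.1, Submodule.span_le]
  rintro x (⟨ω, rfl⟩ | ⟨i, rfl⟩)
  · have h1 := (mvPolynomialBasis R (Fin n)).sum_repr ω
    rw [← h1, map_sum]
    refine Submodule.sum_mem _ fun ν _ => ?_
    rw [map_smul, mvPolynomialBasis_apply, ← sg_smul_w' hr ι dl hL ν, smul_smul]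
    exact Submodule.smul_mem _ _ (Submodule.subset_span ⟨ν, rfl⟩)
  · refine Submodule.subset_span ⟨Fin.castLE hr i, ?_⟩
    unfold w'
    rw [dif_pos (show ((Fin.castLE hr i : Fin n) : ℕ) < r from i.2)]
    rfl

include hL in
theorem exists_regular (ν : Fin n) : ∃ u : MvPolynomial (Fin n) R, IsRegular u ∧
    (∏ i : Fin r, (X (Fin.castLE hr i) : MvPolynomial (Fin n) R)) • w' ι dl ν =
      u • ι (D R (MvPolynomial (Fin n) R) (X ν)) := by
  by_cases h : (ν : ℕ) < r
  · refine ⟨∏ x ∈ Finset.univ.erase (⟨ν, h⟩ : Fin r),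
      (X (Fin.castLE hr x) : MvPolynomial (Fin n) R), IsRegular.prod fun _ _ => isRegular_X, ?_⟩
    rw [← Finset.mul_prod_erase Finset.univ _ (Finset.mem_univ (⟨ν, h⟩ : Fin r)),
      ← sg_smul_w' hr ι dl hL ν, smul_smul]
    congr 1
    have e : Fin.castLE hr ⟨ν, h⟩ = ν := Fin.ext rfl
    rw [e, mul_comm]
    unfold sg
    rw [if_pos h]
  · refine ⟨∏ i : Fin r, (X (Fin.castLE hr i) : MvPolynomial (Fin n) R),
      IsRegular.prod fun _ _ => isRegular_X, ?_⟩
    unfold w'
    rw [dif_neg h]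

include hL in
theorem linearIndependent_w' : LinearIndependent (MvPolynomial (Fin n) R) (w' ι dl) := by
  rw [Fintype.linearIndependent_iff]
  intro g hg ν
  choose u hu1 hu2 using exists_regular hr ι dl hL
  set T : MvPolynomial (Fin n) R := ∏ i : Fin r, (X (Fin.castLE hr i) : MvPolynomial (Fin n) R)
    with hT
  have h1 : ι (∑ κ, (g κ * u κ) • D R (MvPolynomial (Fin n) R) (X κ)) = 0 := by
    have := congrArg (fun x => T • x) hg
    simp only [Finset.smul_sum, smul_zero] at this
    rw [map_sum, ← this]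
    refine Finset.sum_congr rfl fun κ _ => ?_
    rw [map_smul, smul_comm, hu2 κ, smul_smul]
  obtain ⟨k, hk⟩ := (hL.2.2.2 _).mp h1
  rw [Finset.smul_sum] at hk
  have hli : LinearIndependent (MvPolynomial (Fin n) R)
      (fun κ : Fin n => D R (MvPolynomial (Fin n) R) (X κ)) := by
    convert (mvPolynomialBasis R (Fin n)).linearIndependent using 1
    funext κ
    rw [mvPolynomialBasis_apply]
  have h2 := Fintype.linearIndependent_iff.mp hli (fun κ => T ^ k * (g κ * u κ)) (by
    rw [← hk]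
    refine Finset.sum_congr rfl fun κ _ => ?_
    rw [smul_smul]) ν
  have hTk : IsRegular (T ^ k) := (IsRegular.prod fun _ _ => isRegular_X).pow k
  have h3 : g ν * u ν = 0 := hTk.left (by simpa using h2)
  exact (hu1 ν).right (by simpa using h3)

/-- The basis of `L`. -/
noncomputable def bL : Module.Basis (Fin n) (MvPolynomial (Fin n) R) L :=
  Module.Basis.mk (linearIndependent_w' hr ι dl hL) (span_w' hr ι dl hL)

theorem bL_apply (ν : Fin n) : bL hr ι dl hL ν = w' ι dl ν := by
  rw [bL, Module.Basis.mk_apply]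

theorem coord_w' (ν κ : Fin n) :
    (bL hr ι dl hL).coord ν (w' ι dl κ) = if κ = ν then 1 else 0 := by
  rw [← bL_apply hr ι dl hL κ, Module.Basis.coord_apply, Module.Basis.repr_self,
    Finsupp.single_apply]

theorem coord_ι_D (ν : Fin n) (f : MvPolynomial (Fin n) R) :
    (bL hr ι dl hL).coord ν (ι (D R (MvPolynomial (Fin n) R) f)) = sg R r ν * pderiv ν f := by
  rw [ι_D_eq_sum hr ι dl hL f, map_sum]
  simp only [map_smul, coord_w', smul_eq_mul, mul_ite, mul_one, mul_zero]
  rw [Finset.sum_ite_eq' Finset.univ ν]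
  simp

theorem X_mul_pderiv_monomial (ν : Fin n) (m : Fin n →₀ ℕ) :
    (X ν : MvPolynomial (Fin n) R) * pderiv ν (monomial m 1) =
      ((m ν : ℕ) : MvPolynomial (Fin n) R) * monomial m 1 := by
  rw [pderiv_monomial, one_mul]
  by_cases h : m ν = 0
  · rw [h]; simp
  · have h1 : Finsupp.single ν 1 + (m - Finsupp.single ν 1) = m := by
      ext κ
      by_cases hκ : κ = ν
      · subst hκ
        simp only [Finsupp.coe_add, Finsupp.coe_tsub, Pi.add_apply, Pi.sub_apply,
          Finsupp.single_eq_same]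
        omega
      · simp [Finsupp.single_apply, Ne.symm hκ]
    have h2 : (X ν : MvPolynomial (Fin n) R) = monomial (Finsupp.single ν 1) 1 := rfl
    rw [h2, monomial_mul, h1, one_mul, ← map_natCast (C : R →+* MvPolynomial (Fin n) R),
      C_mul_monomial, mul_one]

theorem tau_coord_monomial (ν : Fin n) (m : Fin n →₀ ℕ) :
    tau R r ν * (bL hr ι dl hL).coord ν (ι (D R (MvPolynomial (Fin n) R) (monomial m 1))) =
      ((m ν : ℕ) : MvPolynomial (Fin n) R) * monomial m 1 := by
  rw [coord_ι_D, ← mul_assoc, tau_mul_sg, X_mul_pderiv_monomial]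

theorem ι_D_tau (ν : Fin n) :
    ι (D R (MvPolynomial (Fin n) R) (tau R r ν)) = eps R r ν • w' ι dl ν := by
  unfold tau eps w'
  split_ifs with h
  · rw [zero_smul]; simp
  · rw [one_smul]

end Groth.Agent.Lib.Helper9.LogCartC
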