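import Mathlib
import Groth.Prelude.Def_LogDiff
import Groth.Prelude.Def_DeRham
import Groth.Agent.Lib.Helper9.LogCartA
import Groth.Agent.Lib.Helper9.LogCartB
import Groth.Agent.Lib.Helper9.LogCartC

set_option autoImplicit false
universe u

namespace Groth.Agent.Lib.Helper9.LogCartD

open MvPolynomial KaehlerDifferential exteriorPower
open Groth.Agent.Lib.Helper9

section

variable (p : ℕ) [hp : Fact p.Prime]
    (R : Type u) [CommRing R] [CharP R p] (n r : ℕ) (hr : r ≤ n)
    (L : Type u) [AddCommGroup L] [Module (MvPolynomial (Fin n) R) L] [Module R L]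
    [IsScalarTower R (MvPolynomial (Fin n) R) L]
    (ι : (Ω[MvPolynomial (Fin n) R⁄R]) →ₗ[MvPolynomial (Fin n) R] L) (dl : Fin r → L)
    (hL : LogDiff.IsLog (KaehlerDifferential.D R (MvPolynomial (Fin n) R))
      (fun i : Fin r => (MvPolynomial.X (Fin.castLE hr i) : MvPolynomial (Fin n) R)) ι dl)
    (d : ∀ q : ℕ, ↥(⋀[MvPolynomial (Fin n) R]^q L) →ₗ[R] ↥(⋀[MvPolynomial (Fin n) R]^(q + 1) L))
    (hd : DeRham.IsDiff (ι.compDer (KaehlerDifferential.D R (MvPolynomial (Fin n) R))) d)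
    (hlog : LogDiff.IsLogRule (KaehlerDifferential.D R (MvPolynomial (Fin n) R)) ι dl d)

include hp in
theorem fermat (M : ℕ) : ((M : R)) ^ (p - 2 + 1) = if p ∣ M then 0 else 1 := by
  have h2 := hp.out.two_le
  have hp2 : p - 2 + 1 = p - 1 := by omega
  rw [hp2]
  split_ifs with h
  · rw [(CharP.cast_eq_zero_iff R p M).mpr h, zero_pow]; omega
  · have h1 : ((M : ZMod p)) ≠ 0 := by rwa [Ne, ZMod.natCast_eq_zero_iff]
    have h2 := ZMod.pow_card_sub_one_eq_one h1
    have h3 := congrArg (ZMod.castHom (dvd_refl p) R) h2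
    simpa using h3

include hlog in
theorem hrule (k : ℕ) (f : MvPolynomial (Fin n) R) (μ : Fin k → Fin n) :
    d k (f • LogCartB.X (MvPolynomial (Fin n) R) (LogCartC.w' ι dl) μ) =
      exteriorPower.ιMulti (MvPolynomial (Fin n) R) (k + 1)
        (Fin.cons ((ι.compDer (KaehlerDifferential.D R (MvPolynomial (Fin n) R))) f)
          (LogCartC.w' ι dl ∘ μ)) := by
  unfold LogCartB.X
  refine hlog k f (LogCartC.w' ι dl ∘ μ) (fun j => ?_)
  simp only [Function.comp]
  unfold LogCartC.w'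
  split_ifs with h
  · exact Or.inr ⟨⟨μ j, h⟩, rfl⟩
  · exact Or.inl ⟨X (μ j), rfl⟩

/-- The contraction operators. -/
noncomputable def jop (ν : Fin n) (q : ℕ) :
    ↥(⋀[MvPolynomial (Fin n) R]^(q + 1) L) →ₗ[R] ↥(⋀[MvPolynomial (Fin n) R]^q L) :=
  ((LogCartC.tau R r ν) • LogCartB.cj ((LogCartC.bL hr ι dl hL).coord ν) q).restrictScalars R

theorem jop_apply (ν : Fin n) (q : ℕ) (x : ↥(⋀[MvPolynomial (Fin n) R]^(q + 1) L)) :
    jop R n r hr L ι dl hL ν q x =
      LogCartC.tau R r ν • LogCartB.cj ((LogCartC.bL hr ι dl hL).coord ν) q x := rfl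

/-- The exponent `ε'`. -/
def ep (ν : Fin n) : ℕ := if (ν : ℕ) < r then 0 else 1

theorem eps_eq (ν : Fin n) : LogCartC.eps R r ν = ((ep n r ν : ℕ) : MvPolynomial (Fin n) R) := by
  unfold LogCartC.eps ep
  split_ifs <;> simp

/-- The graded pieces. -/
abbrev Xq (q : ℕ) : Type u := ↥(⋀[MvPolynomial (Fin n) R]^q L)

/-- total differential -/
noncomputable def Dt : Module.End R (∀ q, Xq R n L q) := LogCartA.Dtot (X := Xq R n L) d

/-- total contraction -/
noncomputable def Jt (ν : Fin n) : Module.End R (∀ q, Xq R n L q) :=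
  LogCartA.Jtot (X := Xq R n L) (jop R n r hr L ι dl hL ν)

/-- Lie derivative -/
noncomputable def Nt (ν : Fin n) : Module.End R (∀ q, Xq R n L q) :=
  Dt R n L d * Jt R n r hr L ι dl hL ν + Jt R n r hr L ι dl hL ν * Dt R n L d

include hlog in
theorem eigenB (ν : Fin n) (k : ℕ) (μ : Fin k → Fin n) (m : Fin n →₀ ℕ) :
    Nt R n r hr L ι dl hL d ν
      (Pi.single k (monomial m (1 : R) • LogCartB.X (MvPolynomial (Fin n) R) (LogCartC.w' ι dl) μ) :
        ∀ q, Xq R n L q) =
    (Pi.single k ((((m ν + ep n r ν * LogCartB.cnt ν μ : ℕ)) : MvPolynomial (Fin n) R) •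
      (monomial m (1 : R) • LogCartB.X (MvPolynomial (Fin n) R) (LogCartC.w' ι dl) μ)) :
        ∀ q, Xq R n L q) := by
  have hφ := LogCartC.coord_w' hr ι dl hL
  have hr' := hrule R n r L ι dl d hlog
  unfold Nt Dt Jt
  cases k with
  | zero =>
    rw [LogCartA.N_single_zero]
    congr 1
    apply Subtype.ext
    rw [jop_apply]
    have h0 := LogCartB.Ncomp_zero (R := R) (LogCartC.w' ι dl)
      (fun ν => (LogCartC.bL hr ι dl hL).coord ν) hφ
      (ι.compDer (KaehlerDifferential.D R (MvPolynomial (Fin n) R))) d hr' ν (LogCartC.tau R r ν)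
      (LogCartB.X (MvPolynomial (Fin n) R) (LogCartC.w' ι dl) μ) (LogCartB.X_mem_Lam _ μ)
      (monomial m (1 : R))
    rw [h0]
    have h1 := LogCartC.tau_coord_monomial hr ι dl hL ν m
    have h2 : (ι.compDer (KaehlerDifferential.D R (MvPolynomial (Fin n) R))) (monomial m (1 : R)) =
      ι (KaehlerDifferential.D R (MvPolynomial (Fin n) R) (monomial m (1 : R))) := rfl
    rw [h2, h1]
    have h3 : LogCartB.cnt ν μ = 0 := by simp [LogCartB.cnt]
    rw [h3, mul_zero, add_zero, Submodule.coe_smul, Submodule.coe_smul, smul_smul]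
  | succ k =>
    rw [LogCartA.N_single_succ]
    congr 1
    apply Subtype.ext
    rw [jop_apply, jop_apply]
    have h0 := LogCartB.Ncomp_succ (R := R) (LogCartC.w' ι dl)
      (fun ν => (LogCartC.bL hr ι dl hL).coord ν) hφ
      (ι.compDer (KaehlerDifferential.D R (MvPolynomial (Fin n) R))) d hr' ν (LogCartC.tau R r ν) k
      (LogCartB.X (MvPolynomial (Fin n) R) (LogCartC.w' ι dl) μ) (LogCartB.X_mem_Lam _ μ)
      (monomial m (1 : R))
    rw [h0]
    have h1 := LogCartC.tau_coord_monomial hr ι dl hL ν m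
    have h2 : (ι.compDer (KaehlerDifferential.D R (MvPolynomial (Fin n) R))) (monomial m (1 : R)) =
      ι (KaehlerDifferential.D R (MvPolynomial (Fin n) R) (monomial m (1 : R))) := rfl
    have h4 : (ι.compDer (KaehlerDifferential.D R (MvPolynomial (Fin n) R))) (LogCartC.tau R r ν) =
      LogCartC.eps R r ν • LogCartC.w' ι dl ν := LogCartC.ι_D_tau ι dl ν
    have h5 := LogCartB.nop (LogCartC.w' ι dl)
      (fun ν => (LogCartC.bL hr ι dl hL).coord ν) hφ ν (k + 1) μ
    rw [h2, h1, h4, map_smul, smul_mul_assoc, smul_mul_assoc, h5, eps_eq, Submodule.coe_smul,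
      Submodule.coe_smul, smul_smul, smul_smul, smul_smul, ← add_smul]
    congr 1
    push_cast
    ring

include hlog in
theorem eigenR (ν : Fin n) (k : ℕ) (μ : Fin k → Fin n) (m : Fin n →₀ ℕ) :
    Nt R n r hr L ι dl hL d ν
      (Pi.single k (monomial m (1 : R) • LogCartB.X (MvPolynomial (Fin n) R) (LogCartC.w' ι dl) μ) :
        ∀ q, Xq R n L q) =
    (((m ν + ep n r ν * LogCartB.cnt ν μ : ℕ)) : R) •
      (Pi.single k (monomial m (1 : R) •
        LogCartB.X (MvPolynomial (Fin n) R) (LogCartC.w' ι dl) μ) : ∀ q, Xq R n L q) := by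
  rw [eigenB R n r hr L ι dl hL d hlog, ← Pi.single_smul, Nat.cast_smul_eq_nsmul,
    Nat.cast_smul_eq_nsmul]

end

end Groth.Agent.Lib.Helper9.LogCartD
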