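import Mathlib
import Groth.Prelude.Def_LogDiff
import Groth.Prelude.Def_DeRham
import Groth.Agent.Lib.Helper9.LogCartD

set_option autoImplicit false
universe u

namespace Groth.Agent.Lib.Helper9.LogCartE

open MvPolynomial KaehlerDifferential exteriorPower
open Groth.Agent.Lib.Helper9 Groth.Agent.Lib.Helper9.LogCartD

section

variable (p : ℕ) [hp : Fact p.Prime]
    (R : Type u) [CommRing R] [CharP R p] (n r : ℕ) (hr : r ≤ n)
    (L : Type u) [AddCommGroup L] [Module (MvPolynomial (Fin n) R) L] [Module R L]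
    [IsScalarTower R (MvPolynomial (Fin n) R) L]
    (ι : (Ω[MvPolynomial (Fin n) R⁄R]) →ₗ[MvPolynomial (Fin n) R] L) (dl : Fin r → L)
    (hL : LogDiff.IsLog (KaehlerDifferential.D R (MvPolynomial (Fin n) R))
      (fun i : Fin r => (MvPolynomial.X (Fin.castLE hr i) : MvPolynomial (Fin n) R)) ι dl)
    (d : ∀ q : ℕ, ↥(⋀[MvPolynomial (Fin n) R]^q L) →ₗ[R] ↥(⋀[MvPolynomial (Fin n) R]^(q + 1) L))
    (hd : DeRham.IsDiff (ι.compDer (KaehlerDifferential.D R (MvPolynomial (Fin n) R))) d)
    (hlog : LogDiff.IsLogRule (KaehlerDifferential.D R (MvPolynomial (Fin n) R)) ι dl d)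

theorem cnt_sorted {a : ℕ} (s : Finset (Fin n)) (hs : s.card = a) (ν : Fin n) :
    LogCartB.cnt ν (s.orderEmbOfFin hs) = if ν ∈ s then 1 else 0 := by
  unfold LogCartB.cnt
  split_ifs with h
  · have : ν ∈ Set.range (s.orderEmbOfFin hs) := by rw [Finset.range_orderEmbOfFin]; exact h
    obtain ⟨j₀, hj₀⟩ := this
    rw [Finset.sum_eq_single j₀]
    · rw [if_pos hj₀]
    · intro j _ hj
      rw [if_neg]
      intro hj'
      exact hj ((s.orderEmbOfFin hs).injective (hj'.trans hj₀.symm))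
    · intro h'; exact absurd (Finset.mem_univ _) h'
  · apply Finset.sum_eq_zero
    intro j _
    rw [if_neg]
    intro hj
    exact h (hj ▸ Finset.orderEmbOfFin_mem s hs j)

/-- The projector onto the `p`-divisible multidegrees. -/
noncomputable def PI : Module.End R (∀ q, Xq R n L q) :=
  ((List.finRange n).map (fun ν => 1 - (Nt R n r hr L ι dl hL d ν) ^ (p - 2 + 1))).prod

/-- Multidegree divisible by `p`. -/
def good (m : Fin n →₀ ℕ) (s : Finset (Fin n)) : Prop :=
  ∀ ν : Fin n, p ∣ m ν + (if r ≤ (ν : ℕ) ∧ ν ∈ s then 1 else 0)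

instance goodDec (m : Fin n →₀ ℕ) (s : Finset (Fin n)) : Decidable (good p n r m s) := by
  unfold good; infer_instance

theorem M_eq {a : ℕ} (s : Finset (Fin n)) (hs : s.card = a) (m : Fin n →₀ ℕ) (ν : Fin n) :
    m ν + ep n r ν * LogCartB.cnt ν (s.orderEmbOfFin hs) =
      m ν + (if r ≤ (ν : ℕ) ∧ ν ∈ s then 1 else 0) := by
  rw [cnt_sorted]
  unfold ep
  by_cases h1 : (ν : ℕ) < r <;> by_cases h2 : ν ∈ s <;> simp [h1, h2]

include hp hlog in
theorem PI_basis {a : ℕ} (s : Finset (Fin n)) (hs : s.card = a) (m : Fin n →₀ ℕ) :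
    PI p R n r hr L ι dl hL d
      (Pi.single a (monomial m (1 : R) •
        LogCartB.X (MvPolynomial (Fin n) R) (LogCartC.w' ι dl) (s.orderEmbOfFin hs)) :
          ∀ q, Xq R n L q) =
    if good p n r m s then
      (Pi.single a (monomial m (1 : R) •
        LogCartB.X (MvPolynomial (Fin n) R) (LogCartC.w' ι dl) (s.orderEmbOfFin hs)) :
          ∀ q, Xq R n L q)
    else 0 := by
  have he := LogCartA.prod_eigen (N := Nt R n r hr L ι dl hL d) (k := p - 2)
    (v := (Pi.single a (monomial m (1 : R) •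
        LogCartB.X (MvPolynomial (Fin n) R) (LogCartC.w' ι dl) (s.orderEmbOfFin hs)) :
          ∀ q, Xq R n L q))
    (lam := fun ν => (((m ν + ep n r ν * LogCartB.cnt ν (s.orderEmbOfFin hs) : ℕ)) : R))
    (fun ν => eigenR R n r hr L ι dl hL d hlog ν a (s.orderEmbOfFin hs) m) (List.finRange n)
  unfold PI
  rw [he]
  split_ifs with hg
  · rw [List.prod_eq_one, one_smul]
    intro x hx
    obtain ⟨ν, -, rfl⟩ := List.mem_map.mp hx
    rw [fermat p R, M_eq, if_pos (hg ν), sub_zero]
  · have : ∃ ν, ¬ p ∣ m ν + (if r ≤ (ν : ℕ) ∧ ν ∈ s then 1 else 0) := by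
      by_contra hcon
      push Not at hcon
      exact hg hcon
    obtain ⟨ν₀, hν₀⟩ := this
    rw [List.prod_eq_zero, zero_smul]
    refine List.mem_map.mpr ⟨ν₀, List.mem_finRange ν₀, ?_⟩
    rw [fermat p R, M_eq, if_neg hν₀, sub_self]

include hL in
theorem span_top (a : ℕ) :
    Submodule.span R {x : Xq R n L a | ∃ (m : Fin n →₀ ℕ) (s : Finset (Fin n)) (hs : s.card = a),
      x = monomial m (1 : R) •
        LogCartB.X (MvPolynomial (Fin n) R) (LogCartC.w' ι dl) (s.orderEmbOfFin hs)} = ⊤ := by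
  rw [eq_top_iff]
  intro ω _
  have hb : ∀ i, ((LogCartC.bL hr ι dl hL).exteriorPower a) i =
      LogCartB.X (MvPolynomial (Fin n) R) (LogCartC.w' ι dl) (i.val.orderEmbOfFin i.prop) := by
    intro i
    rw [exteriorPower.basis_apply]
    unfold exteriorPower.ιMulti_family LogCartB.X
    congr 1
    funext j
    simp only [Function.comp, LogCartC.bL_apply]
    rfl
  rw [← ((LogCartC.bL hr ι dl hL).exteriorPower a).sum_repr ω]
  refine Submodule.sum_mem _ fun i _ => ?_
  rw [hb]
  generalize ((LogCartC.bL hr ι dl hL).exteriorPower a).repr ω i = f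
  refine MvPolynomial.induction_on' f ?_ ?_
  · intro m c
    have : monomial m c = c • monomial m (1 : R) := by rw [smul_monomial, smul_eq_mul, mul_one]
    rw [this, smul_assoc]
    exact Submodule.smul_mem _ _ (Submodule.subset_span ⟨m, i.val, i.prop, rfl⟩)
  · intro f g hf hg
    rw [add_smul]; exact Submodule.add_mem _ hf hg

/-- The span of the good monomial forms. -/
noncomputable def G (a : ℕ) : Submodule R (Xq R n L a) :=
  Submodule.span R {x | ∃ (m : Fin n →₀ ℕ) (s : Finset (Fin n)) (hs : s.card = a),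
    good p n r m s ∧ x = monomial m (1 : R) •
      LogCartB.X (MvPolynomial (Fin n) R) (LogCartC.w' ι dl) (s.orderEmbOfFin hs)}

include hp hlog in
theorem PI_single (a : ℕ) (ω : Xq R n L a) :
    ∃ c ∈ G p R n r L ι dl a, PI p R n r hr L ι dl hL d (Pi.single a ω : ∀ q, Xq R n L q) =
      (Pi.single a c : ∀ q, Xq R n L q) := by
  have hω : ω ∈ Submodule.span R {x : Xq R n L a | ∃ (m : Fin n →₀ ℕ) (s : Finset (Fin n))
      (hs : s.card = a), x = monomial m (1 : R) •
        LogCartB.X (MvPolynomial (Fin n) R) (LogCartC.w' ι dl) (s.orderEmbOfFin hs)} := by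
    rw [span_top R n r hr L ι dl hL]; trivial
  induction hω using Submodule.span_induction with
  | mem x hx =>
    obtain ⟨m, s, hs, rfl⟩ := hx
    rw [PI_basis p R n r hr L ι dl hL d hlog]
    split_ifs with hg
    · exact ⟨_, Submodule.subset_span ⟨m, s, hs, hg, rfl⟩, rfl⟩
    · exact ⟨0, Submodule.zero_mem _, (Pi.single_zero a).symm⟩
  | zero => exact ⟨0, Submodule.zero_mem _, by rw [Pi.single_zero, map_zero]⟩
  | add x y _ _ hx hy =>
    obtain ⟨c1, h1, e1⟩ := hx
    obtain ⟨c2, h2, e2⟩ := hy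
    exact ⟨c1 + c2, Submodule.add_mem _ h1 h2, by rw [Pi.single_add, map_add, e1, e2, Pi.single_add]⟩
  | smul t x _ hx =>
    obtain ⟨c, h, e⟩ := hx
    exact ⟨t • c, Submodule.smul_mem _ _ h, by rw [Pi.single_smul, map_smul, e, Pi.single_smul]⟩

include hp hlog in
theorem PI_G (a : ℕ) (c : Xq R n L a) (hc : c ∈ G p R n r L ι dl a) :
    PI p R n r hr L ι dl hL d (Pi.single a c : ∀ q, Xq R n L q) =
      (Pi.single a c : ∀ q, Xq R n L q) := by
  induction hc using Submodule.span_induction with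
  | mem x hx =>
    obtain ⟨m, s, hs, hg, rfl⟩ := hx
    rw [PI_basis p R n r hr L ι dl hL d hlog, if_pos hg]
  | zero => rw [Pi.single_zero, map_zero]
  | add x y _ _ hx hy => rw [Pi.single_add, map_add, hx, hy]
  | smul t x _ hx => rw [Pi.single_smul, map_smul, hx]

include hL hlog in
theorem d_basis {a : ℕ} (s : Finset (Fin n)) (hs : s.card = a) (m : Fin n →₀ ℕ)
    (hg : good p n r m s) :
    d a (monomial m (1 : R) •
      LogCartB.X (MvPolynomial (Fin n) R) (LogCartC.w' ι dl) (s.orderEmbOfFin hs)) = 0 := by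
  apply Subtype.ext
  rw [LogCartB.rule_coe (LogCartC.w' ι dl)
    (ι.compDer (KaehlerDifferential.D R (MvPolynomial (Fin n) R))) d
    (hrule R n r L ι dl d hlog) a (monomial m (1 : R)) (s.orderEmbOfFin hs)]
  have h2 : (ι.compDer (KaehlerDifferential.D R (MvPolynomial (Fin n) R))) (monomial m (1 : R)) =
      ι (KaehlerDifferential.D R (MvPolynomial (Fin n) R) (monomial m (1 : R))) := rfl
  rw [h2, LogCartC.ι_D_eq_sum hr ι dl hL, map_sum, Finset.sum_mul, ZeroMemClass.coe_zero]
  apply Finset.sum_eq_zero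
  intro κ _
  rw [map_smul, smul_mul_assoc]
  by_cases hκ : κ ∈ s
  · have : ExteriorAlgebra.ι (MvPolynomial (Fin n) R) (LogCartC.w' ι dl κ) *
        ((LogCartB.X (MvPolynomial (Fin n) R) (LogCartC.w' ι dl) (s.orderEmbOfFin hs) :
          ↥(⋀[MvPolynomial (Fin n) R]^a L)) : ExteriorAlgebra (MvPolynomial (Fin n) R) L) = 0 := by
      have h3 := LogCartB.ml_X (B := MvPolynomial (Fin n) R) (LogCartC.w' ι dl) κ
        (s.orderEmbOfFin hs)
      have h4 : LogCartB.X (MvPolynomial (Fin n) R) (LogCartC.w' ι dl)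
          (Fin.cons κ (s.orderEmbOfFin hs) : Fin (a + 1) → Fin n) = 0 := by
        unfold LogCartB.X
        obtain ⟨j₀, hj₀⟩ : κ ∈ Set.range (s.orderEmbOfFin hs) := by
          rw [Finset.range_orderEmbOfFin]; exact hκ
        exact AlternatingMap.map_eq_zero_of_eq _ _ (i := 0) (j := j₀.succ) (by simp [hj₀])
          (Fin.succ_ne_zero j₀).symm
      rw [← LogCartB.ml_coe, h3, h4]; rfl
    rw [this, smul_zero]
  · have hdiv : p ∣ m κ := by
      have := hg κ
      rwa [if_neg (fun h => hκ h.2), add_zero] at this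
    have : pderiv κ (monomial m (1 : R)) = 0 := by
      rw [pderiv_monomial, one_mul, (CharP.cast_eq_zero_iff R p (m κ)).mpr hdiv, monomial_zero]
    rw [this, mul_zero, zero_smul]

include hL hlog in
theorem d_G (a : ℕ) (c : Xq R n L a) (hc : c ∈ G p R n r L ι dl a) : d a c = 0 := by
  induction hc using Submodule.span_induction with
  | mem x hx =>
    obtain ⟨m, s, hs, hg, rfl⟩ := hx
    exact d_basis p R n r hr L ι dl hL d hlog s hs m hg
  | zero => rw [map_zero]
  | add x y _ _ hx hy => rw [map_add, hx, hy, add_zero]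
  | smul t x _ hx => rw [map_smul, hx, smul_zero]

end

end Groth.Agent.Lib.Helper9.LogCartE
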