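import Mathlib
import Groth.Prelude.Def_LogDiff
import Groth.Prelude.Def_DeRham
import Groth.Agent.Lib.Helper9.LogCartE

set_option autoImplicit false
universe u

namespace Groth.Agent.Lib.Helper9.LogCartF

open MvPolynomial KaehlerDifferential exteriorPower
open Groth.Agent.Lib.Helper9 Groth.Agent.Lib.Helper9.LogCartD Groth.Agent.Lib.Helper9.LogCartE

section

variable (p : ℕ) [hp : Fact p.Prime]
    (R : Type u) [CommRing R] [CharP R p] (n r : ℕ) (hr : r ≤ n)
    (L : Type u) [AddCommGroup L] [Module (MvPolynomial (Fin n) R) L] [Module R L]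
    [IsScalarTower R (MvPolynomial (Fin n) R) L]
    (ι : (Ω[MvPolynomial (Fin n) R⁄R]) →ₗ[MvPolynomial (Fin n) R] L) (dl : Fin r → L)
    (hL : LogDiff.IsLog (KaehlerDifferential.D R (MvPolynomial (Fin n) R))
      (fun i : Fin r => (MvPolynomial.X (Fin.castLE hr i) : MvPolynomial (Fin n) R)) ι dl)
    (d : ∀ q : ℕ, ↥(⋀[MvPolynomial (Fin n) R]^q L) →ₗ[R] ↥(⋀[MvPolynomial (Fin n) R]^(q + 1) L))
    (hd : DeRham.IsDiff (ι.compDer (KaehlerDifferential.D R (MvPolynomial (Fin n) R))) d)
    (hlog : LogDiff.IsLogRule (KaehlerDifferential.D R (MvPolynomial (Fin n) R)) ι dl d)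
    (w : Fin n → L) (hw : ∀ i : Fin r, w (Fin.castLE hr i) = dl i)
    (hw' : ∀ ν : Fin n, r ≤ (ν : ℕ) → w ν = ι (((MvPolynomial.X ν : MvPolynomial (Fin n) R) ^ (p - 1)) •
      KaehlerDifferential.D R (MvPolynomial (Fin n) R) (MvPolynomial.X ν)))

/-- The exponent of the extra monomial factor. -/
noncomputable def rho (s : Finset (Fin n)) : Fin n →₀ ℕ :=
  ∑ κ ∈ s.filter (fun κ : Fin n => r ≤ (κ : ℕ)), Finsupp.single κ (p - 1)

theorem rho_apply (s : Finset (Fin n)) (ν : Fin n) :
    rho p n r s ν = if r ≤ (ν : ℕ) ∧ ν ∈ s then p - 1 else 0 := by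
  unfold rho
  rw [Finsupp.finsetSum_apply]
  simp only [Finsupp.single_apply]
  rw [Finset.sum_ite_eq']
  simp [Finset.mem_filter, and_comm]

/-- The coefficient relating `w` and `w'`. -/
noncomputable def cc (ν : Fin n) : MvPolynomial (Fin n) R :=
  if r ≤ (ν : ℕ) then (X ν) ^ (p - 1) else 1

include hw hw' in
theorem w_eq (ν : Fin n) : w ν = cc p R n r ν • LogCartC.w' ι dl ν := by
  unfold cc LogCartC.w'
  by_cases h : r ≤ (ν : ℕ)
  · rw [if_pos h, dif_neg (by omega), hw' ν h, map_smul]
  · have h2 : (ν : ℕ) < r := by omega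
    rw [if_neg h, dif_pos h2, one_smul, ← hw ⟨ν, h2⟩]
    congr 1

theorem prod_cc (s : Finset (Fin n)) : ∏ κ ∈ s, cc p R n r κ = monomial (rho p n r s) (1 : R) := by
  unfold cc rho
  rw [← Finset.prod_filter, monomial_sum_one]
  refine Finset.prod_congr rfl fun κ _ => ?_
  rw [X_pow_eq_monomial]

include hw hw' in
theorem e_eq {a : ℕ} (s : Finset (Fin n)) (hs : s.card = a)
    (es : ↥(⋀[MvPolynomial (Fin n) R]^a L))
    (he : es = exteriorPower.ιMulti (MvPolynomial (Fin n) R) a
      (fun j => w (s.orderEmbOfFin hs j))) :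
    es = monomial (rho p n r s) (1 : R) •
      LogCartB.X (MvPolynomial (Fin n) R) (LogCartC.w' ι dl) (s.orderEmbOfFin hs) := by
  rw [he]
  have h1 : (fun j => w (s.orderEmbOfFin hs j)) =
      fun j => cc p R n r (s.orderEmbOfFin hs j) • (LogCartC.w' ι dl ∘ s.orderEmbOfFin hs) j :=
    funext fun j => w_eq p R n r hr L ι dl w hw hw' _
  rw [h1, AlternatingMap.map_smul_univ]
  have h2 : ∏ j : Fin a, cc p R n r (s.orderEmbOfFin hs j) = ∏ κ ∈ s, cc p R n r κ := by
    have := Finset.prod_map Finset.univ (s.orderEmbOfFin hs).toEmbedding (cc p R n r)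
    rw [Finset.map_orderEmbOfFin_univ] at this
    exact this.symm
  rw [h2, prod_cc]
  rfl

variable (a : ℕ) (e : Finset (Fin n) → ↥(⋀[MvPolynomial (Fin n) R]^a L))
    (he : ∀ (s : Finset (Fin n)) (hs : s.card = a),
      e s = exteriorPower.ιMulti (MvPolynomial (Fin n) R) a (fun j => w (s.orderEmbOfFin hs j)))

include hp hw hw' he in
theorem range_le_G (g : Finset (Fin n) → MvPolynomial (Fin n) R) :
    (∑ s ∈ Finset.powersetCard a Finset.univ, MvPolynomial.expand p (g s) • e s) ∈
      G p R n r L ι dl a := by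
  refine Submodule.sum_mem _ fun s hsm => ?_
  have hs : s.card = a := (Finset.mem_powersetCard.mp hsm).2
  rw [e_eq p R n r hr L ι dl w hw hw' s hs (e s) (he s hs)]
  refine MvPolynomial.induction_on' (g s) ?_ ?_
  · intro m' c
    rw [expand_monomial, smul_smul, monomial_mul, mul_one]
    have : monomial (p • m' + rho p n r s) c = c • monomial (p • m' + rho p n r s) (1 : R) := by
      rw [smul_monomial, smul_eq_mul, mul_one]
    rw [this, smul_assoc]
    refine Submodule.smul_mem _ _ (Submodule.subset_span ⟨_, s, hs, ?_, rfl⟩)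
    intro ν
    rw [Finsupp.add_apply, Finsupp.smul_apply, rho_apply, smul_eq_mul]
    have hp1 := hp.out.one_lt
    split_ifs with h
    · exact ⟨m' ν + 1, by rw [Nat.mul_succ]; omega⟩
    · exact ⟨m' ν, by omega⟩
  · intro f1 f2 h1 h2
    rw [map_add, add_smul]
    exact Submodule.add_mem _ h1 h2

include hp hw hw' he in
theorem G_le_range (c : ↥(⋀[MvPolynomial (Fin n) R]^a L)) (hc : c ∈ G p R n r L ι dl a) :
    ∃ g : Finset (Fin n) → MvPolynomial (Fin n) R,
      c = ∑ s ∈ Finset.powersetCard a Finset.univ, MvPolynomial.expand p (g s) • e s := by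
  induction hc using Submodule.span_induction with
  | mem x hx =>
    obtain ⟨m, s, hs, hg, rfl⟩ := hx
    choose c hc using hg
    let m' : Fin n →₀ ℕ := Finsupp.equivFunOnFinite.symm
      (fun ν => c ν - (if r ≤ (ν : ℕ) ∧ ν ∈ s then 1 else 0))
    have hm' : p • m' + rho p n r s = m := by
      ext ν
      rw [Finsupp.add_apply, Finsupp.smul_apply, rho_apply, smul_eq_mul]
      have h1 : m' ν = c ν - (if r ≤ (ν : ℕ) ∧ ν ∈ s then 1 else 0) := rfl
      rw [h1]
      have h2 := hc ν
      have hp1 := hp.out.one_lt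
      split_ifs at h2 ⊢ with h
      · rcases Nat.eq_zero_or_pos (c ν) with h0 | h0
        · rw [h0] at h2; omega
        · obtain ⟨c', hc'⟩ : ∃ c', c ν = c' + 1 := ⟨c ν - 1, by omega⟩
          rw [hc', Nat.mul_succ] at h2
          rw [hc', Nat.add_sub_cancel]
          omega
      · rw [Nat.sub_zero]; omega
    refine ⟨fun t => if t = s then monomial m' (1 : R) else 0, ?_⟩
    rw [Finset.sum_eq_single s]
    · dsimp only
      rw [if_pos rfl, expand_monomial, e_eq p R n r hr L ι dl w hw hw' s hs (e s) (he s hs),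
        smul_smul, monomial_mul, mul_one, hm']
    · intro t _ hts
      dsimp only
      rw [if_neg hts, map_zero, zero_smul]
    · intro h
      exact absurd (Finset.mem_powersetCard.mpr ⟨Finset.subset_univ _, hs⟩) h
  | zero => exact ⟨0, by simp⟩
  | add x y _ _ hx hy =>
    obtain ⟨g1, rfl⟩ := hx
    obtain ⟨g2, rfl⟩ := hy
    refine ⟨g1 + g2, ?_⟩
    rw [← Finset.sum_add_distrib]
    refine Finset.sum_congr rfl fun s _ => ?_
    rw [Pi.add_apply, map_add, add_smul]
  | smul t x _ hx =>
    obtain ⟨g, rfl⟩ := hx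
    refine ⟨t • g, ?_⟩
    rw [Finset.smul_sum]
    refine Finset.sum_congr rfl fun s _ => ?_
    rw [Pi.smul_apply, map_smul, smul_assoc]

theorem Dt_mem_cob (b : ℕ) (ξ : ∀ q, Xq R n L q) :
    (Dt R n L d ξ) b ∈ DeRham.coboundaries d b := by
  cases b with
  | zero => exact Submodule.zero_mem _
  | succ b => exact ⟨ξ b, rfl⟩

include hd in
theorem d_cob (b : ℕ) (η : ↥(⋀[MvPolynomial (Fin n) R]^b L)) (hη : η ∈ DeRham.coboundaries d b) :
    d b η = 0 := by
  cases b with
  | zero =>
    have : η = 0 := (Submodule.mem_bot R).mp hη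
    rw [this, map_zero]
  | succ b =>
    obtain ⟨ξ, rfl⟩ := hη
    exact LinearMap.congr_fun (hd.2 b) ξ

include hp hL hd hlog hw hw' he in
theorem main :
    (∀ ω, ω ∈ DeRham.cocycles d a ↔
      ∃ (g : Finset (Fin n) → MvPolynomial (Fin n) R) (η : ↥(⋀[MvPolynomial (Fin n) R]^a L)),
        η ∈ DeRham.coboundaries d a ∧
          ω = η + ∑ s ∈ Finset.powersetCard a Finset.univ, MvPolynomial.expand p (g s) • e s) ∧
    (∀ g : Finset (Fin n) → MvPolynomial (Fin n) R,
      (∑ s ∈ Finset.powersetCard a Finset.univ, MvPolynomial.expand p (g s) • e s) ∈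
          DeRham.coboundaries d a →
        ∀ s ∈ Finset.powersetCard a (Finset.univ : Finset (Fin n)), g s = 0) := by
  have hDD : Dt R n L d * Dt R n L d = 0 := LogCartA.Dtot_sq (X := Xq R n L) d hd.2
  obtain ⟨H, hH, hcomm⟩ := LogCartA.homotopy_list (Dt R n L d) hDD (Jt R n r hr L ι dl hL)
    (p - 2) (List.finRange n)
  have hH' : 1 - PI p R n r hr L ι dl hL d = Dt R n L d * H + H * Dt R n L d := hH
  have hcomm' : Commute (Dt R n L d) (PI p R n r hr L ι dl hL d) := hcomm
  constructor
  · intro ω
    constructor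
    · intro hω
      have hω' : d a ω = 0 := hω
      obtain ⟨c, hcG, hc⟩ := PI_single p R n r hr L ι dl hL d hlog a ω
      have h1 := congrArg (fun T => T (Pi.single a ω : ∀ q, Xq R n L q)) hH'
      simp only [LinearMap.sub_apply, Module.End.one_apply, LinearMap.add_apply,
        Module.End.mul_apply] at h1
      have hD0 : Dt R n L d (Pi.single a ω : ∀ q, Xq R n L q) = 0 := by
        unfold Dt
        rw [LogCartA.Dtot_single, hω', Pi.single_zero]
      rw [hD0, map_zero, add_zero, hc] at h1
      have h2 := congrFun h1 a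
      simp only [Pi.sub_apply, Pi.single_eq_same] at h2
      obtain ⟨g, hg⟩ := G_le_range p R n r hr L ι dl w hw hw' a e he c hcG
      refine ⟨g, ω - c, ?_, by rw [← hg]; abel⟩
      rw [h2]
      exact Dt_mem_cob R n L d a _
    · rintro ⟨g, η, hη, rfl⟩
      show d a _ = 0
      rw [map_add, d_cob R n L ι d hd a η hη, zero_add]
      exact d_G p R n r hr L ι dl hL d hlog a _
        (range_le_G p R n r hr L ι dl w hw hw' a e he g)
  · intro g hg s hsm
    set c₀ := ∑ s ∈ Finset.powersetCard a Finset.univ, MvPolynomial.expand p (g s) • e s with hc₀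
    have hc₀G : c₀ ∈ G p R n r L ι dl a := range_le_G p R n r hr L ι dl w hw hw' a e he g
    have hzero : c₀ = 0 := by
      have key : (Pi.single a c₀ : ∀ q, Xq R n L q) = 0 := by
        rw [← PI_G p R n r hr L ι dl hL d hlog a c₀ hc₀G]
        revert hg hc₀G
        generalize c₀ = c₁
        clear hc₀
        intro hg hc₁G
        cases a with
        | zero =>
          have : c₁ = 0 := (Submodule.mem_bot R).mp hg
          rw [this, Pi.single_zero, map_zero]
        | succ a' =>
          obtain ⟨ξ, rfl⟩ := hg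
          have h1 : (Pi.single (a' + 1) (d a' ξ) : ∀ q, Xq R n L q) =
              Dt R n L d (Pi.single a' ξ : ∀ q, Xq R n L q) := by
            unfold Dt; rw [LogCartA.Dtot_single]
          rw [h1, ← Module.End.mul_apply, ← hcomm'.eq, Module.End.mul_apply]
          obtain ⟨c', hc'G, hc'⟩ := PI_single p R n r hr L ι dl hL d hlog a' ξ
          rw [hc']
          unfold Dt
          rw [LogCartA.Dtot_single, d_G p R n r hr L ι dl hL d hlog a' c' hc'G, Pi.single_zero]
      have := congrFun key a
      simpa using this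
    -- extract coefficients
    have hs : s.card = a := (Finset.mem_powersetCard.mp hsm).2
    have hsum : ∑ t ∈ Finset.powersetCard a Finset.univ,
        (MvPolynomial.expand p (g t) * monomial (rho p n r t) (1 : R)) •
          (if ht : t.card = a then
            LogCartB.X (MvPolynomial (Fin n) R) (LogCartC.w' ι dl) (t.orderEmbOfFin ht) else 0) = 0 := by
      rw [← hzero, hc₀]
      refine Finset.sum_congr rfl fun t htm => ?_
      have ht : t.card = a := (Finset.mem_powersetCard.mp htm).2
      rw [dif_pos ht, e_eq p R n r hr L ι dl w hw hw' t ht (e t) (he t ht), smul_smul]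
    have hb : ∀ (t : Finset (Fin n)) (ht : t.card = a),
        LogCartB.X (MvPolynomial (Fin n) R) (LogCartC.w' ι dl) (t.orderEmbOfFin ht) =
          ((LogCartC.bL hr ι dl hL).exteriorPower a) ⟨t, ht⟩ := by
      intro t ht
      rw [exteriorPower.basis_apply]
      unfold exteriorPower.ιMulti_family LogCartB.X
      congr 1
      funext j
      simp only [Function.comp, LogCartC.bL_apply]
      rfl
    have h3 := congrArg (fun x => ((LogCartC.bL hr ι dl hL).exteriorPower a).repr x ⟨s, hs⟩) hsum
    simp only [map_sum, map_zero, Finsupp.coe_finsetSum, Finset.sum_apply, Finsupp.coe_zero,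
      Pi.zero_apply, map_smul, Finsupp.coe_smul, Pi.smul_apply] at h3
    rw [Finset.sum_eq_single s] at h3
    · rw [dif_pos hs, hb s hs, Module.Basis.repr_self, Finsupp.single_eq_same, smul_eq_mul,
        mul_one] at h3
      have hreg : IsRegular (monomial (rho p n r s) (1 : R)) := IsRegular.monomial isRegular_one
      have h4 : MvPolynomial.expand p (g s) = 0 := hreg.right (by simpa using h3)
      exact (MvPolynomial.expand_eq_zero hp.out.pos).mp h4
    · intro t htm hts
      have ht : t.card = a := (Finset.mem_powersetCard.mp htm).2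
      rw [dif_pos ht, hb t ht, Module.Basis.repr_self, Finsupp.single_eq_of_ne, smul_zero]
      intro h
      exact hts (congrArg Subtype.val h).symm
    · intro h; exact absurd hsm h

end

end Groth.Agent.Lib.Helper9.LogCartF
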