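import Mathlib

/-!
# Generic isomorphisms for `Functor.mapDerivedCategory` (helper9)

Objectwise isomorphisms `F.mapDerivedCategory.obj K ≅ G.mapDerivedCategory.obj K` for a natural
isomorphism `F ≅ G` of exact functors, and the compatibility with composition.
-/

set_option autoImplicit false
universe v₁ v₂ v₃ u₁ u₂ u₃
open CategoryTheory CategoryTheory.Limits

attribute [local instance] HasDerivedCategory.standard

namespace Groth.Agent.Lib.Helper9.MapD

variable {C₁ : Type u₁} {C₂ : Type u₂} {C₃ : Type u₃} [Category.{v₁} C₁] [Category.{v₂} C₂]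
  [Category.{v₃} C₃] [Abelian C₁] [Abelian C₂] [Abelian C₃]

local notation "cc" => ComplexShape.up ℤ

section one

variable (F : C₁ ⥤ C₂) [F.Additive] [PreservesFiniteLimits F] [PreservesFiniteColimits F]

/-- `F.mapDerivedCategory` computed on a chosen representative -/
noncomputable def objIso (K : DerivedCategory C₁) :
    F.mapDerivedCategory.obj K ≅
      DerivedCategory.Q.obj ((F.mapHomologicalComplex cc).obj (DerivedCategory.Q.objPreimage K)) :=
  F.mapDerivedCategory.mapIso (DerivedCategory.Q.objObjPreimageIso K).symm ≪≫
    F.mapDerivedCategoryFactors.app _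

/-- `F.mapDerivedCategory` computed on a given representative -/
noncomputable def objIsoOfRep (K : DerivedCategory C₁) (K₀ : CochainComplex C₁ ℤ)
    (e : DerivedCategory.Q.obj K₀ ≅ K) :
    F.mapDerivedCategory.obj K ≅
      DerivedCategory.Q.obj ((F.mapHomologicalComplex cc).obj K₀) :=
  F.mapDerivedCategory.mapIso e.symm ≪≫ F.mapDerivedCategoryFactors.app _

end one

section natiso

variable {F G : C₁ ⥤ C₂} [F.Additive] [PreservesFiniteLimits F] [PreservesFiniteColimits F]
  [G.Additive] [PreservesFiniteLimits G] [PreservesFiniteColimits G]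

/-- a natural isomorphism of exact functors induces isomorphisms on derived categories -/
noncomputable def isoOfNatIso (η : F ≅ G) (K : DerivedCategory C₁) :
    F.mapDerivedCategory.obj K ≅ G.mapDerivedCategory.obj K :=
  objIso F K ≪≫
    DerivedCategory.Q.mapIso ((NatIso.mapHomologicalComplex η cc).app _) ≪≫
    (objIso G K).symm

end natiso

section comp

variable (F : C₁ ⥤ C₂) [F.Additive] [PreservesFiniteLimits F] [PreservesFiniteColimits F]
  (G : C₂ ⥤ C₃) [G.Additive] [PreservesFiniteLimits G] [PreservesFiniteColimits G]

/-- the two ways of mapping a complex along a composite -/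
noncomputable def mapHCCompIso (K : CochainComplex C₁ ℤ) :
    ((F ⋙ G).mapHomologicalComplex cc).obj K ≅
      (G.mapHomologicalComplex cc).obj ((F.mapHomologicalComplex cc).obj K) :=
  HomologicalComplex.Hom.isoOfComponents (fun _ => Iso.refl _) (fun i j _ => by
    simp only [Iso.refl_hom]
    erw [Category.id_comp, Category.comp_id]
    rfl)

/-- `mapDerivedCategory` of a composite -/
noncomputable def compIso (K : DerivedCategory C₁) :
    (F ⋙ G).mapDerivedCategory.obj K ≅
      G.mapDerivedCategory.obj (F.mapDerivedCategory.obj K) :=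
  objIso (F ⋙ G) K ≪≫
    DerivedCategory.Q.mapIso (mapHCCompIso F G _) ≪≫
    (G.mapDerivedCategoryFactors.app _).symm ≪≫
    G.mapDerivedCategory.mapIso ((objIso F K).symm)

end comp

end Groth.Agent.Lib.Helper9.MapD
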