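import Mathlib

/-!
# Kernel of a split linear substitution = ideal of maximal minors (S16254)
-/

namespace Groth.Agent.Lib.Helper9.MaxMinors

open MvPolynomial Matrix Finset

universe u

theorem det_mul_rect {R : Type*} [CommRing R] {n k : Type*} [Fintype n] [DecidableEq n]
    [Fintype k] [DecidableEq k] (M : Matrix n k R) (N : Matrix k n R) :
    det (M * N) = ∑ p : n → k, (∏ i, N (p i) i) * det (M.submatrix id p) := by
  simp only [det_apply', mul_apply, prod_univ_sum, mul_sum, Fintype.piFinset_univ,
    submatrix_apply, id]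
  rw [Finset.sum_comm]
  refine Finset.sum_congr rfl fun p _ => Finset.sum_congr rfl fun σ _ => ?_
  rw [prod_mul_distrib]; ring

theorem ker_eq_span_of_section {R : Type*} [CommRing R] {σ τ : Type*}
    (φ : MvPolynomial σ R →ₐ[R] MvPolynomial τ R)
    (ψ : MvPolynomial τ R →ₐ[R] MvPolynomial σ R) (h : ∀ q, φ (ψ q) = q) :
    RingHom.ker φ =
      Ideal.span (Set.range fun j => (X j : MvPolynomial σ R) - ψ (φ (X j))) := by
  apply le_antisymm
  · intro p hp
    have key : ∀ p : MvPolynomial σ R, p - ψ (φ p) ∈
        Ideal.span (Set.range fun j => (X j : MvPolynomial σ R) - ψ (φ (X j))) := by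
      intro p
      induction p using MvPolynomial.induction_on with
      | C a =>
        have : φ (C a) = C a := by
          show φ (algebraMap R _ a) = algebraMap R _ a
          rw [AlgHom.commutes]
        rw [this]
        have : ψ (C a) = C a := by
          show ψ (algebraMap R _ a) = algebraMap R _ a
          rw [AlgHom.commutes]
        rw [this, sub_self]
        exact Ideal.zero_mem _
      | add p q hp hq =>
        have : p + q - ψ (φ (p + q)) = (p - ψ (φ p)) + (q - ψ (φ q)) := by
          simp only [map_add]; ring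
        rw [this]; exact Ideal.add_mem _ hp hq
      | mul_X p j hp =>
        have : p * X j - ψ (φ (p * X j)) =
            (p - ψ (φ p)) * X j + ψ (φ p) * (X j - ψ (φ (X j))) := by
          simp only [map_mul]; ring
        rw [this]
        exact Ideal.add_mem _ (Ideal.mul_mem_right _ _ hp)
          (Ideal.mul_mem_left _ _ (Ideal.subset_span ⟨j, rfl⟩))
    have h1 := key p
    rw [RingHom.mem_ker] at hp
    rw [hp, map_zero, sub_zero] at h1
    exact h1
  · rw [Ideal.span_le]
    rintro _ ⟨j, rfl⟩
    show _ ∈ RingHom.ker φ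
    rw [RingHom.mem_ker, map_sub, h, sub_self]

theorem exists_retraction (A : Type u) [CommRing A] (N s : ℕ) (m : Fin s → (Fin (N + 1) → A))
    (hli : LinearIndependent A m)
    (hproj : Module.Projective A ((Fin (N + 1) → A) ⧸ Submodule.span A (Set.range m))) :
    ∃ r : Fin s → Fin (N + 1) → A,
      ∀ i i', ∑ k, r i k * m i' k = if i = i' then 1 else 0 := by
  classical
  obtain ⟨σ, hσ⟩ := Module.projective_lifting_property
    (Submodule.span A (Set.range m)).mkQ LinearMap.id
    (Submodule.mkQ_surjective (Submodule.span A (Set.range m)))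
  let b := Module.Basis.span hli
  have hmem : ∀ x : Fin (N+1) → A,
      x - σ ((Submodule.span A (Set.range m)).mkQ x) ∈ Submodule.span A (Set.range m) := by
    intro x
    have h0 : (Submodule.span A (Set.range m)).mkQ
        (x - σ ((Submodule.span A (Set.range m)).mkQ x)) = 0 := by
      rw [map_sub]
      have := LinearMap.congr_fun hσ ((Submodule.span A (Set.range m)).mkQ x)
      simp only [LinearMap.comp_apply, LinearMap.id_apply] at this
      rw [this, sub_self]
    exact (Submodule.Quotient.mk_eq_zero _).1 h0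
  let retr : (Fin (N+1) → A) →ₗ[A] Submodule.span A (Set.range m) :=
    (LinearMap.id - σ ∘ₗ (Submodule.span A (Set.range m)).mkQ).codRestrict
      (Submodule.span A (Set.range m)) (fun x => by simpa using hmem x)
  let L : Fin s → ((Fin (N+1) → A) →ₗ[A] A) := fun i => (b.coord i) ∘ₗ retr
  refine ⟨fun i k => L i (fun j => if k = j then 1 else 0), fun i i' => ?_⟩
  have h1 : L i (m i') = ∑ k, m i' k • L i (fun j => if k = j then 1 else 0) :=
    LinearMap.pi_apply_eq_sum_univ (L i) (m i')
  have h2 : retr (m i') = b i' := by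
    apply Subtype.ext
    have hm : (Submodule.span A (Set.range m)).mkQ (m i') = 0 := by
      rw [← LinearMap.mem_ker, Submodule.ker_mkQ]
      exact Submodule.subset_span ⟨i', rfl⟩
    show ((LinearMap.id : (Fin (N+1) → A) →ₗ[A] (Fin (N+1) → A)) -
      σ ∘ₗ (Submodule.span A (Set.range m)).mkQ) (m i') = _
    rw [LinearMap.sub_apply, LinearMap.comp_apply, hm, map_zero, sub_zero, LinearMap.id_apply]
    exact (congrArg Subtype.val (Module.Basis.span_apply hli i')).symm
  have h3 : L i (m i') = if i = i' then 1 else 0 := by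
    show b.coord i (retr (m i')) = _
    rw [h2, Module.Basis.coord_apply, Module.Basis.repr_self, Finsupp.single_apply]
    simp only [eq_comm]
  rw [← h3, h1]
  refine Finset.sum_congr rfl fun k _ => ?_
  rw [smul_eq_mul, mul_comm]

section Main
variable (A : Type u) [CommRing A] (N s : ℕ) (m : Fin s → (Fin (N + 1) → A))

/-- the matrix `[C m; X]` -/
noncomputable def Mx : Matrix (Fin (s+1)) (Fin (N+1)) (MvPolynomial (Fin (N+1)) A) :=
  Matrix.of fun i k => Fin.snoc (α := fun _ => MvPolynomial (Fin (N + 1)) A)
    (fun i' : Fin s => C (m i' k)) (X k) i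

noncomputable def gen (c : Fin (s+1) → Fin (N+1)) : MvPolynomial (Fin (N+1)) A :=
  (Matrix.of fun (i : Fin (s + 1)) (j : Fin (s + 1)) =>
          (Fin.snoc (α := fun _ => MvPolynomial (Fin (N + 1)) A)
            (fun i' : Fin s => MvPolynomial.C (m i' (c j))) (MvPolynomial.X (c j)) i)).det

theorem gen_eq (c : Fin (s+1) → Fin (N+1)) :
    gen A N s m c = det ((Mx A N s m).submatrix id c) := rfl

noncomputable def phi : MvPolynomial (Fin (N+1)) A →ₐ[A] MvPolynomial (Fin s) A :=
  aeval (fun j : Fin (N + 1) => ∑ i : Fin s, C (m i j) * X i)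

theorem phi_gen (c : Fin (s+1) → Fin (N+1)) : phi A N s m (gen A N s m c) = 0 := by
  classical
  unfold gen
  rw [AlgHom.map_det]
  let B : Matrix (Fin (s+1)) (Fin (s+1)) (MvPolynomial (Fin s) A) :=
    Matrix.of fun i j => Fin.snoc (α := fun _ => MvPolynomial (Fin s) A)
      (fun i' : Fin s => C (m i' (c j))) 0 i
  let cc : Fin (s+1) → MvPolynomial (Fin s) A :=
    Fin.snoc (α := fun _ => MvPolynomial (Fin s) A) (fun a => X a) 0
  have h : (phi A N s m).mapMatrix (Matrix.of fun (i : Fin (s + 1)) (j : Fin (s + 1)) =>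
          (Fin.snoc (α := fun _ => MvPolynomial (Fin (N + 1)) A)
            (fun i' : Fin s => MvPolynomial.C (m i' (c j))) (MvPolynomial.X (c j)) i))
        = B.updateRow (Fin.last s) (∑ k, cc k • B k) := by
    refine Matrix.ext fun i j => ?_
    refine Fin.lastCases ?_ (fun a => ?_) i
    · rw [Matrix.updateRow_self]
      simp only [AlgHom.mapMatrix_apply, Matrix.map_apply, Matrix.of_apply, Fin.snoc_last,
        Finset.sum_apply, Pi.smul_apply, smul_eq_mul]
      rw [Fin.sum_univ_castSucc]
      simp only [B, cc, Matrix.of_apply, Fin.snoc_last, Fin.snoc_castSucc, mul_zero, add_zero]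
      simp only [phi, aeval_X]
      refine Finset.sum_congr rfl fun a _ => ?_
      rw [mul_comm]
    · rw [Matrix.updateRow_ne (Fin.castSucc_lt_last a).ne]
      simp only [AlgHom.mapMatrix_apply, Matrix.map_apply, Matrix.of_apply, Fin.snoc_castSucc, B]
      show phi A N s m (algebraMap A _ (m a (c j))) = algebraMap A _ (m a (c j))
      rw [AlgHom.commutes]
  rw [h, det_updateRow_sum]
  simp [cc]

theorem ell_mem (r : Fin s → Fin (N+1) → A)
    (hr : ∀ i i', ∑ k, r i k * m i' k = if i = i' then 1 else 0) (j : Fin (N+1)) :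
    (X j : MvPolynomial (Fin (N+1)) A) - ∑ k, ∑ b, X k * (C (m b j) * C (r b k)) ∈
      Ideal.span (Set.range (gen A N s m)) := by
  classical
  let Nx : Matrix (Fin (N+1)) (Fin (s+1)) (MvPolynomial (Fin (N+1)) A) :=
    Matrix.of fun k i => Fin.snoc (α := fun _ => MvPolynomial (Fin (N + 1)) A)
      (fun i' : Fin s => C (r i' k)) ((if k = j then 1 else 0) - ∑ b, C (m b j) * C (r b k)) i
  have h1 : det (Mx A N s m * Nx) ∈ Ideal.span (Set.range (gen A N s m)) := by
    rw [det_mul_rect]
    exact Ideal.sum_mem _ fun p _ => Ideal.mul_mem_left _ _ (Ideal.subset_span ⟨p, rfl⟩)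
  have e0 : ∀ a b : Fin s, ∑ k, C (m a k) * C (r b k) =
      (if b = a then 1 else 0 : MvPolynomial (Fin (N+1)) A) := by
    intro a b
    have : ∀ k, (C (m a k) * C (r b k) : MvPolynomial (Fin (N+1)) A) = C (r b k * m a k) := by
      intro k
      rw [← C_mul, mul_comm]
    simp_rw [this]
    rw [← map_sum, hr]
    split_ifs <;> simp
  have e1 : ∀ a b : Fin s, (Mx A N s m * Nx) (Fin.castSucc a) (Fin.castSucc b) =
      if b = a then 1 else 0 := by
    intro a b
    rw [Matrix.mul_apply, ← e0 a b]
    refine Finset.sum_congr rfl fun k _ => ?_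
    simp only [Mx, Nx, Matrix.of_apply, Fin.snoc_castSucc]
  have e2 : ∀ a : Fin s, (Mx A N s m * Nx) (Fin.castSucc a) (Fin.last s) = 0 := by
    intro a
    rw [Matrix.mul_apply]
    simp only [Mx, Nx, Matrix.of_apply, Fin.snoc_castSucc, Fin.snoc_last]
    simp only [mul_sub, Finset.sum_sub_distrib, mul_ite, mul_one, mul_zero,
      Finset.sum_ite_eq', Finset.mem_univ, if_true]
    have : ∑ k, C (m a k) * ∑ b, C (m b j) * C (r b k) =
        (C (m a j) : MvPolynomial (Fin (N+1)) A) := by
      simp_rw [Finset.mul_sum]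
      rw [Finset.sum_comm]
      have : ∀ b, ∑ k, C (m a k) * (C (m b j) * C (r b k)) =
          (C (m b j) * (if b = a then 1 else 0) : MvPolynomial (Fin (N+1)) A) := by
        intro b
        rw [← e0 a b, Finset.mul_sum]
        refine Finset.sum_congr rfl fun k _ => by ring
      simp_rw [this]
      simp
    rw [this, sub_self]
  have e3 : (Mx A N s m * Nx) (Fin.last s) (Fin.last s) =
      X j - ∑ k, ∑ b, X k * (C (m b j) * C (r b k)) := by
    rw [Matrix.mul_apply]
    simp only [Mx, Nx, Matrix.of_apply, Fin.snoc_last]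
    simp only [mul_sub, Finset.sum_sub_distrib, mul_ite, mul_one, mul_zero,
      Finset.sum_ite_eq', Finset.mem_univ, if_true, Finset.mul_sum]
  have hT : (Mx A N s m * Nx).BlockTriangular OrderDual.toDual := by
    intro i i' hii'
    have hlt : i < i' := hii'
    revert hlt
    refine Fin.lastCases ?_ (fun b => ?_) i'
    · refine Fin.lastCases ?_ (fun a => ?_) i
      · intro h; exact absurd h (lt_irrefl _)
      · intro _; exact e2 a
    · refine Fin.lastCases ?_ (fun a => ?_) i
      · intro h; exact absurd h (not_lt.2 (Fin.le_last _))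
      · intro h
        rw [e1, if_neg]
        rintro rfl
        exact lt_irrefl _ h
  have h2 : det (Mx A N s m * Nx) = X j - ∑ k, ∑ b, X k * (C (m b j) * C (r b k)) := by
    rw [det_of_isLowerTriangular _ hT, Fin.prod_univ_castSucc, e3]
    simp only [e1, if_true, Finset.prod_const_one, one_mul]
  rw [← h2]; exact h1

theorem main (hli : LinearIndependent A m)
    (hproj : Module.Projective A ((Fin (N + 1) → A) ⧸ Submodule.span A (Set.range m))) :
    RingHom.ker (MvPolynomial.aeval (R := A) (S₁ := MvPolynomial (Fin s) A)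
        (fun j : Fin (N + 1) => ∑ i : Fin s, MvPolynomial.C (m i j) * MvPolynomial.X i)) =
      Ideal.span (Set.range fun c : Fin (s + 1) → Fin (N + 1) =>
        (Matrix.of fun (i : Fin (s + 1)) (j : Fin (s + 1)) =>
          (Fin.snoc (α := fun _ => MvPolynomial (Fin (N + 1)) A)
            (fun i' : Fin s => MvPolynomial.C (m i' (c j))) (MvPolynomial.X (c j)) i)).det) := by
  classical
  obtain ⟨r, hr⟩ := exists_retraction A N s m hli hproj
  let ψ : MvPolynomial (Fin s) A →ₐ[A] MvPolynomial (Fin (N+1)) A :=
    aeval (fun i => ∑ k, C (r i k) * X k)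
  have hφψ : ∀ q, phi A N s m (ψ q) = q := by
    have : (phi A N s m).comp ψ = AlgHom.id A _ := by
      apply MvPolynomial.algHom_ext
      intro i
      simp only [AlgHom.comp_apply, AlgHom.id_apply, ψ, phi, aeval_X, map_sum, map_mul, aeval_C]
      have h1 : ∀ k, (algebraMap A (MvPolynomial (Fin s) A)) (r i k) *
          ∑ i' : Fin s, C (m i' k) * X i' = ∑ i' : Fin s, C (r i k * m i' k) * X i' := by
        intro k
        rw [Finset.mul_sum]
        refine Finset.sum_congr rfl fun i' _ => ?_
        rw [MvPolynomial.algebraMap_eq, C_mul]; ring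
      simp_rw [h1]
      rw [Finset.sum_comm]
      simp_rw [← Finset.sum_mul, ← map_sum, hr]
      simp
    intro q
    exact AlgHom.congr_fun this q
  have hker := ker_eq_span_of_section (phi A N s m) ψ hφψ
  show RingHom.ker (phi A N s m) = Ideal.span (Set.range (gen A N s m))
  apply le_antisymm
  · rw [hker, Ideal.span_le]
    rintro _ ⟨j, rfl⟩
    have h2 := ell_mem A N s m r hr j
    have h3 : ψ (phi A N s m (X j)) = ∑ k, ∑ b, X k * (C (m b j) * C (r b k)) := by
      simp only [phi, ψ, aeval_X, map_sum, map_mul, aeval_C]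
      rw [Finset.sum_comm]
      refine Finset.sum_congr rfl fun b _ => ?_
      rw [Finset.mul_sum]
      refine Finset.sum_congr rfl fun k _ => ?_
      rw [MvPolynomial.algebraMap_eq]; ring
    show _ - ψ (phi A N s m (X j)) ∈ _
    rw [h3]; exact h2
  · rw [Ideal.span_le]
    rintro _ ⟨c, rfl⟩
    exact phi_gen A N s m c

end Main

end Groth.Agent.Lib.Helper9.MaxMinors
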