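import Mathlib
import Groth.Agent.Lib.Helper9.MonoSoc

/-! Strongly stable ideals in three variables: `x ∈ I` iff two-negative pieces vanish (helper9). -/

set_option autoImplicit false
universe u
open MvPolynomial W4c1hilbpn
open Groth.Agent.Lib.Helper29.BddComp Groth.Agent.Lib.Helper29.TgtGraded
open Groth.Agent.Lib.Helper20.MonoIdeal (exps_of_le e3_zero e3_one e3_two)
open Groth.Agent.Lib.Helper9.MonoSoc

namespace Groth.Agent.Lib.Helper9.MonoSoc2

variable {k : Type u} [Field k] {n : ℕ} (I : Ideal (MvPolynomial (Fin n) k))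

/-- if `x_a ∈ I`, `α a < 0` and `α j < 0` for some `j ≠ a`, then `T_α = 0` -/
theorem tPiece_eq_bot_A (hI : IsMonomial I) (a : Fin n) (ha : Finsupp.single a 1 ∈ exps I)
    (α : Fin n → ℤ) (h0 : α a < 0) (j : Fin n) (hja : j ≠ a) (hj : α j < 0) :
    tPiece I α = ⊥ := by
  rw [eq_bot_iff]
  intro φ hφ
  rw [Submodule.mem_bot]
  apply hom_ext_mono I hI
  intro β hβ
  rw [LinearMap.zero_apply]
  by_cases hb : β a = 0
  · refine phi_eq_zero I α hφ β hβ ⟨a, ?_⟩
    show (β a : ℤ) + α a < 0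
    rw [hb]; simpa using h0
  · have hx0 : φ ⟨monomial (Finsupp.single a 1) 1, ha⟩ = 0 := by
      refine phi_eq_zero I α hφ _ ha ⟨j, ?_⟩
      show ((Finsupp.single a 1 : Fin n →₀ ℕ) j : ℤ) + α j < 0
      rw [Finsupp.single_apply, if_neg (fun h => hja h.symm)]
      simpa using hj
    have heq : (β - Finsupp.single a 1) + Finsupp.single a 1 = β := by
      ext i
      simp only [Finsupp.add_apply, Finsupp.tsub_apply, Finsupp.single_apply]
      by_cases h : a = i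
      · subst h; rw [if_pos rfl]; omega
      · rw [if_neg h]; omega
    have hmem2 : (β - Finsupp.single a 1) + Finsupp.single a 1 ∈ exps I := by
      rw [heq]; exact hβ
    have e : (⟨monomial ((β - Finsupp.single a 1) + Finsupp.single a 1) 1, hmem2⟩ : ↥I) =
        ⟨monomial β 1, hβ⟩ := Subtype.ext (by
      show monomial ((β - Finsupp.single a 1) + Finsupp.single a 1) (1 : k) = monomial β 1
      rw [heq])
    have h3 := phi_mono I φ (β - Finsupp.single a 1) (Finsupp.single a 1) ha hmem2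
    rw [e, hx0, smul_zero] at h3
    exact h3

/-- if `x_a ∈ I` and `α a ≥ 1` then `T_α = 0` -/
theorem tPiece_eq_bot_B (hI : IsMonomial I) (a : Fin n) (ha : Finsupp.single a 1 ∈ exps I)
    (α : Fin n → ℤ) (h0 : 1 ≤ α a) : tPiece I α = ⊥ := by
  rw [eq_bot_iff]
  intro φ hφ
  rw [Submodule.mem_bot]
  apply hom_ext_mono I hI
  intro β hβ
  rw [LinearMap.zero_apply]
  by_cases hnn : ∀ i, 0 ≤ toZ β α i
  · rw [phi_eq_co I α hφ β hβ hnn]
    have hmem : shift β α ∈ exps I := by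
      refine exps_of_le ha ?_
      intro i
      rw [Finsupp.single_apply]
      by_cases h : a = i
      · subst h
        rw [if_pos rfl]
        show 1 ≤ ((β a : ℤ) + α a).toNat
        omega
      · rw [if_neg h]; exact Nat.zero_le _
    rw [cls_eq_zero I hmem, smul_zero]
  · obtain ⟨i, hi⟩ := not_forall.mp hnn
    exact phi_eq_zero I α hφ β hβ ⟨i, not_le.mp hi⟩

section three
variable (J : Ideal (MvPolynomial (Fin 3) k))

theorem sigPiece_eq_bot_of_X0 (hJ : IsMonomial J) [Module.Finite k (MvPolynomial (Fin 3) k ⧸ J)]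
    (hx : (X 0 : MvPolynomial (Fin 3) k) ∈ J) :
    sigPiece J ({1, 2} : Set (Fin 3)) = ⊥ ∧ sigPiece J ({0, 2} : Set (Fin 3)) = ⊥ ∧
      sigPiece J ({0, 1} : Set (Fin 3)) = ⊥ := by
  have hx' : Finsupp.single (0 : Fin 3) 1 ∈ exps J := hx
  refine ⟨?_, ?_, ?_⟩
  · unfold sigPiece
    rw [iSup_eq_bot]
    rintro ⟨α, hα⟩
    show tPiece J α = ⊥
    have h1 : α 1 < 0 := (hα 1).mpr ((mem12 1).mpr (Or.inl rfl))
    have h2 : α 2 < 0 := (hα 2).mpr ((mem12 2).mpr (Or.inr rfl))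
    have h0 : ¬ α 0 < 0 := fun h => by
      have := (mem12 0).mp ((hα 0).mp h)
      rcases this with h | h <;> exact absurd h (by decide)
    by_cases h00 : α 0 = 0
    · refine tPiece_eq_bot_of_two_neg J hJ α 1 2 (by decide) h1 h2 ?_
      intro i
      fin_cases i
      · exact le_of_eq h00
      · exact le_of_lt h1
      · exact le_of_lt h2
    · exact tPiece_eq_bot_B J hJ 0 hx' α (by omega)
  · unfold sigPiece
    rw [iSup_eq_bot]
    rintro ⟨α, hα⟩
    show tPiece J α = ⊥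
    have h0 : α 0 < 0 := (hα 0).mpr ((mem02 0).mpr (Or.inl rfl))
    have h2 : α 2 < 0 := (hα 2).mpr ((mem02 2).mpr (Or.inr rfl))
    exact tPiece_eq_bot_A J hJ 0 hx' α h0 2 (by decide) h2
  · unfold sigPiece
    rw [iSup_eq_bot]
    rintro ⟨α, hα⟩
    show tPiece J α = ⊥
    have h0 : α 0 < 0 := (hα 0).mpr ((mem01 0).mpr (Or.inl rfl))
    have h1 : α 1 < 0 := (hα 1).mpr ((mem01 1).mpr (Or.inr rfl))
    exact tPiece_eq_bot_A J hJ 0 hx' α h0 1 (by decide) h1

theorem e3_apply0 (a b c : ℕ) : (e3 a b c : Fin 3 →₀ ℕ) 0 = a := e3_zero a b c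
theorem e3_apply1 (a b c : ℕ) : (e3 a b c : Fin 3 →₀ ℕ) 1 = b := e3_one a b c
theorem e3_apply2 (a b c : ℕ) : (e3 a b c : Fin 3 →₀ ℕ) 2 = c := e3_two a b c

theorem stab02 (hst : ∀ β ∈ exps J, ∀ i j : Fin 3, i < j → 0 < β j →
      β - Finsupp.single j 1 + Finsupp.single i 1 ∈ exps J) (a b c : ℕ)
    (h : e3 a b (c + 1) ∈ exps J) : e3 (a + 1) b c ∈ exps J := by
  have h1 := hst _ h 0 2 (by decide) (by rw [e3_two]; exact Nat.succ_pos _)
  have e : (e3 a b (c + 1) - Finsupp.single 2 1 + Finsupp.single 0 1 : Fin 3 →₀ ℕ) =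
      e3 (a + 1) b c := by
    apply eq_e3
    · simp [e3_apply0]
    · simp [e3_apply1]
    · simp [e3_apply2]
  rwa [e] at h1

theorem stab12 (hst : ∀ β ∈ exps J, ∀ i j : Fin 3, i < j → 0 < β j →
      β - Finsupp.single j 1 + Finsupp.single i 1 ∈ exps J) (a b c : ℕ)
    (h : e3 a b (c + 1) ∈ exps J) : e3 a (b + 1) c ∈ exps J := by
  have h1 := hst _ h 1 2 (by decide) (by rw [e3_two]; exact Nat.succ_pos _)
  have e : (e3 a b (c + 1) - Finsupp.single 2 1 + Finsupp.single 1 1 : Fin 3 →₀ ℕ) =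
      e3 a (b + 1) c := by
    apply eq_e3
    · simp [e3_apply0]
    · simp [e3_apply1]
    · simp [e3_apply2]
  rwa [e] at h1

theorem stab01 (hst : ∀ β ∈ exps J, ∀ i j : Fin 3, i < j → 0 < β j →
      β - Finsupp.single j 1 + Finsupp.single i 1 ∈ exps J) (a b c : ℕ)
    (h : e3 a (b + 1) c ∈ exps J) : e3 (a + 1) b c ∈ exps J := by
  have h1 := hst _ h 0 1 (by decide) (by rw [e3_one]; exact Nat.succ_pos _)
  have e : (e3 a (b + 1) c - Finsupp.single 1 1 + Finsupp.single 0 1 : Fin 3 →₀ ℕ) =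
      e3 (a + 1) b c := by
    apply eq_e3
    · simp [e3_apply0]
    · simp [e3_apply1]
    · simp [e3_apply2]
  rwa [e] at h1

theorem sigPiece_ne_bot_of_stable (hJ : IsStronglyStable J)
    [Module.Finite k (MvPolynomial (Fin 3) k ⧸ J)]
    (hx : (X 0 : MvPolynomial (Fin 3) k) ∉ J) : sigPiece J ({0, 1} : Set (Fin 3)) ≠ ⊥ := by
  classical
  obtain ⟨hmon, hst⟩ := hJ
  have ex0 : (Finsupp.single (0 : Fin 3) 1 : Fin 3 →₀ ℕ) = e3 1 0 0 := by
    apply eq_e3 <;> simp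
  have hx' : e3 1 0 0 ∉ exps J := by
    rw [← ex0]; exact hx
  have hzero : e3 0 0 0 ∉ exps J := fun h => hx' (exps_of_le h
    ((e3_le_iff _ _ _ _).mpr ⟨Nat.zero_le _, Nat.zero_le _, Nat.zero_le _⟩))
  -- power of z
  have hexz : ∃ N, e3 0 0 N ∈ exps J := by
    obtain ⟨N, hN⟩ := exists_add_mem J hmon (0 : Fin 3 →₀ ℕ) 2
    have e : (Finsupp.single (2 : Fin 3) N + 0 : Fin 3 →₀ ℕ) = e3 0 0 N := by
      apply eq_e3 <;> simp
    exact ⟨N, by rwa [e] at hN⟩
  have hM0 : Nat.find hexz ≠ 0 := by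
    intro h0
    have h1 := Nat.find_spec hexz
    rw [h0] at h1
    exact hzero h1
  obtain ⟨M', hM'⟩ := Nat.exists_eq_succ_of_ne_zero hM0
  have hzin : e3 0 0 (M' + 1) ∈ exps J := by
    have h1 := Nat.find_spec hexz
    rw [hM'] at h1
    exact h1
  have hzout : e3 0 0 M' ∉ exps J :=
    Nat.find_min hexz (by rw [hM']; exact Nat.lt_succ_self _)
  -- power of y
  have hexy : ∃ N, e3 0 N 0 ∈ exps J := by
    obtain ⟨N, hN⟩ := exists_add_mem J hmon (0 : Fin 3 →₀ ℕ) 1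
    have e : (Finsupp.single (1 : Fin 3) N + 0 : Fin 3 →₀ ℕ) = e3 0 N 0 := by
      apply eq_e3 <;> simp
    exact ⟨N, by rwa [e] at hN⟩
  obtain ⟨Y, hY⟩ := hexy
  have hY0 : Y ≠ 0 := by
    rintro rfl
    exact hzero hY
  obtain ⟨Y', rfl⟩ := Nat.exists_eq_succ_of_ne_zero hY0
  have hexv : ∃ v, e3 1 v 0 ∈ exps J := ⟨Y', stab01 J hst 0 Y' 0 hY⟩
  have hv0 : Nat.find hexv ≠ 0 := by
    intro h0
    have h1 := Nat.find_spec hexv
    rw [h0] at h1
    exact hx' h1
  obtain ⟨v', hv'⟩ := Nat.exists_eq_succ_of_ne_zero hv0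
  have hgin : e3 1 (v' + 1) 0 ∈ exps J := by
    have h1 := Nat.find_spec hexv
    rw [hv'] at h1
    exact h1
  have hgout : e3 1 v' 0 ∉ exps J :=
    Nat.find_min hexv (by rw [hv']; exact Nat.lt_succ_self _)
  have hyout : e3 0 (v' + 1) 0 ∉ exps J := fun h => hgout (stab01 J hst 0 v' 0 h)
  refine sigPiece_ne_bot_of_socle J hmon (e3 1 (v' + 1) 0) (e3 0 0 M') hgin
    (min_e3 J 1 (v' + 1) 0 (fun _ => hyout) (fun _ => hgout) (fun h => absurd h (lt_irrefl 0)))
    hzout ?_ _ ?_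
  · -- socle
    intro i
    fin_cases i
    · have e : (Finsupp.single (0 : Fin 3) 1 + e3 0 0 M' : Fin 3 →₀ ℕ) = e3 1 0 M' := by
        apply eq_e3
        · simp [e3_apply0]
        · simp [e3_apply1]
        · simp [e3_apply2]
      show Finsupp.single (0 : Fin 3) 1 + e3 0 0 M' ∈ exps J
      rw [e]; exact stab02 J hst 0 0 M' hzin
    · have e : (Finsupp.single (1 : Fin 3) 1 + e3 0 0 M' : Fin 3 →₀ ℕ) = e3 0 1 M' := by
        apply eq_e3
        · simp [e3_apply0]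
        · simp [e3_apply1]
        · simp [e3_apply2]
      show Finsupp.single (1 : Fin 3) 1 + e3 0 0 M' ∈ exps J
      rw [e]; exact stab12 J hst 0 0 M' hzin
    · have e : (Finsupp.single (2 : Fin 3) 1 + e3 0 0 M' : Fin 3 →₀ ℕ) = e3 0 0 (M' + 1) := by
        apply eq_e3
        · simp [e3_apply0]
        · simp [e3_apply1]
        · simp [e3_apply2]; omega
      show Finsupp.single (2 : Fin 3) 1 + e3 0 0 M' ∈ exps J
      rw [e]; exact hzin
  · -- sign pattern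
    intro i
    rw [mem01]
    fin_cases i
    · show ((e3 0 0 M' 0 : ℕ) : ℤ) - (e3 1 (v' + 1) 0 0 : ℕ) < 0 ↔ _
      rw [e3_zero, e3_zero]
      exact ⟨fun _ => Or.inl rfl, fun _ => by omega⟩
    · show ((e3 0 0 M' 1 : ℕ) : ℤ) - (e3 1 (v' + 1) 0 1 : ℕ) < 0 ↔ _
      rw [e3_one, e3_one]
      exact ⟨fun _ => Or.inr rfl, fun _ => by omega⟩
    · show ((e3 0 0 M' 2 : ℕ) : ℤ) - (e3 1 (v' + 1) 0 2 : ℕ) < 0 ↔ _
      rw [e3_two, e3_two]
      constructor
      · intro h; omega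
      · rintro (h | h) <;> exact absurd h (by decide)

theorem main13439 (hJ : IsStronglyStable J) [Module.Finite k (MvPolynomial (Fin 3) k ⧸ J)] :
    (MvPolynomial.X 0 : MvPolynomial (Fin 3) k) ∈ J ↔
      (sigPiece J ({1, 2} : Set (Fin 3)) = ⊥ ∧ sigPiece J ({0, 2} : Set (Fin 3)) = ⊥ ∧
        sigPiece J ({0, 1} : Set (Fin 3)) = ⊥) := by
  constructor
  · exact sigPiece_eq_bot_of_X0 J hJ.1
  · intro h
    by_contra hx
    exact sigPiece_ne_bot_of_stable J hJ hx h.2.2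

end three

end Groth.Agent.Lib.Helper9.MonoSoc2
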