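import Mathlib

/-!
# Cancellation for semisimple modules (helper9)

* `cancel_simple`: `T × Y ≃ T × Z` with `T` simple implies `Y ≃ Z` (no hypothesis on `Y`, `Z`).
* `cancel_pi_simple`: the same for `Fin m → T`.
* `pow_cancel`: for semisimple modules `M`, `N` over a `k`-algebra `R`, `M` finite-dimensional
  over `k`, `Mⁿ ≃ Nⁿ` with `n > 0` implies `M ≃ N`.
-/

set_option autoImplicit false
set_option linter.style.haveILetI false
set_option linter.unusedSectionVars false

universe u v₁ v₂ v₃ u₀

namespace Groth.Agent.Lib.Helper9.NDA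

open Module

section CancelSimple

variable {R : Type u} [Ring R]
variable {T : Type v₁} {Y : Type v₂} {Z : Type v₃}
  [AddCommGroup T] [Module R T] [AddCommGroup Y] [Module R Y] [AddCommGroup Z] [Module R Z]

theorem pair_eq {A B : Type*} [AddCommGroup A] [AddCommGroup B] (t : A) (y : B) :
    (t, y) = (t, (0 : B)) + ((0 : A), y) := by
  simp

theorem cancel_of_bijective (e : (T × Y) ≃ₗ[R] (T × Z))
    (hα : Function.Bijective (fun t : T => (e (t, 0)).1)) : Nonempty (Y ≃ₗ[R] Z) := by
  let α : T →ₗ[R] T := (LinearMap.fst R T Z).comp (e.toLinearMap.comp (LinearMap.inl R T Y))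
  let αe : T ≃ₗ[R] T := LinearEquiv.ofBijective α hα
  let β : Y →ₗ[R] T := (LinearMap.fst R T Z).comp (e.toLinearMap.comp (LinearMap.inr R T Y))
  let γ : T →ₗ[R] Z := (LinearMap.snd R T Z).comp (e.toLinearMap.comp (LinearMap.inl R T Y))
  let δ : Y →ₗ[R] Z := (LinearMap.snd R T Z).comp (e.toLinearMap.comp (LinearMap.inr R T Y))
  let α' : T →ₗ[R] T :=
    (LinearMap.fst R T Y).comp (e.symm.toLinearMap.comp (LinearMap.inl R T Z))
  let β' : Z →ₗ[R] T :=
    (LinearMap.fst R T Y).comp (e.symm.toLinearMap.comp (LinearMap.inr R T Z))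
  let γ' : T →ₗ[R] Y :=
    (LinearMap.snd R T Y).comp (e.symm.toLinearMap.comp (LinearMap.inl R T Z))
  let δ' : Z →ₗ[R] Y :=
    (LinearMap.snd R T Y).comp (e.symm.toLinearMap.comp (LinearMap.inr R T Z))
  have he : ∀ t y, e (t, y) = (α t + β y, γ t + δ y) := by
    intro t y
    rw [pair_eq t y, map_add]
    rfl
  have he' : ∀ t z, e.symm (t, z) = (α' t + β' z, γ' t + δ' z) := by
    intro t z
    rw [pair_eq t z, map_add]
    rfl
  have hαe : ∀ t, αe.symm (α t) = t := fun t => αe.symm_apply_apply t
  -- identities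
  have I1 : ∀ z, α (β' z) + β (δ' z) = 0 ∧ γ (β' z) + δ (δ' z) = z := by
    intro z
    have h := e.apply_symm_apply ((0 : T), z)
    rw [he' 0 z, he] at h
    simp only [map_zero, zero_add] at h
    exact ⟨congrArg Prod.fst h, congrArg Prod.snd h⟩
  have I2 : ∀ y, γ' (β y) + δ' (δ y) = y := by
    intro y
    have h := e.symm_apply_apply ((0 : T), y)
    rw [he 0 y, he'] at h
    simp only [map_zero, zero_add] at h
    exact congrArg Prod.snd h
  have I3 : ∀ t, γ' (α t) + δ' (γ t) = 0 := by
    intro t
    have h := e.symm_apply_apply (t, (0 : Y))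
    rw [he t 0, he'] at h
    simp only [map_zero, add_zero] at h
    exact congrArg Prod.snd h
  let f : Y →ₗ[R] Z := δ - γ.comp (αe.symm.toLinearMap.comp β)
  refine ⟨LinearEquiv.ofLinear f δ' ?_ ?_⟩
  · apply LinearMap.ext
    intro z
    obtain ⟨h1, h2⟩ := I1 z
    have h3 : β (δ' z) = α (- β' z) := by
      rw [map_neg]
      exact eq_neg_of_add_eq_zero_right h1
    change δ (δ' z) - γ (αe.symm (β (δ' z))) = z
    rw [h3, hαe, map_neg, sub_neg_eq_add, add_comm]
    exact h2
  · apply LinearMap.ext
    intro y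
    change δ' (δ y - γ (αe.symm (β y))) = y
    have h3 : δ' (γ (αe.symm (β y))) = - γ' (β y) := by
      have := I3 (αe.symm (β y))
      have h4 : α (αe.symm (β y)) = β y := αe.apply_symm_apply (β y)
      rw [h4] at this
      exact eq_neg_of_add_eq_zero_right this
    rw [map_sub, h3, sub_neg_eq_add, add_comm]
    exact I2 y

/-- Cancellation of a simple module: `T × Y ≃ T × Z` implies `Y ≃ Z`. -/
theorem cancel_simple [IsSimpleModule R T] (e : (T × Y) ≃ₗ[R] (T × Z)) :
    Nonempty (Y ≃ₗ[R] Z) := by
  let α : T →ₗ[R] T := (LinearMap.fst R T Z).comp (e.toLinearMap.comp (LinearMap.inl R T Y))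
  rcases LinearMap.bijective_or_eq_zero α with h | h
  · exact cancel_of_bijective e h
  · let β' : Z →ₗ[R] T :=
      (LinearMap.fst R T Y).comp (e.symm.toLinearMap.comp (LinearMap.inr R T Z))
    let sh : (T × Z) ≃ₗ[R] (T × Z) :=
      LinearEquiv.ofLinear
        (LinearMap.prod (LinearMap.fst R T Z + β'.comp (LinearMap.snd R T Z)) (LinearMap.snd R T Z))
        (LinearMap.prod (LinearMap.fst R T Z - β'.comp (LinearMap.snd R T Z)) (LinearMap.snd R T Z))
        (by
          apply LinearMap.ext
          intro p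
          simp [LinearMap.prod_apply])
        (by
          apply LinearMap.ext
          intro p
          simp [LinearMap.prod_apply])
    apply cancel_of_bijective (e.trans sh)
    have hid : (fun t : T => ((e.trans sh) (t, 0)).1) = id := by
      funext t
      have h0 : (e (t, 0)).1 = 0 := by
        have := LinearMap.congr_fun h t
        exact this
      have h1 : e (t, 0) = ((0 : T), (e (t, 0)).2) := by
        apply Prod.ext
        · exact h0
        · rfl
      change (e (t, 0)).1 + β' (e (t, 0)).2 = t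
      rw [h0, zero_add]
      change (e.symm ((0 : T), (e (t, 0)).2)).1 = t
      rw [← h1, e.symm_apply_apply]
    rw [hid]
    exact Function.bijective_id

/-- Cancellation of a finite power of a simple module. -/
theorem cancel_pi_simple [IsSimpleModule R T] :
    ∀ (m : ℕ) (_ : ((Fin m → T) × Y) ≃ₗ[R] ((Fin m → T) × Z)), Nonempty (Y ≃ₗ[R] Z) := by
  intro m
  induction m with
  | zero =>
    intro e
    exact ⟨(LinearEquiv.uniqueProd (R := R) (M := Y) (M₂ := Fin 0 → T)).symm.trans
      (e.trans (LinearEquiv.uniqueProd (R := R) (M := Z) (M₂ := Fin 0 → T)))⟩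
  | succ m ih =>
    intro e
    let c : (T × (Fin m → T)) ≃ₗ[R] (Fin (m + 1) → T) :=
      Fin.consLinearEquiv R (fun _ : Fin (m + 1) => T)
    -- (T × ((Fin m → T) × Y)) ≃ (T × ((Fin m → T) × Z))
    have e1 : (T × ((Fin m → T) × Y)) ≃ₗ[R] (T × ((Fin m → T) × Z)) :=
      (LinearEquiv.prodAssoc R T (Fin m → T) Y).symm.trans
        ((LinearEquiv.prodCongr c (LinearEquiv.refl R Y)).trans
          (e.trans ((LinearEquiv.prodCongr c (LinearEquiv.refl R Z)).symm.trans
            (LinearEquiv.prodAssoc R T (Fin m → T) Z))))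
    obtain ⟨e2⟩ := cancel_simple e1
    exact ih e2

end CancelSimple

section PiProd

variable {R : Type u} [Ring R] {ι : Type*}
variable {T : Type v₁} {Y : Type v₂} [AddCommGroup T] [Module R T] [AddCommGroup Y] [Module R Y]

/-- `(ι → T × Y) ≃ (ι → T) × (ι → Y)`. -/
def piProd : (ι → T × Y) ≃ₗ[R] ((ι → T) × (ι → Y)) where
  toFun f := (fun i => (f i).1, fun i => (f i).2)
  invFun p := fun i => (p.1 i, p.2 i)
  map_add' _ _ := rfl
  map_smul' _ _ := rfl
  left_inv _ := rfl
  right_inv _ := rfl

end PiProd

section PowCancel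

variable {k : Type u₀} [Field k] {R : Type u} [Ring R] [Algebra k R]

/-- For semisimple modules, `Mⁿ ≃ Nⁿ` (`n > 0`) implies `M ≃ N`. -/
theorem pow_cancel_aux : ∀ (d : ℕ) (M : Type v₁) (N : Type v₂)
    [AddCommGroup M] [Module R M] [Module k M] [IsScalarTower k R M] [Module.Finite k M]
    [IsSemisimpleModule R M] [AddCommGroup N] [Module R N] [IsSemisimpleModule R N]
    (n : ℕ) (_ : 0 < n) (_ : finrank k M = d) (_ : (Fin n → M) ≃ₗ[R] (Fin n → N)),
    Nonempty (M ≃ₗ[R] N) := by
  intro d
  induction d using Nat.strong_induction_on with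
  | _ d ih =>
  intro M N _ _ _ _ _ _ _ _ _ n hn hd e
  by_cases hM : Subsingleton M
  · -- both are trivial
    have hN : Subsingleton N := by
      constructor
      intro x y
      have h1 : (e.symm (fun _ => x)) = e.symm (fun _ => y) := Subsingleton.elim _ _
      have h2 := e.symm.injective h1
      exact congrFun h2 ⟨0, hn⟩
    exact ⟨LinearEquiv.ofSubsingleton M N⟩
  · rw [not_subsingleton_iff_nontrivial] at hM
    -- pick a simple submodule
    obtain ⟨T, hT⟩ : ∃ T : Submodule R M, IsAtom T := by
      rcases eq_bot_or_exists_atom_le (⊤ : Submodule R M) with h | ⟨T, hT, _⟩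
      · exact absurd h top_ne_bot
      · exact ⟨T, hT⟩
    haveI : IsSimpleModule R T := isSimpleModule_iff_isAtom.mpr hT
    haveI : Nontrivial T := IsSimpleModule.nontrivial R T
    obtain ⟨M', hM'⟩ := exists_isCompl T
    let eM : (T × M') ≃ₗ[R] M := Submodule.prodEquivOfIsCompl T M' hM'
    -- embed T in N
    let i₀ : Fin n := ⟨0, hn⟩
    let f : T →ₗ[R] (Fin n → N) :=
      e.toLinearMap.comp ((LinearMap.single R (fun _ : Fin n => M) i₀).comp T.subtype)
    have hf : Function.Injective f := by
      intro x y hxy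
      have h1 := e.injective hxy
      have h2 := congrFun h1 i₀
      simp only [LinearMap.comp_apply, LinearMap.single_apply, Pi.single_eq_same,
        Submodule.subtype_apply] at h2
      exact Subtype.ext h2
    have hne : ∃ i, (LinearMap.proj i).comp f ≠ (0 : T →ₗ[R] N) := by
      by_contra hcon
      push Not at hcon
      have hf0 : f = 0 := by
        apply LinearMap.ext
        intro x
        funext i
        exact LinearMap.congr_fun (hcon i) x
      obtain ⟨x, hx⟩ := exists_ne (0 : T)
      apply hx
      apply hf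
      rw [hf0, LinearMap.zero_apply, LinearMap.zero_apply]
    obtain ⟨i, hi⟩ := hne
    let g : T →ₗ[R] N := (LinearMap.proj i).comp f
    have hg : Function.Injective g := LinearMap.injective_of_ne_zero hi
    let eT : T ≃ₗ[R] LinearMap.range g := LinearEquiv.ofInjective g hg
    obtain ⟨N', hN'⟩ := exists_isCompl (LinearMap.range g)
    let eN : (T × N') ≃ₗ[R] N :=
      (LinearEquiv.prodCongr eT (LinearEquiv.refl R N')).trans
        (Submodule.prodEquivOfIsCompl (LinearMap.range g) N' hN')
    -- the big equivalence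
    let E : ((Fin n → T) × (Fin n → M')) ≃ₗ[R] ((Fin n → T) × (Fin n → N')) :=
      (piProd (R := R) (ι := Fin n) (T := T) (Y := M')).symm.trans
        ((LinearEquiv.piCongrRight (fun _ : Fin n => eM)).trans
          (e.trans ((LinearEquiv.piCongrRight (fun _ : Fin n => eN.symm)).trans
            (piProd (R := R) (ι := Fin n) (T := T) (Y := N')))))
    obtain ⟨E'⟩ := cancel_pi_simple n E
    -- dimensions
    haveI : Module.Finite k M' :=
      Module.Finite.of_injective (M'.subtype.restrictScalars k) M'.injective_subtype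
    haveI : Module.Finite k T :=
      Module.Finite.of_injective (T.subtype.restrictScalars k) T.injective_subtype
    have hdim : finrank k M' < d := by
      have h1 : finrank k (T × M') = finrank k M := LinearEquiv.finrank_eq (eM.restrictScalars k)
      rw [Module.finrank_prod] at h1
      have h2 : 0 < finrank k T := Module.finrank_pos
      omega
    obtain ⟨e3⟩ := ih (finrank k M') hdim M' N' n hn rfl E'
    exact ⟨eM.symm.trans ((LinearEquiv.prodCongr (LinearEquiv.refl R T) e3).trans eN)⟩

theorem pow_cancel (M : Type v₁) (N : Type v₂)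
    [AddCommGroup M] [Module R M] [Module k M] [IsScalarTower k R M] [Module.Finite k M]
    [IsSemisimpleModule R M] [AddCommGroup N] [Module R N] [IsSemisimpleModule R N]
    (n : ℕ) (hn : 0 < n) (e : (Fin n → M) ≃ₗ[R] (Fin n → N)) :
    Nonempty (M ≃ₗ[R] N) :=
  pow_cancel_aux (k := k) (finrank k M) M N n hn rfl e

end PowCancel

end Groth.Agent.Lib.Helper9.NDA
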