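import Groth.Agent.Lib.Helper9.NDA

/-!
# `Vⁿ ≃ Rⁿ` implies `V` cyclic, over a finite-dimensional algebra (helper9)

Passing to the quotient by the Jacobson radical, the semisimple cancellation of `NDA`, and
Nakayama's lemma.
-/

set_option autoImplicit false
set_option linter.style.haveILetI false
set_option linter.unusedSectionVars false

universe u v v' u₀

namespace Groth.Agent.Lib.Helper9.NDB

open Module

section Top

variable {R : Type u} [Ring R]
variable {X : Type v} {Y : Type v'} [AddCommGroup X] [Module R X] [AddCommGroup Y] [Module R Y]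

/-- A linear equivalence induces one on the quotients by `J • ⊤`. -/
noncomputable def topCongr (e : X ≃ₗ[R] Y) :
    (X ⧸ (Ring.jacobson R • (⊤ : Submodule R X))) ≃ₗ[R]
      (Y ⧸ (Ring.jacobson R • (⊤ : Submodule R Y))) :=
  Submodule.Quotient.equiv _ _ e (by
    rw [Submodule.map_smul'', Submodule.map_top, LinearEquiv.range])

variable (R X) in
/-- The coordinatewise projection `(Fin n → X) → (Fin n → X ⧸ J • ⊤)`. -/
noncomputable def piMk (n : ℕ) :
    (Fin n → X) →ₗ[R] (Fin n → X ⧸ (Ring.jacobson R • (⊤ : Submodule R X))) :=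
  LinearMap.pi fun i => (Submodule.mkQ _).comp (LinearMap.proj i)

theorem piMk_apply (n : ℕ) (f : Fin n → X) (i : Fin n) :
    piMk R X n f i = Submodule.Quotient.mk (f i) := rfl

theorem piMk_surjective (n : ℕ) : Function.Surjective (piMk R X n) := by
  intro g
  have h : ∀ i, ∃ x : X, Submodule.Quotient.mk x = g i :=
    fun i => Submodule.Quotient.mk_surjective _ (g i)
  choose f hf using h
  exact ⟨f, funext fun i => by rw [piMk_apply, hf]⟩

theorem ker_piMk (n : ℕ) :
    LinearMap.ker (piMk R X n) = Ring.jacobson R • (⊤ : Submodule R (Fin n → X)) := by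
  apply le_antisymm
  · intro f hf
    rw [LinearMap.mem_ker] at hf
    have hfi : ∀ i, f i ∈ Ring.jacobson R • (⊤ : Submodule R X) := by
      intro i
      have := congrFun hf i
      rw [piMk_apply, Pi.zero_apply, Submodule.Quotient.mk_eq_zero] at this
      exact this
    have hsum : f = ∑ i, Pi.single i (f i) := (Finset.univ_sum_single f).symm
    rw [hsum]
    apply Submodule.sum_mem
    intro i _
    have hmap : Submodule.map (LinearMap.single R (fun _ : Fin n => X) i)
        (Ring.jacobson R • (⊤ : Submodule R X)) ≤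
        Ring.jacobson R • (⊤ : Submodule R (Fin n → X)) := by
      rw [Submodule.map_smul'']
      exact Submodule.smul_mono le_rfl le_top
    exact hmap ⟨f i, hfi i, rfl⟩
  · rw [Submodule.smul_le]
    intro r hr f _
    rw [LinearMap.mem_ker, map_smul]
    funext i
    rw [Pi.smul_apply, piMk_apply, Pi.zero_apply, ← Submodule.Quotient.mk_smul,
      Submodule.Quotient.mk_eq_zero]
    exact Submodule.smul_mem_smul hr trivial

variable (R X) in
/-- `(Fin n → X) ⧸ J • ⊤ ≃ (Fin n → X ⧸ J • ⊤)`. -/
noncomputable def topPi (n : ℕ) :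
    ((Fin n → X) ⧸ (Ring.jacobson R • (⊤ : Submodule R (Fin n → X)))) ≃ₗ[R]
      (Fin n → X ⧸ (Ring.jacobson R • (⊤ : Submodule R X))) :=
  (Submodule.quotEquivOfEq _ _ (ker_piMk n).symm).trans
    (LinearMap.quotKerEquivOfSurjective (piMk R X n) (piMk_surjective n))

variable (R X) in
theorem isSemisimple_top [IsArtinianRing R] :
    IsSemisimpleModule R (X ⧸ (Ring.jacobson R • (⊤ : Submodule R X))) := by
  have h : Module.IsTorsionBySet R (X ⧸ (Ring.jacobson R • (⊤ : Submodule R X)))
      (Ring.jacobson R) := Module.isTorsionBySet_quotient_ideal_smul X (Ring.jacobson R)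
  rw [← h.isSemisimpleModule_iff]
  infer_instance

/-- Nakayama: if `N ⊔ J • ⊤ = ⊤` with `X` finitely generated then `N = ⊤`. -/
theorem eq_top_of_sup_jacobson_smul_eq_top [Module.Finite R X] (N : Submodule R X)
    (h : N ⊔ Ring.jacobson R • (⊤ : Submodule R X) = ⊤) : N = ⊤ := by
  have hfg : (⊤ : Submodule R (X ⧸ N)).FG := Module.Finite.fg_top
  have hle : (⊤ : Submodule R (X ⧸ N)) ≤ Ring.jacobson R • (⊤ : Submodule R (X ⧸ N)) := by
    intro q _
    obtain ⟨w, rfl⟩ := Submodule.Quotient.mk_surjective N q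
    have hw : w ∈ N ⊔ Ring.jacobson R • (⊤ : Submodule R X) := by rw [h]; trivial
    obtain ⟨a, ha, b, hb, rfl⟩ := Submodule.mem_sup.mp hw
    have hmap : Submodule.map N.mkQ (Ring.jacobson R • (⊤ : Submodule R X)) =
        Ring.jacobson R • (⊤ : Submodule R (X ⧸ N)) := by
      rw [Submodule.map_smul'', Submodule.map_top, Submodule.range_mkQ]
    rw [← hmap]
    refine ⟨b, hb, ?_⟩
    rw [Submodule.mkQ_apply, Submodule.Quotient.mk_add, (Submodule.Quotient.mk_eq_zero N).mpr ha,
      zero_add]
  have hbot := Submodule.FG.eq_bot_of_le_jacobson_smul hfg hle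
  rw [eq_top_iff]
  intro w _
  have : (Submodule.Quotient.mk w : X ⧸ N) ∈ (⊤ : Submodule R (X ⧸ N)) := trivial
  rw [hbot, Submodule.mem_bot, Submodule.Quotient.mk_eq_zero] at this
  exact this

end Top

section Main

variable {k : Type u₀} [Field k] {R : Type u} [Ring R] [Algebra k R] [Module.Finite k R]

/-- If `Vⁿ ≃ Rⁿ` (`n > 0`) over a finite-dimensional algebra `R`, then `V` is cyclic. -/
theorem cyclic_of_pow_equiv (V : Type v) [AddCommGroup V] [Module R V] [Module k V]
    [IsScalarTower k R V] [Module.Finite k V]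
    (n : ℕ) (hn : 0 < n) (e : (Fin n → V) ≃ₗ[R] (Fin n → R)) :
    ∃ v : V, Submodule.span R {v} = ⊤ := by
  haveI : IsArtinianRing R := IsArtinianRing.of_finite k R
  haveI : Module.Finite R V := Module.Finite.of_restrictScalars_finite k R V
  haveI := isSemisimple_top R V
  haveI := isSemisimple_top R R
  haveI : Module.Finite k (V ⧸ (Ring.jacobson R • (⊤ : Submodule R V))) := by
    refine Module.Finite.of_surjective
      ((Submodule.mkQ (Ring.jacobson R • (⊤ : Submodule R V))).restrictScalars k) ?_
    intro q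
    obtain ⟨x, rfl⟩ := Submodule.Quotient.mk_surjective _ q
    exact ⟨x, rfl⟩
  let E : (Fin n → V ⧸ (Ring.jacobson R • (⊤ : Submodule R V))) ≃ₗ[R]
      (Fin n → R ⧸ (Ring.jacobson R • (⊤ : Submodule R R))) :=
    (topPi R V n).symm.trans ((topCongr e).trans (topPi R R n))
  obtain ⟨φ⟩ := NDA.pow_cancel (k := k) (V ⧸ (Ring.jacobson R • (⊤ : Submodule R V)))
    (R ⧸ (Ring.jacobson R • (⊤ : Submodule R R))) n hn E
  obtain ⟨v, hv⟩ := Submodule.Quotient.mk_surjective _
    (φ.symm (Submodule.Quotient.mk (1 : R)))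
  refine ⟨v, eq_top_of_sup_jacobson_smul_eq_top _ ?_⟩
  rw [eq_top_iff]
  intro w _
  obtain ⟨r, hr⟩ := Submodule.Quotient.mk_surjective _ (φ (Submodule.Quotient.mk w))
  have h1 : (Submodule.Quotient.mk w : V ⧸ (Ring.jacobson R • (⊤ : Submodule R V))) =
      Submodule.Quotient.mk (r • v) := by
    have h2 : (Submodule.Quotient.mk r : R ⧸ (Ring.jacobson R • (⊤ : Submodule R R))) =
        r • Submodule.Quotient.mk (1 : R) := by
      have h4 : r • (1 : R) = r := by rw [smul_eq_mul, mul_one]
      rw [← Submodule.Quotient.mk_smul, h4]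
    rw [Submodule.Quotient.mk_smul, hv, ← map_smul, ← h2, hr, φ.symm_apply_apply]
  rw [Submodule.Quotient.eq] at h1
  have h3 : w = r • v + (w - r • v) := by abel
  rw [h3]
  exact Submodule.add_mem_sup (Submodule.smul_mem _ r (Submodule.mem_span_singleton_self v)) h1

end Main

end Groth.Agent.Lib.Helper9.NDB
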