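import Groth.Agent.Lib.Helper9.NDB
import Groth.Agent.Lib.Helper24.GalDescent4

/-!
# Generalised Hilbert 90: `H¹(Gal(K/k), (K ⊗ A)ˣ) = 1` (helper9)

For a cocycle `a`, the twisted invariants `V₀ = {x | σ(x) a(σ)⁻¹ = x}` form a left `A`-submodule
of `K ⊗ A` with `K ⊗ V₀ ≃ K ⊗ A` (Galois descent, helper24's `GalDescent4`), hence `V₀ⁿ ≃ Aⁿ`
as `A`-modules; by `NDB.cyclic_of_pow_equiv`, `V₀` is cyclic, and a generator is a unit `c` with
`a σ = c⁻¹ σ(c)`.
-/

set_option autoImplicit false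
set_option linter.style.haveILetI false
set_option linter.unusedSectionVars false

universe u v w w'

open scoped TensorProduct

namespace Groth.Agent.Lib.Helper9.NDC

open Module GalDesc

section Basic

variable {k : Type u} [Field k] {K : Type v} [Field K] [Algebra k K]
variable {A : Type w} [Ring A] [Algebra k A]

theorem gsmul_mul (σ : K ≃ₐ[k] K) (x y : K ⊗[k] A) : σ • (x * y) = σ • x * σ • y := by
  rw [CSAGal.smul_eq_map, CSAGal.smul_eq_map, CSAGal.smul_eq_map, map_mul]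

theorem gsmul_one (σ : K ≃ₐ[k] K) : σ • (1 : K ⊗[k] A) = 1 := by
  rw [CSAGal.smul_eq_map, map_one]

theorem gsmul_one_tmul (σ : K ≃ₐ[k] K) (a : A) :
    σ • ((1 : K) ⊗ₜ[k] a) = (1 : K) ⊗ₜ[k] a := by
  rw [CSAGal.smul_eq_map, Algebra.TensorProduct.map_tmul]
  simp

variable (k K A) in
/-- `A` acts on `K ⊗ A` by left multiplication by `1 ⊗ a`. -/
@[reducible] noncomputable def modA : Module A (K ⊗[k] A) :=
  Module.compHom (K ⊗[k] A) (Algebra.TensorProduct.includeRight : A →ₐ[k] K ⊗[k] A).toRingHom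

attribute [local instance] modA

theorem smulA_def (a : A) (x : K ⊗[k] A) : a • x = ((1 : K) ⊗ₜ[k] a) * x := rfl

instance towerA : IsScalarTower k A (K ⊗[k] A) :=
  ⟨fun c a x => by
    rw [smulA_def, smulA_def, TensorProduct.tmul_smul, smul_mul_assoc]⟩

/-- Right multiplication by the inverse of a unit, as a `K`-linear automorphism. -/
noncomputable def rmul (u : (K ⊗[k] A)ˣ) : (K ⊗[k] A) ≃ₗ[K] (K ⊗[k] A) where
  toFun x := x * ((u⁻¹ : (K ⊗[k] A)ˣ) : K ⊗[k] A)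
  invFun x := x * (u : K ⊗[k] A)
  map_add' x y := add_mul x y _
  map_smul' c x := smul_mul_assoc c x _
  left_inv x := by
    change x * ((u⁻¹ : (K ⊗[k] A)ˣ) : K ⊗[k] A) * (u : K ⊗[k] A) = x
    rw [Units.inv_mul_cancel_right]
  right_inv x := by
    change x * (u : K ⊗[k] A) * ((u⁻¹ : (K ⊗[k] A)ˣ) : K ⊗[k] A) = x
    rw [Units.mul_inv_cancel_right]

theorem rmul_apply (u : (K ⊗[k] A)ˣ) (x : K ⊗[k] A) :
    rmul u x = x * ((u⁻¹ : (K ⊗[k] A)ˣ) : K ⊗[k] A) := rfl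

variable (a : (K ≃ₐ[k] K) → (K ⊗[k] A)ˣ)

theorem inv_cocycle
    (ha : ∀ σ τ, ((a (σ * τ) : (K ⊗[k] A)ˣ) : K ⊗[k] A) = (a σ : K ⊗[k] A) * σ • (a τ : K ⊗[k] A))
    (σ τ : K ≃ₐ[k] K) :
    (((a (σ * τ))⁻¹ : (K ⊗[k] A)ˣ) : K ⊗[k] A) =
      σ • (((a τ)⁻¹ : (K ⊗[k] A)ˣ) : K ⊗[k] A) * (((a σ)⁻¹ : (K ⊗[k] A)ˣ) : K ⊗[k] A) := by
  apply Units.inv_eq_of_mul_eq_one_right
  rw [ha σ τ, mul_assoc, ← mul_assoc (σ • (a τ : K ⊗[k] A)), ← gsmul_mul, Units.mul_inv,
    gsmul_one, one_mul, Units.mul_inv]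

/-- The cocycle of right multiplications attached to a cocycle of units. -/
noncomputable def rcocycle
    (ha : ∀ σ τ, ((a (σ * τ) : (K ⊗[k] A)ˣ) : K ⊗[k] A) = (a σ : K ⊗[k] A) * σ • (a τ : K ⊗[k] A)) :
    GpH1.OneCocycle (K ≃ₐ[k] K) ((K ⊗[k] A) ≃ₗ[K] (K ⊗[k] A)) :=
  ⟨fun σ => rmul (a σ), by
    intro σ τ
    apply LinearEquiv.ext
    intro x
    rw [LinearEquiv.mul_apply, conj_smul_apply, rmul_apply, rmul_apply, rmul_apply,
      inv_cocycle a ha, gsmul_mul, smul_inv_smul, mul_assoc]⟩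

theorem rcocycle_apply
    (ha : ∀ σ τ, ((a (σ * τ) : (K ⊗[k] A)ˣ) : K ⊗[k] A) = (a σ : K ⊗[k] A) * σ • (a τ : K ⊗[k] A))
    (σ : K ≃ₐ[k] K) (x : K ⊗[k] A) :
    (rcocycle a ha) σ x = x * (((a σ)⁻¹ : (K ⊗[k] A)ˣ) : K ⊗[k] A) := rfl

/-- The twisted invariants, as an `A`-submodule. -/
def fixA : Submodule A (K ⊗[k] A) where
  carrier := {x | ∀ σ : K ≃ₐ[k] K, σ • x * (((a σ)⁻¹ : (K ⊗[k] A)ˣ) : K ⊗[k] A) = x}
  zero_mem' := fun σ => by rw [smul_zero, zero_mul]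
  add_mem' := by
    intro x y hx hy σ
    rw [smul_add, add_mul, hx σ, hy σ]
  smul_mem' := by
    intro c x hx σ
    rw [smulA_def, gsmul_mul, gsmul_one_tmul, mul_assoc, hx σ]

theorem mem_fixA (x : K ⊗[k] A) :
    x ∈ fixA a ↔ ∀ σ : K ≃ₐ[k] K, σ • x * (((a σ)⁻¹ : (K ⊗[k] A)ˣ) : K ⊗[k] A) = x := Iff.rfl

theorem mem_fixA_iff
    (ha : ∀ σ τ, ((a (σ * τ) : (K ⊗[k] A)ˣ) : K ⊗[k] A) = (a σ : K ⊗[k] A) * σ • (a τ : K ⊗[k] A))
    (x : K ⊗[k] A) : x ∈ fixA a ↔ x ∈ fixedSub (rcocycle a ha) := Iff.rfl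

end Basic

section Theta

variable {k : Type u} [Field k] {K : Type v} [Field K] [Algebra k K]
variable {n : ℕ} (b : Basis (Fin n) k K) (W : Type w') [AddCommGroup W] [Module k W]

/-- `(Fin n → W) ≃ K ⊗ W` from a basis of `K`. -/
noncomputable def theta : (Fin n → W) ≃ₗ[k] K ⊗[k] W :=
  (Finsupp.linearEquivFunOnFinite k W (Fin n)).symm.trans
    (TensorProduct.equivFinsuppOfBasisLeft b).symm

theorem theta_apply (v : Fin n → W) : theta b W v = ∑ i, b i ⊗ₜ[k] v i := by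
  unfold theta
  rw [LinearEquiv.trans_apply, TensorProduct.equivFinsuppOfBasisLeft_symm_apply,
    Finsupp.sum_fintype _ _ (by simp)]
  rfl

end Theta

section Main

variable {k : Type u} [Field k] {K : Type v} [Field K] [Algebra k K]
variable {A : Type w} [Ring A] [Algebra k A]

attribute [local instance] modA

variable [FiniteDimensional k K] [IsGalois k K]

/-- `(Fin n → A) → K ⊗ A`, `x ↦ ∑ bᵢ ⊗ xᵢ`, as an `A`-linear map. -/
noncomputable def phiA {n : ℕ} (b : Basis (Fin n) k K) : (Fin n → A) →ₗ[A] (K ⊗[k] A) where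
  toFun x := ∑ i, b i ⊗ₜ[k] x i
  map_add' x y := by
    simp only [Pi.add_apply, TensorProduct.tmul_add, Finset.sum_add_distrib]
  map_smul' c x := by
    simp only [Pi.smul_apply, RingHom.id_apply, smulA_def, Finset.mul_sum,
      Algebra.TensorProduct.tmul_mul_tmul, one_mul, smul_eq_mul]

theorem phiA_bijective {n : ℕ} (b : Basis (Fin n) k K) :
    Function.Bijective (phiA (A := A) b) := by
  have h : ∀ x, phiA (A := A) b x = theta b A x := by
    intro x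
    rw [theta_apply]
    rfl
  have h2 : (phiA (A := A) b : (Fin n → A) → K ⊗[k] A) = theta b A := funext h
  rw [h2]
  exact (theta b A).bijective

variable (a : (K ≃ₐ[k] K) → (K ⊗[k] A)ˣ)

/-- `(Fin n → V₀) → K ⊗ A`, `v ↦ ∑ bᵢ • vᵢ`, as an `A`-linear map. -/
noncomputable def phiV {n : ℕ} (b : Basis (Fin n) k K) :
    (Fin n → fixA a) →ₗ[A] (K ⊗[k] A) where
  toFun v := ∑ i, b i • (v i : K ⊗[k] A)
  map_add' x y := by
    simp only [Pi.add_apply, Submodule.coe_add, smul_add, Finset.sum_add_distrib]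
  map_smul' c x := by
    simp only [Pi.smul_apply, RingHom.id_apply, Submodule.coe_smul, smulA_def, Finset.mul_sum,
      mul_smul_comm]

theorem phiV_bijective
    (ha : ∀ σ τ, ((a (σ * τ) : (K ⊗[k] A)ˣ) : K ⊗[k] A) = (a σ : K ⊗[k] A) * σ • (a τ : K ⊗[k] A))
    {n : ℕ} (b : Basis (Fin n) k K) :
    Function.Bijective (phiV a b) := by
  let W : Submodule k (K ⊗[k] A) := fixedSub (rcocycle a ha)
  have hL : Function.Bijective (W.subtype.liftBaseChange K) :=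
    Groth.Agent.Lib.Helper24.liftBaseChange_bijective (rcocycle a ha) W.subtype
      W.injective_subtype (Submodule.range_subtype W)
  -- identify `Fin n → fixA a` with `Fin n → W`
  let toW : (Fin n → fixA a) → (Fin n → W) := fun v i => ⟨(v i : K ⊗[k] A), (v i).2⟩
  have hform : ∀ v, phiV a b v = W.subtype.liftBaseChange K (theta b W (toW v)) := by
    intro v
    rw [theta_apply, map_sum]
    change ∑ i, b i • (v i : K ⊗[k] A) = _
    apply Finset.sum_congr rfl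
    intro i _
    rw [LinearMap.liftBaseChange_tmul]
    rfl
  constructor
  · intro v v' hvv
    rw [hform, hform] at hvv
    have h1 := (theta b W).injective (hL.1 hvv)
    funext i
    have h2 := congrFun h1 i
    apply Subtype.ext
    exact congrArg Subtype.val h2
  · intro x
    obtain ⟨y, rfl⟩ := hL.2 x
    obtain ⟨f, rfl⟩ := (theta b W).surjective y
    refine ⟨fun i => ⟨(f i : K ⊗[k] A), (f i).2⟩, ?_⟩
    rw [hform]

variable [FiniteDimensional k A]

/-- **Generalised Hilbert 90**, in terms of the underlying elements. -/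
theorem exists_unit_of_cocycle
    (ha : ∀ σ τ, ((a (σ * τ) : (K ⊗[k] A)ˣ) : K ⊗[k] A) = (a σ : K ⊗[k] A) * σ • (a τ : K ⊗[k] A)) :
    ∃ c : (K ⊗[k] A)ˣ, ∀ σ : K ≃ₐ[k] K,
      σ • (c : K ⊗[k] A) = (c : K ⊗[k] A) * (a σ : K ⊗[k] A) := by
  let n := finrank k K
  let b : Basis (Fin n) k K := Module.finBasis k K
  have hn : 0 < n := Module.finrank_pos
  let eV : (Fin n → fixA a) ≃ₗ[A] (K ⊗[k] A) :=
    LinearEquiv.ofBijective (phiV a b) (phiV_bijective a ha b)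
  let eA : (Fin n → A) ≃ₗ[A] (K ⊗[k] A) :=
    LinearEquiv.ofBijective (phiA b) (phiA_bijective b)
  haveI : Module.Finite k (fixA a) :=
    Module.Finite.of_injective ((fixA a).subtype.restrictScalars k) (fixA a).injective_subtype
  obtain ⟨v, hv⟩ := NDB.cyclic_of_pow_equiv (k := k) (R := A) (fixA a) n hn (eV.trans eA.symm)
  -- `1` is in the image of `eV`
  obtain ⟨w, hw⟩ := eV.surjective (1 : K ⊗[k] A)
  have hwi : ∀ i, ∃ r : A, r • v = w i := by
    intro i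
    have : w i ∈ Submodule.span A {v} := by rw [hv]; trivial
    exact Submodule.mem_span_singleton.mp this
  choose r hr using hwi
  have hleft : (∑ i, b i • ((1 : K) ⊗ₜ[k] r i)) * (v : K ⊗[k] A) = 1 := by
    rw [← hw]
    change _ = ∑ i, b i • (w i : K ⊗[k] A)
    rw [Finset.sum_mul]
    apply Finset.sum_congr rfl
    intro i _
    rw [← hr i, Submodule.coe_smul, smulA_def, smul_mul_assoc]
  haveI : IsArtinianRing (K ⊗[k] A) := IsArtinianRing.of_finite K (K ⊗[k] A)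
  have hright : (v : K ⊗[k] A) * (∑ i, b i • ((1 : K) ⊗ₜ[k] r i)) = 1 := mul_eq_one_symm hleft
  refine ⟨⟨(v : K ⊗[k] A), _, hright, hleft⟩, ?_⟩
  intro σ
  have hmem := (mem_fixA a (v : K ⊗[k] A)).mp v.2 σ
  change σ • (v : K ⊗[k] A) = (v : K ⊗[k] A) * (a σ : K ⊗[k] A)
  rw [← hmem, mul_assoc, Units.inv_mul, mul_one, hmem]

end Main

end Groth.Agent.Lib.Helper9.NDC
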