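import Groth.Agent.Lib.Helper9.RelBridge2
import Groth.Agent.Lib.Helper2.Aff.AffQis
import Groth.Agent.Lib.Helper18.DRRel5

/-!
# `n`-pseudo-coherent morphisms of schemes in terms of ring maps (helper9)

`DerSch.IsNPseudoCoherent f n` (the structure sheaf is `n`-pseudo-coherent relative to `f`, chart
form) holds iff for every affine pair `U ≤ f⁻¹V` the ring `Γ(X, U)` is `n`-pseudo-coherent relative
to `Γ(S, V)` as a module over itself.
-/

set_option autoImplicit false
set_option linter.style.haveILetI false
universe u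
open CategoryTheory CategoryTheory.Limits AlgebraicGeometry Opposite TopologicalSpace
open AlgebraicGeometry.Scheme.Modules
open Groth.Agent.Lib.Helper18.DR Groth.Agent.Lib.Helper9.PCM

attribute [local instance] HasDerivedCategory.standard
attribute [local instance] Groth.Agent.Lib.Helper14.preservesFiniteLimits_tilde

namespace Groth.Agent.Lib.Helper9.RelBridge

local notation "cc" => ComplexShape.up ℤ

variable {X S : Scheme.{u}}

/-- the structure sheaf in degree `0` has quasi-coherent cohomology -/
theorem isQCohD_unit (X : Scheme.{u}) : DCoh.IsQCohD (DCoh.toD X (DerSch.unitCx X)) := by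
  apply Groth.Agent.Lib.Helper2.Aff.AffPush.isQCohD_Q_of_qcoh
  intro n
  by_cases hn : n = 0
  · subst hn
    exact Groth.Agent.Lib.Helper2.Aff.isQCoh_of_iso
      (HomologicalComplex.singleObjXSelf cc 0 (Coh.structureModule X)).symm
      (inferInstanceAs (Coh.structureModule X).IsQuasicoherent)
  · exact Groth.Agent.Lib.Helper3.QCOpen.isQuasicoherent_of_isZero
      (HomologicalComplex.isZero_single_obj_X cc 0 (Coh.structureModule X) n hn)

/-- the ring itself is a model of the structure sheaf -/
theorem isModel_unit {U : X.Opens} (hU : IsAffineOpen U) :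
    IsModel hU (DCoh.toD X (DerSch.unitCx X)) (Dual.inD Γ(X, U) Γ(X, U)) := by
  let e1 := ((tilde.functor Γ(X, U)).mapDerivedCategorySingleFunctor 0).app
    (ModuleCat.of Γ(X, U) Γ(X, U))
  let e2 : (DerivedCategory.singleFunctor (Spec Γ(X, U)).Modules 0).obj
        ((tilde.functor Γ(X, U)).obj (ModuleCat.of Γ(X, U) Γ(X, U))) ≅
      (DerivedCategory.singleFunctor (Spec Γ(X, U)).Modules 0).obj
        ((restrictFunctor hU.fromSpec).obj (Coh.structureModule X)) :=
    (DerivedCategory.singleFunctor (Spec Γ(X, U)).Modules 0).mapIso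
      (restrictUnitIso hU.fromSpec).symm
  let e3 := (((restrictFunctor hU.fromSpec).mapDerivedCategorySingleFunctor 0).app
    (Coh.structureModule X)).symm
  let e4 := (DCoh.restrictD hU.fromSpec).mapIso
    ((DerivedCategory.singleFunctorIsoCompQ X.Modules 0).app (Coh.structureModule X))
  exact ⟨e1 ≪≫ e2 ≪≫ e3 ≪≫ e4⟩

/-- the ring map `φ : R → A` is `n`-pseudo-coherent: `A` is `n`-pseudo-coherent relative to `R`
as a module over itself -/
def NPCHom (n : ℤ) {R A : Type u} [CommRing R] [CommRing A] (φ : R →+* A) : Prop :=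
  letI := φ.toAlgebra
  DerCA.IsRelPseudoCoherent R A n (Dual.inD A A)

theorem relPCOn_unit_iff (f : X ⟶ S) (n : ℤ) {U : X.Opens} (hU : IsAffineOpen U) (V : S.Opens)
    (h : U ≤ f ⁻¹ᵁ V) :
    RelPCOn f (DCoh.toD X (DerSch.unitCx X)) n hU V h ↔ NPCHom n (f.appLE V U h).hom := by
  constructor
  · intro hrel
    exact hrel _ (isModel_unit hU)
  · intro hn M hM
    obtain ⟨i⟩ := IsModel.iso hU (isModel_unit hU) hM
    letI := (f.appLE V U h).hom.toAlgebra
    exact relPC_of_iso i hn

/-- **`n`-pseudo-coherent morphisms, affine-locally** -/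
theorem npcHom_of_isNPseudoCoherent (f : X ⟶ S) (n : ℤ) (hf : DerSch.IsNPseudoCoherent f n)
    {U : X.Opens} (hU : IsAffineOpen U) {V : S.Opens} (hV : IsAffineOpen V) (h : U ≤ f ⁻¹ᵁ V) :
    NPCHom n (f.appLE V U h).hom :=
  (relPCOn_unit_iff f n hU V h).1
    (relPCOn_of_isPseudoCoherentRel (isQCohD_unit X) hf hU hV h)

theorem isNPseudoCoherent_of_npcHom (f : X ⟶ S) [LocallyOfFiniteType f] (n : ℤ)
    (H : ∀ (U : X.affineOpens) (V : S.affineOpens) (h : (U : X.Opens) ≤ f ⁻¹ᵁ (V : S.Opens)),
      NPCHom n (f.appLE (V : S.Opens) (U : X.Opens) h).hom) :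
    DerSch.IsNPseudoCoherent f n :=
  isPseudoCoherentRel_of_relPCOn (isQCohD_unit X)
    (fun U V h => (relPCOn_unit_iff f n U.2 (V : S.Opens) h).2 (H U V h))

theorem isNPseudoCoherent_iff (f : X ⟶ S) [LocallyOfFiniteType f] (n : ℤ) :
    DerSch.IsNPseudoCoherent f n ↔
      ∀ (U : X.affineOpens) (V : S.affineOpens) (h : (U : X.Opens) ≤ f ⁻¹ᵁ (V : S.Opens)),
        NPCHom n (f.appLE (V : S.Opens) (U : X.Opens) h).hom :=
  ⟨fun hf U V h => npcHom_of_isNPseudoCoherent f n hf U.2 V.2 h,
    isNPseudoCoherent_of_npcHom f n⟩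

/-! ### the case `n = -1`: finite presentation -/

section fp

variable {R A : Type u} [CommRing R] [CommRing A] [Algebra R A]

theorem finitePresentation_iff_module {n : ℕ} (α : MvPolynomial (Fin n) R →ₐ[R] A)
    (hα : Function.Surjective α) :
    @Module.FinitePresentation (MvPolynomial (Fin n) R) A _ _ (Module.compHom A α.toRingHom) ↔
      Algebra.FinitePresentation R A := by
  letI : Module (MvPolynomial (Fin n) R) A := Module.compHom A α.toRingHom
  let l : MvPolynomial (Fin n) R →ₗ[MvPolynomial (Fin n) R] A :=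
    { toFun := fun p => α p
      map_add' := fun p q => map_add α p q
      map_smul' := fun p q => by
        change α (p * q) = α p * α q
        exact map_mul α p q }
  have hl : Function.Surjective l := hα
  have hker : ∀ p, p ∈ LinearMap.ker l ↔ p ∈ RingHom.ker (α : MvPolynomial (Fin n) R →+* A) :=
    fun p => Iff.rfl
  have hkk : (LinearMap.ker l).FG ↔ (RingHom.ker (α : MvPolynomial (Fin n) R →+* A)).FG := by
    have : LinearMap.ker l = RingHom.ker (α : MvPolynomial (Fin n) R →+* A) :=
      Submodule.ext hker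
    rw [this]
    exact Iff.rfl
  constructor
  · intro h
    have h1 : (LinearMap.ker l).FG := Module.FinitePresentation.fg_ker l hl
    exact Algebra.FinitePresentation.of_surjective hα (hkk.1 h1)
  · intro h
    have h1 : (RingHom.ker (α : MvPolynomial (Fin n) R →+* A)).FG :=
      Algebra.FinitePresentation.ker_fG_of_surjective α hα
    exact Module.finitePresentation_of_free_of_surjective l hl (hkk.2 h1)

theorem npcHom_negOne_iff {R A : Type u} [CommRing R] [CommRing A] (φ : R →+* A)
    (hφ : φ.FiniteType) : NPCHom (-1) φ ↔ φ.FinitePresentation := by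
  letI := φ.toAlgebra
  haveI : Algebra.FiniteType R A := hφ
  obtain ⟨n, α, hα⟩ := exists_presentation (R := R) (A := A)
  have h1 := (relPCModule_zero_neg_one α hα A).2
  exact h1.trans (finitePresentation_iff_module α hα)

end fp

end Groth.Agent.Lib.Helper9.RelBridge
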