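import Mathlib
import Groth.Agent.Lib.Helper9.PerfMor

/-!
# fpqc descent of pseudo-coherent and perfect morphisms (helper9)
-/

set_option autoImplicit false
set_option linter.style.haveILetI false
universe u
open CategoryTheory CategoryTheory.Limits AlgebraicGeometry TensorProduct MorphismProperty
open Groth.Agent.Lib.Helper18.DR

attribute [local instance] HasDerivedCategory.standard

namespace Groth.Agent.Lib.Helper9.PCM

/-! ### ring level -/

section bcdesc

attribute [local instance] Algebra.TensorProduct.rightAlgebra MvPolynomial.algebraMvPolynomial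

variable {R R' A : Type u} [CommRing R] [CommRing R'] [CommRing A] [Algebra R R'] [Algebra R A]

/-- faithfully flat descent of pseudo-coherent algebras -/
theorem PCAlg.of_tensorProduct_faithfullyFlat [Module.FaithfullyFlat R R']
    (h : PCAlg R' (R' ⊗[R] A)) : PCAlg R A := by
  haveI : Algebra.FiniteType R' (R' ⊗[R] A) := h.finiteType
  haveI hft : Algebra.FiniteType R A :=
    Algebra.FiniteType.of_finiteType_tensorProduct_of_faithfullyFlat R'
  obtain ⟨n, ψ, hψ⟩ := Algebra.FiniteType.iff_quotient_mvPolynomial''.1 hft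
  letI algPA : Algebra (MvPolynomial (Fin n) R) A := ψ.toRingHom.toAlgebra
  letI algP'A' : Algebra (MvPolynomial (Fin n) R') (R' ⊗[R] A) :=
    (psiBC R R' A n ψ).toRingHom.toAlgebra
  letI algPA' : Algebra (MvPolynomial (Fin n) R) (R' ⊗[R] A) :=
    ((algebraMap A (R' ⊗[R] A)).comp (algebraMap (MvPolynomial (Fin n) R) A)).toAlgebra
  haveI t1 : IsScalarTower (MvPolynomial (Fin n) R) A (R' ⊗[R] A) :=
    IsScalarTower.of_algebraMap_eq (fun _ => rfl)
  haveI t2 : IsScalarTower (MvPolynomial (Fin n) R) (MvPolynomial (Fin n) R') (R' ⊗[R] A) :=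
    IsScalarTower.of_algebraMap_eq (fun p => (psiBC_map R R' A n ψ p).symm)
  haveI t3 : IsScalarTower R (MvPolynomial (Fin n) R) A :=
    IsScalarTower.of_algebraMap_eq (fun r => (ψ.commutes r).symm)
  haveI t4 : IsScalarTower R' (MvPolynomial (Fin n) R') (R' ⊗[R] A) :=
    IsScalarTower.of_algebraMap_eq (fun r => ((psiBC R R' A n ψ).commutes r).symm)
  haveI t5 : IsScalarTower R (MvPolynomial (Fin n) R') (R' ⊗[R] A) :=
    IsScalarTower.of_algebraMap_eq (fun r => by
      rw [IsScalarTower.algebraMap_apply R R' (R' ⊗[R] A),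
        IsScalarTower.algebraMap_apply R R' (MvPolynomial (Fin n) R'),
        ← IsScalarTower.algebraMap_apply R' (MvPolynomial (Fin n) R') (R' ⊗[R] A)])
  have hpo : Algebra.IsPushout (MvPolynomial (Fin n) R) A (MvPolynomial (Fin n) R') (R' ⊗[R] A) :=
    (Algebra.IsPushout.comp_iff R (MvPolynomial (Fin n) R) R' (MvPolynomial (Fin n) R')
      (T := A) (T' := R' ⊗[R] A)).1 inferInstance
  haveI hpo' : Algebra.IsPushout (MvPolynomial (Fin n) R) (MvPolynomial (Fin n) R') A
      (R' ⊗[R] A) := hpo.symm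
  haveI : Module.Flat (MvPolynomial (Fin n) R) (MvPolynomial (Fin n) R') :=
    Fbc.flat_of_isPushout R (MvPolynomial (Fin n) R) R' (MvPolynomial (Fin n) R')
  haveI : Module.Flat A (R' ⊗[R] A) := Fbc.flat_of_isPushout R A R' (R' ⊗[R] A)
  haveI hff : Module.FaithfullyFlat (MvPolynomial (Fin n) R) (MvPolynomial (Fin n) R') :=
    Module.FaithfullyFlat.of_linearEquiv _ (MvPolynomial (Fin n) R ⊗[R] R')
      (Algebra.IsPushout.equiv R (MvPolynomial (Fin n) R) R'
        (MvPolynomial (Fin n) R')).symm.toLinearEquiv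
  rw [pcAlg_iff_via ψ hψ]
  have hpc' := (pcAlg_iff_via (psiBC R R' A n ψ) (psiBC_surjective R R' A n ψ hψ)).1 h
  intro m
  refine isPseudoCoherent_of_iso (restrictDSgIso _ 0 (ModuleCat.of A A)) ?_
  show DRing.IsPseudoCoherent (MvPolynomial (Fin n) R) m
      ((DRing.restrictD (algebraMap (MvPolynomial (Fin n) R) A)).obj (Dual.inD A A))
  refine (descFam_of_faithfullyFlat (MvPolynomial (Fin n) R)
    (MvPolynomial (Fin n) R')).isPseudoCoherent m _ (fun _ => ?_)
  have h5 : DRing.IsPseudoCoherent (MvPolynomial (Fin n) R') m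
      ((DRing.restrictD (algebraMap (MvPolynomial (Fin n) R') (R' ⊗[R] A))).obj
        (Dual.inD (R' ⊗[R] A) (R' ⊗[R] A))) :=
    isPseudoCoherent_of_iso
      (restrictDSgIso _ 0 (ModuleCat.of (R' ⊗[R] A) (R' ⊗[R] A))).symm (hpc' m)
  have h4 := isPseudoCoherent_of_iso
    ((DRing.restrictD (algebraMap (MvPolynomial (Fin n) R') (R' ⊗[R] A))).mapIso
      (extDInDSelfIso A (R' ⊗[R] A))).symm h5
  exact isPseudoCoherent_of_iso
    ((Fbc.betaIso (MvPolynomial (Fin n) R) A (MvPolynomial (Fin n) R') (R' ⊗[R] A)).app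
      (Dual.inD A A)) h4

end bcdesc

theorem pcRingHom_codescendsAlong_faithfullyFlat :
    RingHom.CodescendsAlong @PCRingHom RingHom.FaithfullyFlat := by
  refine .mk _ pcRingHom_respectsIso fun R S T _ _ _ _ _ h h' => ?_
  rw [pcRingHom_algebraMap] at h' ⊢
  rw [RingHom.faithfullyFlat_algebraMap_iff] at h
  exact PCAlg.of_tensorProduct_faithfullyFlat h'

theorem ftd_codescendsAlong_faithfullyFlat :
    RingHom.CodescendsAlong @FTDRingHom RingHom.FaithfullyFlat := by
  refine .mk _ ftd_isLocal.respectsIso fun R S T _ _ _ _ _ h h' => ?_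
  rw [ftdRingHom_algebraMap] at h' ⊢
  rw [RingHom.faithfullyFlat_algebraMap_iff] at h
  obtain ⟨d, hd⟩ := h'
  refine ⟨d, (hasTorDimLE_iff_hasTorAmplitudeIn_single R T d).1.2 ?_⟩
  refine (descFam_of_faithfullyFlat R S).hasTorAmplitudeIn (Dual.inD R T) (-(d : ℤ)) 0
    (fun _ => ?_)
  exact hasTorAmplitudeIn_of_iso (extDInDIso (A := R) (B := S) T).symm
    ((hasTorDimLE_iff_hasTorAmplitudeIn_single S (S ⊗[R] T) d).1.1 hd)

theorem perfRingHom_codescendsAlong_faithfullyFlat :
    RingHom.CodescendsAlong @PerfRingHom RingHom.FaithfullyFlat :=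
  pcRingHom_codescendsAlong_faithfullyFlat.and ftd_codescendsAlong_faithfullyFlat

/-! ### scheme level -/

section descent

variable {P : MorphismProperty Scheme.{u}}
  {Q : ∀ {R S : Type u} [CommRing R] [CommRing S], (R →+* S) → Prop}

/-- `P` is stable under flat base change -/
def StableUnderFlatBaseChange (P : MorphismProperty Scheme.{u}) : Prop :=
  ∀ ⦃X S X' S' : Scheme.{u}⦄ ⦃f : X ⟶ S⦄ ⦃f' : X' ⟶ S'⦄ ⦃g' : X' ⟶ X⦄ ⦃g : S' ⟶ S⦄,
    Flat g → IsPullback g' f' f g → P f → P f'

set_option backward.isDefEq.respectTransparency.types false in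
/-- variant of Mathlib's `HasRingHomProperty.descendsAlong_flat` for properties that are only
stable under flat base change -/
theorem descendsAlong_fpqc_of_flatBaseChange [HasRingHomProperty P Q]
    (hbc : StableUnderFlatBaseChange P)
    (hQ : RingHom.CodescendsAlong Q RingHom.FaithfullyFlat) :
    P.DescendsAlong (@Surjective ⊓ @Flat ⊓ @QuasiCompact) := by
  apply IsZariskiLocalAtTarget.descendsAlong
  intro R X Y f g hf h
  wlog hX : ∃ T, X = Spec T generalizing X with H
  · have _ : CompactSpace X := by simpa [← quasiCompact_iff_compactSpace f] using hf.2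
    obtain ⟨Y', p, hsurj, hP', hY'⟩ :=
      X.exists_hom_isAffine_of_isZariskiLocalAtSource @IsLocalIso
    haveI hflatp : Flat p := IsLocalIso.le_of_isZariskiLocalAtSource @Flat _ _ _ hP'
    haveI := hsurj
    haveI : Surjective f := hf.1.1
    haveI : Flat f := hf.1.2
    refine H (f := (Y'.isoSpec.inv ≫ p) ≫ f) ⟨⟨inferInstance, inferInstance⟩, inferInstance⟩
      ?_ ⟨_, rfl⟩
    rw [← pullbackRightPullbackFstIso_inv_fst f g _, P.cancel_left_of_respectsIso]
    exact hbc (inferInstance : Flat (Y'.isoSpec.inv ≫ p)) (IsPullback.of_hasPullback _ _).flip h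
  obtain ⟨T, rfl⟩ := hX
  obtain ⟨φ, rfl⟩ := Spec.map_surjective f
  wlog hY : ∃ S, Y = Spec S generalizing Y with H
  · rw [IsZariskiLocalAtSource.iff_of_openCover (P := P) Y.affineCover]
    intro i
    have heq : pullback.fst (Spec.map φ) (Y.affineCover.f i ≫ g) =
        pullback.map _ _ _ _ (𝟙 _) (Y.affineCover.f i) (𝟙 _) (by simp) (by simp) ≫
          pullback.fst (Spec.map φ) g := (pullback.lift_fst _ _ _).symm
    exact H _ (heq ▸ AlgebraicGeometry.IsZariskiLocalAtSource.comp h _) ⟨_, rfl⟩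
  obtain ⟨S, rfl⟩ := hY
  apply of_pullback_fst_Spec_of_codescendsAlong P (@Surjective ⊓ @Flat) hQ ?_ ?_ hf.1 h
  · intro R S f ⟨hf₁, hf₂⟩
    rw [RingHom.FaithfullyFlat.iff_flat_and_comap_surjective]
    refine ⟨?_, (Spec.map f).surjective⟩
    rwa [HasRingHomProperty.Spec_iff (P := @Flat)] at hf₂
  · intro R S f
    exact HasRingHomProperty.Spec_iff (P := P)

end descent

theorem pcMor_stableUnderFlatBaseChange : StableUnderFlatBaseChange pcMor.{u} :=
  fun _ _ _ _ _ _ _ _ hg hc hf => by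
    haveI := hg
    exact pcMor_flat_baseChange hc hf

theorem perfMor_stableUnderFlatBaseChange : StableUnderFlatBaseChange perfMor.{u} :=
  fun _ _ _ _ _ _ _ _ hg hc hf => by
    haveI := hg
    exact perfMor_flat_baseChange hc hf

instance pcMor_descendsAlong_fpqc :
    pcMor.{u}.DescendsAlong (@Surjective ⊓ @Flat ⊓ @QuasiCompact) :=
  descendsAlong_fpqc_of_flatBaseChange pcMor_stableUnderFlatBaseChange
    pcRingHom_codescendsAlong_faithfullyFlat

instance perfMor_descendsAlong_fpqc :
    perfMor.{u}.DescendsAlong (@Surjective ⊓ @Flat ⊓ @QuasiCompact) :=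
  descendsAlong_fpqc_of_flatBaseChange perfMor_stableUnderFlatBaseChange
    perfRingHom_codescendsAlong_faithfullyFlat

theorem pcMor_of_fpqc_baseChange {X S X' S' : Scheme.{u}} {f : X ⟶ S} {f' : X' ⟶ S'}
    {g' : X' ⟶ X} {g : S' ⟶ S} [Flat g] [Surjective g] [QuasiCompact g]
    (hc : IsPullback g' f' f g) (hf' : pcMor f') : pcMor f :=
  MorphismProperty.of_isPullback_of_descendsAlong (P := pcMor)
    (Q := @Surjective ⊓ @Flat ⊓ @QuasiCompact) hc.flip
    ⟨⟨inferInstance, inferInstance⟩, inferInstance⟩ hf'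

theorem perfMor_of_fpqc_baseChange {X S X' S' : Scheme.{u}} {f : X ⟶ S} {f' : X' ⟶ S'}
    {g' : X' ⟶ X} {g : S' ⟶ S} [Flat g] [Surjective g] [QuasiCompact g]
    (hc : IsPullback g' f' f g) (hf' : perfMor f') : perfMor f :=
  MorphismProperty.of_isPullback_of_descendsAlong (P := perfMor)
    (Q := @Surjective ⊓ @Flat ⊓ @QuasiCompact) hc.flip
    ⟨⟨inferInstance, inferInstance⟩, inferInstance⟩ hf'

end Groth.Agent.Lib.Helper9.PCM
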