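import Mathlib
import Groth.Agent.Lib.Helper9.PCLocal

/-!
# Relative pseudo-coherence and principal localizations, for general `IsLocalization.Away` (helper9)

Generalizations of `PCLocal` from `Localization.Away a` to an arbitrary localization of the
algebra away from an element.
-/

set_option autoImplicit false
set_option linter.style.haveILetI false
universe u
open CategoryTheory CategoryTheory.Limits CategoryTheory.Pretriangulated DerivedCategory
open TensorProduct
open Groth.Agent.Lib.Helper18.DR

attribute [local instance] HasDerivedCategory.standard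

namespace Groth.Agent.Lib.Helper9.PCM

section keyG

variable {R P A : Type u} [CommRing R] [CommRing P] [CommRing A] [Algebra R P] [Algebra R A]

/-- the map `P_h → B` for a localization `B` of `A` away from `φ h` -/
noncomputable abbrev awayMapG (φ : P →+* A) (h : P) (B : Type u) [CommRing B] [Algebra A B]
    [IsLocalization.Away (φ h) B] : Localization.Away h →+* B :=
  IsLocalization.Away.map (Localization.Away h) B φ h

lemma awayMapG_surjective (φ : P →+* A) (hφ : Function.Surjective φ) (h : P) (B : Type u)
    [CommRing B] [Algebra A B] [IsLocalization.Away (φ h) B] :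
    Function.Surjective (awayMapG φ h B) := by
  intro x
  obtain ⟨n, a, hx⟩ := IsLocalization.Away.surj (φ h) x
  obtain ⟨p, rfl⟩ := hφ a
  refine ⟨IsLocalization.mk' (Localization.Away h) p
    (⟨h ^ n, ⟨n, rfl⟩⟩ : Submonoid.powers h), ?_⟩
  change IsLocalization.map B φ _ _ = x
  rw [IsLocalization.map_mk', IsLocalization.mk'_eq_iff_eq_mul]
  simp only [map_pow]
  exact hx.symm

theorem nonempty_betaIso_awayG (φ : P →+* A) (h : P) (B : Type u) [CommRing B] [Algebra A B]
    [IsLocalization.Away (φ h) B] [Module.Flat A B] (K : Dual.D A) :
    Nonempty ((DRing.restrictD (awayMapG φ h B)).obj ((extD A B).obj K) ≅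
      (extD P (Localization.Away h)).obj ((DRing.restrictD φ).obj K)) := by
  letI : Algebra P A := φ.toAlgebra
  letI : Algebra (Localization.Away h) B := (awayMapG φ h B).toAlgebra
  letI : Algebra P B := ((algebraMap A B).comp φ).toAlgebra
  haveI : IsScalarTower P A B := IsScalarTower.of_algebraMap_eq (fun x => rfl)
  haveI : IsScalarTower P (Localization.Away h) B :=
    IsScalarTower.of_algebraMap_eq (fun x => (away_map_algebraMap _ _ φ h x).symm)
  haveI : IsLocalization (Algebra.algebraMapSubmonoid A (Submonoid.powers h)) B := by
    have e : Algebra.algebraMapSubmonoid A (Submonoid.powers h) = Submonoid.powers (φ h) :=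
      Submonoid.map_powers _ _
    rw [e]; infer_instance
  haveI : Algebra.IsPushout P (Localization.Away h) A B :=
    (Algebra.isPushout_of_isLocalization (Submonoid.powers h) (Localization.Away h) A B).symm
  exact ⟨(Fbc.betaIso P A (Localization.Away h) B).app K⟩

theorem pc_away_of_pcG (φ : P →+* A) (h : P) (B : Type u) [CommRing B] [Algebra A B]
    [IsLocalization.Away (φ h) B] [Module.Flat A B] (K : Dual.D A) (m : ℤ)
    (hK : DRing.IsPseudoCoherent P m ((DRing.restrictD φ).obj K)) :
    DRing.IsPseudoCoherent (Localization.Away h) m
      ((DRing.restrictD (awayMapG φ h B)).obj ((extD A B).obj K)) := by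
  obtain ⟨e⟩ := nonempty_betaIso_awayG φ h B K
  exact isPseudoCoherent_of_iso e.symm (isPseudoCoherent_extD m _ hK)

theorem relPC_away_iffG (φ : P →+* A) (hφR : ∀ r, φ (algebraMap R P r) = algebraMap R A r)
    (hφ : Function.Surjective φ) (hP : PCAlg R P) (h : P)
    (B : Type u) [CommRing B] [Algebra A B] [IsLocalization.Away (φ h) B] [Algebra R B]
    [IsScalarTower R A B] (K' : Dual.D B) (m : ℤ) :
    DerCA.IsRelPseudoCoherent R B m K' ↔
      DRing.IsPseudoCoherent (Localization.Away h) m
        ((DRing.restrictD (awayMapG φ h B)).obj K') := by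
  letI : Algebra (Localization.Away h) B := (awayMapG φ h B).toAlgebra
  haveI : IsScalarTower R (Localization.Away h) B :=
    IsScalarTower.of_algebraMap_eq (fun x => by
      rw [IsScalarTower.algebraMap_apply R A B,
        IsScalarTower.algebraMap_apply R P (Localization.Away h)]
      have h1 := away_map_algebraMap (Localization.Away h) B φ h (algebraMap R P x)
      rw [hφR] at h1
      exact h1.symm)
  have hs : Function.Surjective (algebraMap (Localization.Away h) B) :=
    awayMapG_surjective φ hφ h B
  have hQ : PCAlg R (Localization.Away h) := hP.trans (PCAlg.localization_away h _)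
  haveI : Algebra.FiniteType (Localization.Away h) B :=
    Algebra.FiniteType.of_surjective (Algebra.ofId _ _) hs
  rw [← relPC_tower_iff hQ K' m, relPC_iff_of_surjective hs]
  exact Iff.rfl

end keyG

section localG

variable {R A : Type u} [CommRing R] [CommRing A] [Algebra R A]

/-- relative pseudo-coherence passes to principal localizations of the algebra -/
theorem relPC_away_of_relPCG (K : Dual.D A) (m : ℤ) (a : A)
    (B : Type u) [CommRing B] [Algebra A B] [IsLocalization.Away a B] [Algebra R B]
    [IsScalarTower R A B] [Module.Flat A B]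
    (hK : DerCA.IsRelPseudoCoherent R A m K) :
    DerCA.IsRelPseudoCoherent R B m ((extD A B).obj K) := by
  obtain ⟨n, α, hα, hv⟩ := hK
  have hα' : Function.Surjective (α : MvPolynomial (Fin n) R →+* A) := hα
  obtain ⟨h, rfl⟩ := hα' a
  exact (relPC_away_iffG (α : MvPolynomial (Fin n) R →+* A) α.commutes hα'
    (PCAlg.mvPolynomial R n) h B _ m).2
    (pc_away_of_pcG (α : MvPolynomial (Fin n) R →+* A) h B K m hv)

/-- transitivity of flat base change -/
noncomputable def extDCompIso' (A B C : Type u) [CommRing A] [CommRing B] [CommRing C]
    [Algebra A B] [Algebra B C] [Algebra A C] [IsScalarTower A B C]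
    [Module.Flat A B] [Module.Flat B C] [Module.Flat A C] :
    extD A C ≅ extD A B ⋙ extD B C :=
  Shr.mapDCompIso (eqToIso (congrArg ModuleCat.extendScalars.{u, u, u}
      (IsScalarTower.algebraMap_eq A B C)) ≪≫
    ModuleCat.extendScalarsComp (algebraMap A B) (algebraMap B C))

/-- relative pseudo-coherence of the base change does not depend on the model of the localization -/
theorem relPC_extD_of_isLocalization (a : A) (B B' : Type u) [CommRing B] [CommRing B']
    [Algebra A B] [Algebra A B'] [IsLocalization.Away a B] [IsLocalization.Away a B']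
    [Algebra R B] [Algebra R B'] [IsScalarTower R A B] [IsScalarTower R A B']
    [Module.Flat A B] [Module.Flat A B'] (K : Dual.D A) (m : ℤ)
    (h : DerCA.IsRelPseudoCoherent R B m ((extD A B).obj K)) :
    DerCA.IsRelPseudoCoherent R B' m ((extD A B').obj K) := by
  let e : B ≃ₐ[A] B' := IsLocalization.algEquiv (Submonoid.powers a) B B'
  letI : Algebra B B' := (e : B →+* B').toAlgebra
  haveI : IsScalarTower A B B' := IsScalarTower.of_algebraMap_eq (fun x => (e.commutes x).symm)
  haveI : IsScalarTower R B B' := IsScalarTower.of_algebraMap_eq (fun x => by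
    rw [IsScalarTower.algebraMap_apply R A B', IsScalarTower.algebraMap_apply R A B]
    exact (e.commutes _).symm)
  haveI : IsLocalization.Away (1 : B) B' :=
    IsLocalization.away_of_isUnit_of_bijective B' isUnit_one e.bijective
  haveI : Module.Flat B B' := IsLocalization.flat B' (Submonoid.powers (1 : B))
  have h1 := relPC_away_of_relPCG (R := R) ((extD A B).obj K) m (1 : B) B' h
  exact relPC_of_iso ((extDCompIso' A B B').app K).symm h1

/-- relative pseudo-coherence can be checked on a finite Zariski covering of the algebra -/
theorem relPC_of_relPC_awayG [Algebra.FiniteType R A] (K : Dual.D A) (m : ℤ)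
    (s : Finset A) (hs : Ideal.span (s : Set A) = ⊤)
    (hK : ∀ a ∈ s, ∃ (B : Type u) (_ : CommRing B) (_ : Algebra A B)
      (_ : IsLocalization.Away a B) (_ : Algebra R B) (_ : IsScalarTower R A B)
      (_ : Module.Flat A B), DerCA.IsRelPseudoCoherent R B m ((extD A B).obj K)) :
    DerCA.IsRelPseudoCoherent R A m K := by
  classical
  let f : Fin s.card → A := fun i => (s.equivFin.symm i : A)
  have hf : Set.range f = (s : Set A) := by
    ext x
    constructor
    · rintro ⟨i, rfl⟩
      exact (s.equivFin.symm i).2
    · intro hx
      exact ⟨s.equivFin ⟨x, hx⟩, by simp [f]⟩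
  refine relPC_of_relPC_away K m f (by rw [hf]; exact hs) (fun i => ?_)
  obtain ⟨B, _, _, _, _, _, _, hB⟩ := hK (f i) (s.equivFin.symm i).2
  exact relPC_extD_of_isLocalization (f i) B (Localization.Away (f i)) K m hB

end localG

end Groth.Agent.Lib.Helper9.PCM
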