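import Mathlib
import Groth.Agent.Lib.Helper9.NPCBridge
import Groth.Agent.Lib.Helper9.PCDescent
import Groth.Agent.Lib.Helper9.PCLocal
import Groth.Agent.Lib.Helper9.PCLocalG

/-!
# `n`-pseudo-coherent ring maps as a local property of ring homomorphisms (helper9)

Graded versions of `PCRingHom`: `NPCAlg m R A` says that `A` is `m`-pseudo-coherent relative to `R` as a module
over itself.  Locality, flat base change and faithfully flat descent.
-/

set_option autoImplicit false
set_option linter.style.haveILetI false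
universe u
open CategoryTheory CategoryTheory.Limits TensorProduct DerivedCategory
open Groth.Agent.Lib.Helper18.DR
open Groth.Agent.Lib.Helper9.RelBridge (NPCHom)

attribute [local instance] HasDerivedCategory.standard

namespace Groth.Agent.Lib.Helper9.PCM

/-- the `R`-algebra `A` is `m`-pseudo-coherent -/
def NPCAlg (m : ℤ) (R A : Type u) [CommRing R] [CommRing A] [Algebra R A] : Prop :=
  DerCA.IsRelPseudoCoherent R A m (Dual.inD A A)

lemma npcHom_iff (m : ℤ) {R S : Type u} [CommRing R] [CommRing S] (f : R →+* S) :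
    NPCHom m f ↔ @NPCAlg m R S _ _ f.toAlgebra := Iff.rfl

lemma npcHom_algebraMap {m : ℤ} {R S : Type u} [CommRing R] [CommRing S] [inst : Algebra R S] :
    NPCHom m (algebraMap R S) ↔ NPCAlg m R S := by
  rw [npcHom_iff]
  have : (algebraMap R S).toAlgebra = inst := Algebra.algebra_ext _ _ (fun _ => rfl)
  rw [this]

section basic

variable {m : ℤ} {R A : Type u} [CommRing R] [CommRing A] [Algebra R A]

lemma NPCAlg.finiteType (h : NPCAlg m R A) : Algebra.FiniteType R A := by
  obtain ⟨n, α, hα, -⟩ := h
  exact Algebra.FiniteType.of_surjective α hα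

lemma PCAlg.npcAlg (h : PCAlg R A) (m : ℤ) : NPCAlg m R A := h m

lemma npcHom_finiteType {R S : Type u} [CommRing R] [CommRing S] {f : R →+* S}
    (h : NPCHom m f) : f.FiniteType := by
  letI := f.toAlgebra
  have h' : NPCAlg m R S := h
  exact h'.finiteType

theorem NPCAlg.of_algEquiv {A' : Type u} [CommRing A'] [Algebra R A'] (e : A ≃ₐ[R] A')
    (h : NPCAlg m R A) : NPCAlg m R A' := by
  obtain ⟨n, α, hα, hv⟩ := h
  have hα' : Function.Surjective ((e : A →ₐ[R] A').comp α) := e.surjective.comp hα
  refine ⟨n, (e : A →ₐ[R] A').comp α, hα', ?_⟩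
  let l : resM (α : MvPolynomial (Fin n) R →+* A) (ModuleCat.of A A) ≃ₗ[MvPolynomial (Fin n) R]
      resM (((e : A →ₐ[R] A').comp α : MvPolynomial (Fin n) R →ₐ[R] A') :
        MvPolynomial (Fin n) R →+* A') (ModuleCat.of A' A') :=
    { toFun := fun a => e a
      invFun := fun a => e.symm a
      map_add' := fun a b => map_add e a b
      map_smul' := fun p a => by
        change e (α p * (show A from a)) = e (α p) * e (show A from a)
        exact map_mul e _ _
      left_inv := fun a => e.symm_apply_apply a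
      right_inv := fun a => e.apply_symm_apply a }
  exact isPseudoCoherent_of_iso (restrictDSgIso _ 0 (ModuleCat.of A A) ≪≫
    (singleFunctor (ModuleCat.{u} (MvPolynomial (Fin n) R)) 0).mapIso l.toModuleIso ≪≫
    (restrictDSgIso _ 0 (ModuleCat.of A' A')).symm) hv

end basic

section loc

variable {m : ℤ}

theorem NPCAlg.localization_target {R A : Type u} [CommRing R] [CommRing A] [Algebra R A]
    (h : NPCAlg m R A) (a : A) (B : Type u) [CommRing B] [Algebra A B] [IsLocalization.Away a B]
    [Algebra R B] [IsScalarTower R A B] : NPCAlg m R B := by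
  haveI : Module.Flat A B := IsLocalization.flat B (Submonoid.powers a)
  exact relPC_of_iso (extDInDSelfIso A B) (relPC_away_of_relPCG (Dual.inD A A) m a B h)

theorem NPCAlg.tower_iff {R R' A : Type u} [CommRing R] [CommRing R'] [CommRing A] [Algebra R R']
    [Algebra R' A] [Algebra R A] [IsScalarTower R R' A] (hR' : PCAlg R R')
    [Algebra.FiniteType R' A] : NPCAlg m R' A ↔ NPCAlg m R A :=
  relPC_tower_iff hR' (Dual.inD A A) m

theorem npcHom_sourceLoc (m : ℤ) :
    RingHom.StableUnderCompositionWithLocalizationAwaySource (@NPCHom m) := by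
  intro R S T _ _ _ _ r _ f hf
  letI := f.toAlgebra
  letI : Algebra R T := (f.comp (algebraMap R S)).toAlgebra
  haveI : IsScalarTower R S T := IsScalarTower.of_algebraMap_eq (fun _ => rfl)
  have hf' : NPCAlg m S T := hf
  haveI : Algebra.FiniteType S T := hf'.finiteType
  exact (NPCAlg.tower_iff (PCAlg.localization_away r S)).1 hf'

theorem npcHom_targetLoc (m : ℤ) :
    RingHom.StableUnderCompositionWithLocalizationAwayTarget (@NPCHom m) := by
  intro R S T _ _ _ _ s _ f hf
  letI := f.toAlgebra
  letI : Algebra R T := ((algebraMap S T).comp f).toAlgebra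
  haveI : IsScalarTower R S T := IsScalarTower.of_algebraMap_eq (fun _ => rfl)
  have hf' : NPCAlg m R S := hf
  exact hf'.localization_target s T

theorem npcHom_localizationAwayPreserves (m : ℤ) :
    RingHom.LocalizationAwayPreserves (@NPCHom m) := by
  intro R S _ _ f r R' S' _ _ _ _ _ _ hf
  letI := f.toAlgebra
  letI : Algebra R' S' := (IsLocalization.Away.map R' S' f r).toAlgebra
  letI : Algebra R S' := ((algebraMap S S').comp f).toAlgebra
  haveI : IsScalarTower R S S' := IsScalarTower.of_algebraMap_eq (fun _ => rfl)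
  haveI : IsScalarTower R R' S' :=
    IsScalarTower.of_algebraMap_eq (fun x => (away_map_algebraMap R' S' f r x).symm)
  have hf' : NPCAlg m R S := hf
  have h1 : NPCAlg m R S' := hf'.localization_target (f r) S'
  haveI : Algebra.FiniteType R S' := h1.finiteType
  haveI : Algebra.FiniteType R' S' := Algebra.FiniteType.of_restrictScalars_finiteType R R' S'
  exact (NPCAlg.tower_iff (PCAlg.localization_away r R')).2 h1

theorem npcHom_ofLocalizationSpanTarget (m : ℤ) :
    RingHom.OfLocalizationSpanTarget (@NPCHom m) := by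
  rw [RingHom.ofLocalizationSpanTarget_iff_finite]
  intro R S _ _ f s hs H
  letI := f.toAlgebra
  have H' : ∀ r : s, NPCAlg m R (Localization.Away (r : S)) := by
    intro r
    have := H r
    rw [show (algebraMap S (Localization.Away (r : S))).comp f =
      algebraMap R (Localization.Away (r : S)) from
      (IsScalarTower.algebraMap_eq R S _).symm] at this
    exact npcHom_algebraMap.1 this
  haveI : Algebra.FiniteType R S := by
    have : f.FiniteType := by
      refine RingHom.finiteType_ofLocalizationSpanTarget f (s : Set S) hs (fun r => ?_)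
      exact npcHom_finiteType (H r)
    exact this
  show DerCA.IsRelPseudoCoherent R S m (Dual.inD S S)
  refine relPC_of_relPC_awayG (Dual.inD S S) m s hs (fun a ha => ?_)
  haveI : Module.Flat S (Localization.Away a) := IsLocalization.flat _ (Submonoid.powers a)
  exact ⟨Localization.Away a, inferInstance, inferInstance, inferInstance, inferInstance,
    inferInstance, inferInstance,
    relPC_of_iso (extDInDSelfIso S (Localization.Away a)).symm (H' ⟨a, ha⟩)⟩

theorem npcHom_isLocal (m : ℤ) : RingHom.PropertyIsLocal (@NPCHom m) :=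
  ⟨npcHom_localizationAwayPreserves m, npcHom_ofLocalizationSpanTarget m,
    (npcHom_ofLocalizationSpanTarget m).ofLocalizationSpan (npcHom_sourceLoc m),
    npcHom_targetLoc m⟩

theorem npcHom_respectsIso (m : ℤ) : RingHom.RespectsIso (@NPCHom m) :=
  (npcHom_isLocal m).respectsIso

end loc

/-! ### flat base change and descent -/

section bc

attribute [local instance] Algebra.TensorProduct.rightAlgebra MvPolynomial.algebraMvPolynomial

variable {m : ℤ} {R R' A : Type u} [CommRing R] [CommRing R'] [CommRing A] [Algebra R R']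
  [Algebra R A]

instance flat_mvPolynomial' [Module.Flat R R'] (n : ℕ) :
    Module.Flat (MvPolynomial (Fin n) R) (MvPolynomial (Fin n) R') :=
  Fbc.flat_of_isPushout R (MvPolynomial (Fin n) R) R' (MvPolynomial (Fin n) R')

/-- the base change square for a presentation -/
theorem NPCAlg.tensorProduct_iff_aux {n : ℕ} (ψ : MvPolynomial (Fin n) R →ₐ[R] A)
    (hψ : Function.Surjective ψ) [Module.Flat R R'] :
    ∃ e : (DRing.restrictD (psiBC R R' A n ψ : MvPolynomial (Fin n) R' →+* R' ⊗[R] A)).obj
        (Dual.inD (R' ⊗[R] A) (R' ⊗[R] A)) ≅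
      (extD (MvPolynomial (Fin n) R) (MvPolynomial (Fin n) R')).obj
        ((DRing.restrictD (ψ : MvPolynomial (Fin n) R →+* A)).obj (Dual.inD A A)), True := by
  letI algPA : Algebra (MvPolynomial (Fin n) R) A := ψ.toRingHom.toAlgebra
  letI algP'A' : Algebra (MvPolynomial (Fin n) R') (R' ⊗[R] A) :=
    (psiBC R R' A n ψ).toRingHom.toAlgebra
  letI algPA' : Algebra (MvPolynomial (Fin n) R) (R' ⊗[R] A) :=
    ((algebraMap A (R' ⊗[R] A)).comp (algebraMap (MvPolynomial (Fin n) R) A)).toAlgebra
  haveI t1 : IsScalarTower (MvPolynomial (Fin n) R) A (R' ⊗[R] A) :=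
    IsScalarTower.of_algebraMap_eq (fun _ => rfl)
  haveI t2 : IsScalarTower (MvPolynomial (Fin n) R) (MvPolynomial (Fin n) R') (R' ⊗[R] A) :=
    IsScalarTower.of_algebraMap_eq (fun p => (psiBC_map R R' A n ψ p).symm)
  haveI t3 : IsScalarTower R (MvPolynomial (Fin n) R) A :=
    IsScalarTower.of_algebraMap_eq (fun r => (ψ.commutes r).symm)
  haveI t4 : IsScalarTower R' (MvPolynomial (Fin n) R') (R' ⊗[R] A) :=
    IsScalarTower.of_algebraMap_eq (fun r => ((psiBC R R' A n ψ).commutes r).symm)
  haveI t5 : IsScalarTower R (MvPolynomial (Fin n) R') (R' ⊗[R] A) :=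
    IsScalarTower.of_algebraMap_eq (fun r => by
      rw [IsScalarTower.algebraMap_apply R R' (R' ⊗[R] A),
        IsScalarTower.algebraMap_apply R R' (MvPolynomial (Fin n) R'),
        ← IsScalarTower.algebraMap_apply R' (MvPolynomial (Fin n) R') (R' ⊗[R] A)])
  have hpo : Algebra.IsPushout (MvPolynomial (Fin n) R) A (MvPolynomial (Fin n) R') (R' ⊗[R] A) :=
    (Algebra.IsPushout.comp_iff R (MvPolynomial (Fin n) R) R' (MvPolynomial (Fin n) R')
      (T := A) (T' := R' ⊗[R] A)).1 inferInstance
  haveI hpo' : Algebra.IsPushout (MvPolynomial (Fin n) R) (MvPolynomial (Fin n) R') A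
      (R' ⊗[R] A) := hpo.symm
  haveI : Module.Flat A (R' ⊗[R] A) := Fbc.flat_of_isPushout R A R' (R' ⊗[R] A)
  exact ⟨((DRing.restrictD (algebraMap (MvPolynomial (Fin n) R') (R' ⊗[R] A))).mapIso
      (extDInDSelfIso A (R' ⊗[R] A))).symm ≪≫
    (Fbc.betaIso (MvPolynomial (Fin n) R) A (MvPolynomial (Fin n) R') (R' ⊗[R] A)).app
      (Dual.inD A A), trivial⟩

/-- flat base change of an `m`-pseudo-coherent algebra -/
theorem NPCAlg.tensorProduct [Module.Flat R R'] (h : NPCAlg m R A) : NPCAlg m R' (R' ⊗[R] A) := by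
  obtain ⟨n, ψ, hψ, hv⟩ := h
  obtain ⟨e, -⟩ := NPCAlg.tensorProduct_iff_aux (R' := R') ψ hψ
  refine ⟨n, psiBC R R' A n ψ, psiBC_surjective R R' A n ψ hψ, ?_⟩
  exact isPseudoCoherent_of_iso e.symm (isPseudoCoherent_extD m _ hv)

/-- faithfully flat descent of `m`-pseudo-coherent algebras -/
theorem NPCAlg.of_tensorProduct_faithfullyFlat [Module.FaithfullyFlat R R']
    (h : NPCAlg m R' (R' ⊗[R] A)) : NPCAlg m R A := by
  haveI : Algebra.FiniteType R' (R' ⊗[R] A) := h.finiteType
  haveI hft : Algebra.FiniteType R A :=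
    Algebra.FiniteType.of_finiteType_tensorProduct_of_faithfullyFlat R'
  obtain ⟨n, ψ, hψ⟩ := Algebra.FiniteType.iff_quotient_mvPolynomial''.1 hft
  obtain ⟨e, -⟩ := NPCAlg.tensorProduct_iff_aux (R' := R') ψ hψ
  have hv' := (relPC_iff_via (psiBC R R' A n ψ) (psiBC_surjective R R' A n ψ hψ) m _).1 h
  refine ⟨n, ψ, hψ, ?_⟩
  haveI hff : Module.FaithfullyFlat (MvPolynomial (Fin n) R) (MvPolynomial (Fin n) R') :=
    Module.FaithfullyFlat.of_linearEquiv _ (MvPolynomial (Fin n) R ⊗[R] R')
      (Algebra.IsPushout.equiv R (MvPolynomial (Fin n) R) R'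
        (MvPolynomial (Fin n) R')).symm.toLinearEquiv
  refine (descFam_of_faithfullyFlat (MvPolynomial (Fin n) R)
    (MvPolynomial (Fin n) R')).isPseudoCoherent m _ (fun _ => ?_)
  exact isPseudoCoherent_of_iso e hv'

end bc

theorem npcHom_flat_baseChange' (m : ℤ) {R S R' S' : Type u} [CommRing R] [CommRing S] [CommRing R']
    [CommRing S'] [Algebra R S] [Algebra R R'] [Algebra R S'] [Algebra S S'] [Algebra R' S']
    [IsScalarTower R S S'] [IsScalarTower R R' S'] [Algebra.IsPushout R S R' S']
    [Module.Flat R R'] (h : NPCHom m (algebraMap R S)) : NPCHom m (algebraMap R' S') := by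
  rw [npcHom_algebraMap] at h ⊢
  haveI : Algebra.IsPushout R R' S S' := Algebra.IsPushout.symm inferInstance
  have h1 : NPCAlg m R' (R' ⊗[R] S) := NPCAlg.tensorProduct h
  exact h1.of_algEquiv (Algebra.IsPushout.equiv R R' S S')

theorem npcHom_codescendsAlong_faithfullyFlat (m : ℤ) :
    RingHom.CodescendsAlong (@NPCHom m) RingHom.FaithfullyFlat := by
  refine .mk _ (npcHom_respectsIso m) fun R S T _ _ _ _ _ h h' => ?_
  rw [npcHom_algebraMap] at h' ⊢
  rw [RingHom.faithfullyFlat_algebraMap_iff] at h
  exact NPCAlg.of_tensorProduct_faithfullyFlat h'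

end Groth.Agent.Lib.Helper9.PCM
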