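import Mathlib
import Groth.Agent.Lib.Helper9.NPCRingHom

/-!
# `n`-pseudo-coherent morphisms: flat base change and fpqc descent (helper9)
-/

set_option autoImplicit false
set_option linter.style.haveILetI false
universe u
open CategoryTheory CategoryTheory.Limits AlgebraicGeometry Opposite TopologicalSpace MorphismProperty
open Groth.Agent.Lib.Helper9.RelBridge

attribute [local instance] HasDerivedCategory.standard

namespace Groth.Agent.Lib.Helper9.PCM

/-- `n`-pseudo-coherent morphisms, as the morphism property induced by the ring-hom property `NPCHom n` -/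
def npcMor (m : ℤ) : MorphismProperty Scheme.{u} := affineLocally (@NPCHom m)

instance npcMor_hasRingHomProperty (m : ℤ) : HasRingHomProperty (npcMor.{u} m) (@NPCHom m) where
  isLocal_ringHomProperty := npcHom_isLocal m
  eq_affineLocally' := rfl

theorem locallyOfFiniteType_of_npcMor {m : ℤ} {X Y : Scheme.{u}} {f : X ⟶ Y} (h : npcMor m f) :
    LocallyOfFiniteType f := by
  rw [HasRingHomProperty.iff_appLE (P := @LocallyOfFiniteType)]
  intro U V e
  exact npcHom_finiteType (HasRingHomProperty.appLE (npcMor m) f h U V e)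

theorem npcMor_iff (m : ℤ) {X Y : Scheme.{u}} (f : X ⟶ Y) :
    npcMor m f ↔ DerSch.IsNPseudoCoherent f m := by
  constructor
  · intro h
    haveI := locallyOfFiniteType_of_npcMor h
    rw [isNPseudoCoherent_iff]
    intro U V e
    exact HasRingHomProperty.appLE (npcMor m) f h V U e
  · intro h
    haveI : LocallyOfFiniteType f := h.1
    rw [isNPseudoCoherent_iff] at h
    rw [HasRingHomProperty.iff_appLE (P := npcMor m)]
    intro U V e
    exact h V U e

section generic

variable {P : MorphismProperty Scheme.{u}}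
  {Q : ∀ {R S : Type u} [CommRing R] [CommRing S], (R →+* S) → Prop}

/-- a local property of morphisms whose ring-hom property is stable under flat base change is stable under flat
base change -/
theorem stableUnderFlatBaseChange_of_ringHom [HasRingHomProperty P Q]
    (hbc : ∀ {R S R' S' : Type u} [CommRing R] [CommRing S] [CommRing R'] [CommRing S']
      [Algebra R S] [Algebra R R'] [Algebra R S'] [Algebra S S'] [Algebra R' S']
      [IsScalarTower R S S'] [IsScalarTower R R' S'] [Algebra.IsPushout R S R' S']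
      [Module.Flat R R'], Q (algebraMap R S) → Q (algebraMap R' S'))
    (hsrc : RingHom.StableUnderCompositionWithLocalizationAwaySource Q) :
    StableUnderFlatBaseChange P := by
  intro X S X' S' f f' g' g hg hc hf
  haveI := hg
  rw [HasRingHomProperty.iff_exists_appLE (P := P) hsrc]
  intro x'
  obtain ⟨V, hV, hxV⟩ : ∃ V : S.Opens, IsAffineOpen V ∧ g (f' x') ∈ V := by
    obtain ⟨V, hV, hxV, -⟩ := Opens.isBasis_iff_nbhd.mp S.isBasis_affineOpens
      (Opens.mem_top (g (f' x')))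
    exact ⟨V, hV, hxV⟩
  obtain ⟨W, hW, hxW, hWV⟩ : ∃ W : S'.Opens, IsAffineOpen W ∧ f' x' ∈ W ∧ W ≤ g ⁻¹ᵁ V := by
    obtain ⟨W, hW, hxW, hWV⟩ := Opens.isBasis_iff_nbhd.mp S'.isBasis_affineOpens
      (show f' x' ∈ g ⁻¹ᵁ V from hxV)
    exact ⟨W, hW, hxW, hWV⟩
  have hfx : f (g' x') ∈ V := by
    have e : f (g' x') = g (f' x') := by
      rw [← Scheme.Hom.comp_apply, ← Scheme.Hom.comp_apply, hc.w]
    rw [e]
    exact hxV
  obtain ⟨U, hU, hxU, hUV⟩ : ∃ U : X.Opens, IsAffineOpen U ∧ g' x' ∈ U ∧ U ≤ f ⁻¹ᵁ V := by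
    obtain ⟨U, hU, hxU, hUV⟩ := Opens.isBasis_iff_nbhd.mp X.isBasis_affineOpens
      (show g' x' ∈ f ⁻¹ᵁ V from hfx)
    exact ⟨U, hU, hxU, hUV⟩
  set U' : X'.Opens := g' ⁻¹ᵁ U ⊓ f' ⁻¹ᵁ W with hU'
  have hU'aff : IsAffineOpen U' := by
    haveI : IsAffine V.toScheme := hV
    haveI : IsAffine W.toScheme := hW
    haveI : IsAffine U.toScheme := hU
    exact .of_isIso (Scheme.Hom.isPullback_resLE hc hWV hUV hU').isoPullback.hom
  have hiso := isIso_pushoutSection_of_isAffineOpen hc hWV hUV hU' hV hW hU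
  have hpo := (isIso_pushoutSection_iff hc hWV hUV hU').1 hiso
  have hleU : U' ≤ g' ⁻¹ᵁ U := inf_le_left
  have hleW : U' ≤ f' ⁻¹ᵁ W := inf_le_right
  refine ⟨⟨W, hW⟩, ⟨U', hU'aff⟩, ⟨hxU, hxW⟩, hleW, ?_⟩
  have hQ : Q (f.appLE V U hUV).hom := HasRingHomProperty.appLE P f hf ⟨V, hV⟩ ⟨U, hU⟩ hUV
  letI algRS : Algebra Γ(S, V) Γ(X, U) := (f.appLE V U hUV).hom.toAlgebra
  letI algRR' : Algebra Γ(S, V) Γ(S', W) := (g.appLE V W hWV).hom.toAlgebra
  letI algSS' : Algebra Γ(X, U) Γ(X', U') := (g'.appLE U U' hleU).hom.toAlgebra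
  letI algR'S' : Algebra Γ(S', W) Γ(X', U') := (f'.appLE W U' hleW).hom.toAlgebra
  letI algRS' : Algebra Γ(S, V) Γ(X', U') :=
    ((algebraMap Γ(X, U) Γ(X', U')).comp (algebraMap Γ(S, V) Γ(X, U))).toAlgebra
  haveI t1 : IsScalarTower Γ(S, V) Γ(X, U) Γ(X', U') :=
    IsScalarTower.of_algebraMap_eq (fun _ => rfl)
  haveI t2 : IsScalarTower Γ(S, V) Γ(S', W) Γ(X', U') :=
    IsScalarTower.of_algebraMap_eq (fun r => by
      have := congrArg (fun ψ => ψ.hom r) hpo.w
      exact this)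
  haveI flatRR' : Module.Flat Γ(S, V) Γ(S', W) :=
    HasRingHomProperty.appLE (P := @Flat) g inferInstance ⟨V, hV⟩ ⟨W, hW⟩ hWV
  haveI po : Algebra.IsPushout Γ(S, V) Γ(X, U) Γ(S', W) Γ(X', U') :=
    CommRingCat.isPushout_iff_isPushout.1 hpo
  exact hbc (R := Γ(S, V)) (S := Γ(X, U)) (R' := Γ(S', W)) (S' := Γ(X', U')) hQ

end generic

theorem npcMor_stableUnderFlatBaseChange (m : ℤ) : StableUnderFlatBaseChange (npcMor.{u} m) :=
  stableUnderFlatBaseChange_of_ringHom (fun h => npcHom_flat_baseChange' m h) (npcHom_sourceLoc m)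

theorem npcMor_flat_baseChange (m : ℤ) {X S X' S' : Scheme.{u}} {f : X ⟶ S} {f' : X' ⟶ S'}
    {g' : X' ⟶ X} {g : S' ⟶ S} [Flat g] (hc : IsPullback g' f' f g) (hf : npcMor m f) :
    npcMor m f' :=
  npcMor_stableUnderFlatBaseChange m inferInstance hc hf

instance npcMor_descendsAlong_fpqc (m : ℤ) :
    (npcMor.{u} m).DescendsAlong (@Surjective ⊓ @Flat ⊓ @QuasiCompact) :=
  descendsAlong_fpqc_of_flatBaseChange (npcMor_stableUnderFlatBaseChange m)
    (npcHom_codescendsAlong_faithfullyFlat m)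

theorem npcMor_of_fpqc_baseChange (m : ℤ) {X S X' S' : Scheme.{u}} {f : X ⟶ S} {f' : X' ⟶ S'}
    {g' : X' ⟶ X} {g : S' ⟶ S} [Flat g] [Surjective g] [QuasiCompact g]
    (hc : IsPullback g' f' f g) (hf' : npcMor m f') : npcMor m f :=
  MorphismProperty.of_isPullback_of_descendsAlong (P := npcMor m)
    (Q := @Surjective ⊓ @Flat ⊓ @QuasiCompact) hc.flip
    ⟨⟨inferInstance, inferInstance⟩, inferInstance⟩ hf'

end Groth.Agent.Lib.Helper9.PCM
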