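import Mathlib
import Groth.Agent.Lib.Helper9.NPCMor
import Groth.Agent.Lib.Helper18.DRRel7
import Groth.Agent.Lib.Helper18.DRPCRestr

/-!
# Composition of `n`-pseudo-coherent ring maps and morphisms (helper9)

If `S` is `s`-pseudo-coherent over `R` and `T` is `r`-pseudo-coherent over `S` then `T` is `max r s`-pseudo-coherent
over `R`.  Graded version of helper18's restriction lemma (Stacks 064Z).
-/

set_option autoImplicit false
set_option linter.style.haveILetI false
universe u
open CategoryTheory CategoryTheory.Limits CategoryTheory.Pretriangulated DerivedCategory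
open AlgebraicGeometry Opposite TopologicalSpace
open Groth.Agent.Lib.Helper18.DR
open Groth.Agent.Lib.Helper9.RelBridge (NPCHom)

attribute [local instance] HasDerivedCategory.standard

namespace Groth.Agent.Lib.Helper9.PCM

section graded

variable {A B : Type u} [CommRing A] [CommRing B] (φ : A →+* B) (s : ℤ)
  (hB : DRing.IsPseudoCoherent A s (Sg 0 (resM φ (ModuleCat.of B B))))

include hB

lemma isPseudoCoherent_res_of_finite_free_graded (F : ModuleCat.{u} B) [Module.Finite B F]
    [Module.Free B F] : DRing.IsPseudoCoherent A s (Sg 0 (resM φ F)) := by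
  let ι := Module.Free.ChooseBasisIndex B F
  let b := Module.Free.chooseBasis B F
  have e1 : F ≅ ModuleCat.of B (ι → B) := b.equivFun.toModuleIso
  have e2 : resM φ F ≅ resM φ (ModuleCat.of B (ι → B)) :=
    (ModuleCat.restrictScalars.{u} φ).mapIso e1
  let e3 : (ι → resM φ (ModuleCat.of B B)) ≃ₗ[A] resM φ (ModuleCat.of B (ι → B)) :=
    { toFun := fun f => f
      invFun := fun f => f
      map_add' := fun _ _ => rfl
      map_smul' := fun _ _ => rfl
      left_inv := fun _ => rfl
      right_inv := fun _ => rfl }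
  have h1 := isPseudoCoherent_Sg0_pi_obj s (resM φ (ModuleCat.of B B)) hB ι
  have h2 := isPseudoCoherent_Sg0_of_linearEquiv s e3 h1
  exact isPseudoCoherent_of_iso ((singleFunctor (ModuleCat.{u} A) 0).mapIso e2.symm) h2

lemma isPseudoCoherent_res_Sg_graded (F : ModuleCat.{u} B) [Module.Finite B F] [Module.Free B F]
    (n m : ℤ) (h : s ≤ m - n) : DRing.IsPseudoCoherent A m ((DRing.restrictD φ).obj (Sg n F)) := by
  have e := ((ModuleCat.restrictScalars.{u} φ).mapDerivedCategorySingleFunctor n).app F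
  refine isPseudoCoherent_of_iso e.symm ?_
  exact isPseudoCoherent_Sg_of_module (resM φ F) m n
    (isPseudoCoherent_mono h (isPseudoCoherent_res_of_finite_free_graded φ s hB F))

lemma isPseudoCoherent_restrictD_graded_aux (r : ℤ) : ∀ (N : ℕ) (K : Dual.D B),
    K.IsLE (r - 1 + N) → DRing.IsPseudoCoherent B r K → ∀ m : ℤ, r ≤ m → s + (r - 1 + N) ≤ m →
      DRing.IsPseudoCoherent A m ((DRing.restrictD φ).obj K) := by
  intro N
  induction N with
  | zero =>
    intro K hK _ m hm _
    haveI : K.IsLE (r - 1) := by simpa using hK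
    haveI := isLE_restrictD φ K (r - 1)
    exact isPseudoCoherent_of_isLE _ (r - 1) m (by omega)
  | succ N ih =>
    intro K hKle hK m hm hsm
    obtain ⟨n, hn⟩ : ∃ n : ℤ, n = r + N := ⟨_, rfl⟩
    haveI : K.IsLE n := by
      have e : r - 1 + ((N + 1 : ℕ) : ℤ) = n := by push_cast; omega
      rw [← e]; exact hKle
    have hfinB : Module.Finite B ((H B n).obj K) :=
      finite_H_of_isPseudoCoherent K n (isPseudoCoherent_mono (by omega) hK)
        (fun i hi => isZero_of_isLE K n i hi)
    obtain ⟨k, π, hπ⟩ := Module.Finite.exists_fin' B ((H B n).obj K)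
    let F : ModuleCat.{u} B := ModuleCat.of B (Fin k → B)
    haveI : Projective F := inferInstance
    haveI : Module.Finite B F := inferInstanceAs (Module.Finite B (Fin k → B))
    haveI : Module.Free B F := inferInstanceAs (Module.Free B (Fin k → B))
    obtain ⟨ψ, hψ⟩ := exists_hom_Sg n F K (ModuleCat.ofHom π)
    have hepi : Epi ((H B n).map ψ) := by
      have h1 : (H B n).map ψ = (HSg n F).hom ≫ ModuleCat.ofHom π := by
        rw [← hψ]; simp
      rw [h1]
      haveI : Epi (ModuleCat.ofHom π) := (ModuleCat.epi_iff_surjective _).mpr hπ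
      infer_instance
    have hconn : IsConn n ψ := by
      refine ⟨fun i hi => ?_, hepi⟩
      exact isIso_of_isZero_isZero _ (isZero_of_isLE (Sg n F) n i hi) (isZero_of_isLE K n i hi)
    obtain ⟨C, β, γ, hT⟩ := distinguished_cocone_triangle ψ
    have hC : C.IsLE (n - 1) := (isConn_iff_isLE_cone hT n).mp hconn
    have hC' : C.IsLE (r - 1 + N) := by
      have e : n - 1 = r - 1 + N := by omega
      rw [← e]; exact hC
    have hCpc : DRing.IsPseudoCoherent B r C :=
      isPseudoCoherent_obj₃ _ hT r (isPseudoCoherent_Sg n F (r + 1)) hK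
    have hT' := (DRing.restrictD φ).map_distinguished _ hT
    have h1 : DRing.IsPseudoCoherent A m ((DRing.restrictD φ).obj (Sg n F)) :=
      isPseudoCoherent_res_Sg_graded φ s hB F n m (by push_cast at hsm; omega)
    have h3 : DRing.IsPseudoCoherent A m ((DRing.restrictD φ).obj C) :=
      ih C hC' hCpc m hm (by push_cast at hsm; omega)
    exact (isPseudoCoherent_triangle _ hT' m).2.1 h1 h3

/-- graded Stacks 064Z: if `B` is `s`-pseudo-coherent as an `A`-module and `K ∈ D^{≤ b}(B)` is `r`-pseudo-coherent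
over `B`, then `K` is `m`-pseudo-coherent over `A` for `m ≥ max r (s + b)`. -/
theorem isPseudoCoherent_restrictD_graded (r b : ℤ) (K : Dual.D B) [K.IsLE b]
    (hK : DRing.IsPseudoCoherent B r K) (m : ℤ) (hm : r ≤ m) (hsm : s + b ≤ m) :
    DRing.IsPseudoCoherent A m ((DRing.restrictD φ).obj K) := by
  by_cases hb : b < r
  · haveI : K.IsLE (r - 1) := TStructure.t.isLE_of_le K b _ (by omega)
    haveI := isLE_restrictD φ K (r - 1)
    exact isPseudoCoherent_of_isLE _ (r - 1) m (by omega)
  · obtain ⟨N, hN⟩ : ∃ N : ℕ, b = r - 1 + N := ⟨(b - r + 1).toNat, by omega⟩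
    have : K.IsLE (r - 1 + N) := by rw [← hN]; infer_instance
    exact isPseudoCoherent_restrictD_graded_aux φ s hB r N K this hK m hm (by omega)

end graded

section poly

open MvPolynomial TensorProduct

/-- polynomial extension of an `s`-pseudo-coherent ring map, algebra form -/
theorem npc_mvPolynomial_map_of_algebra {P A : Type u} [CommRing P] [CommRing A] [Algebra P A]
    (σ : Type) (s : ℤ)
    (h : DRing.IsPseudoCoherent P s (Sg 0 (resM (algebraMap P A) (ModuleCat.of A A)))) :
    DRing.IsPseudoCoherent (MvPolynomial σ P) s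
      (Sg 0 (resM (MvPolynomial.map (algebraMap P A) : MvPolynomial σ P →+* MvPolynomial σ A)
        (ModuleCat.of (MvPolynomial σ A) (MvPolynomial σ A)))) := by
  let e : resM (algebraMap P A) (ModuleCat.of A A) ≃ₗ[P] A :=
    { toFun := fun b => b
      invFun := fun b => b
      map_add' := fun _ _ => rfl
      map_smul' := fun a b => (Algebra.smul_def a (show A from b)).symm
      left_inv := fun _ => rfl
      right_inv := fun _ => rfl }
  have h1 : DRing.IsPseudoCoherentModule P s A :=
    isPseudoCoherent_of_iso ((singleFunctor (ModuleCat.{u} P) 0).mapIso e.toModuleIso) h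
  have h2 : DRing.IsPseudoCoherentModule (MvPolynomial σ P) s ((MvPolynomial σ P) ⊗[P] A) :=
    (isPseudoCoherentModule_baseChange_of_flat s A).1 h1
  exact isPseudoCoherent_of_iso
    ((singleFunctor (ModuleCat.{u} (MvPolynomial σ P)) 0).mapIso (mvTensorEquiv σ).toModuleIso) h2

theorem npc_mvPolynomial_map {P A : Type u} [CommRing P] [CommRing A] (α : P →+* A) (s : ℤ)
    (h : DRing.IsPseudoCoherent P s (Sg 0 (resM α (ModuleCat.of A A)))) (σ : Type) :
    DRing.IsPseudoCoherent (MvPolynomial σ P) s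
      (Sg 0 (resM (MvPolynomial.map α : MvPolynomial σ P →+* MvPolynomial σ A)
        (ModuleCat.of (MvPolynomial σ A) (MvPolynomial σ A)))) := by
  letI : Algebra P A := α.toAlgebra
  exact npc_mvPolynomial_map_of_algebra σ s h

end poly

section comp

variable {R A B : Type u} [CommRing R] [CommRing A] [CommRing B] [Algebra R A] [Algebra A B]
  [Algebra R B] [IsScalarTower R A B]

/-- composition of graded pseudo-coherent algebras -/
theorem NPCAlg.trans {s r : ℤ} (hA : NPCAlg s R A) (hB : NPCAlg r A B) :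
    NPCAlg (max r s) R B := by
  obtain ⟨n, α, hα, hvα⟩ := hA
  obtain ⟨k, β, hβ, hvβ⟩ := hB
  have hPα : DRing.IsPseudoCoherent (MvPolynomial (Fin n) R) s
      (Sg 0 (resM (α : MvPolynomial (Fin n) R →+* A) (ModuleCat.of A A))) :=
    isPseudoCoherent_of_iso (restrictDSgIso _ 0 (ModuleCat.of A A)) hvα
  have hPα' := npc_mvPolynomial_map (α : MvPolynomial (Fin n) R →+* A) s hPα (Fin k)
  let e := mvSumEquiv (R := R) k n
  let γ : MvPolynomial (Fin (k + n)) R →ₐ[R] B :=
    ((β.restrictScalars R).comp (MvPolynomial.mapAlgHom α)).comp e.toAlgHom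
  have hγ : Function.Surjective γ := by
    refine (hβ.comp ?_).comp e.surjective
    exact MvPolynomial.map_surjective _ hα
  refine ⟨k + n, γ, hγ, ?_⟩
  haveI : ((DRing.restrictD (β : MvPolynomial (Fin k) A →+* B)).obj (Dual.inD B B)).IsLE 0 :=
    isLE_restrictD _ (Dual.inD B B) 0
  have h1 := isPseudoCoherent_restrictD_graded
    (MvPolynomial.map (α : MvPolynomial (Fin n) R →+* A) :
      MvPolynomial (Fin k) (MvPolynomial (Fin n) R) →+* MvPolynomial (Fin k) A) s hPα' r 0
    ((DRing.restrictD (β : MvPolynomial (Fin k) A →+* B)).obj (Dual.inD B B)) hvβ (max r s)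
    (le_max_left _ _) (by rw [add_zero]; exact le_max_right _ _)
  have h2 := isPseudoCoherent_of_iso (restrictDCompIso _ _ (Dual.inD B B)).symm h1
  have h3 := ((PCHom.of_ringEquiv e.toRingEquiv).isPseudoCoherent_iff _ (Dual.inD B B)
    (max r s)).1 h2
  exact h3

end comp

theorem npcHom_comp {R S T : Type u} [CommRing R] [CommRing S] [CommRing T] (f : R →+* S)
    (g : S →+* T) {s r : ℤ} (hf : NPCHom s f) (hg : NPCHom r g) :
    NPCHom (max r s) (g.comp f) := by
  letI := f.toAlgebra
  letI := g.toAlgebra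
  letI := (g.comp f).toAlgebra
  haveI : IsScalarTower R S T := IsScalarTower.of_algebraMap_eq (fun _ => rfl)
  have hf' : NPCAlg s R S := hf
  have hg' : NPCAlg r S T := hg
  exact NPCAlg.trans hf' hg'

/-- composition of graded pseudo-coherent morphisms -/
theorem npcMor_comp {X Y Z : Scheme.{u}} (f : X ⟶ Y) (g : Y ⟶ Z) {r s : ℤ} (hf : npcMor r f)
    (hg : npcMor s g) : npcMor (max r s) (f ≫ g) := by
  rw [HasRingHomProperty.iff_exists_appLE (P := npcMor (max r s)) (npcHom_sourceLoc _)]
  intro x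
  obtain ⟨W, hW, hxW⟩ : ∃ W : Z.Opens, IsAffineOpen W ∧ g (f x) ∈ W := by
    obtain ⟨W, hW, hxW, -⟩ := Opens.isBasis_iff_nbhd.mp Z.isBasis_affineOpens
      (Opens.mem_top (g (f x)))
    exact ⟨W, hW, hxW⟩
  obtain ⟨V, hV, hxV, hVW⟩ : ∃ V : Y.Opens, IsAffineOpen V ∧ f x ∈ V ∧ V ≤ g ⁻¹ᵁ W := by
    obtain ⟨V, hV, hxV, hVW⟩ := Opens.isBasis_iff_nbhd.mp Y.isBasis_affineOpens
      (show f x ∈ g ⁻¹ᵁ W from hxW)
    exact ⟨V, hV, hxV, hVW⟩
  obtain ⟨U, hU, hxU, hUV⟩ : ∃ U : X.Opens, IsAffineOpen U ∧ x ∈ U ∧ U ≤ f ⁻¹ᵁ V := by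
    obtain ⟨U, hU, hxU, hUV⟩ := Opens.isBasis_iff_nbhd.mp X.isBasis_affineOpens
      (show x ∈ f ⁻¹ᵁ V from hxV)
    exact ⟨U, hU, hxU, hUV⟩
  have hUW : U ≤ (f ≫ g) ⁻¹ᵁ W := hUV.trans ((Opens.map f.base).map (homOfLE hVW)).le
  refine ⟨⟨W, hW⟩, ⟨U, hU⟩, hxU, hUW, ?_⟩
  have h1 : NPCHom s (g.appLE W V hVW).hom := HasRingHomProperty.appLE (npcMor s) g hg ⟨W, hW⟩ ⟨V, hV⟩ hVW
  have h2 : NPCHom r (f.appLE V U hUV).hom := HasRingHomProperty.appLE (npcMor r) f hf ⟨V, hV⟩ ⟨U, hU⟩ hUV
  have e : (f ≫ g).appLE W U hUW = g.appLE W V hVW ≫ f.appLE V U hUV :=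
    (Scheme.Hom.appLE_comp_appLE f g W V U hVW hUV).symm
  show NPCHom (max r s) ((f ≫ g).appLE W U hUW).hom
  rw [e]
  exact npcHom_comp _ _ h1 h2

end Groth.Agent.Lib.Helper9.PCM
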