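import Mathlib
import Groth.Prelude.Def_Models
import Groth.Agent.Lib.Helper24.NumTypeGlue

/-!
# Genus one numerical types, general case: framework

Master lemmas (a sub-configuration dominating an affine Cartan matrix is everything),
paths in the dual graph, and small forbidden configurations.
-/

set_option autoImplicit false
set_option linter.style.haveILetI false

namespace Groth.Agent.Lib.Helper9.NT

open Finset Models
open Groth.Agent.Lib.Helper24.NumTypeGlue

variable {n : ℕ} {T : Models.NumericalType n}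

/-! ### sparse sums -/

lemma sum_sparse (K : ℕ) (f : ℕ → ℤ) (l : List ℕ) (hnd : l.Nodup) (hl : ∀ a ∈ l, a < K)
    (h0 : ∀ t, t < K → t ∉ l → f t = 0) : ∑ t ∈ range K, f t = (l.map f).sum := by
  classical
  rw [← List.sum_toFinset f hnd]
  symm
  apply Finset.sum_subset
  · intro a ha
    rw [List.mem_toFinset] at ha
    exact mem_range.mpr (hl a ha)
  · intro t ht hnt
    rw [List.mem_toFinset] at hnt
    exact h0 t (mem_range.mp ht) hnt

/-! ### master lemmas -/

/-- Master lemma: an injective configuration whose Cartan integers dominate a matrix with a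
positive left null vector is everything, and the Cartan integers are those of the matrix. -/
theorem ML (hm2 : ∀ i, T.IsMinusTwo i) (K : ℕ) (hK : 0 < K) (v : ℕ → Fin n)
    (hv : ∀ s t, s < K → t < K → v s = v t → s = t)
    (Dm : ℕ → ℕ → ℤ) (y : ℕ → ℤ) (hy : ∀ s, s < K → 0 < y s)
    (hdiag : ∀ s, s < K → Dm s s = -2)
    (hlb : ∀ s t, s < K → t < K → s ≠ t → Dm s t = 0 ∨ Dm s t ≤ c T (v s) (v t))
    (hnull : ∀ t, t < K → ∑ s ∈ range K, y s * Dm s t = 0) :
    K = n ∧ ∀ s t, s < K → t < K → c T (v s) (v t) = Dm s t := by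
  classical
  have hle : ∀ s t, s < K → t < K → Dm s t ≤ c T (v s) (v t) := by
    intro s t hs ht
    by_cases hst : s = t
    · subst hst; rw [hdiag s hs, c_diag_of_isMinusTwo T (hm2 _)]
    · rcases hlb s t hs ht hst with h | h
      · rw [h]; exact c_nonneg T (fun h' => hst (hv s t hs ht h'))
      · exact h
  have hinj : Function.Injective (fun s : Fin K => v s.val) :=
    fun s t h => Fin.ext (hv _ _ s.2 t.2 h)
  have hsumeq : ∀ t : Fin K, ∑ s : Fin K, y s.val * Dm s.val t.val = 0 := by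
    intro t
    rw [Fin.sum_univ_eq_sum_range (fun s => y s * Dm s t.val) K]; exact hnull t.val t.2
  have hcond : ∀ t : Fin K, 0 ≤ ∑ s : Fin K, y s.val * c T (v s.val) (v t.val) := by
    intro t
    rw [← hsumeq t]
    exact Finset.sum_le_sum
      (fun s _ => mul_le_mul_of_nonneg_left (hle _ _ s.2 t.2) (hy _ s.2).le)
  obtain ⟨hKn, -, hz⟩ := cfg_pos T hinj (fun s : Fin K => y s.val) (fun s => (hy _ s.2).le)
    ⟨⟨0, hK⟩, (hy 0 hK).ne'⟩ hcond
  refine ⟨hKn, fun s t hs ht => ?_⟩
  have h1 : ∑ s' : Fin K, (y s'.val * c T (v s'.val) (v t) - y s'.val * Dm s'.val t) = 0 := by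
    rw [Finset.sum_sub_distrib]
    have e1 := hz ⟨t, ht⟩
    have e2 := hsumeq ⟨t, ht⟩
    simp only at e1 e2
    rw [e1, e2]; ring
  have h2 := (Finset.sum_eq_zero_iff_of_nonneg (fun s' _ => sub_nonneg.mpr
    (mul_le_mul_of_nonneg_left (hle _ _ s'.2 ht) (hy _ s'.2).le))).mp h1 ⟨s, hs⟩
    (Finset.mem_univ _)
  simp only at h2
  have h3 : y s * (c T (v s) (v t) - Dm s t) = 0 := by rw [mul_sub]; exact h2
  rcases mul_eq_zero.mp h3 with h | h
  · exact absurd h (hy s hs).ne'
  · linarith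

lemma null_of_ker_sym (K : ℕ) (Dm : ℕ → ℕ → ℤ) (cv dv : ℕ → ℤ)
    (hker : ∀ s, s < K → ∑ t ∈ range K, Dm s t * cv t = 0)
    (hsym : ∀ s t, s < K → t < K → dv s * Dm s t = dv t * Dm t s) :
    ∀ t, t < K → ∑ s ∈ range K, (cv s * dv s) * Dm s t = 0 := by
  intro t ht
  have : ∑ s ∈ range K, (cv s * dv s) * Dm s t = dv t * ∑ s ∈ range K, Dm t s * cv s := by
    rw [Finset.mul_sum]
    refine Finset.sum_congr rfl (fun s hs => ?_)
    have := hsym s t (mem_range.mp hs) ht
    linear_combination cv s * this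
  rw [this, hker t ht, mul_zero]

/-- Master lemma with the final extraction of multiplicities and weights. -/
theorem MLfinal (hm2 : ∀ i, T.IsMinusTwo i) (K : ℕ) (hK : 0 < K) (v : ℕ → Fin n)
    (hv : ∀ s t, s < K → t < K → v s = v t → s = t)
    (Dm : ℕ → ℕ → ℤ) (cv dv : ℕ → ℤ) (hcv : ∀ s, s < K → 0 < cv s) (hdv : ∀ s, s < K → 0 < dv s)
    (hdiag : ∀ s, s < K → Dm s s = -2)
    (hlb : ∀ s t, s < K → t < K → s ≠ t → Dm s t = 0 ∨ Dm s t ≤ c T (v s) (v t))
    (hker : ∀ s, s < K → ∑ t ∈ range K, Dm s t * cv t = 0)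
    (hsym : ∀ s t, s < K → t < K → dv s * Dm s t = dv t * Dm t s)
    (i0 j0 : ℕ) (hi0 : i0 < K) (hj0 : j0 < K) (hc : cv i0 = 1) (hd : dv j0 = 1) :
    K = n ∧ ∃ (σ : Equiv.Perm (Fin n)) (m w : ℤ), (∀ i : Fin n, T.m (σ i) = cv i.val * m) ∧
      (∀ i : Fin n, T.w (σ i) = dv i.val * w) ∧
      ∀ i j : Fin n, T.a (σ i) (σ j) = dv i.val * Dm i.val j.val * w := by
  obtain ⟨hKn, hex⟩ := ML hm2 K hK v hv Dm (fun s => cv s * dv s)
    (fun s hs => mul_pos (hcv s hs) (hdv s hs)) hdiag hlb (null_of_ker_sym K Dm cv dv hker hsym)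
  refine ⟨hKn, ?_⟩
  subst hKn
  have hinj : Function.Injective (fun s : Fin K => v s.val) :=
    fun s t h => Fin.ext (hv _ _ s.2 t.2 h)
  set σ : Equiv.Perm (Fin K) := Equiv.ofBijective _ hinj.bijective_of_finite with hσ
  have hσa : ∀ s : Fin K, σ s = v s.val := fun s => rfl
  obtain ⟨h1, h2, h3⟩ := final T σ (fun i => cv i.val) (fun i => dv i.val)
    (fun i j => Dm i.val j.val) (fun s t => by rw [hσa, hσa]; exact hex _ _ s.2 t.2)
    (fun s => by
      rw [Fin.sum_univ_eq_sum_range (fun t => Dm s.val t * cv t) K]; exact hker s.val s.2)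
    (fun s t => hsym _ _ s.2 t.2) ⟨i0, hi0⟩ ⟨j0, hj0⟩ hc hd
  exact ⟨σ, T.m (σ ⟨i0, hi0⟩), T.w (σ ⟨j0, hj0⟩), h1, h2, h3⟩

/-- Negative master lemma: a bijective configuration with exactly known Cartan integers
cannot have a vector with nonpositive column sums one of which is negative. -/
theorem MLneg (K : ℕ) (v : ℕ → Fin n)
    (hv : ∀ s t, s < K → t < K → v s = v t → s = t)
    (hsurj : ∀ x, ∃ s, s < K ∧ x = v s)
    (Dm : ℕ → ℕ → ℤ) (hex : ∀ s t, s < K → t < K → c T (v s) (v t) = Dm s t)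
    (Y : ℕ → ℤ) (hcol : ∀ t, t < K → ∑ s ∈ range K, Y s * Dm s t ≤ 0)
    (t0 : ℕ) (ht0 : t0 < K) (hneg : ∑ s ∈ range K, Y s * Dm s t0 < 0) : False := by
  have hinj : Function.Injective (fun s : Fin K => v s.val) :=
    fun s t h => Fin.ext (hv _ _ s.2 t.2 h)
  have hsur : Function.Surjective (fun s : Fin K => v s.val) := by
    intro x; obtain ⟨s, hs, rfl⟩ := hsurj x; exact ⟨⟨s, hs⟩, rfl⟩
  have hKn : K = n := by
    have := Fintype.card_of_bijective ⟨hinj, hsur⟩
    simpa using this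
  have hsumeq : ∀ t : Fin K, ∑ s : Fin K, Y s.val * c T (v s.val) (v t.val)
      = ∑ s ∈ range K, Y s * Dm s t.val := by
    intro t
    rw [← Fin.sum_univ_eq_sum_range (fun s => Y s * Dm s t.val) K]
    exact Finset.sum_congr rfl (fun s _ => by rw [hex _ _ s.2 t.2])
  have := cfg_neg T hinj hKn (fun s : Fin K => Y s.val)
    (fun t => by rw [hsumeq t]; exact hcol t.val t.2) ⟨t0, ht0⟩
  rw [hsumeq ⟨t0, ht0⟩] at this
  simp only at this
  omega

/-! ### adjacency -/

/-- adjacency in the dual graph -/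
def Adj (T : Models.NumericalType n) (i j : Fin n) : Prop := i ≠ j ∧ T.a i j ≠ 0

lemma Adj.symm {i j : Fin n} (h : Adj T i j) : Adj T j i :=
  ⟨h.1.symm, by rw [a_symm]; exact h.2⟩

lemma Adj.ne {i j : Fin n} (h : Adj T i j) : i ≠ j := h.1

lemma Adj.le {i j : Fin n} (h : Adj T i j) : 1 ≤ c T i j := one_le_c T h.1 h.2

lemma Adj.le' {i j : Fin n} (h : Adj T i j) : 1 ≤ c T j i := h.symm.le

lemma c_of_not_adj {i j : Fin n} (hne : i ≠ j) (h : ¬ Adj T i j) : c T i j = 0 := by
  rw [c_eq_zero_iff]; by_contra h'; exact h ⟨hne, h'⟩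

lemma adj_of_one_le {i j : Fin n} (hne : i ≠ j) (h : 1 ≤ c T i j) : Adj T i j :=
  ⟨hne, fun h0 => by rw [(c_eq_zero_iff T i j).mpr h0] at h; omega⟩

/-! ### paths -/

/-- `p 0, …, p k` is a path (without repetitions) in the dual graph -/
structure IsPath (T : Models.NumericalType n) (k : ℕ) (p : ℕ → Fin n) : Prop where
  inj : ∀ i j, i ≤ k → j ≤ k → p i = p j → i = j
  adj : ∀ i, i < k → Adj T (p i) (p (i + 1))

variable {k : ℕ} {p : ℕ → Fin n}

lemma IsPath.ne (hp : IsPath T k p) {i j : ℕ} (hi : i ≤ k) (hj : j ≤ k) (hij : i ≠ j) :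
    p i ≠ p j := fun h => hij (hp.inj i j hi hj h)

lemma IsPath.adj' (hp : IsPath T k p) {i j : ℕ} (hij : i + 1 = j) (hj : j ≤ k) :
    Adj T (p i) (p j) := by
  subst hij; exact hp.adj i (by omega)

lemma IsPath.rev (hp : IsPath T k p) : IsPath T k (fun i => p (k - i)) where
  inj := fun i j hi hj h => by
    have := hp.inj _ _ (Nat.sub_le k i) (Nat.sub_le k j) h; omega
  adj := fun i hi => by
    have := (hp.adj (k - (i + 1)) (by omega)).symm
    have e : k - (i + 1) + 1 = k - i := by omega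
    rw [e] at this; exact this

lemma IsPath.seg (hp : IsPath T k p) (a L : ℕ) (h : a + L ≤ k) :
    IsPath T L (fun i => p (a + i)) where
  inj := fun i j hi hj h' => by
    have := hp.inj _ _ (by omega) (by omega) h'; omega
  adj := fun i hi => hp.adj (a + i) (by omega)

lemma IsPath.cons (hp : IsPath T k p) (z : Fin n) (hz : ∀ i, i ≤ k → z ≠ p i)
    (hadj : Adj T z (p 0)) : IsPath T (k + 1) (fun i => if i = 0 then z else p (i - 1)) where
  inj := by
    intro i j hi hj h
    by_cases hi0 : i = 0 <;> by_cases hj0 : j = 0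
    · omega
    · simp only [hi0, hj0, if_true, if_false] at h
      exact absurd h (hz _ (by omega))
    · simp only [hi0, hj0, if_true, if_false] at h
      exact absurd h.symm (hz _ (by omega))
    · simp only [hi0, hj0, if_false] at h
      have := hp.inj _ _ (by omega) (by omega) h; omega
  adj := by
    intro i hi
    by_cases hi0 : i = 0
    · subst hi0; simpa using hadj
    · have := hp.adj (i - 1) (by omega)
      have e : i - 1 + 1 = i := by omega
      rw [e] at this
      simpa [hi0] using this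

lemma exists_longest (T : Models.NumericalType n) :
    ∃ k p, IsPath T k p ∧ ∀ k' p', IsPath T k' p' → k' ≤ k := by
  classical
  let P : ℕ → Prop := fun k => ∃ p, IsPath T k p
  have h0 : P 0 := ⟨fun _ => ⟨0, T.pos⟩, ⟨fun i j hi hj _ => by omega, fun i hi => by omega⟩⟩
  have hb : ∀ k, P k → k ≤ n := by
    rintro k ⟨p, hp⟩
    have hinj : Function.Injective (fun s : Fin (k + 1) => p s.val) :=
      fun s t h => Fin.ext (hp.inj _ _ (by omega) (by omega) h)
    have := Fintype.card_le_of_injective _ hinj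
    simp at this; omega
  obtain ⟨p, hp⟩ := Nat.findGreatest_spec (P := P) (Nat.zero_le n) h0
  exact ⟨Nat.findGreatest P n, p, hp,
    fun k' p' h' => Nat.le_findGreatest (hb k' ⟨p', h'⟩) ⟨p', h'⟩⟩

end Groth.Agent.Lib.Helper9.NT
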