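import Mathlib
import Groth.Prelude.Def_Models
import Groth.Agent.Lib.Helper24.NumTypeGlue
import Groth.Agent.Lib.Helper9.NTA

/-!
# Genus one numerical types, general case: small forbidden configurations
-/

set_option autoImplicit false
set_option linter.style.haveILetI false

namespace Groth.Agent.Lib.Helper9.NT

open Finset Models
open Groth.Agent.Lib.Helper24.NumTypeGlue

variable {n : ℕ} {T : Models.NumericalType n}

/-- matrix given by a list of undirected edges `(s, t, Dm s t, Dm t s)` -/
def dmOf (E : List (ℕ × ℕ × ℤ × ℤ)) (s t : ℕ) : ℤ :=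
  if s = t then -2 else
    match E.find? (fun e => decide (e.1 = s ∧ e.2.1 = t) || decide (e.1 = t ∧ e.2.1 = s)) with
    | some e => if e.1 = s then e.2.2.1 else e.2.2.2
    | none => 0

/-- the lower bound condition for one edge -/
def EdgeOK (T : Models.NumericalType n) (v : ℕ → Fin n) (e : ℕ × ℕ × ℤ × ℤ) : Prop :=
  e.2.2.1 ≤ c T (v e.1) (v e.2.1) ∧ e.2.2.2 ≤ c T (v e.2.1) (v e.1)

lemma dmOf_lb (E : List (ℕ × ℕ × ℤ × ℤ)) (v : ℕ → Fin n)
    (hE : ∀ e ∈ E, EdgeOK T v e) (s t : ℕ) (hst : s ≠ t) :
    dmOf E s t = 0 ∨ dmOf E s t ≤ c T (v s) (v t) := by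
  unfold dmOf
  rw [if_neg hst]
  cases hfind : E.find? (fun e => decide (e.1 = s ∧ e.2.1 = t) || decide (e.1 = t ∧ e.2.1 = s)) with
  | none => left; rfl
  | some e =>
    right
    have hmem := List.mem_of_find?_eq_some hfind
    have hp := List.find?_some hfind
    simp only [Bool.or_eq_true, decide_eq_true_eq] at hp
    have hok := hE e hmem
    rcases hp with ⟨h1, h2⟩ | ⟨h1, h2⟩
    · simp only [h1, if_true]
      have := hok.1
      rw [h1, h2] at this
      exact this
    · have hne : e.1 ≠ s := fun h => hst (h.symm.trans h1)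
      simp only [hne, if_false]
      have := hok.2
      rw [h1, h2] at this
      exact this

/-- small configurations: the master lemma for a matrix given by an edge list -/
theorem small_ML (hm2 : ∀ i, T.IsMinusTwo i) (K : ℕ) (hK : 0 < K) (v : ℕ → Fin n)
    (hv : ∀ s t, s < K → t < K → v s = v t → s = t)
    (E : List (ℕ × ℕ × ℤ × ℤ)) (y : List ℤ)
    (hy : ∀ s, s < K → 0 < y.getD s 0)
    (hnull : ∀ t, t < K → ∑ s ∈ range K, y.getD s 0 * dmOf E s t = 0)
    (hE : List.Forall (EdgeOK T v) E) : K = n :=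
  (ML hm2 K hK v hv (dmOf E) (fun s => y.getD s 0) hy (fun s _ => by simp [dmOf])
    (fun s t _ _ hst => dmOf_lb E v (List.forall_iff_forall_mem.mp hE) s t hst) hnull).1

/-! ### path segments with up to two extra vertices -/

/-- `p a, …, p (a + L - 1), z, z'` -/
def segExt (p : ℕ → Fin n) (a L : ℕ) (z z' : Fin n) (s : ℕ) : Fin n :=
  if s < L then p (a + s) else if s = L then z else z'

lemma segExt_lt (p : ℕ → Fin n) (a L : ℕ) (z z' : Fin n) {s : ℕ} (h : s < L) :
    segExt p a L z z' s = p (a + s) := by simp [segExt, h]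

lemma segExt_L (p : ℕ → Fin n) (a L : ℕ) (z z' : Fin n) : segExt p a L z z' L = z := by
  simp [segExt]

lemma segExt_L1 (p : ℕ → Fin n) (a L : ℕ) (z z' : Fin n) : segExt p a L z z' (L + 1) = z' := by
  simp [segExt]

variable {k : ℕ} {p : ℕ → Fin n}

lemma segExt_inj2 (hp : IsPath T k p) (a L : ℕ) (haL : a + L ≤ k + 1) (z z' : Fin n)
    (hz : ∀ i, i ≤ k → z ≠ p i) (hz' : ∀ i, i ≤ k → z' ≠ p i) (hzz' : z ≠ z') :
    ∀ s t, s < L + 2 → t < L + 2 → segExt p a L z z' s = segExt p a L z z' t → s = t := by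
  intro s t hs ht h
  unfold segExt at h
  by_cases hs1 : s < L <;> by_cases ht1 : t < L
  · simp only [hs1, ht1, if_true] at h
    have := hp.inj _ _ (by omega) (by omega) h; omega
  · simp only [hs1, ht1, if_true, if_false] at h
    split_ifs at h
    · exact absurd h.symm (hz _ (by omega))
    · exact absurd h.symm (hz' _ (by omega))
  · simp only [hs1, ht1, if_true, if_false] at h
    split_ifs at h
    · exact absurd h (hz _ (by omega))
    · exact absurd h (hz' _ (by omega))
  · simp only [hs1, ht1, if_false] at h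
    split_ifs at h with h1 h2 h2
    · omega
    · exact absurd h hzz'
    · exact absurd h.symm hzz'
    · omega

lemma segExt_inj1 (hp : IsPath T k p) (a L : ℕ) (haL : a + L ≤ k + 1) (z : Fin n)
    (hz : ∀ i, i ≤ k → z ≠ p i) :
    ∀ s t, s < L + 1 → t < L + 1 → segExt p a L z z s = segExt p a L z z t → s = t := by
  intro s t hs ht h
  unfold segExt at h
  by_cases hs1 : s < L <;> by_cases ht1 : t < L
  · simp only [hs1, ht1, if_true] at h
    have := hp.inj _ _ (by omega) (by omega) h; omega
  · simp only [hs1, ht1, if_true, if_false, ite_self] at h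
    exact absurd h.symm (hz _ (by omega))
  · simp only [hs1, ht1, if_true, if_false, ite_self] at h
    exact absurd h (hz _ (by omega))
  · omega

lemma segExt_inj0 (hp : IsPath T k p) (a L : ℕ) (haL : a + L ≤ k + 1) (z : Fin n) :
    ∀ s t, s < L → t < L → segExt p a L z z s = segExt p a L z z t → s = t := by
  intro s t hs ht h
  rw [segExt_lt _ _ _ _ _ hs, segExt_lt _ _ _ _ _ ht] at h
  have := hp.inj _ _ (by omega) (by omega) h; omega

/-- an edge of the path inside a segment -/
lemma segExt_edge (hp : IsPath T k p) (a L : ℕ) (haL : a + L ≤ k + 1) (z z' : Fin n) (i : ℕ)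
    (hi : i + 1 < L) (x y : ℤ) (hx : x = 1) (hy : y = 1) :
    EdgeOK T (segExt p a L z z') (i, i + 1, x, y) := by
  subst hx hy
  unfold EdgeOK
  simp only
  rw [segExt_lt _ _ _ _ _ (by omega : i < L), segExt_lt _ _ _ _ _ hi]
  have := hp.adj (a + i) (by omega)
  exact ⟨this.le, this.le'⟩

end Groth.Agent.Lib.Helper9.NT
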