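import Mathlib
import Groth.Prelude.Def_Models
import Groth.Agent.Lib.Helper24.NumTypeGlue
import Groth.Agent.Lib.Helper9.NTA
import Groth.Agent.Lib.Helper9.NTB

/-!
# Genus one numerical types, general case: the small forbidden configurations
-/

set_option autoImplicit false
set_option linter.style.haveILetI false

namespace Groth.Agent.Lib.Helper9.NT

open Finset Models
open Groth.Agent.Lib.Helper24.NumTypeGlue Groth.Agent.Lib.Helper24.NumTypeEngine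

variable {n : ℕ} {T : Models.NumericalType n}

lemma edgeOK_mk (v : ℕ → Fin n) (s t : ℕ) (x y : ℤ) (a b : Fin n) (hs : v s = a) (ht : v t = b)
    (h1 : x ≤ c T a b) (h2 : y ≤ c T b a) : EdgeOK T v (s, t, x, y) := by
  subst hs ht; exact ⟨h1, h2⟩

/-- a path with three vertices -/
def path3 (a x b : Fin n) (s : ℕ) : Fin n := if s = 0 then a else if s = 1 then x else b

lemma isPath3 {a x b : Fin n} (hax : Adj T a x) (hxb : Adj T x b) (hab : a ≠ b) :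
    IsPath T 2 (path3 a x b) where
  inj := by
    intro i j hi hj h
    have h1 := hax.ne
    have h2 := hxb.ne
    interval_cases i <;> interval_cases j <;> simp [path3] at h <;> first | rfl | exact absurd h h1 | exact absurd h hab | exact absurd h.symm h1 | exact absurd h h2 | exact absurd h.symm hab | exact absurd h.symm h2
  adj := by
    intro i hi
    interval_cases i
    · simpa [path3] using hax
    · simpa [path3] using hxb

variable {k : ℕ} {p : ℕ → Fin n}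

/-! ### `G̃₂` -/

lemma G2_excl (hm2 : ∀ i, T.IsMinusTwo i) {l i j : Fin n} (hli : Adj T l i) (hij : Adj T i j)
    (hlj : l ≠ j) (h3 : 3 ≤ c T i j ∨ 3 ≤ c T j i) : 3 = n := by
  have hp := isPath3 hli hij hlj
  have hv : ∀ s t, s < 3 → t < 3 → path3 l i j s = path3 l i j t → s = t :=
    fun s t hs ht h => hp.inj s t (by omega) (by omega) h
  rcases h3 with h3 | h3
  · exact small_ML hm2 3 (by norm_num) (path3 l i j) hv [(0,1,1,1),(1,2,3,1)] [1,2,3]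
      (by decide) (by decide)
      ⟨edgeOK_mk _ 0 1 1 1 l i rfl rfl hli.le hli.le', edgeOK_mk _ 1 2 3 1 i j rfl rfl h3 hij.le'⟩
  · exact small_ML hm2 3 (by norm_num) (path3 l i j) hv [(0,1,1,1),(1,2,1,3)] [1,2,1]
      (by decide) (by decide)
      ⟨edgeOK_mk _ 0 1 1 1 l i rfl rfl hli.le hli.le', edgeOK_mk _ 1 2 1 3 i j rfl rfl hij.le h3⟩

lemma no_triple (hn : 4 ≤ n) (hm2 : ∀ i, T.IsMinusTwo i) {i j : Fin n} (h : Adj T i j)
    (h3 : 3 ≤ c T i j ∨ 3 ≤ c T j i) : False := by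
  classical
  have hne : ({i, j} : Finset (Fin n)) ≠ univ := by
    intro hh
    have h1 : ({i, j} : Finset (Fin n)).card ≤ 2 := Finset.card_le_two
    rw [hh, Finset.card_univ, Fintype.card_fin] at h1
    omega
  obtain ⟨i', hi', l, hl, hil⟩ := T.connected {i, j} ⟨i, by simp⟩ hne
  simp only [Finset.mem_insert, Finset.mem_singleton, not_or] at hi' hl
  rcases hi' with rfl | rfl
  · have hli : Adj T l i' := ⟨hl.1, by rw [a_symm]; exact hil⟩
    have := G2_excl hm2 hli h hl.2 h3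
    omega
  · have hli : Adj T l i' := ⟨hl.2, by rw [a_symm]; exact hil⟩
    have := G2_excl hm2 hli h.symm hl.1 h3.symm
    omega

lemma edge_type (hn : 4 ≤ n) (hm2 : ∀ i, T.IsMinusTwo i) {i j : Fin n} (h : Adj T i j) :
    (c T i j = 1 ∧ c T j i = 1) ∨ (c T i j = 1 ∧ c T j i = 2) ∨ (c T i j = 2 ∧ c T j i = 1) := by
  have hopt := pair_mem_opts T (by omega) hm2 h.1
  simp only [opts, List.mem_cons, Prod.mk.injEq, List.not_mem_nil, or_false] at hopt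
  rcases hopt with ⟨h1, h2⟩ | ⟨h1, h2⟩ | ⟨h1, h2⟩ | ⟨h1, h2⟩ | ⟨h1, h2⟩ | ⟨h1, h2⟩
  · exfalso; have := h.le; omega
  · left; exact ⟨h1, h2⟩
  · right; left; exact ⟨h1, h2⟩
  · right; right; exact ⟨h1, h2⟩
  · exact (no_triple hn hm2 h (Or.inr (by omega))).elim
  · exact (no_triple hn hm2 h (Or.inl (by omega))).elim

/-! ### a branch vertex with a heavy edge -/

lemma Br_excl (hm2 : ∀ i, T.IsMinusTwo i) {x a b d : Fin n} (hax : Adj T a x) (hxb : Adj T x b)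
    (hxd : Adj T x d) (hab : a ≠ b) (had : a ≠ d) (hbd : b ≠ d)
    (h2 : 2 ≤ c T a x ∨ 2 ≤ c T x a) : 4 = n := by
  have hp := isPath3 hax hxb hab
  have hd : ∀ i, i ≤ 2 → d ≠ path3 a x b i := by
    intro i hi
    interval_cases i
    · simpa [path3] using had.symm
    · simpa [path3] using hxd.ne.symm
    · simpa [path3] using hbd.symm
  have hv := segExt_inj1 hp 0 3 (by norm_num) d hd
  have e0 : segExt (path3 a x b) 0 3 d d 0 = a := by simp [segExt, path3]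
  have e1 : segExt (path3 a x b) 0 3 d d 1 = x := by simp [segExt, path3]
  have e2 : segExt (path3 a x b) 0 3 d d 2 = b := by simp [segExt, path3]
  have e3 : segExt (path3 a x b) 0 3 d d 3 = d := by simp [segExt]
  rcases h2 with h2 | h2
  · exact small_ML hm2 4 (by norm_num) _ hv [(0,1,2,1),(1,2,1,1),(1,3,1,1)] [1,2,1,1]
      (by decide) (by decide)
      ⟨edgeOK_mk _ 0 1 2 1 a x e0 e1 h2 hax.le', edgeOK_mk _ 1 2 1 1 x b e1 e2 hxb.le hxb.le',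
        edgeOK_mk _ 1 3 1 1 x d e1 e3 hxd.le hxd.le'⟩
  · exact small_ML hm2 4 (by norm_num) _ hv [(0,1,1,2),(1,2,1,1),(1,3,1,1)] [2,2,1,1]
      (by decide) (by decide)
      ⟨edgeOK_mk _ 0 1 1 2 a x e0 e1 hax.le h2, edgeOK_mk _ 1 2 1 1 x b e1 e2 hxb.le hxb.le',
        edgeOK_mk _ 1 3 1 1 x d e1 e3 hxd.le hxd.le'⟩

/-! ### the star with four rays -/

lemma Star_excl (hm2 : ∀ i, T.IsMinusTwo i) (hp : IsPath T k p) (t : ℕ) (ht0 : 0 < t) (htk : t < k)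
    (z z' : Fin n) (hz : ∀ i, i ≤ k → z ≠ p i) (hz' : ∀ i, i ≤ k → z' ≠ p i) (hzz' : z ≠ z')
    (hadj : Adj T z (p t)) (hadj' : Adj T z' (p t)) : 5 = n := by
  have haL : t - 1 + 3 ≤ k + 1 := by omega
  have e1 : segExt p (t - 1) 3 z z' 1 = p t := by
    rw [segExt_lt _ _ _ _ _ (by norm_num)]; congr 1; omega
  refine small_ML hm2 5 (by norm_num) (segExt p (t - 1) 3 z z')
    (segExt_inj2 hp _ 3 haL z z' hz hz' hzz') [(0,1,1,1),(1,2,1,1),(1,3,1,1),(1,4,1,1)] [1,2,1,1,1]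
    (by decide) (by decide)
    ⟨segExt_edge hp _ 3 haL z z' 0 (by norm_num) 1 1 rfl rfl,
      segExt_edge hp _ 3 haL z z' 1 (by norm_num) 1 1 rfl rfl,
      edgeOK_mk _ 1 3 1 1 (p t) z e1 (segExt_L _ _ _ _ _) hadj.le' hadj.le,
      edgeOK_mk _ 1 4 1 1 (p t) z' e1 (segExt_L1 _ _ _ _ _) hadj'.le' hadj'.le⟩

/-! ### `F̃₄` -/

lemma F4_excl (hm2 : ∀ i, T.IsMinusTwo i) (hp : IsPath T k p) (s : ℕ) (hs2 : 2 ≤ s)
    (hsk : s + 2 ≤ k) (h2 : 2 ≤ c T (p s) (p (s + 1)) ∨ 2 ≤ c T (p (s + 1)) (p s)) : 5 = n := by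
  have haL : s - 2 + 5 ≤ k + 1 := by omega
  have hv := segExt_inj0 hp (s - 2) 5 haL (p 0)
  have e2 : segExt p (s - 2) 5 (p 0) (p 0) 2 = p s := by
    rw [segExt_lt _ _ _ _ _ (by norm_num)]; congr 1; omega
  have e3 : segExt p (s - 2) 5 (p 0) (p 0) 3 = p (s + 1) := by
    rw [segExt_lt _ _ _ _ _ (by norm_num)]; congr 1; omega
  have hadj := hp.adj s (by omega)
  rcases h2 with h2 | h2
  · exact small_ML hm2 5 (by norm_num) _ hv [(0,1,1,1),(1,2,1,1),(2,3,2,1),(3,4,1,1)] [1,2,3,4,2]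
      (by decide) (by decide)
      ⟨segExt_edge hp _ 5 haL _ _ 0 (by norm_num) 1 1 rfl rfl,
        segExt_edge hp _ 5 haL _ _ 1 (by norm_num) 1 1 rfl rfl,
        edgeOK_mk _ 2 3 2 1 _ _ e2 e3 h2 hadj.le',
        segExt_edge hp _ 5 haL _ _ 3 (by norm_num) 1 1 rfl rfl⟩
  · exact small_ML hm2 5 (by norm_num) _ hv [(0,1,1,1),(1,2,1,1),(2,3,1,2),(3,4,1,1)] [1,2,3,2,1]
      (by decide) (by decide)
      ⟨segExt_edge hp _ 5 haL _ _ 0 (by norm_num) 1 1 rfl rfl,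
        segExt_edge hp _ 5 haL _ _ 1 (by norm_num) 1 1 rfl rfl,
        edgeOK_mk _ 2 3 1 2 _ _ e2 e3 hadj.le h2,
        segExt_edge hp _ 5 haL _ _ 3 (by norm_num) 1 1 rfl rfl⟩

/-! ### `Ẽ₆`, `Ẽ₇`, `Ẽ₈` -/

lemma E6_excl (hm2 : ∀ i, T.IsMinusTwo i) (hp : IsPath T k p) (t : ℕ) (ht2 : 2 ≤ t)
    (htk : t + 2 ≤ k) (z z' : Fin n) (hz : ∀ i, i ≤ k → z ≠ p i) (hz' : ∀ i, i ≤ k → z' ≠ p i)
    (hadj : Adj T z (p t)) (hadj' : Adj T z' z) : 7 = n := by
  have haL : t - 2 + 5 ≤ k + 1 := by omega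
  have e2 : segExt p (t - 2) 5 z z' 2 = p t := by
    rw [segExt_lt _ _ _ _ _ (by norm_num)]; congr 1; omega
  refine small_ML hm2 7 (by norm_num) (segExt p (t - 2) 5 z z')
    (segExt_inj2 hp _ 5 haL z z' hz hz' hadj'.ne.symm)
    [(0,1,1,1),(1,2,1,1),(2,3,1,1),(3,4,1,1),(2,5,1,1),(5,6,1,1)] [1,2,3,2,1,2,1]
    (by decide) (by decide)
    ⟨segExt_edge hp _ 5 haL z z' 0 (by norm_num) 1 1 rfl rfl,
      segExt_edge hp _ 5 haL z z' 1 (by norm_num) 1 1 rfl rfl,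
      segExt_edge hp _ 5 haL z z' 2 (by norm_num) 1 1 rfl rfl,
      segExt_edge hp _ 5 haL z z' 3 (by norm_num) 1 1 rfl rfl,
      edgeOK_mk _ 2 5 1 1 (p t) z e2 (segExt_L _ _ _ _ _) hadj.le' hadj.le,
      edgeOK_mk _ 5 6 1 1 z z' (segExt_L _ _ _ _ _) (segExt_L1 _ _ _ _ _) hadj'.le' hadj'.le⟩

lemma E7_excl (hm2 : ∀ i, T.IsMinusTwo i) (hp : IsPath T k p) (t : ℕ) (ht3 : 3 ≤ t)
    (htk : t + 3 ≤ k) (z : Fin n) (hz : ∀ i, i ≤ k → z ≠ p i)
    (hadj : Adj T z (p t)) : 8 = n := by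
  have haL : t - 3 + 7 ≤ k + 1 := by omega
  have e3 : segExt p (t - 3) 7 z z 3 = p t := by
    rw [segExt_lt _ _ _ _ _ (by norm_num)]; congr 1; omega
  refine small_ML hm2 8 (by norm_num) (segExt p (t - 3) 7 z z)
    (segExt_inj1 hp _ 7 haL z hz)
    [(0,1,1,1),(1,2,1,1),(2,3,1,1),(3,4,1,1),(4,5,1,1),(5,6,1,1),(3,7,1,1)] [1,2,3,4,3,2,1,2]
    (by decide) (by decide)
    ⟨segExt_edge hp _ 7 haL z z 0 (by norm_num) 1 1 rfl rfl,
      segExt_edge hp _ 7 haL z z 1 (by norm_num) 1 1 rfl rfl,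
      segExt_edge hp _ 7 haL z z 2 (by norm_num) 1 1 rfl rfl,
      segExt_edge hp _ 7 haL z z 3 (by norm_num) 1 1 rfl rfl,
      segExt_edge hp _ 7 haL z z 4 (by norm_num) 1 1 rfl rfl,
      segExt_edge hp _ 7 haL z z 5 (by norm_num) 1 1 rfl rfl,
      edgeOK_mk _ 3 7 1 1 (p t) z e3 (segExt_L _ _ _ _ _) hadj.le' hadj.le⟩

lemma E8_excl (hm2 : ∀ i, T.IsMinusTwo i) (hp : IsPath T k p) (hk : 7 ≤ k)
    (z : Fin n) (hz : ∀ i, i ≤ k → z ≠ p i)
    (hadj : Adj T z (p (k - 2))) : 9 = n := by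
  have haL : k - 7 + 8 ≤ k + 1 := by omega
  have e5 : segExt p (k - 7) 8 z z 5 = p (k - 2) := by
    rw [segExt_lt _ _ _ _ _ (by norm_num)]; congr 1; omega
  refine small_ML hm2 9 (by norm_num) (segExt p (k - 7) 8 z z)
    (segExt_inj1 hp _ 8 haL z hz)
    [(0,1,1,1),(1,2,1,1),(2,3,1,1),(3,4,1,1),(4,5,1,1),(5,6,1,1),(6,7,1,1),(5,8,1,1)]
    [1,2,3,4,5,6,4,2,3]
    (by decide) (by decide)
    ⟨segExt_edge hp _ 8 haL z z 0 (by norm_num) 1 1 rfl rfl,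
      segExt_edge hp _ 8 haL z z 1 (by norm_num) 1 1 rfl rfl,
      segExt_edge hp _ 8 haL z z 2 (by norm_num) 1 1 rfl rfl,
      segExt_edge hp _ 8 haL z z 3 (by norm_num) 1 1 rfl rfl,
      segExt_edge hp _ 8 haL z z 4 (by norm_num) 1 1 rfl rfl,
      segExt_edge hp _ 8 haL z z 5 (by norm_num) 1 1 rfl rfl,
      segExt_edge hp _ 8 haL z z 6 (by norm_num) 1 1 rfl rfl,
      edgeOK_mk _ 5 8 1 1 (p (k - 2)) z e5 (segExt_L _ _ _ _ _) hadj.le' hadj.le⟩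

end Groth.Agent.Lib.Helper9.NT
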