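import Mathlib
import Groth.Prelude.Def_Models
import Groth.Agent.Lib.Helper24.NumTypeGlue
import Groth.Agent.Lib.Helper9.NTA
import Groth.Agent.Lib.Helper9.NTB
import Groth.Agent.Lib.Helper9.NTC

/-!
# Genus one numerical types, general case: the seven shapes and their matrices
-/

set_option autoImplicit false
set_option linter.style.haveILetI false

namespace Groth.Agent.Lib.Helper9.NT

open Finset Models
open Groth.Agent.Lib.Helper24.NumTypeGlue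

variable {n : ℕ}

def Shape1 (T : Models.NumericalType n) (σ : Equiv.Perm (Fin n)) (m w : ℤ) : Prop :=
  ((∀ i : Fin n, T.m (σ i) = m) ∧
        (∀ i : Fin n, T.w (σ i) = w) ∧
        (∀ i j : Fin n, i.val < j.val → j.val = i.val + 1 → T.a (σ i) (σ j) = w) ∧
        (∀ i j : Fin n, i.val < j.val → i.val = 0 ∧ j.val + 1 = n → T.a (σ i) (σ j) = w) ∧
        (∀ i j : Fin n, i.val < j.val → ¬ (j.val = i.val + 1) → ¬ (i.val = 0 ∧ j.val + 1 = n) → T.a (σ i) (σ j) = 0))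

def Shape2 (T : Models.NumericalType n) (σ : Equiv.Perm (Fin n)) (m w : ℤ) : Prop :=
  ((∀ i : Fin n, i.val + 1 < n → T.m (σ i) = 2 * m) ∧
        (∀ i : Fin n, i.val + 1 = n → T.m (σ i) = m) ∧
        (∀ i : Fin n, i.val = 0 → T.w (σ i) = w) ∧
        (∀ i : Fin n, 0 < i.val ∧ i.val + 1 < n → T.w (σ i) = 2 * w) ∧
        (∀ i : Fin n, i.val + 1 = n → T.w (σ i) = 4 * w) ∧
        (∀ i j : Fin n, i.val < j.val → j.val = i.val + 1 ∧ j.val + 1 < n → T.a (σ i) (σ j) = 2 * w) ∧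
        (∀ i j : Fin n, i.val < j.val → j.val = i.val + 1 ∧ j.val + 1 = n → T.a (σ i) (σ j) = 4 * w) ∧
        (∀ i j : Fin n, i.val < j.val → ¬ (j.val = i.val + 1 ∧ j.val + 1 < n) → ¬ (j.val = i.val + 1 ∧ j.val + 1 = n) → T.a (σ i) (σ j) = 0))

def Shape3 (T : Models.NumericalType n) (σ : Equiv.Perm (Fin n)) (m w : ℤ) : Prop :=
  ((∀ i : Fin n, T.m (σ i) = m) ∧
        (∀ i : Fin n, i.val = 0 → T.w (σ i) = w) ∧
        (∀ i : Fin n, 0 < i.val ∧ i.val + 1 < n → T.w (σ i) = 2 * w) ∧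
        (∀ i : Fin n, i.val + 1 = n → T.w (σ i) = w) ∧
        (∀ i j : Fin n, i.val < j.val → j.val = i.val + 1 → T.a (σ i) (σ j) = 2 * w) ∧
        (∀ i j : Fin n, i.val < j.val → ¬ (j.val = i.val + 1) → T.a (σ i) (σ j) = 0))

def Shape4 (T : Models.NumericalType n) (σ : Equiv.Perm (Fin n)) (m w : ℤ) : Prop :=
  ((∀ i : Fin n, i.val = 0 → T.m (σ i) = m) ∧
        (∀ i : Fin n, 0 < i.val ∧ i.val + 1 < n → T.m (σ i) = 2 * m) ∧
        (∀ i : Fin n, i.val + 1 = n → T.m (σ i) = m) ∧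
        (∀ i : Fin n, i.val = 0 → T.w (σ i) = 2 * w) ∧
        (∀ i : Fin n, 0 < i.val ∧ i.val + 1 < n → T.w (σ i) = w) ∧
        (∀ i : Fin n, i.val + 1 = n → T.w (σ i) = 2 * w) ∧
        (∀ i j : Fin n, i.val < j.val → i.val = 0 ∧ j.val = 1 → T.a (σ i) (σ j) = 2 * w) ∧
        (∀ i j : Fin n, i.val < j.val → j.val = i.val + 1 ∧ 1 ≤ i.val ∧ j.val + 2 ≤ n → T.a (σ i) (σ j) = w) ∧
        (∀ i j : Fin n, i.val < j.val → j.val = i.val + 1 ∧ j.val + 1 = n → T.a (σ i) (σ j) = 2 * w) ∧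
        (∀ i j : Fin n, i.val < j.val → ¬ (i.val = 0 ∧ j.val = 1) → ¬ (j.val = i.val + 1 ∧ 1 ≤ i.val ∧ j.val + 2 ≤ n) → ¬ (j.val = i.val + 1 ∧ j.val + 1 = n) → T.a (σ i) (σ j) = 0))

def Shape5 (T : Models.NumericalType n) (σ : Equiv.Perm (Fin n)) (m w : ℤ) : Prop :=
  ((∀ i : Fin n, i.val = 0 → T.m (σ i) = m) ∧
        (∀ i : Fin n, 1 ≤ i.val ∧ i.val + 2 < n → T.m (σ i) = 2 * m) ∧
        (∀ i : Fin n, n ≤ i.val + 2 → T.m (σ i) = m) ∧
        (∀ i : Fin n, i.val = 0 → T.w (σ i) = 2 * w) ∧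
        (∀ i : Fin n, 0 < i.val → T.w (σ i) = w) ∧
        (∀ i j : Fin n, i.val < j.val → i.val = 0 ∧ j.val = 1 → T.a (σ i) (σ j) = 2 * w) ∧
        (∀ i j : Fin n, i.val < j.val → j.val = i.val + 1 ∧ 1 ≤ i.val ∧ j.val + 2 ≤ n → T.a (σ i) (σ j) = w) ∧
        (∀ i j : Fin n, i.val < j.val → i.val + 3 = n ∧ j.val + 1 = n → T.a (σ i) (σ j) = w) ∧
        (∀ i j : Fin n, i.val < j.val → ¬ (i.val = 0 ∧ j.val = 1) → ¬ (j.val = i.val + 1 ∧ 1 ≤ i.val ∧ j.val + 2 ≤ n) → ¬ (i.val + 3 = n ∧ j.val + 1 = n) → T.a (σ i) (σ j) = 0))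

def Shape6 (T : Models.NumericalType n) (σ : Equiv.Perm (Fin n)) (m w : ℤ) : Prop :=
  ((∀ i : Fin n, i.val + 2 < n → T.m (σ i) = 2 * m) ∧
        (∀ i : Fin n, n ≤ i.val + 2 → T.m (σ i) = m) ∧
        (∀ i : Fin n, i.val = 0 → T.w (σ i) = w) ∧
        (∀ i : Fin n, 0 < i.val → T.w (σ i) = 2 * w) ∧
        (∀ i j : Fin n, i.val < j.val → j.val = i.val + 1 ∧ j.val + 2 ≤ n → T.a (σ i) (σ j) = 2 * w) ∧
        (∀ i j : Fin n, i.val < j.val → i.val + 3 = n ∧ j.val + 1 = n → T.a (σ i) (σ j) = 2 * w) ∧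
        (∀ i j : Fin n, i.val < j.val → ¬ (j.val = i.val + 1 ∧ j.val + 2 ≤ n) → ¬ (i.val + 3 = n ∧ j.val + 1 = n) → T.a (σ i) (σ j) = 0))

def Shape7 (T : Models.NumericalType n) (σ : Equiv.Perm (Fin n)) (m w : ℤ) : Prop :=
  ((∀ i : Fin n, i.val ≤ 1 → T.m (σ i) = m) ∧
        (∀ i : Fin n, 2 ≤ i.val ∧ i.val + 2 < n → T.m (σ i) = 2 * m) ∧
        (∀ i : Fin n, n ≤ i.val + 2 → T.m (σ i) = m) ∧
        (∀ i : Fin n, T.w (σ i) = w) ∧
        (∀ i j : Fin n, i.val < j.val → i.val = 0 ∧ j.val = 2 → T.a (σ i) (σ j) = w) ∧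
        (∀ i j : Fin n, i.val < j.val → i.val = 1 ∧ j.val = 2 → T.a (σ i) (σ j) = w) ∧
        (∀ i j : Fin n, i.val < j.val → j.val = i.val + 1 ∧ 2 ≤ i.val ∧ j.val + 2 ≤ n → T.a (σ i) (σ j) = w) ∧
        (∀ i j : Fin n, i.val < j.val → i.val + 3 = n ∧ j.val + 1 = n → T.a (σ i) (σ j) = w) ∧
        (∀ i j : Fin n, i.val < j.val → ¬ (i.val = 0 ∧ j.val = 2) → ¬ (i.val = 1 ∧ j.val = 2) → ¬ (j.val = i.val + 1 ∧ 2 ≤ i.val ∧ j.val + 2 ≤ n) → ¬ (i.val + 3 = n ∧ j.val + 1 = n) → T.a (σ i) (σ j) = 0))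

/-- the conclusion of the classification -/
def Shapes (T : Models.NumericalType n) : Prop :=
  ∃ (σ : Equiv.Perm (Fin n)) (m w : ℤ),
    (Shape1 T σ m w ∨ Shape2 T σ m w ∨ Shape3 T σ m w ∨ Shape4 T σ m w ∨ Shape5 T σ m w ∨
      Shape6 T σ m w ∨ Shape7 T σ m w)

variable {T : Models.NumericalType n}

/-- a matrix from its entries above (`U s t`, `s < t`) and below (`D s t = ` entry `(t, s)`,
`s < t`) the diagonal -/
def mkM (U D : ℕ → ℕ → ℤ) (s t : ℕ) : ℤ := if s = t then -2 else if s < t then U s t else D t s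

lemma mkM_diag (U D : ℕ → ℕ → ℤ) (s : ℕ) : mkM U D s s = -2 := by simp [mkM]

lemma mkM_transpose (U D : ℕ → ℕ → ℤ) (s t : ℕ) : mkM U D s t = mkM D U t s := by
  unfold mkM
  by_cases h : s = t
  · subst h; simp
  · rcases lt_or_gt_of_ne h with h1 | h1
    · have h2 : ¬ t < s := by omega
      have h3 : ¬ t = s := by omega
      simp [h, h1, h2, h3]
    · have h2 : ¬ s < t := by omega
      have h3 : ¬ t = s := by omega
      simp [h, h1, h2, h3]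

lemma mkM_lb (U D : ℕ → ℕ → ℤ) (K : ℕ) (v : ℕ → Fin n)
    (h : ∀ s t, s < t → t < K → (U s t = 0 ∨ U s t ≤ c T (v s) (v t)) ∧
      (D s t = 0 ∨ D s t ≤ c T (v t) (v s))) :
    ∀ s t, s < K → t < K → s ≠ t → mkM U D s t = 0 ∨ mkM U D s t ≤ c T (v s) (v t) := by
  intro s t hs ht hst
  unfold mkM
  rw [if_neg hst]
  rcases lt_or_gt_of_ne hst with h1 | h1
  · rw [if_pos h1]; exact (h s t h1 ht).1
  · rw [if_neg (by omega)]; exact (h t s h1 hs).2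

end Groth.Agent.Lib.Helper9.NT
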