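import Mathlib
import Groth.Prelude.Def_Models
import Groth.Agent.Lib.Helper24.NumTypeGlue
import Groth.Agent.Lib.Helper9.NTA
import Groth.Agent.Lib.Helper9.NTB
import Groth.Agent.Lib.Helper9.NTC
import Groth.Agent.Lib.Helper9.NTD

/-!
# Genus one numerical types, general case: chains (shapes 2, 3, 4) and the cycle (shape 1)
-/

set_option autoImplicit false
set_option linter.style.haveILetI false

namespace Groth.Agent.Lib.Helper9.NT

open Finset Models
open Groth.Agent.Lib.Helper24.NumTypeGlue

variable {n : ℕ} {T : Models.NumericalType n}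

/-! ### chains -/

/-- entries above the diagonal of a chain matrix -/
def UC (K : ℕ) (u0 uL : ℤ) (s t : ℕ) : ℤ :=
  if t = s + 1 then (if s = 0 then u0 else if t + 1 = K then uL else 1) else 0

/-- the matrix of a chain with prescribed end edges -/
def DmC (K : ℕ) (u0 d0 uL dL : ℤ) : ℕ → ℕ → ℤ := mkM (UC K u0 uL) (UC K d0 dL)

/-- a vector with values `a, b, …, b, e` -/
def v3 (K : ℕ) (a b e : ℤ) (s : ℕ) : ℤ := if s = 0 then a else if s + 1 = K then e else b

lemma DmC_row (K : ℕ) (hK : 4 ≤ K) (u0 d0 uL dL : ℤ) (x : ℕ → ℤ) (s : ℕ) (hs : s < K) :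
    ∑ t ∈ range K, DmC K u0 d0 uL dL s t * x t =
      (if s = 0 then 0 else (if s = 1 then d0 else if s + 1 = K then dL else 1) * x (s - 1))
        - 2 * x s
        + (if s + 1 = K then 0 else (if s = 0 then u0 else if s + 2 = K then uL else 1) * x (s + 1)) := by
  by_cases h0 : s = 0
  · subst h0
    rw [sum_sparse K _ [0, 1] (by simp) (by simp; omega) (by
      intro t ht hnl
      simp only [List.mem_cons, List.not_mem_nil, or_false, not_or] at hnl
      simp only [DmC, mkM, UC]
      split_ifs <;> first | omega | contradiction | simp)]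
    simp only [List.map_cons, List.map_nil, List.sum_cons, List.sum_nil, DmC, mkM, UC]
    split_ifs <;> first | omega | contradiction | ring
  · by_cases hL : s + 1 = K
    · rw [sum_sparse K _ [s - 1, s] (by simp; omega) (by simp; omega) (by
        intro t ht hnl
        simp only [List.mem_cons, List.not_mem_nil, or_false, not_or] at hnl
        simp only [DmC, mkM, UC]
        split_ifs <;> first | omega | contradiction | simp)]
      simp only [List.map_cons, List.map_nil, List.sum_cons, List.sum_nil, DmC, mkM, UC]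
      split_ifs <;> first | omega | contradiction | ring
    · rw [sum_sparse K _ [s - 1, s, s + 1] (by simp; omega) (by simp; omega) (by
        intro t ht hnl
        simp only [List.mem_cons, List.not_mem_nil, or_false, not_or] at hnl
        simp only [DmC, mkM, UC]
        split_ifs <;> first | omega | contradiction | simp)]
      simp only [List.map_cons, List.map_nil, List.sum_cons, List.sum_nil, DmC, mkM, UC]
      split_ifs <;> first | omega | contradiction | ring


variable {p : ℕ → Fin n}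

lemma mkM_sym (U D : ℕ → ℕ → ℤ) (dv : ℕ → ℤ) (K : ℕ)
    (h : ∀ s t, s < t → t < K → dv s * U s t = dv t * D s t) :
    ∀ s t, s < K → t < K → dv s * mkM U D s t = dv t * mkM U D t s := by
  intro s t hs ht
  unfold mkM
  by_cases hst : s = t
  · subst hst; rfl
  · rcases lt_or_gt_of_ne hst with h1 | h1
    · rw [if_neg hst, if_pos h1, if_neg (by omega), if_neg (by omega)]
      exact h s t h1 ht
    · rw [if_neg hst, if_neg (by omega), if_neg (by omega), if_pos h1]
      exact (h t s h1 hs).symm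

lemma chain_lb {k' : ℕ} (hp : IsPath T (k' + 1) p) (u0 d0 uL dL : ℤ)
    (hu0 : u0 ≤ c T (p 0) (p 1)) (hd0 : d0 ≤ c T (p 1) (p 0))
    (huL : uL ≤ c T (p k') (p (k' + 1))) (hdL : dL ≤ c T (p (k' + 1)) (p k')) :
    ∀ s t, s < k' + 2 → t < k' + 2 → s ≠ t →
      DmC (k' + 2) u0 d0 uL dL s t = 0 ∨ DmC (k' + 2) u0 d0 uL dL s t ≤ c T (p s) (p t) := by
  apply mkM_lb
  intro s t hst ht
  unfold UC
  by_cases h1 : t = s + 1
  · subst h1
    have hadj := hp.adj s (by omega)
    rw [if_pos rfl, if_pos rfl]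
    by_cases h0 : s = 0
    · subst h0
      rw [if_pos rfl, if_pos rfl]
      exact ⟨Or.inr hu0, Or.inr hd0⟩
    · rw [if_neg h0, if_neg h0]
      by_cases hL : s + 1 + 1 = k' + 2
      · have : s = k' := by omega
        subst this
        rw [if_pos rfl, if_pos rfl]
        exact ⟨Or.inr huL, Or.inr hdL⟩
      · rw [if_neg hL, if_neg hL]
        exact ⟨Or.inr hadj.le, Or.inr hadj.le'⟩
  · rw [if_neg h1, if_neg h1]
    exact ⟨Or.inl rfl, Or.inl rfl⟩

theorem chain_final (hm2 : ∀ i, T.IsMinusTwo i) {k' : ℕ} (hp : IsPath T (k' + 1) p) (hk : 2 ≤ k')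
    (u0 d0 uL dL a b e a' b' e' : ℤ)
    (ha : 0 < a) (hb : 0 < b) (he : 0 < e) (ha' : 0 < a') (hb' : 0 < b') (he' : 0 < e')
    (hu0 : u0 ≤ c T (p 0) (p 1)) (hd0 : d0 ≤ c T (p 1) (p 0))
    (huL : uL ≤ c T (p k') (p (k' + 1))) (hdL : dL ≤ c T (p (k' + 1)) (p k'))
    (hk0 : -2 * a + u0 * b = 0) (hk1 : d0 * a - b = 0) (hk2 : uL * e - b = 0)
    (hk3 : dL * b - 2 * e = 0)
    (hs0 : a' * u0 = b' * d0) (hs1 : b' * uL = e' * dL)
    (h1 : a = 1 ∨ b = 1 ∨ e = 1) (h1' : a' = 1 ∨ b' = 1 ∨ e' = 1) :
    k' + 2 = n ∧ ∃ (σ : Equiv.Perm (Fin n)) (m w : ℤ),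
      (∀ i : Fin n, T.m (σ i) = v3 (k' + 2) a b e i.val * m) ∧
      (∀ i : Fin n, T.w (σ i) = v3 (k' + 2) a' b' e' i.val * w) ∧
      ∀ i j : Fin n, T.a (σ i) (σ j) =
        v3 (k' + 2) a' b' e' i.val * DmC (k' + 2) u0 d0 uL dL i.val j.val * w := by
  have hi0 : ∃ i0, i0 < k' + 2 ∧ v3 (k' + 2) a b e i0 = 1 := by
    rcases h1 with h | h | h
    · exact ⟨0, by omega, by simp [v3, h]⟩
    · refine ⟨1, by omega, ?_⟩
      simp only [v3]; split_ifs <;> first | omega | contradiction | exact h
    · refine ⟨k' + 1, by omega, ?_⟩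
      simp only [v3]; split_ifs <;> first | omega | contradiction | exact h
  have hj0 : ∃ j0, j0 < k' + 2 ∧ v3 (k' + 2) a' b' e' j0 = 1 := by
    rcases h1' with h | h | h
    · exact ⟨0, by omega, by simp [v3, h]⟩
    · refine ⟨1, by omega, ?_⟩
      simp only [v3]; split_ifs <;> first | omega | contradiction | exact h
    · refine ⟨k' + 1, by omega, ?_⟩
      simp only [v3]; split_ifs <;> first | omega | contradiction | exact h
  obtain ⟨i0, hi0, hc⟩ := hi0
  obtain ⟨j0, hj0, hd⟩ := hj0
  refine MLfinal hm2 (k' + 2) (by omega) p (fun s t hs ht h => hp.inj s t (by omega) (by omega) h)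
    (DmC (k' + 2) u0 d0 uL dL) (v3 (k' + 2) a b e) (v3 (k' + 2) a' b' e') ?_ ?_
    (fun s _ => mkM_diag _ _ s) (chain_lb hp u0 d0 uL dL hu0 hd0 huL hdL) ?_ ?_ i0 j0 hi0 hj0 hc hd
  · intro s _; simp only [v3]; split_ifs <;> assumption
  · intro s _; simp only [v3]; split_ifs <;> assumption
  · intro s hs
    rw [DmC_row (k' + 2) (by omega) u0 d0 uL dL _ s hs]
    simp only [v3]
    split_ifs <;> first | omega | contradiction | linarith
  · apply mkM_sym
    intro s t hst ht
    by_cases h1 : t = s + 1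
    · subst h1
      simp only [v3, UC]
      split_ifs <;> first | omega | contradiction | linarith | ring
    · simp only [UC, if_neg h1, mul_zero]

macro "clause_tac" : tactic =>
  `(tactic| (simp only [v3, DmC, mkM, UC];
             split_ifs <;> first | omega | contradiction | (exfalso; omega) | ring | simp))

/-- shape 2 -/
theorem PH2 (hm2 : ∀ i, T.IsMinusTwo i) {k' : ℕ} (hp : IsPath T (k' + 1) p) (hk : 2 ≤ k')
    (h0 : 2 ≤ c T (p 0) (p 1)) (hL : 2 ≤ c T (p k') (p (k' + 1))) : Shapes T := by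
  obtain ⟨hKn, σ, m, w, hm, hw, ha⟩ := chain_final hm2 hp hk 2 1 2 1 2 2 1 1 2 4
    (by norm_num) (by norm_num) (by norm_num) (by norm_num) (by norm_num) (by norm_num)
    h0 (hp.adj 0 (by omega)).le' hL (hp.adj k' (by omega)).le'
    (by norm_num) (by norm_num) (by norm_num) (by norm_num) (by norm_num) (by norm_num)
    (Or.inr (Or.inr rfl)) (Or.inl rfl)
  refine ⟨σ, m, w, Or.inr (Or.inl ⟨?_, ?_, ?_, ?_, ?_, ?_, ?_, ?_⟩)⟩
  · intro i hi; rw [hm i]; clause_tac
  · intro i hi; rw [hm i]; clause_tac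
  · intro i hi; rw [hw i]; clause_tac
  · intro i hi; rw [hw i]; clause_tac
  · intro i hi; rw [hw i]; clause_tac
  · intro i j hij hc; rw [ha i j]; clause_tac
  · intro i j hij hc; rw [ha i j]; clause_tac
  · intro i j hij hc1 hc2; rw [ha i j]; clause_tac

/-- shape 3 -/
theorem PH3 (hm2 : ∀ i, T.IsMinusTwo i) {k' : ℕ} (hp : IsPath T (k' + 1) p) (hk : 2 ≤ k')
    (h0 : 2 ≤ c T (p 0) (p 1)) (hL : 2 ≤ c T (p (k' + 1)) (p k')) : Shapes T := by
  obtain ⟨hKn, σ, m, w, hm, hw, ha⟩ := chain_final hm2 hp hk 2 1 1 2 1 1 1 1 2 1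
    (by norm_num) (by norm_num) (by norm_num) (by norm_num) (by norm_num) (by norm_num)
    h0 (hp.adj 0 (by omega)).le' (hp.adj k' (by omega)).le hL
    (by norm_num) (by norm_num) (by norm_num) (by norm_num) (by norm_num) (by norm_num)
    (Or.inl rfl) (Or.inl rfl)
  refine ⟨σ, m, w, Or.inr (Or.inr (Or.inl ⟨?_, ?_, ?_, ?_, ?_, ?_⟩))⟩
  · intro i; rw [hm i]; clause_tac
  · intro i hi; rw [hw i]; clause_tac
  · intro i hi; rw [hw i]; clause_tac
  · intro i hi; rw [hw i]; clause_tac
  · intro i j hij hc; rw [ha i j]; clause_tac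
  · intro i j hij hc; rw [ha i j]; clause_tac

/-- shape 4 -/
theorem PH4 (hm2 : ∀ i, T.IsMinusTwo i) {k' : ℕ} (hp : IsPath T (k' + 1) p) (hk : 2 ≤ k')
    (h0 : 2 ≤ c T (p 1) (p 0)) (hL : 2 ≤ c T (p k') (p (k' + 1))) : Shapes T := by
  obtain ⟨hKn, σ, m, w, hm, hw, ha⟩ := chain_final hm2 hp hk 1 2 2 1 1 2 1 2 1 2
    (by norm_num) (by norm_num) (by norm_num) (by norm_num) (by norm_num) (by norm_num)
    (hp.adj 0 (by omega)).le h0 hL (hp.adj k' (by omega)).le'
    (by norm_num) (by norm_num) (by norm_num) (by norm_num) (by norm_num) (by norm_num)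
    (Or.inl rfl) (Or.inr (Or.inl rfl))
  refine ⟨σ, m, w, Or.inr (Or.inr (Or.inr (Or.inl ⟨?_, ?_, ?_, ?_, ?_, ?_, ?_, ?_, ?_, ?_⟩)))⟩
  · intro i hi; rw [hm i]; clause_tac
  · intro i hi; rw [hm i]; clause_tac
  · intro i hi; rw [hm i]; clause_tac
  · intro i hi; rw [hw i]; clause_tac
  · intro i hi; rw [hw i]; clause_tac
  · intro i hi; rw [hw i]; clause_tac
  · intro i j hij hc; rw [ha i j]; clause_tac
  · intro i j hij hc; rw [ha i j]; clause_tac
  · intro i j hij hc; rw [ha i j]; clause_tac
  · intro i j hij hc1 hc2 hc3; rw [ha i j]; clause_tac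


/-! ### the cycle -/

/-- entries of the cycle matrix above the diagonal -/
def U1 (K : ℕ) (s t : ℕ) : ℤ := if t = s + 1 ∨ (s = 0 ∧ t + 1 = K) then 1 else 0

/-- the cycle matrix -/
def Dm1 (K : ℕ) : ℕ → ℕ → ℤ := mkM (U1 K) (U1 K)

lemma Dm1_row (K : ℕ) (hK : 3 ≤ K) (s : ℕ) (hs : s < K) :
    ∑ t ∈ range K, Dm1 K s t * (fun _ => (1 : ℤ)) t = 0 := by
  by_cases h0 : s = 0
  · subst h0
    rw [sum_sparse K _ [0, 1, K - 1] (by simp; omega) (by simp; omega) (by
      intro t ht hnl
      simp only [List.mem_cons, List.not_mem_nil, or_false, not_or] at hnl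
      simp only [Dm1, mkM, U1, true_or, or_true, true_and, and_true, false_or, or_false, false_and, and_false, not_true_eq_false, not_false_eq_true, ↓reduceIte]
      split_ifs <;> first | omega | contradiction | simp)]
    simp only [List.map_cons, List.map_nil, List.sum_cons, List.sum_nil, Dm1, mkM, U1, true_or, or_true, true_and, and_true, false_or, or_false, false_and, and_false, not_true_eq_false, not_false_eq_true, ↓reduceIte]
    split_ifs <;> first | omega | contradiction | ring
  · by_cases hL : s + 1 = K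
    · rw [sum_sparse K _ [0, s - 1, s] (by simp; omega) (by simp; omega) (by
        intro t ht hnl
        simp only [List.mem_cons, List.not_mem_nil, or_false, not_or] at hnl
        simp only [Dm1, mkM, U1, true_or, or_true, true_and, and_true, false_or, or_false, false_and, and_false, not_true_eq_false, not_false_eq_true, ↓reduceIte]
        split_ifs <;> first | omega | contradiction | simp)]
      simp only [List.map_cons, List.map_nil, List.sum_cons, List.sum_nil, Dm1, mkM, U1, true_or, or_true, true_and, and_true, false_or, or_false, false_and, and_false, not_true_eq_false, not_false_eq_true, ↓reduceIte]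
      split_ifs <;> first | omega | contradiction | ring
    · rw [sum_sparse K _ [s - 1, s, s + 1] (by simp; omega) (by simp; omega) (by
        intro t ht hnl
        simp only [List.mem_cons, List.not_mem_nil, or_false, not_or] at hnl
        simp only [Dm1, mkM, U1, true_or, or_true, true_and, and_true, false_or, or_false, false_and, and_false, not_true_eq_false, not_false_eq_true, ↓reduceIte]
        split_ifs <;> first | omega | contradiction | simp)]
      simp only [List.map_cons, List.map_nil, List.sum_cons, List.sum_nil, Dm1, mkM, U1, true_or, or_true, true_and, and_true, false_or, or_false, false_and, and_false, not_true_eq_false, not_false_eq_true, ↓reduceIte]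
      split_ifs <;> first | omega | contradiction | ring

macro "clause_tac1" : tactic =>
  `(tactic| (simp only [Dm1, mkM, U1, true_or, or_true, true_and, and_true, false_or, or_false, false_and, and_false, not_true_eq_false, not_false_eq_true, ↓reduceIte];
             split_ifs <;> first | omega | contradiction | (exfalso; omega) | ring | simp))

/-- shape 1 -/
theorem Cyc1 (hm2 : ∀ i, T.IsMinusTwo i) {k : ℕ} (hp : IsPath T k p) (hk : 2 ≤ k)
    (hclose : Adj T (p k) (p 0)) : Shapes T := by
  have hlb : ∀ s t, s < k + 1 → t < k + 1 → s ≠ t →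
      Dm1 (k + 1) s t = 0 ∨ Dm1 (k + 1) s t ≤ c T (p s) (p t) := by
    apply mkM_lb
    intro s t hst ht
    unfold U1
    by_cases h1 : t = s + 1 ∨ (s = 0 ∧ t + 1 = k + 1)
    · rw [if_pos h1]
      rcases h1 with h1 | ⟨h1, h2⟩
      · subst h1
        have hadj := hp.adj s (by omega)
        exact ⟨Or.inr hadj.le, Or.inr hadj.le'⟩
      · have : t = k := by omega
        subst h1 this
        exact ⟨Or.inr hclose.le', Or.inr hclose.le⟩
    · rw [if_neg h1]
      exact ⟨Or.inl rfl, Or.inl rfl⟩
  obtain ⟨hKn, σ, m, w, hm, hw, ha⟩ := MLfinal hm2 (k + 1) (by omega) p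
    (fun s t hs ht h => hp.inj s t (by omega) (by omega) h)
    (Dm1 (k + 1)) (fun _ => 1) (fun _ => 1) (fun _ _ => one_pos) (fun _ _ => one_pos)
    (fun s _ => mkM_diag _ _ s) hlb (fun s hs => Dm1_row (k + 1) (by omega) s hs)
    (mkM_sym _ _ _ (k + 1) (fun s t _ _ => rfl)) 0 0 (by omega) (by omega) rfl rfl
  refine ⟨σ, m, w, Or.inl ⟨?_, ?_, ?_, ?_, ?_⟩⟩
  · intro i; rw [hm i]; ring
  · intro i; rw [hw i]; ring
  · intro i j hij hc; rw [ha i j]; clause_tac1
  · intro i j hij hc; rw [ha i j]; clause_tac1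
  · intro i j hij hc1 hc2; rw [ha i j]; clause_tac1

end Groth.Agent.Lib.Helper9.NT
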