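import Mathlib
import Groth.Prelude.Def_Models
import Groth.Agent.Lib.Helper24.NumTypeGlue
import Groth.Agent.Lib.Helper9.NTA
import Groth.Agent.Lib.Helper9.NTB
import Groth.Agent.Lib.Helper9.NTC
import Groth.Agent.Lib.Helper9.NTD
import Groth.Agent.Lib.Helper9.NTE

/-!
# Genus one numerical types, general case: forks (shapes 5, 6) and the double fork (shape 7)
-/

set_option autoImplicit false
set_option linter.style.haveILetI false

namespace Groth.Agent.Lib.Helper9.NT

open Finset Models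
open Groth.Agent.Lib.Helper24.NumTypeGlue

variable {n : ℕ} {T : Models.NumericalType n}

/-! ### a path followed by one extra vertex -/

/-- `q 0, …, q (L - 1), z` -/
def pz (L : ℕ) (q : ℕ → Fin n) (z : Fin n) (s : ℕ) : Fin n := if s < L then q s else z

lemma pz_lt (L : ℕ) (q : ℕ → Fin n) (z : Fin n) {s : ℕ} (h : s < L) : pz L q z s = q s := by
  simp [pz, h]

lemma pz_L (L : ℕ) (q : ℕ → Fin n) (z : Fin n) : pz L q z L = z := by simp [pz]

lemma pz_inj {k : ℕ} {q : ℕ → Fin n} (hq : IsPath T k q) (L : ℕ) (hL : L ≤ k + 1) (z : Fin n)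
    (hz : ∀ i, i ≤ k → z ≠ q i) :
    ∀ s t, s < L + 1 → t < L + 1 → pz L q z s = pz L q z t → s = t := by
  intro s t hs ht h
  unfold pz at h
  by_cases hs1 : s < L <;> by_cases ht1 : t < L
  · simp only [hs1, ht1, if_true] at h
    exact hq.inj _ _ (by omega) (by omega) h
  · simp only [hs1, ht1, if_true, if_false] at h
    exact absurd h.symm (hz _ (by omega))
  · simp only [hs1, ht1, if_true, if_false] at h
    exact absurd h (hz _ (by omega))
  · omega

/-! ### forks -/

/-- entries above the diagonal of a fork matrix: the chain `0, …, K - 2` and `K - 1` attached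
to `K - 3` -/
def UF (K : ℕ) (u0 : ℤ) (s t : ℕ) : ℤ :=
  if t = s + 1 ∧ t + 2 ≤ K then (if s = 0 then u0 else 1)
  else if s + 3 = K ∧ t + 1 = K then 1 else 0

/-- the matrix of a fork with prescribed first edge -/
def DmF (K : ℕ) (u0 d0 : ℤ) : ℕ → ℕ → ℤ := mkM (UF K u0) (UF K d0)

/-- a vector with values `a, b, …, b, e, e` -/
def v4 (K : ℕ) (a b e : ℤ) (s : ℕ) : ℤ := if s = 0 then a else if s + 2 < K then b else e

macro "entryF" : tactic =>
  `(tactic| (simp only [DmF, mkM, UF, true_or, or_true, true_and, and_true, false_or, or_false,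
      false_and, and_false, not_true_eq_false, not_false_eq_true, ↓reduceIte];
             split_ifs <;> first | omega | contradiction | rfl | simp))

macro "sumList" : tactic =>
  `(tactic| simp only [List.map_cons, List.map_nil, List.sum_cons, List.sum_nil])

macro "notMem" h:ident : tactic =>
  `(tactic| simp only [List.mem_cons, List.not_mem_nil, or_false, not_or] at $h:ident)

lemma DmF_row (K : ℕ) (hK : 5 ≤ K) (u0 d0 : ℤ) (x : ℕ → ℤ) (s : ℕ) (hs : s < K) :
    ∑ t ∈ range K, DmF K u0 d0 s t * x t =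
      (if s = 0 then 0 else if s + 1 = K then x (s - 2)
        else (if s = 1 then d0 else 1) * x (s - 1))
        - 2 * x s
        + (if K ≤ s + 2 then 0 else (if s = 0 then u0 else 1) * x (s + 1))
        + (if s + 3 = K then x (s + 2) else 0) := by
  have ed : DmF K u0 d0 s s = -2 := mkM_diag _ _ s
  by_cases h0 : s = 0
  · rw [sum_sparse K _ [s, s + 1] (by simp) (by simp; omega) (by
      intro t ht hnl; notMem hnl; entryF)]
    sumList
    have e1 : DmF K u0 d0 s (s + 1) = u0 := by entryF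
    rw [ed, e1]
    split_ifs <;> first | omega | ring
  · by_cases h1 : s + 1 = K
    · rw [sum_sparse K _ [s - 2, s] (by simp; omega) (by simp; omega) (by
        intro t ht hnl; notMem hnl; entryF)]
      sumList
      have e1 : DmF K u0 d0 s (s - 2) = 1 := by entryF
      rw [ed, e1]
      split_ifs <;> first | omega | ring
    · by_cases h2 : s + 2 = K
      · rw [sum_sparse K _ [s - 1, s] (by simp; omega) (by simp; omega) (by
          intro t ht hnl; notMem hnl; entryF)]
        sumList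
        have e1 : DmF K u0 d0 s (s - 1) = 1 := by entryF
        rw [ed, e1]
        split_ifs <;> first | omega | ring
      · by_cases h3 : s + 3 = K
        · rw [sum_sparse K _ [s - 1, s, s + 1, s + 2] (by simp; omega) (by simp; omega) (by
            intro t ht hnl; notMem hnl; entryF)]
          sumList
          have e1 : DmF K u0 d0 s (s - 1) = 1 := by entryF
          have e2 : DmF K u0 d0 s (s + 1) = 1 := by entryF
          have e3 : DmF K u0 d0 s (s + 2) = 1 := by entryF
          rw [ed, e1, e2, e3]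
          split_ifs <;> first | omega | ring
        · rw [sum_sparse K _ [s - 1, s, s + 1] (by simp; omega) (by simp; omega) (by
            intro t ht hnl; notMem hnl; entryF)]
          sumList
          have e1 : DmF K u0 d0 s (s - 1) = (if s = 1 then d0 else 1) := by entryF
          have e2 : DmF K u0 d0 s (s + 1) = 1 := by entryF
          rw [ed, e1, e2]
          split_ifs <;> first | omega | ring


lemma fork_lb {l' : ℕ} {q : ℕ → Fin n} (hq : IsPath T (l' + 1) q) (z : Fin n)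
    (hadj : Adj T z (q l')) (u0 d0 : ℤ)
    (hu0 : u0 ≤ c T (q 0) (q 1)) (hd0 : d0 ≤ c T (q 1) (q 0)) :
    ∀ s t, s < l' + 3 → t < l' + 3 → s ≠ t →
      DmF (l' + 3) u0 d0 s t = 0 ∨
        DmF (l' + 3) u0 d0 s t ≤ c T (pz (l' + 2) q z s) (pz (l' + 2) q z t) := by
  apply mkM_lb
  intro s t hst ht
  unfold UF
  by_cases h1 : t = s + 1 ∧ t + 2 ≤ l' + 3
  · rw [if_pos h1, if_pos h1]
    obtain ⟨h1, h2⟩ := h1
    subst h1
    rw [pz_lt _ _ _ (by omega : s < l' + 2), pz_lt _ _ _ (by omega : s + 1 < l' + 2)]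
    have hadj' := hq.adj s (by omega)
    by_cases h0 : s = 0
    · subst h0; rw [if_pos rfl, if_pos rfl]; exact ⟨Or.inr hu0, Or.inr hd0⟩
    · rw [if_neg h0, if_neg h0]; exact ⟨Or.inr hadj'.le, Or.inr hadj'.le'⟩
  · rw [if_neg h1, if_neg h1]
    by_cases h3 : s + 3 = l' + 3 ∧ t + 1 = l' + 3
    · rw [if_pos h3]
      obtain ⟨h3, h4⟩ := h3
      have hs : s = l' := by omega
      have ht' : t = l' + 2 := by omega
      subst hs ht'
      rw [pz_lt _ _ _ (by omega : s < s + 2), pz_L]
      exact ⟨Or.inr hadj.le', Or.inr hadj.le⟩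
    · rw [if_neg h3]; exact ⟨Or.inl rfl, Or.inl rfl⟩

theorem fork_final (hm2 : ∀ i, T.IsMinusTwo i) {l' : ℕ} {q : ℕ → Fin n}
    (hq : IsPath T (l' + 1) q) (hl : 2 ≤ l') (z : Fin n) (hz : ∀ i, i ≤ l' + 1 → z ≠ q i)
    (hadj : Adj T z (q l'))
    (u0 d0 a b e a' b' : ℤ)
    (ha : 0 < a) (hb : 0 < b) (he : 0 < e) (ha' : 0 < a') (hb' : 0 < b')
    (hu0 : u0 ≤ c T (q 0) (q 1)) (hd0 : d0 ≤ c T (q 1) (q 0))
    (hk0 : -2 * a + u0 * b = 0) (hk1 : d0 * a - b = 0) (hk2 : 2 * e - b = 0)
    (hs0 : a' * u0 = b' * d0)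
    (h1 : a = 1 ∨ e = 1) (h1' : a' = 1 ∨ b' = 1) :
    l' + 3 = n ∧ ∃ (σ : Equiv.Perm (Fin n)) (m w : ℤ),
      (∀ i : Fin n, T.m (σ i) = v4 (l' + 3) a b e i.val * m) ∧
      (∀ i : Fin n, T.w (σ i) = v4 (l' + 3) a' b' b' i.val * w) ∧
      ∀ i j : Fin n, T.a (σ i) (σ j) =
        v4 (l' + 3) a' b' b' i.val * DmF (l' + 3) u0 d0 i.val j.val * w := by
  have hi0 : ∃ i0, i0 < l' + 3 ∧ v4 (l' + 3) a b e i0 = 1 := by
    rcases h1 with h | h
    · exact ⟨0, by omega, by simp [v4, h]⟩
    · refine ⟨l' + 2, by omega, ?_⟩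
      simp only [v4]; split_ifs <;> first | omega | contradiction | exact h
  have hj0 : ∃ j0, j0 < l' + 3 ∧ v4 (l' + 3) a' b' b' j0 = 1 := by
    rcases h1' with h | h
    · exact ⟨0, by omega, by simp [v4, h]⟩
    · refine ⟨1, by omega, ?_⟩
      simp only [v4]; split_ifs <;> first | omega | contradiction | exact h
  obtain ⟨i0, hi0, hc⟩ := hi0
  obtain ⟨j0, hj0, hd⟩ := hj0
  refine MLfinal hm2 (l' + 3) (by omega) (pz (l' + 2) q z)
    (pz_inj hq (l' + 2) (by omega) z hz)
    (DmF (l' + 3) u0 d0) (v4 (l' + 3) a b e) (v4 (l' + 3) a' b' b') ?_ ?_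
    (fun s _ => mkM_diag _ _ s) (fork_lb hq z hadj u0 d0 hu0 hd0) ?_ ?_ i0 j0 hi0 hj0 hc hd
  · intro s _; simp only [v4]; split_ifs <;> assumption
  · intro s _; simp only [v4]; split_ifs <;> assumption
  · intro s hs
    rw [DmF_row (l' + 3) (by omega) u0 d0 _ s hs]
    simp only [v4]
    split_ifs <;> first | omega | contradiction | linarith
  · apply mkM_sym
    intro s t hst ht
    simp only [v4, UF]
    split_ifs <;> first | omega | contradiction | linarith | ring

macro "clause_tacF" : tactic =>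
  `(tactic| (simp only [v4, DmF, mkM, UF, true_or, or_true, true_and, and_true, false_or,
      or_false, false_and, and_false, not_true_eq_false, not_false_eq_true, ↓reduceIte];
             split_ifs <;> first | omega | contradiction | (exfalso; omega) | ring | simp))

/-- shape 5 -/
theorem F5 (hm2 : ∀ i, T.IsMinusTwo i) {l' : ℕ} {q : ℕ → Fin n}
    (hq : IsPath T (l' + 1) q) (hl : 2 ≤ l') (z : Fin n) (hz : ∀ i, i ≤ l' + 1 → z ≠ q i)
    (hadj : Adj T z (q l')) (h0 : 2 ≤ c T (q 1) (q 0)) : Shapes T := by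
  obtain ⟨hKn, σ, m, w, hm, hw, ha⟩ := fork_final hm2 hq hl z hz hadj 1 2 1 2 1 2 1
    (by norm_num) (by norm_num) (by norm_num) (by norm_num) (by norm_num)
    (hq.adj 0 (by omega)).le h0
    (by norm_num) (by norm_num) (by norm_num) (by norm_num) (Or.inl rfl) (Or.inr rfl)
  refine ⟨σ, m, w, Or.inr (Or.inr (Or.inr (Or.inr (Or.inl ⟨?_, ?_, ?_, ?_, ?_, ?_, ?_, ?_, ?_⟩))))⟩
  · intro i hi; rw [hm i]; clause_tacF
  · intro i hi; rw [hm i]; clause_tacF
  · intro i hi; rw [hm i]; clause_tacF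
  · intro i hi; rw [hw i]; clause_tacF
  · intro i hi; rw [hw i]; clause_tacF
  · intro i j hij hc; rw [ha i j]; clause_tacF
  · intro i j hij hc; rw [ha i j]; clause_tacF
  · intro i j hij hc; rw [ha i j]; clause_tacF
  · intro i j hij hc1 hc2 hc3; rw [ha i j]; clause_tacF

/-- shape 6 -/
theorem F6 (hm2 : ∀ i, T.IsMinusTwo i) {l' : ℕ} {q : ℕ → Fin n}
    (hq : IsPath T (l' + 1) q) (hl : 2 ≤ l') (z : Fin n) (hz : ∀ i, i ≤ l' + 1 → z ≠ q i)
    (hadj : Adj T z (q l')) (h0 : 2 ≤ c T (q 0) (q 1)) : Shapes T := by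
  obtain ⟨hKn, σ, m, w, hm, hw, ha⟩ := fork_final hm2 hq hl z hz hadj 2 1 2 2 1 1 2
    (by norm_num) (by norm_num) (by norm_num) (by norm_num) (by norm_num)
    h0 (hq.adj 0 (by omega)).le'
    (by norm_num) (by norm_num) (by norm_num) (by norm_num) (Or.inr rfl) (Or.inl rfl)
  refine ⟨σ, m, w, Or.inr (Or.inr (Or.inr (Or.inr (Or.inr (Or.inl ⟨?_, ?_, ?_, ?_, ?_, ?_, ?_⟩)))))⟩
  · intro i hi; rw [hm i]; clause_tacF
  · intro i hi; rw [hm i]; clause_tacF
  · intro i hi; rw [hw i]; clause_tacF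
  · intro i hi; rw [hw i]; clause_tacF
  · intro i j hij hc; rw [ha i j]; clause_tacF
  · intro i j hij hc; rw [ha i j]; clause_tacF
  · intro i j hij hc1 hc2; rw [ha i j]; clause_tacF

end Groth.Agent.Lib.Helper9.NT
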