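import Mathlib
import Groth.Prelude.Def_Models
import Groth.Agent.Lib.Helper24.NumTypeGlue
import Groth.Agent.Lib.Helper9.NTA
import Groth.Agent.Lib.Helper9.NTB
import Groth.Agent.Lib.Helper9.NTC
import Groth.Agent.Lib.Helper9.NTD
import Groth.Agent.Lib.Helper9.NTE
import Groth.Agent.Lib.Helper9.NTF

/-!
# Genus one numerical types, general case: the double fork (shape 7) and the finite type
exclusions
-/

set_option autoImplicit false
set_option linter.style.haveILetI false

namespace Groth.Agent.Lib.Helper9.NT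

open Finset Models
open Groth.Agent.Lib.Helper24.NumTypeGlue

variable {n : ℕ} {T : Models.NumericalType n}

/-! ### the double fork -/

/-- entries above the diagonal of the double fork matrix: `0, 1` attached to `2`, the chain
`2, …, K - 3`, and `K - 2, K - 1` attached to `K - 3` -/
def U7 (K : ℕ) (s t : ℕ) : ℤ :=
  if (s = 0 ∧ t = 2) ∨ (t = s + 1 ∧ 1 ≤ s ∧ t + 2 ≤ K) ∨ (s + 3 = K ∧ t + 1 = K) then 1 else 0

/-- the double fork matrix -/
def Dm7 (K : ℕ) : ℕ → ℕ → ℤ := mkM (U7 K) (U7 K)

/-- the multiplicities of the double fork -/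
def cv7 (K : ℕ) (s : ℕ) : ℤ := if s ≤ 1 ∨ K ≤ s + 2 then 1 else 2

macro "entry7" : tactic =>
  `(tactic| (simp only [Dm7, mkM, U7, true_or, or_true, true_and, and_true, false_or, or_false,
      false_and, and_false, not_true_eq_false, not_false_eq_true, ↓reduceIte];
             split_ifs <;> first | omega | contradiction | rfl | simp))

macro "cv7tac" : tactic =>
  `(tactic| (simp only [cv7]; split_ifs <;> first | omega | contradiction | rfl))

lemma Dm7_row (K : ℕ) (hK : 6 ≤ K) (s : ℕ) (hs : s < K) :
    ∑ t ∈ range K, Dm7 K s t * cv7 K t = 0 := by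
  have ed : Dm7 K s s = -2 := mkM_diag _ _ s
  by_cases h0 : s = 0
  · rw [sum_sparse K _ [s, s + 2] (by simp) (by simp; omega) (by
      intro t ht hnl; notMem hnl; entry7)]
    sumList
    have e1 : Dm7 K s (s + 2) = 1 := by entry7
    have c0 : cv7 K s = 1 := by cv7tac
    have c1 : cv7 K (s + 2) = 2 := by cv7tac
    rw [ed, e1, c0, c1]; norm_num
  · by_cases h1 : s = 1
    · rw [sum_sparse K _ [s, s + 1] (by simp) (by simp; omega) (by
        intro t ht hnl; notMem hnl; entry7)]
      sumList
      have e1 : Dm7 K s (s + 1) = 1 := by entry7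
      have c0 : cv7 K s = 1 := by cv7tac
      have c1 : cv7 K (s + 1) = 2 := by cv7tac
      rw [ed, e1, c0, c1]; norm_num
    · by_cases h2 : s = 2
      · rw [sum_sparse K _ [s - 2, s - 1, s, s + 1] (by simp; omega) (by simp; omega) (by
          intro t ht hnl; notMem hnl; entry7)]
        sumList
        have e1 : Dm7 K s (s - 2) = 1 := by entry7
        have e2 : Dm7 K s (s - 1) = 1 := by entry7
        have e3 : Dm7 K s (s + 1) = 1 := by entry7
        have c0 : cv7 K (s - 2) = 1 := by cv7tac
        have c1 : cv7 K (s - 1) = 1 := by cv7tac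
        have c2 : cv7 K s = 2 := by cv7tac
        have c3 : cv7 K (s + 1) = 2 := by cv7tac
        rw [ed, e1, e2, e3, c0, c1, c2, c3]; norm_num
      · by_cases h3 : s + 1 = K
        · rw [sum_sparse K _ [s - 2, s] (by simp; omega) (by simp; omega) (by
            intro t ht hnl; notMem hnl; entry7)]
          sumList
          have e1 : Dm7 K s (s - 2) = 1 := by entry7
          have c0 : cv7 K (s - 2) = 2 := by cv7tac
          have c1 : cv7 K s = 1 := by cv7tac
          rw [ed, e1, c0, c1]; norm_num
        · by_cases h4 : s + 2 = K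
          · rw [sum_sparse K _ [s - 1, s] (by simp; omega) (by simp; omega) (by
              intro t ht hnl; notMem hnl; entry7)]
            sumList
            have e1 : Dm7 K s (s - 1) = 1 := by entry7
            have c0 : cv7 K (s - 1) = 2 := by cv7tac
            have c1 : cv7 K s = 1 := by cv7tac
            rw [ed, e1, c0, c1]; norm_num
          · by_cases h5 : s + 3 = K
            · rw [sum_sparse K _ [s - 1, s, s + 1, s + 2] (by simp; omega) (by simp; omega) (by
                intro t ht hnl; notMem hnl; entry7)]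
              sumList
              have e1 : Dm7 K s (s - 1) = 1 := by entry7
              have e2 : Dm7 K s (s + 1) = 1 := by entry7
              have e3 : Dm7 K s (s + 2) = 1 := by entry7
              have c0 : cv7 K (s - 1) = 2 := by cv7tac
              have c1 : cv7 K s = 2 := by cv7tac
              have c2 : cv7 K (s + 1) = 1 := by cv7tac
              have c3 : cv7 K (s + 2) = 1 := by cv7tac
              rw [ed, e1, e2, e3, c0, c1, c2, c3]; norm_num
            · rw [sum_sparse K _ [s - 1, s, s + 1] (by simp; omega) (by simp; omega) (by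
                intro t ht hnl; notMem hnl; entry7)]
              sumList
              have e1 : Dm7 K s (s - 1) = 1 := by entry7
              have e2 : Dm7 K s (s + 1) = 1 := by entry7
              have c0 : cv7 K (s - 1) = 2 := by cv7tac
              have c1 : cv7 K s = 2 := by cv7tac
              have c2 : cv7 K (s + 1) = 2 := by cv7tac
              rw [ed, e1, e2, c0, c1, c2]; norm_num


macro "clause_tac7" : tactic =>
  `(tactic| (simp only [cv7, Dm7, mkM, U7, true_or, or_true, true_and, and_true, false_or,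
      or_false, false_and, and_false, not_true_eq_false, not_false_eq_true, ↓reduceIte];
             split_ifs <;> first | omega | contradiction | (exfalso; omega) | ring | simp))

/-- shape 7 -/
theorem DF7 (hm2 : ∀ i, T.IsMinusTwo i) {k : ℕ} {p : ℕ → Fin n} (hp : IsPath T k p)
    (z z' : Fin n) (hz : ∀ i, i ≤ k → z ≠ p i) (hz' : ∀ i, i ≤ k → z' ≠ p i) (hzz' : z ≠ z')
    (t d : ℕ) (ht : 1 ≤ t) (hd : 1 ≤ d) (htk : t + d + 1 ≤ k)
    (hadj : Adj T z (p t)) (hadj' : Adj T z' (p (t + d))) : Shapes T := by
  set v : ℕ → Fin n := fun s => if s = 0 then z else if s = d + 4 then z' else p (t + s - 2)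
    with hv
  have v0 : v 0 = z := by simp [hv]
  have vL : v (d + 4) = z' := by simp [hv]
  have vm : ∀ s, 1 ≤ s → s ≤ d + 3 → v s = p (t + s - 2) := by
    intro s h1 h2
    simp only [hv]
    rw [if_neg (by omega), if_neg (by omega)]
  have hinj : ∀ s s', s < d + 5 → s' < d + 5 → v s = v s' → s = s' := by
    intro s s' hs hs' h
    by_cases a0 : s = 0
    · subst a0
      by_cases b0 : s' = 0
      · omega
      · by_cases bL : s' = d + 4
        · subst bL; rw [v0, vL] at h; exact absurd h hzz'
        · rw [v0, vm s' (by omega) (by omega)] at h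
          exact absurd h (hz _ (by omega))
    · by_cases aL : s = d + 4
      · subst aL
        by_cases b0 : s' = 0
        · subst b0; rw [v0, vL] at h; exact absurd h.symm hzz'
        · by_cases bL : s' = d + 4
          · omega
          · rw [vL, vm s' (by omega) (by omega)] at h
            exact absurd h (hz' _ (by omega))
      · by_cases b0 : s' = 0
        · subst b0; rw [v0, vm s (by omega) (by omega)] at h
          exact absurd h.symm (hz _ (by omega))
        · by_cases bL : s' = d + 4
          · subst bL; rw [vL, vm s (by omega) (by omega)] at h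
            exact absurd h.symm (hz' _ (by omega))
          · rw [vm s (by omega) (by omega), vm s' (by omega) (by omega)] at h
            have := hp.inj _ _ (by omega) (by omega) h
            omega
  have hlb : ∀ s s', s < d + 5 → s' < d + 5 → s ≠ s' →
      Dm7 (d + 5) s s' = 0 ∨ Dm7 (d + 5) s s' ≤ c T (v s) (v s') := by
    apply mkM_lb
    intro s s' hss' hs'
    unfold U7
    by_cases hc : (s = 0 ∧ s' = 2) ∨ (s' = s + 1 ∧ 1 ≤ s ∧ s' + 2 ≤ d + 5) ∨
        (s + 3 = d + 5 ∧ s' + 1 = d + 5)
    · rw [if_pos hc]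
      rcases hc with ⟨h1, h2⟩ | ⟨h1, h2, h3⟩ | ⟨h1, h2⟩
      · subst h1 h2
        rw [v0, vm 2 (by omega) (by omega)]
        have e : t + 2 - 2 = t := by omega
        rw [e]
        exact ⟨Or.inr hadj.le, Or.inr hadj.le'⟩
      · subst h1
        rw [vm s (by omega) (by omega), vm (s + 1) (by omega) (by omega)]
        have hadj2 := hp.adj (t + s - 2) (by omega)
        have e : t + s - 2 + 1 = t + (s + 1) - 2 := by omega
        rw [e] at hadj2
        exact ⟨Or.inr hadj2.le, Or.inr hadj2.le'⟩
      · have e1 : s = d + 2 := by omega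
        have e2 : s' = d + 4 := by omega
        subst e1 e2
        rw [vL, vm (d + 2) (by omega) (by omega)]
        have e : t + (d + 2) - 2 = t + d := by omega
        rw [e]
        exact ⟨Or.inr hadj'.le', Or.inr hadj'.le⟩
    · rw [if_neg hc]
      exact ⟨Or.inl rfl, Or.inl rfl⟩
  obtain ⟨hKn, σ, m, w, hm, hw, ha⟩ := MLfinal hm2 (d + 5) (by omega) v hinj
    (Dm7 (d + 5)) (cv7 (d + 5)) (fun _ => 1)
    (fun s _ => by simp only [cv7]; split_ifs <;> norm_num) (fun _ _ => one_pos)
    (fun s _ => mkM_diag _ _ s) hlb (fun s hs => Dm7_row (d + 5) (by omega) s hs)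
    (mkM_sym _ _ _ (d + 5) (fun s t _ _ => rfl)) 0 0 (by omega) (by omega)
    (by simp [cv7]) rfl
  refine ⟨σ, m, w, Or.inr (Or.inr (Or.inr (Or.inr (Or.inr (Or.inr
    ⟨?_, ?_, ?_, ?_, ?_, ?_, ?_, ?_, ?_⟩)))))⟩
  · intro i hi; rw [hm i]; clause_tac7
  · intro i hi; rw [hm i]; clause_tac7
  · intro i hi; rw [hm i]; clause_tac7
  · intro i; rw [hw i]; ring
  · intro i j hij hc; rw [ha i j]; clause_tac7
  · intro i j hij hc; rw [ha i j]; clause_tac7
  · intro i j hij hc; rw [ha i j]; clause_tac7
  · intro i j hij hc; rw [ha i j]; clause_tac7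
  · intro i j hij hc1 hc2 hc3 hc4; rw [ha i j]; clause_tac7

/-! ### finite type exclusions -/

/-- a chain all of whose edges except possibly the first one are simple is impossible -/
theorem chain_neg {k' : ℕ} {p : ℕ → Fin n} (hp : IsPath T (k' + 1) p) (hk : 2 ≤ k')
    (hall : ∀ x, ∃ i, i ≤ k' + 1 ∧ x = p i) (a b : ℤ)
    (hab : (a = 1 ∧ b = 1) ∨ (a = 1 ∧ b = 2) ∨ (a = 2 ∧ b = 1))
    (hex : ∀ s t, s < k' + 2 → t < k' + 2 → c T (p s) (p t) = DmC (k' + 2) a b 1 1 s t) :
    False := by
  have hcolsum : ∀ t, t < k' + 2 →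
      ∑ s ∈ range (k' + 2), v3 (k' + 2) 1 a a s * DmC (k' + 2) a b 1 1 s t =
      (if t = 0 then 0 else (if t = 1 then a else if t + 1 = k' + 2 then 1 else 1) *
          v3 (k' + 2) 1 a a (t - 1))
        - 2 * v3 (k' + 2) 1 a a t
        + (if t + 1 = k' + 2 then 0 else (if t = 0 then b else if t + 2 = k' + 2 then 1 else 1) *
          v3 (k' + 2) 1 a a (t + 1)) := by
    intro t ht
    rw [← DmC_row (k' + 2) (by omega) b a 1 1 (v3 (k' + 2) 1 a a) t ht]
    refine Finset.sum_congr rfl (fun s _ => ?_)
    rw [mul_comm]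
    congr 1
    exact mkM_transpose _ _ s t
  refine MLneg (k' + 2) p (fun s t hs ht h => hp.inj s t (by omega) (by omega) h)
    (fun x => by obtain ⟨i, hi, rfl⟩ := hall x; exact ⟨i, by omega, rfl⟩)
    (DmC (k' + 2) a b 1 1) hex (v3 (k' + 2) 1 a a) ?_ (k' + 1) (by omega) ?_
  · intro t ht
    rw [hcolsum t ht]
    simp only [v3]
    rcases hab with ⟨rfl, rfl⟩ | ⟨rfl, rfl⟩ | ⟨rfl, rfl⟩ <;>
      (split_ifs <;> first | omega | contradiction)
  · rw [hcolsum (k' + 1) (by omega)]
    simp only [v3]
    rcases hab with ⟨rfl, rfl⟩ | ⟨rfl, rfl⟩ | ⟨rfl, rfl⟩ <;>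
      (split_ifs <;> first | omega | contradiction)

/-- a fork all of whose edges are simple is impossible -/
theorem fork_neg {l' : ℕ} (hl : 2 ≤ l') (v : ℕ → Fin n)
    (hv : ∀ s t, s < l' + 3 → t < l' + 3 → v s = v t → s = t)
    (hall : ∀ x, ∃ s, s < l' + 3 ∧ x = v s)
    (hex : ∀ s t, s < l' + 3 → t < l' + 3 → c T (v s) (v t) = DmF (l' + 3) 1 1 s t) :
    False := by
  have hcolsum : ∀ t, t < l' + 3 →
      ∑ s ∈ range (l' + 3), v4 (l' + 3) 2 2 1 s * DmF (l' + 3) 1 1 s t =
      (if t = 0 then 0 else if t + 1 = l' + 3 then v4 (l' + 3) 2 2 1 (t - 2)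
        else (if t = 1 then 1 else 1) * v4 (l' + 3) 2 2 1 (t - 1))
        - 2 * v4 (l' + 3) 2 2 1 t
        + (if l' + 3 ≤ t + 2 then 0 else (if t = 0 then 1 else 1) * v4 (l' + 3) 2 2 1 (t + 1))
        + (if t + 3 = l' + 3 then v4 (l' + 3) 2 2 1 (t + 2) else 0) := by
    intro t ht
    rw [← DmF_row (l' + 3) (by omega) 1 1 (v4 (l' + 3) 2 2 1) t ht]
    refine Finset.sum_congr rfl (fun s _ => ?_)
    rw [mul_comm]
    congr 1
    exact mkM_transpose _ _ s t
  refine MLneg (l' + 3) v hv hall (DmF (l' + 3) 1 1) hex (v4 (l' + 3) 2 2 1) ?_ 0 (by omega) ?_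
  · intro t ht
    rw [hcolsum t ht]
    simp only [v4]
    split_ifs <;> first | omega | contradiction
  · rw [hcolsum 0 (by omega)]
    simp only [v4]
    split_ifs <;> first | omega | contradiction

end Groth.Agent.Lib.Helper9.NT
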