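import Mathlib
import Groth.Prelude.Def_Models
import Groth.Agent.Lib.Helper24.NumTypeGlue
import Groth.Agent.Lib.Helper9.NTA
import Groth.Agent.Lib.Helper9.NTB
import Groth.Agent.Lib.Helper9.NTC
import Groth.Agent.Lib.Helper9.NTD
import Groth.Agent.Lib.Helper9.NTE
import Groth.Agent.Lib.Helper9.NTF
import Groth.Agent.Lib.Helper9.NTG

/-!
# Genus one numerical types, general case: the structure of the dual graph around a longest path
-/

set_option autoImplicit false
set_option linter.style.haveILetI false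

namespace Groth.Agent.Lib.Helper9.NT

open Finset Models
open Groth.Agent.Lib.Helper24.NumTypeGlue

variable {n : ℕ} {T : Models.NumericalType n} {k : ℕ} {p : ℕ → Fin n}

/-- `z` is not on the path -/
def OffPath (k : ℕ) (p : ℕ → Fin n) (z : Fin n) : Prop := ∀ i, i ≤ k → z ≠ p i

lemma OffPath.rev {z : Fin n} (hz : OffPath k p z) : OffPath k (fun i => p (k - i)) z :=
  fun i _ => hz (k - i) (Nat.sub_le k i)

/-- the path is a longest one -/
def Longest (T : Models.NumericalType n) (k : ℕ) : Prop := ∀ k' p', IsPath T k' p' → k' ≤ k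

lemma count_eq (K : ℕ) (v : ℕ → Fin n) (hv : ∀ s t, s < K → t < K → v s = v t → s = t)
    (hsurj : ∀ x, ∃ s, s < K ∧ x = v s) : K = n := by
  have hinj : Function.Injective (fun s : Fin K => v s.val) :=
    fun s t h => Fin.ext (hv _ _ s.2 t.2 h)
  have hsur : Function.Surjective (fun s : Fin K => v s.val) := by
    intro x; obtain ⟨s, hs, rfl⟩ := hsurj x; exact ⟨⟨s, hs⟩, rfl⟩
  have := Fintype.card_of_bijective ⟨hinj, hsur⟩
  simpa using this

lemma end_nbr (hp : IsPath T k p) (hmax : Longest T k) {z : Fin n} (hz : OffPath k p z) :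
    ¬ Adj T z (p 0) := by
  intro hadj
  have := hmax _ _ (hp.cons z hz hadj)
  omega

lemma end_nbr' (hp : IsPath T k p) (hmax : Longest T k) {z : Fin n} (hz : OffPath k p z) :
    ¬ Adj T z (p k) := by
  intro hadj
  have := end_nbr hp.rev hmax hz.rev
  simp only [Nat.sub_zero] at this
  exact this hadj

lemma branch_pos (hp : IsPath T k p) (hmax : Longest T k) {z : Fin n} (hz : OffPath k p z)
    {t : ℕ} (ht : t ≤ k) (hadj : Adj T z (p t)) : 0 < t ∧ t < k := by
  constructor
  · rcases Nat.eq_zero_or_pos t with h | h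
    · subst h; exact absurd hadj (end_nbr hp hmax hz)
    · exact h
  · rcases Nat.lt_or_ge t k with h | h
    · exact h
    · have : t = k := by omega
      subst this; exact absurd hadj (end_nbr' hp hmax hz)

lemma leaf_two (hp : IsPath T k p) (hmax : Longest T k) {z z' : Fin n} (hz : OffPath k p z)
    (hz' : OffPath k p z') {t : ℕ} (ht : t ≤ k) (hadj : Adj T z (p t)) (hadj' : Adj T z' z) :
    2 ≤ t := by
  have h1 := hp.seg t (k - t) (by omega)
  have h2 := h1.cons z (fun i _ => hz (t + i) (by omega)) hadj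
  have h3 := h2.cons z' (by
    intro i hi
    by_cases hi0 : i = 0
    · simp only [hi0, if_true]; exact hadj'.ne
    · simp only [hi0, if_false]; exact hz' _ (by omega)) (by simpa using hadj')
  have := hmax _ _ h3
  omega

lemma no_leaf_nbr (hn : 10 ≤ n) (hm2 : ∀ i, T.IsMinusTwo i) (hp : IsPath T k p)
    (hmax : Longest T k) {z z' : Fin n} (hz : OffPath k p z)
    (hz' : OffPath k p z') {t : ℕ} (ht : t ≤ k) (hadj : Adj T z (p t)) (hadj' : Adj T z' z) :
    False := by
  have h1 := leaf_two hp hmax hz hz' ht hadj hadj'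
  have h2 := leaf_two hp.rev hmax hz.rev hz'.rev (t := k - t) (by omega) (by
    have e : k - (k - t) = t := by omega
    simp only [e]; exact hadj) hadj'
  have := E6_excl hm2 hp t h1 (by omega) z z' hz hz' hadj hadj'
  omega

/-- there is no cycle in the dual graph -/
def NoCycle (T : Models.NumericalType n) : Prop :=
  ∀ k q, IsPath T k q → 2 ≤ k → ¬ Adj T (q k) (q 0)

lemma path_far (hnc : NoCycle T) (hp : IsPath T k p) {s t : ℕ} (hst : s + 2 ≤ t) (ht : t ≤ k) :
    ¬ Adj T (p s) (p t) := by
  intro hadj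
  have h1 := hp.seg s (t - s) (by omega)
  have := hnc _ _ h1 (by omega)
  have e : s + (t - s) = t := by omega
  simp only [e, Nat.add_zero] at this
  exact this hadj.symm

lemma path_far' (hnc : NoCycle T) (hp : IsPath T k p) {s t : ℕ} (hs : s ≤ k) (ht : t ≤ k)
    (hst : s + 2 ≤ t ∨ t + 2 ≤ s) : ¬ Adj T (p s) (p t) := by
  rcases hst with h | h
  · exact path_far hnc hp h ht
  · exact fun hadj => path_far hnc hp h hs hadj.symm

lemma one_branch (hnc : NoCycle T) (hp : IsPath T k p) {z : Fin n} (hz : OffPath k p z)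
    {s t : ℕ} (hst : s < t) (ht : t ≤ k) (hs : Adj T z (p s)) (ht' : Adj T z (p t)) : False := by
  have h1 := hp.seg s (t - s) (by omega)
  have h2 := h1.cons z (fun i _ => hz (s + i) (by omega)) hs
  have := hnc _ _ h2 (by omega)
  have e : s + (t - s + 1 - 1) = t := by omega
  simp only [Nat.add_eq_zero_iff, one_ne_zero, and_false, if_false, if_true, e] at this
  exact this ht'.symm

lemma one_branch' (hnc : NoCycle T) (hp : IsPath T k p) {z : Fin n} (hz : OffPath k p z)
    {s t : ℕ} (hs' : s ≤ k) (ht : t ≤ k) (hs : Adj T z (p s)) (ht' : Adj T z (p t)) : s = t := by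
  rcases Nat.lt_trichotomy s t with h | h | h
  · exact (one_branch hnc hp hz h ht hs ht').elim
  · exact h
  · exact (one_branch hnc hp hz h hs' ht' hs).elim

/-- every vertex is on the longest path or is attached to it -/
lemma structure_lemma (hn : 10 ≤ n) (hm2 : ∀ i, T.IsMinusTwo i) (hp : IsPath T k p)
    (hmax : Longest T k) (x : Fin n) :
    (∃ i, i ≤ k ∧ x = p i) ∨ (OffPath k p x ∧ ∃ t, t ≤ k ∧ Adj T x (p t)) := by
  classical
  by_contra hx
  set I : Finset (Fin n) := univ.filter
    (fun x => (∃ i, i ≤ k ∧ x = p i) ∨ (OffPath k p x ∧ ∃ t, t ≤ k ∧ Adj T x (p t))) with hI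
  have hIne : I.Nonempty := ⟨p 0, by
    simp only [hI, mem_filter, mem_univ, true_and]; exact Or.inl ⟨0, Nat.zero_le k, rfl⟩⟩
  have hIuniv : I ≠ univ := by
    intro hh
    have : x ∈ I := hh ▸ mem_univ x
    simp only [hI, mem_filter, mem_univ, true_and] at this
    exact hx this
  obtain ⟨i, hi, j, hj, hij⟩ := T.connected I hIne hIuniv
  have hne : i ≠ j := fun h => hj (h ▸ hi)
  have hadj : Adj T i j := ⟨hne, hij⟩
  simp only [hI, mem_filter, mem_univ, true_and] at hi hj
  by_cases hjp : ∃ i', i' ≤ k ∧ j = p i'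
  · exact hj (Or.inl hjp)
  · have hjoff : OffPath k p j := fun i' hi' h => hjp ⟨i', hi', h⟩
    rcases hi with ⟨s, hs, rfl⟩ | ⟨hoff, t, ht, hadjt⟩
    · exact hj (Or.inr ⟨hjoff, s, hs, hadj.symm⟩)
    · exact no_leaf_nbr hn hm2 hp hmax hoff hjoff ht hadjt hadj.symm

end Groth.Agent.Lib.Helper9.NT
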