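import Mathlib
import Groth.Prelude.Def_Models
import Groth.Agent.Lib.Helper24.NumTypeGlue
import Groth.Agent.Lib.Helper9.NTA
import Groth.Agent.Lib.Helper9.NTB
import Groth.Agent.Lib.Helper9.NTC
import Groth.Agent.Lib.Helper9.NTD
import Groth.Agent.Lib.Helper9.NTE
import Groth.Agent.Lib.Helper9.NTF
import Groth.Agent.Lib.Helper9.NTG
import Groth.Agent.Lib.Helper9.NTH

/-!
# Genus one numerical types, general case: chains and forks, and the classification
-/

set_option autoImplicit false
set_option linter.style.haveILetI false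

namespace Groth.Agent.Lib.Helper9.NT

open Finset Models
open Groth.Agent.Lib.Helper24.NumTypeGlue

variable {n : ℕ} {T : Models.NumericalType n} {k : ℕ} {p : ℕ → Fin n}

lemma simple_of_not_heavy (hn : 10 ≤ n) (hm2 : ∀ i, T.IsMinusTwo i) {i j : Fin n}
    (hadj : Adj T i j) (h : ¬ (2 ≤ c T i j ∨ 2 ≤ c T j i)) : c T i j = 1 ∧ c T j i = 1 := by
  rcases edge_type (by omega) hm2 hadj with h' | h' | h'
  · exact h'
  · exact absurd (Or.inr (by omega)) h
  · exact absurd (Or.inl (by omega)) h

lemma interior_simple (hn : 10 ≤ n) (hm2 : ∀ i, T.IsMinusTwo i) (hp : IsPath T k p)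
    (hk : 4 ≤ k) (s : ℕ) (hs1 : 1 ≤ s) (hs2 : s + 2 ≤ k) :
    c T (p s) (p (s + 1)) = 1 ∧ c T (p (s + 1)) (p s) = 1 := by
  have hadj := hp.adj s (by omega)
  refine simple_of_not_heavy hn hm2 hadj ?_
  intro h
  by_cases h2 : 2 ≤ s
  · have := F4_excl hm2 hp s h2 hs2 h; omega
  · have hs : s = 1 := by omega
    subst hs
    have e1 : k - (k - 2) = 2 := by omega
    have e2 : k - (k - 2 + 1) = 1 := by omega
    have := F4_excl hm2 hp.rev (k - 2) (by omega) (by omega) (by
      simp only [e1, e2]; exact h.symm)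
    omega

lemma DmC_succ (K : ℕ) (u0 d0 uL dL : ℤ) (s : ℕ) :
    DmC K u0 d0 uL dL s (s + 1) = if s = 0 then u0 else if s + 2 = K then uL else 1 := by
  simp only [DmC, mkM, UC]; split_ifs <;> first | omega | rfl

lemma DmC_pred (K : ℕ) (u0 d0 uL dL : ℤ) (s : ℕ) :
    DmC K u0 d0 uL dL (s + 1) s = if s = 0 then d0 else if s + 2 = K then dL else 1 := by
  simp only [DmC, mkM, UC]; split_ifs <;> first | omega | rfl

lemma DmC_far (K : ℕ) (u0 d0 uL dL : ℤ) {s t : ℕ} (h : s + 2 ≤ t ∨ t + 2 ≤ s) :
    DmC K u0 d0 uL dL s t = 0 := by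
  simp only [DmC, mkM, UC]; split_ifs <;> first | omega | rfl

/-- the whole dual graph is a chain -/
structure ChainSit (T : Models.NumericalType n) (k : ℕ) (p : ℕ → Fin n) : Prop where
  hp : IsPath T k p
  hall : ∀ x, ∃ i, i ≤ k ∧ x = p i
  hfar : ∀ s t, s ≤ k → t ≤ k → (s + 2 ≤ t ∨ t + 2 ≤ s) → ¬ Adj T (p s) (p t)

lemma ChainSit.rev (h : ChainSit T k p) : ChainSit T k (fun i => p (k - i)) where
  hp := h.hp.rev
  hall := fun x => by
    obtain ⟨i, hi, rfl⟩ := h.hall x
    exact ⟨k - i, Nat.sub_le _ _, by simp [Nat.sub_sub_self hi]⟩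
  hfar := fun s t hs ht hst => h.hfar _ _ (Nat.sub_le _ _) (Nat.sub_le _ _) (by omega)

lemma chain_end_simple (hn : 10 ≤ n) (hm2 : ∀ i, T.IsMinusTwo i) {k' : ℕ}
    (h : ChainSit T (k' + 1) p) (hk : 3 ≤ k')
    (hL : c T (p k') (p (k' + 1)) = 1 ∧ c T (p (k' + 1)) (p k') = 1) : False := by
  have hadj0 := h.hp.adj 0 (by omega)
  have hab := edge_type (by omega) hm2 hadj0
  refine chain_neg h.hp (by omega) h.hall (c T (p 0) (p (0 + 1))) (c T (p (0 + 1)) (p 0)) hab ?_
  intro s t hs ht
  rcases Nat.lt_trichotomy s t with hst | hst | hst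
  · by_cases h1 : t = s + 1
    · subst h1
      rw [DmC_succ]
      by_cases h0 : s = 0
      · subst h0; rw [if_pos rfl]
      · rw [if_neg h0]
        by_cases h2 : s + 2 = k' + 2
        · rw [if_pos h2]
          have : s = k' := by omega
          subst this; exact hL.1
        · rw [if_neg h2]
          exact (interior_simple hn hm2 h.hp (by omega) s (by omega) (by omega)).1
    · rw [DmC_far _ _ _ _ _ (Or.inl (by omega))]
      exact c_of_not_adj (h.hp.ne (by omega) (by omega) (by omega))
        (h.hfar s t (by omega) (by omega) (Or.inl (by omega)))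
  · subst hst
    rw [DmC, mkM_diag]; exact c_diag_of_isMinusTwo T (hm2 _)
  · by_cases h1 : s = t + 1
    · subst h1
      rw [DmC_pred]
      by_cases h0 : t = 0
      · subst h0; rw [if_pos rfl]
      · rw [if_neg h0]
        by_cases h2 : t + 2 = k' + 2
        · rw [if_pos h2]
          have : t = k' := by omega
          subst this; exact hL.2
        · rw [if_neg h2]
          exact (interior_simple hn hm2 h.hp (by omega) t (by omega) (by omega)).2
    · rw [DmC_far _ _ _ _ _ (Or.inr (by omega))]
      exact c_of_not_adj (h.hp.ne (by omega) (by omega) (by omega))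
        (h.hfar s t (by omega) (by omega) (Or.inr (by omega)))

theorem caseC (hn : 10 ≤ n) (hm2 : ∀ i, T.IsMinusTwo i) (h : ChainSit T k p) : Shapes T := by
  have hcount : k + 1 = n := count_eq (k + 1) p
    (fun s t hs ht e => h.hp.inj s t (by omega) (by omega) e)
    (fun x => by obtain ⟨i, hi, rfl⟩ := h.hall x; exact ⟨i, by omega, rfl⟩)
  obtain ⟨k', rfl⟩ : ∃ k', k = k' + 1 := ⟨k - 1, by omega⟩
  have hadj0 := h.hp.adj 0 (by omega)
  have hadjL := h.hp.adj k' (by omega)
  by_cases heavyL : 2 ≤ c T (p k') (p (k' + 1)) ∨ 2 ≤ c T (p (k' + 1)) (p k')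
  · by_cases heavy0 : 2 ≤ c T (p 0) (p (0 + 1)) ∨ 2 ≤ c T (p (0 + 1)) (p 0)
    · rcases heavy0 with h0 | h0 <;> rcases heavyL with hL | hL
      · exact PH2 hm2 h.hp (by omega) h0 hL
      · exact PH3 hm2 h.hp (by omega) h0 hL
      · exact PH4 hm2 h.hp (by omega) h0 hL
      · refine PH2 hm2 h.hp.rev (by omega) ?_ ?_
        · simp only [Nat.sub_zero, Nat.add_sub_cancel]; exact hL
        · have e1 : k' + 1 - k' = 1 := by omega
          simp only [e1, Nat.sub_self]; exact h0
    · exfalso
      have hs0 := simple_of_not_heavy hn hm2 hadj0 heavy0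
      refine chain_end_simple hn hm2 h.rev (by omega) ?_
      have e1 : k' + 1 - k' = 1 := by omega
      simp only [e1, Nat.sub_self]
      exact ⟨hs0.2, hs0.1⟩
  · exfalso
    exact chain_end_simple hn hm2 h (by omega) (simple_of_not_heavy hn hm2 hadjL heavyL)


/-- the whole dual graph is a chain with one extra vertex `z` attached at `p t` -/
structure ForkSit (T : Models.NumericalType n) (k : ℕ) (p : ℕ → Fin n) (z : Fin n) (t : ℕ) :
    Prop where
  hp : IsPath T k p
  hz : OffPath k p z
  ht : 0 < t ∧ t < k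
  hadj : Adj T z (p t)
  hall : ∀ x, (∃ i, i ≤ k ∧ x = p i) ∨ x = z
  hfar : ∀ s s', s ≤ k → s' ≤ k → (s + 2 ≤ s' ∨ s' + 2 ≤ s) → ¬ Adj T (p s) (p s')
  hzp : ∀ s, s ≤ k → s ≠ t → ¬ Adj T z (p s)

lemma ForkSit.rev {z : Fin n} {t : ℕ} (h : ForkSit T k p z t) :
    ForkSit T k (fun i => p (k - i)) z (k - t) where
  hp := h.hp.rev
  hz := h.hz.rev
  ht := by have := h.ht; omega
  hadj := by
    have e : k - (k - t) = t := by have := h.ht; omega
    simp only [e]; exact h.hadj
  hall := fun x => by
    rcases h.hall x with ⟨i, hi, rfl⟩ | rfl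
    · exact Or.inl ⟨k - i, Nat.sub_le _ _, by simp [Nat.sub_sub_self hi]⟩
    · exact Or.inr rfl
  hfar := fun s s' hs hs' hst => h.hfar _ _ (Nat.sub_le _ _) (Nat.sub_le _ _) (by omega)
  hzp := fun s hs hst => h.hzp (k - s) (Nat.sub_le _ _) (by have := h.ht; omega)

theorem caseB1 (hn : 10 ≤ n) (hm2 : ∀ i, T.IsMinusTwo i) {z : Fin n} {t : ℕ}
    (h : ForkSit T (t + 1) p z t) (ht8 : 7 ≤ t) : Shapes T := by
  by_cases hheavy : ∃ s, s + 2 ≤ t ∧ (2 ≤ c T (p s) (p (s + 1)) ∨ 2 ≤ c T (p (s + 1)) (p s))
  · obtain ⟨s, hs, hh⟩ := hheavy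
    have hq := h.hp.seg s (t - s + 1) (by omega)
    have hzq : ∀ i, i ≤ t - s + 1 → z ≠ p (s + i) := fun i hi => h.hz _ (by omega)
    have hadjq : Adj T z (p (s + (t - s))) := by
      rw [show s + (t - s) = t by omega]; exact h.hadj
    rcases hh with hh | hh
    · exact F6 hm2 (l' := t - s) hq (by omega) z hzq hadjq hh
    · exact F5 hm2 (l' := t - s) hq (by omega) z hzq hadjq hh
  · push Not at hheavy
    exfalso
    have hadjA := h.hp.adj (t - 1) (by omega)
    have e : t - 1 + 1 = t := by omega
    rw [e] at hadjA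
    have hadjB := h.hp.adj t (by omega)
    have hne1 : p (t - 1) ≠ p (t + 1) := h.hp.ne (by omega) (by omega) (by omega)
    have hne2 : p (t - 1) ≠ z := (h.hz _ (by omega)).symm
    have hne3 : p (t + 1) ≠ z := (h.hz _ (by omega)).symm
    have sA : c T (p (t - 1)) (p t) = 1 ∧ c T (p t) (p (t - 1)) = 1 :=
      simple_of_not_heavy hn hm2 hadjA (fun hh => by
        have := Br_excl hm2 hadjA hadjB h.hadj.symm hne1 hne2 hne3 hh; omega)
    have sB : c T (p t) (p (t + 1)) = 1 ∧ c T (p (t + 1)) (p t) = 1 :=
      simple_of_not_heavy hn hm2 hadjB (fun hh => by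
        have := Br_excl hm2 hadjB.symm hadjA.symm h.hadj.symm hne1.symm hne3 hne2 hh.symm; omega)
    have sZ : c T z (p t) = 1 ∧ c T (p t) z = 1 :=
      simple_of_not_heavy hn hm2 h.hadj (fun hh => by
        have := Br_excl hm2 h.hadj hadjA.symm hadjB hne2.symm hne3.symm hne1 hh; omega)
    have hsimple : ∀ s, s ≤ t → c T (p s) (p (s + 1)) = 1 ∧ c T (p (s + 1)) (p s) = 1 := by
      intro s hs
      by_cases h1 : s + 2 ≤ t
      · have := hheavy s h1
        exact simple_of_not_heavy hn hm2 (h.hp.adj s (by omega)) (by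
          rintro (h' | h') <;> omega)
      · by_cases h2 : s = t
        · subst h2; exact sB
        · have h3 : s = t - 1 := by omega
          subst h3
          rw [e]; exact sA
    refine fork_neg (T := T) (l' := t) (by omega) (pz (t + 2) p z)
      (pz_inj h.hp (t + 2) (by omega) z h.hz) ?_ ?_
    · intro x
      rcases h.hall x with ⟨i, hi, rfl⟩ | rfl
      · exact ⟨i, by omega, (pz_lt _ _ _ (by omega)).symm⟩
      · exact ⟨t + 2, by omega, (pz_L _ _ _).symm⟩
    · intro s s' hs hs'
      by_cases hsz : s = t + 2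
      · subst hsz
        rw [pz_L]
        by_cases hsz' : s' = t + 2
        · subst hsz'
          rw [pz_L, DmF, mkM_diag]; exact c_diag_of_isMinusTwo T (hm2 _)
        · rw [pz_lt _ _ _ (by omega : s' < t + 2)]
          by_cases h1 : s' = t
          · subst h1
            rw [show DmF (s' + 3) 1 1 (s' + 2) s' = 1 from by entryF]
            exact sZ.1
          · rw [show DmF (t + 3) 1 1 (t + 2) s' = 0 from by entryF]
            exact c_of_not_adj (h.hz _ (by omega)) (h.hzp s' (by omega) h1)
      · rw [pz_lt _ _ _ (by omega : s < t + 2)]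
        by_cases hsz' : s' = t + 2
        · subst hsz'
          rw [pz_L]
          by_cases h1 : s = t
          · subst h1
            rw [show DmF (s + 3) 1 1 s (s + 2) = 1 from by entryF]
            exact sZ.2
          · rw [show DmF (t + 3) 1 1 s (t + 2) = 0 from by entryF]
            exact c_of_not_adj (h.hz _ (by omega)).symm
              (fun hadj => h.hzp s (by omega) h1 hadj.symm)
        · rw [pz_lt _ _ _ (by omega : s' < t + 2)]
          rcases Nat.lt_trichotomy s s' with hst | hst | hst
          · by_cases h1 : s' = s + 1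
            · subst h1
              rw [show DmF (t + 3) 1 1 s (s + 1) = 1 from by entryF]
              exact (hsimple s (by omega)).1
            · rw [show DmF (t + 3) 1 1 s s' = 0 from by entryF]
              exact c_of_not_adj (h.hp.ne (by omega) (by omega) (by omega))
                (h.hfar s s' (by omega) (by omega) (Or.inl (by omega)))
          · subst hst
            rw [DmF, mkM_diag]; exact c_diag_of_isMinusTwo T (hm2 _)
          · by_cases h1 : s = s' + 1
            · subst h1
              rw [show DmF (t + 3) 1 1 (s' + 1) s' = 1 from by entryF]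
              exact (hsimple s' (by omega)).2
            · rw [show DmF (t + 3) 1 1 s s' = 0 from by entryF]
              exact c_of_not_adj (h.hp.ne (by omega) (by omega) (by omega))
                (h.hfar s s' (by omega) (by omega) (Or.inr (by omega)))

theorem caseB (hn : 10 ≤ n) (hm2 : ∀ i, T.IsMinusTwo i) {z : Fin n} {t : ℕ}
    (h : ForkSit T k p z t) : Shapes T := by
  have hcount : k + 2 = n := count_eq (k + 2) (pz (k + 1) p z)
    (pz_inj h.hp (k + 1) le_rfl z h.hz) (fun x => by
      rcases h.hall x with ⟨i, hi, rfl⟩ | rfl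
      · exact ⟨i, by omega, (pz_lt _ _ _ (by omega)).symm⟩
      · exact ⟨k + 1, by omega, (pz_L _ _ _).symm⟩)
  have ht := h.ht
  by_cases h1 : t + 1 = k
  · subst h1
    exact caseB1 hn hm2 h (by omega)
  · by_cases h2 : t + 2 = k
    · exfalso
      have e : t = k - 2 := by omega
      have := E8_excl hm2 h.hp (by omega) z h.hz (by rw [← e]; exact h.hadj)
      omega
    · by_cases h3 : t = 1
      · have hr := h.rev
        have e : k = (k - t) + 1 := by omega
        obtain ⟨t', ht'⟩ : ∃ t', t' = k - t := ⟨_, rfl⟩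
        rw [← ht'] at hr e
        subst e
        exact caseB1 hn hm2 hr (by omega)
      · by_cases h4 : t = 2
        · exfalso
          have hr := h.rev
          have e : k - (k - 2) = 2 := by omega
          have := E8_excl hm2 h.hp.rev (by omega) z h.hz.rev (by
            simp only [e]; rw [← h4]; exact h.hadj)
          omega
        · exfalso
          have := E7_excl hm2 h.hp t (by omega) (by omega) z h.hz h.hadj
          omega

/-- the classification when the dual graph has no cycle -/
theorem tree_case (hn : 10 ≤ n) (hm2 : ∀ i, T.IsMinusTwo i) (hnc : NoCycle T) : Shapes T := by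
  obtain ⟨k, p, hp, hmax⟩ := exists_longest T
  have hmax' : Longest T k := hmax
  have hstr := structure_lemma hn hm2 hp hmax'
  have hfar : ∀ s t, s ≤ k → t ≤ k → (s + 2 ≤ t ∨ t + 2 ≤ s) → ¬ Adj T (p s) (p t) :=
    fun s t hs ht hst => path_far' hnc hp hs ht hst
  by_cases hB : ∃ z t, OffPath k p z ∧ t ≤ k ∧ Adj T z (p t)
  · obtain ⟨z, t, hz, ht, hadj⟩ := hB
    have ht0 := branch_pos hp hmax' hz ht hadj
    by_cases hB2 : ∃ z' t', OffPath k p z' ∧ t' ≤ k ∧ Adj T z' (p t') ∧ t' ≠ t
    · obtain ⟨z', t', hz', ht', hadj', hne⟩ := hB2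
      have ht0' := branch_pos hp hmax' hz' ht' hadj'
      have hzz' : z ≠ z' := by
        rintro rfl
        exact hne (one_branch' hnc hp hz ht' ht hadj' hadj)
      rcases lt_or_gt_of_ne hne with hlt | hlt
      · exact DF7 hm2 hp z' z hz' hz hzz'.symm t' (t - t') (by omega) (by omega) (by omega) hadj'
          (by rw [show t' + (t - t') = t by omega]; exact hadj)
      · exact DF7 hm2 hp z z' hz hz' hzz' t (t' - t) (by omega) (by omega) (by omega) hadj
          (by rw [show t + (t' - t) = t' by omega]; exact hadj')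
    · push Not at hB2
      refine caseB hn hm2 (z := z) (t := t) ⟨hp, hz, ht0, hadj, ?_, hfar, ?_⟩
      · intro x
        rcases hstr x with hx | ⟨hoff, t', ht', hadj'⟩
        · exact Or.inl hx
        · right
          have htt := hB2 x t' hoff ht' hadj'
          subst htt
          by_contra hxz
          have := Star_excl hm2 hp t' ht0.1 ht0.2 x z hoff hz hxz hadj' hadj
          omega
      · intro s hs hst hadjs
        exact hst (one_branch' hnc hp hz hs ht hadjs hadj)
  · push Not at hB
    refine caseC hn hm2 (k := k) (p := p) ⟨hp, ?_, hfar⟩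
    intro x
    rcases hstr x with hx | ⟨hoff, t', ht', hadj'⟩
    · exact hx
    · exact absurd hadj' (hB x t' hoff ht')

/-- the classification of minimal genus one numerical types on at least ten indices -/
theorem classification (hn : 10 ≤ n) (hm2 : ∀ i, T.IsMinusTwo i) : Shapes T := by
  by_cases hcyc : NoCycle T
  · exact tree_case hn hm2 hcyc
  · unfold NoCycle at hcyc
    push Not at hcyc
    obtain ⟨k, q, hq, hk, hadj⟩ := hcyc
    exact Cyc1 hm2 hq hk hadj

end Groth.Agent.Lib.Helper9.NT
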