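import Mathlib.Algebra.Module.Projective
import Mathlib.RingTheory.Nilpotent.Basic
import Mathlib.RingTheory.Ideal.Operations
import Mathlib.Algebra.Module.Torsion.Basic
import Mathlib.Tactic.Abel

/-!
# Lifting left inverses modulo a nilpotent ideal
-/

set_option autoImplicit false
universe u v w

namespace Groth.Agent.Lib.Helper9

lemma end_pow_mem_pow_smul_top {R : Type u} {X : Type v} [CommRing R] [AddCommGroup X]
    [Module R X] (I : Ideal R) (ε : Module.End R X)
    (h : ∀ x, ε x ∈ (I • ⊤ : Submodule R X)) (k : ℕ) :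
    ∀ x, (ε ^ k) x ∈ (I ^ k • ⊤ : Submodule R X) := by
  induction k with
  | zero => intro x; simp
  | succ k ih =>
    intro x
    have hstep : (ε ^ (k + 1)) x = ε ((ε ^ k) x) := by
      rw [pow_succ' ε k, Module.End.mul_apply]
    rw [hstep]
    refine Submodule.smul_induction_on (p := fun y => ε y ∈ (I ^ (k + 1) • ⊤ : Submodule R X))
      (ih x) (fun a ha y _ => ?_) (fun y y' hy hy' => ?_)
    · rw [map_smul, pow_succ, Submodule.mul_smul]
      exact Submodule.smul_mem_smul ha (h y)
    · rw [map_add]; exact Submodule.add_mem _ hy hy'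

/-- If `I` is nilpotent, `P` is projective and `f : X → P` has a left inverse modulo `I`,
then `f` has a left inverse. -/
lemma exists_leftInverse_of_nilpotent {R : Type u} {X : Type v} {P : Type w} [CommRing R]
    [AddCommGroup X] [Module R X] [AddCommGroup P] [Module R P] [Module.Projective R P]
    (I : Ideal R) (n : ℕ) (hI : I ^ n = ⊥) (f : X →ₗ[R] P)
    (w₀ : P →ₗ[R] X ⧸ (I • ⊤ : Submodule R X))
    (hw₀ : ∀ x, w₀ (f x) = Submodule.Quotient.mk x) : ∃ w : P →ₗ[R] X, ∀ x, w (f x) = x := by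
  obtain ⟨w₁, hw₁⟩ := Module.projective_lifting_property
    (Submodule.mkQ (I • ⊤ : Submodule R X)) w₀ (Submodule.mkQ_surjective _)
  let ε : Module.End R X := w₁ ∘ₗ f - 1
  have hεx : ∀ x, ε x = w₁ (f x) - x := fun x => rfl
  have hε : ∀ x, ε x ∈ (I • ⊤ : Submodule R X) := by
    intro x
    rw [← Submodule.Quotient.mk_eq_zero, hεx, Submodule.Quotient.mk_sub, sub_eq_zero, ← hw₀ x,
      ← hw₁]
    rfl
  have hnil : IsNilpotent ε := by
    refine ⟨n, LinearMap.ext fun x => ?_⟩
    have h1 := end_pow_mem_pow_smul_top I ε hε n x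
    rw [hI, Submodule.bot_smul, Submodule.mem_bot] at h1
    simpa using h1
  obtain ⟨v, hv⟩ := hnil.isUnit_one_add
  refine ⟨(↑v⁻¹ : Module.End R X) ∘ₗ w₁, fun x => ?_⟩
  have h1 : w₁ (f x) = (1 + ε) x := by
    show _ = x + ε x
    rw [hεx]; abel
  show (↑v⁻¹ : Module.End R X) (w₁ (f x)) = x
  rw [h1, ← hv, ← Module.End.mul_apply, Units.inv_mul, Module.End.one_apply]

end Groth.Agent.Lib.Helper9
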