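import Mathlib
import Groth.Prelude.Def_KZero

namespace Helper9.NodeK0

open CategoryTheory

universe uu
variable {A : Type uu} [CommRing A]

abbrev P (A : Type uu) [CommRing A] : ObjectProperty (ModuleCat.{uu} A) :=
  fun M => Module.Finite A M

/-- class of a type-level module -/
noncomputable def clT (A : Type uu) [CommRing A] (M : Type uu) [AddCommGroup M] [Module A M] :
    KZero.K0sub (P A) :=
  KZero.clSub (P A) (ModuleCat.of A M)

lemma rel (M₁ M₂ M₃ : Type uu) [AddCommGroup M₁] [Module A M₁] [AddCommGroup M₂] [Module A M₂]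
    [AddCommGroup M₃] [Module A M₃] [Module.Finite A M₁] [Module.Finite A M₂]
    [Module.Finite A M₃]
    (f : M₁ →ₗ[A] M₂) (g : M₂ →ₗ[A] M₃) (hf : Function.Injective f) (hg : Function.Surjective g)
    (hfg : Function.Exact f g) : clT A M₂ = clT A M₁ + clT A M₃ := by
  have h₁ : P A (ModuleCat.of A M₁) := ‹Module.Finite A M₁›
  have h₂ : P A (ModuleCat.of A M₂) := ‹Module.Finite A M₂›
  have h₃ : P A (ModuleCat.of A M₃) := ‹Module.Finite A M₃›
  unfold clT KZero.clSub
  rw [dif_pos h₁, dif_pos h₂, dif_pos h₃]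
  have hS : (ModuleCat.shortComplexOfCompEqZero f g hfg.linearMap_comp_eq_zero).ShortExact :=
    ModuleCat.shortComplex_shortExact _ hfg hf hg
  have hmem : FreeAbelianGroup.of (⟨ModuleCat.of A M₂, h₂⟩ : Subtype (P A)) -
      FreeAbelianGroup.of ⟨ModuleCat.of A M₁, h₁⟩ - FreeAbelianGroup.of ⟨ModuleCat.of A M₃, h₃⟩ ∈
      KZero.relSub (P A) :=
    AddSubgroup.subset_closure
      ⟨ModuleCat.shortComplexOfCompEqZero f g hfg.linearMap_comp_eq_zero, h₁, h₂, h₃, hS, rfl⟩
  have h0 := (QuotientAddGroup.eq_zero_iff _).mpr hmem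
  rw [QuotientAddGroup.mk_sub, QuotientAddGroup.mk_sub, sub_sub, sub_eq_zero] at h0
  exact h0

lemma clT_subsingleton (M : Type uu) [AddCommGroup M] [Module A M] [Subsingleton M] :
    clT A M = 0 := by
  have h := rel (A := A) M M M LinearMap.id 0 Function.injective_id
    (fun y => ⟨0, Subsingleton.elim _ _⟩)
    (fun y => ⟨fun _ => ⟨y, rfl⟩, fun _ => Subsingleton.elim _ _⟩)
  have h2 : clT A M + clT A M = clT A M + 0 := by rw [add_zero]; exact h.symm
  exact add_left_cancel h2

lemma clT_equiv (M N : Type uu) [AddCommGroup M] [Module A M] [AddCommGroup N] [Module A N]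
    [Module.Finite A M] [Module.Finite A N] (e : M ≃ₗ[A] N) : clT A M = clT A N := by
  have h := rel (A := A) PUnit.{uu + 1} M N 0 e.toLinearMap
    (fun a b _ => Subsingleton.elim a b) e.surjective
    (fun m => ⟨fun hm => ⟨PUnit.unit, (e.injective (hm.trans (map_zero e).symm)).symm⟩,
      fun ⟨_, hm⟩ => by rw [← hm]; exact map_zero _⟩)
  rw [clT_subsingleton (A := A) PUnit, zero_add] at h
  exact h

lemma quot_kill (u : A) (m : A ⧸ Ideal.span {u}) : u • m = 0 := by
  obtain ⟨a, rfl⟩ := Ideal.Quotient.mk_surjective m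
  rw [Algebra.smul_def]
  show Ideal.Quotient.mk _ u * Ideal.Quotient.mk _ a = 0
  rw [← map_mul]
  exact Ideal.Quotient.eq_zero_iff_mem.2 (Ideal.mul_mem_right _ _ (Ideal.mem_span_singleton_self u))

section killed

variable (t : A) [IsDomain (A ⧸ Ideal.span {t})] [IsPrincipalIdealRing (A ⧸ Ideal.span {t})]

lemma cyclic_t (M : Type uu) [AddCommGroup M] [Module A M] (ht : ∀ m : M, t • m = 0) (x : M) :
    clT A ↥(Submodule.span A {x}) ∈ AddSubgroup.zmultiples (clT A (A ⧸ Ideal.span {t})) := by
  obtain ⟨g, hg⟩ : ∃ g : A →ₗ[A] ↥(Submodule.span A {x}),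
      g = (LinearMap.toSpanSingleton A M x).codRestrict (Submodule.span A {x})
        (fun a => Submodule.mem_span_singleton.mpr ⟨a, rfl⟩) := ⟨_, rfl⟩
  have hga : ∀ a, (g a : M) = a • x := fun a => by rw [hg]; rfl
  have hgsurj : Function.Surjective g := by
    rintro ⟨y, hy⟩
    obtain ⟨a, rfl⟩ := Submodule.mem_span_singleton.mp hy
    exact ⟨a, Subtype.ext (hga a)⟩
  haveI : Module.Finite A ↥(Submodule.span A {x}) :=
    Module.Finite.iff_fg.mpr (Submodule.fg_span_singleton x)
  have hker : Ideal.span {t} ≤ LinearMap.ker g := by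
    show Submodule.span A {t} ≤ _
    rw [Submodule.span_le]
    intro a ha
    rw [Set.mem_singleton_iff] at ha
    rw [SetLike.mem_coe, LinearMap.mem_ker, ha]
    apply Subtype.ext
    rw [hga]
    exact ht x
  obtain ⟨gb, hgb⟩ : ∃ gb : (A ⧸ Ideal.span {t}) →ₗ[A] ↥(Submodule.span A {x}),
      ∀ a, gb (Ideal.Quotient.mk _ a) = g a :=
    ⟨Submodule.liftQ (Ideal.span {t}) g hker, fun a => rfl⟩
  have hgbsurj : Function.Surjective gb := fun y => by
    obtain ⟨a, ha⟩ := hgsurj y
    exact ⟨Ideal.Quotient.mk _ a, by rw [hgb, ha]⟩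
  obtain ⟨J, hJ⟩ : ∃ J : Ideal (A ⧸ Ideal.span {t}), ∀ d, d ∈ J ↔ gb d = 0 := by
    refine ⟨{ carrier := {d | gb d = 0}
              add_mem' := fun {a b} ha hb => by
                show gb (a + b) = 0
                rw [map_add, (show gb a = 0 from ha), (show gb b = 0 from hb), add_zero]
              zero_mem' := map_zero gb
              smul_mem' := fun c d hd => by
                obtain ⟨a, rfl⟩ := Ideal.Quotient.mk_surjective c
                show gb (Ideal.Quotient.mk _ a • d) = 0
                have : (Ideal.Quotient.mk (Ideal.span {t}) a) • d = a • d := by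
                  rw [smul_eq_mul, Algebra.smul_def]
                  rfl
                rw [this, map_smul, (show gb d = 0 from hd), smul_zero] }, fun d => Iff.rfl⟩
  obtain ⟨d₀, hd₀⟩ : ∃ d₀ : A ⧸ Ideal.span {t}, J = Ideal.span {d₀} :=
    ⟨_, (Submodule.IsPrincipal.span_singleton_generator J).symm⟩
  by_cases h0 : d₀ = 0
  · have hinj : Function.Injective gb := by
      rw [injective_iff_map_eq_zero]
      intro d hd
      have hdJ : d ∈ J := (hJ d).2 hd
      rw [hd₀, h0, Ideal.span_singleton_eq_bot.mpr rfl, Ideal.mem_bot] at hdJ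
      exact hdJ
    rw [← clT_equiv _ _ (LinearEquiv.ofBijective gb ⟨hinj, hgbsurj⟩)]
    exact AddSubgroup.mem_zmultiples _
  · obtain ⟨f, hf⟩ : ∃ f : (A ⧸ Ideal.span {t}) →ₗ[A] (A ⧸ Ideal.span {t}),
        ∀ d, f d = d * d₀ := ⟨LinearMap.mulRight A d₀, fun d => rfl⟩
    have hfinj : Function.Injective f := by
      intro a b hab
      rw [hf, hf] at hab
      exact mul_right_cancel₀ h0 hab
    have hex : Function.Exact f gb := by
      intro d
      rw [← hJ d, hd₀, Ideal.mem_span_singleton']
      constructor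
      · rintro ⟨c, hc⟩
        exact ⟨c, by rw [hf, hc]⟩
      · rintro ⟨c, hc⟩
        exact ⟨c, by rw [← hf, hc]⟩
    have h := rel (A := A) (A ⧸ Ideal.span {t}) (A ⧸ Ideal.span {t}) ↥(Submodule.span A {x})
      f gb hfinj hgbsurj hex
    have h2 : clT A (A ⧸ Ideal.span {t}) + clT A ↥(Submodule.span A {x})
        = clT A (A ⧸ Ideal.span {t}) + 0 := by
      rw [add_zero]; exact h.symm
    rw [add_left_cancel h2]
    exact AddSubgroup.zero_mem _

lemma gen_t : ∀ (n : ℕ) (M : Type uu) [AddCommGroup M] [Module A M] (s : Fin n → M),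
    Submodule.span A (Set.range s) = ⊤ → (∀ m : M, t • m = 0) →
      clT A M ∈ AddSubgroup.zmultiples (clT A (A ⧸ Ideal.span {t})) := by
  intro n
  induction n with
  | zero =>
    intro M _ _ s hs _
    have : Set.range s = ∅ := Set.range_eq_empty s
    rw [this, Submodule.span_empty] at hs
    haveI : Subsingleton M := Submodule.subsingleton_iff A |>.mp (subsingleton_of_bot_eq_top hs)
    rw [clT_subsingleton (A := A) M]
    exact AddSubgroup.zero_mem _
  | succ n ih =>
    intro M _ _ s hs ht
    haveI : Module.Finite A M := by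
      rw [Module.finite_def, ← hs]
      exact Submodule.fg_span (Set.finite_range s)
    obtain ⟨N, hN⟩ : ∃ N : Submodule A M, N = Submodule.span A {s 0} := ⟨_, rfl⟩
    haveI : Module.Finite A ↥N := by
      rw [hN]; exact Module.Finite.iff_fg.mpr (Submodule.fg_span_singleton _)
    have h := rel (A := A) ↥N M (M ⧸ N) N.subtype N.mkQ N.injective_subtype
      N.mkQ_surjective (LinearMap.exact_subtype_mkQ N)
    rw [h]
    refine AddSubgroup.add_mem _ ?_ ?_
    · rw [hN]; exact cyclic_t t M ht (s 0)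
    · refine ih (M ⧸ N) (fun i => N.mkQ (s i.succ)) ?_ ?_
      · rw [eq_top_iff, ← Submodule.range_mkQ N, LinearMap.range_eq_map, ← hs, Submodule.map_span,
          Submodule.span_le]
        rintro _ ⟨_, ⟨i, rfl⟩, rfl⟩
        refine Fin.cases ?_ (fun j => ?_) i
        · have : N.mkQ (s 0) = 0 := by
            rw [Submodule.mkQ_apply, Submodule.Quotient.mk_eq_zero, hN]
            exact Submodule.mem_span_singleton_self _
          rw [this]; exact Submodule.zero_mem _
        · exact Submodule.subset_span ⟨j, rfl⟩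
      · intro q
        obtain ⟨m, rfl⟩ := N.mkQ_surjective q
        rw [← map_smul, ht m, map_zero]

end killed

section two

variable (t u : A) (htu : t * u = 0)
  [IsDomain (A ⧸ Ideal.span {t})] [IsPrincipalIdealRing (A ⧸ Ideal.span {t})]
  [IsDomain (A ⧸ Ideal.span {u})] [IsPrincipalIdealRing (A ⧸ Ideal.span {u})]

include htu in
lemma all_two (M : Type uu) [AddCommGroup M] [Module A M] [Module.Finite A M] :
    clT A M ∈ AddSubgroup.closure
      {clT A (A ⧸ Ideal.span {t}), clT A (A ⧸ Ideal.span {u})} := by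
  obtain ⟨N, hN⟩ : ∃ N : Submodule A M, N = LinearMap.range (LinearMap.lsmul A M t) := ⟨_, rfl⟩
  haveI : Module.Finite A ↥N := by rw [hN]; infer_instance
  have h := rel (A := A) ↥N M (M ⧸ N) N.subtype N.mkQ N.injective_subtype
    N.mkQ_surjective (LinearMap.exact_subtype_mkQ N)
  rw [h]
  refine AddSubgroup.add_mem _ ?_ ?_
  · have hu : ∀ n : ↥N, u • n = 0 := by
      rintro ⟨n, hn⟩
      rw [hN] at hn
      obtain ⟨m, rfl⟩ := hn
      apply Subtype.ext
      show u • (t • m) = 0
      rw [smul_smul, mul_comm, htu, zero_smul]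
    obtain ⟨n, s, hs⟩ := Module.Finite.exists_fin (R := A) (M := ↥N)
    exact AddSubgroup.zmultiples_le_of_mem (AddSubgroup.subset_closure (by simp))
      (gen_t u n ↥N s hs hu)
  · have ht : ∀ q : M ⧸ N, t • q = 0 := by
      intro q
      obtain ⟨m, rfl⟩ := N.mkQ_surjective q
      rw [← map_smul, Submodule.mkQ_apply, Submodule.Quotient.mk_eq_zero, hN]
      exact ⟨m, rfl⟩
    obtain ⟨n, s, hs⟩ := Module.Finite.exists_fin (R := A) (M := M ⧸ N)
    exact AddSubgroup.zmultiples_le_of_mem (AddSubgroup.subset_closure (by simp))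
      (gen_t t n (M ⧸ N) s hs ht)

include htu in
lemma all_mem (y : KZero.K0sub (P A)) : y ∈ AddSubgroup.closure
      {clT A (A ⧸ Ideal.span {t}), clT A (A ⧸ Ideal.span {u})} := by
  induction y using QuotientAddGroup.induction_on with
  | H z =>
    induction z using FreeAbelianGroup.induction_on with
    | zero => exact AddSubgroup.zero_mem _
    | of M =>
      obtain ⟨M, hM⟩ := M
      haveI hM' : Module.Finite A M := hM
      have h := all_two t u htu M
      have e : clT A M = (QuotientAddGroup.mk (FreeAbelianGroup.of ⟨M, hM⟩) :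
          KZero.K0sub (P A)) := by
        unfold clT KZero.clSub
        rw [dif_pos (show P A (ModuleCat.of A M) from hM)]
      rw [← e]; exact h
    | neg M h =>
      rw [QuotientAddGroup.mk_neg]; exact AddSubgroup.neg_mem _ h
    | add x y hx hy =>
      rw [QuotientAddGroup.mk_add]; exact AddSubgroup.add_mem _ hx hy

end two

section rank

variable (p : Ideal A) [p.IsPrime]

noncomputable def len (M : Type uu) [AddCommGroup M] [Module A M] : ℕ∞ :=
  Module.length (Localization.AtPrime p) (LocalizedModule p.primeCompl M)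

lemma len_add (M₁ M₂ M₃ : Type uu) [AddCommGroup M₁] [Module A M₁] [AddCommGroup M₂] [Module A M₂]
    [AddCommGroup M₃] [Module A M₃]
    (f : M₁ →ₗ[A] M₂) (g : M₂ →ₗ[A] M₃) (hf : Function.Injective f) (hg : Function.Surjective g)
    (hfg : Function.Exact f g) : len p M₂ = len p M₁ + len p M₃ := by
  unfold len
  refine Module.length_eq_add_of_exact (LocalizedModule.map p.primeCompl f)
    (LocalizedModule.map p.primeCompl g) ?_ ?_ ?_
  · exact IsLocalizedModule.map_injective p.primeCompl (LocalizedModule.mkLinearMap _ M₁)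
      (LocalizedModule.mkLinearMap _ M₂) f hf
  · exact IsLocalizedModule.map_surjective p.primeCompl (LocalizedModule.mkLinearMap _ M₂)
      (LocalizedModule.mkLinearMap _ M₃) g hg
  · exact LocalizedModule.map_exact p.primeCompl f g hfg

lemma len_ne_top (hF : IsField (Localization.AtPrime p)) (M : Type uu) [AddCommGroup M]
    [Module A M] [Module.Finite A M] : len p M ≠ ⊤ := by
  letI := hF.toField
  unfold len
  haveI : Module.Finite (Localization.AtPrime p) (LocalizedModule p.primeCompl M) := inferInstance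
  exact Module.length_ne_top

lemma len_eq_zero_of_kill (M : Type uu) [AddCommGroup M] [Module A M] (s : A) (hs : s ∉ p)
    (h : ∀ m : M, s • m = 0) : len p M = 0 := by
  unfold len
  rw [Module.length_eq_zero_iff, LocalizedModule.subsingleton_iff]
  intro m
  exact ⟨s, hs, h m⟩

lemma len_ne_zero_quot (t : A) [(Ideal.span {t}).IsPrime] :
    len (Ideal.span {t}) (A ⧸ Ideal.span {t}) ≠ 0 := by
  unfold len
  rw [Ne, Module.length_eq_zero_iff, LocalizedModule.subsingleton_iff]
  intro h
  obtain ⟨r, hr, hr0⟩ := h (Ideal.Quotient.mk _ 1)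
  apply hr
  have : Ideal.Quotient.mk (Ideal.span {t}) r = 0 := by
    rw [← hr0, Algebra.smul_def, map_one, mul_one]
    rfl
  exact Ideal.Quotient.eq_zero_iff_mem.mp this

noncomputable def rk₀ : FreeAbelianGroup (Subtype (P A)) →+ ℤ :=
  FreeAbelianGroup.lift (fun M => ((len p M.1).toNat : ℤ))

lemma rk₀_rel (hF : IsField (Localization.AtPrime p)) : KZero.relSub (P A) ≤ (rk₀ p).ker := by
  unfold KZero.relSub
  rw [AddSubgroup.closure_le]
  rintro _ ⟨S, h₁, h₂, h₃, hS, rfl⟩
  rw [SetLike.mem_coe, AddMonoidHom.mem_ker, map_sub, map_sub]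
  simp only [rk₀, FreeAbelianGroup.lift_apply_of]
  haveI : Module.Finite A S.X₁ := h₁
  haveI : Module.Finite A S.X₂ := h₂
  haveI : Module.Finite A S.X₃ := h₃
  have hex : Function.Exact S.f.hom S.g.hom :=
    LinearMap.exact_iff.2 hS.exact.moduleCat_range_eq_ker.symm
  have hadd := len_add p S.X₁ S.X₂ S.X₃ S.f.hom S.g.hom hS.moduleCat_injective_f
    hS.moduleCat_surjective_g hex
  rw [hadd, ENat.toNat_add (len_ne_top p hF S.X₁) (len_ne_top p hF S.X₃)]
  push_cast
  ring

noncomputable def rk (hF : IsField (Localization.AtPrime p)) : KZero.K0sub (P A) →+ ℤ :=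
  QuotientAddGroup.lift (KZero.relSub (P A)) (rk₀ p) (rk₀_rel p hF)

lemma rk_clT (hF : IsField (Localization.AtPrime p)) (M : Type uu) [AddCommGroup M]
    [Module A M] [Module.Finite A M] : rk p hF (clT A M) = ((len p M).toNat : ℤ) := by
  have h : P A (ModuleCat.of A M) := ‹Module.Finite A M›
  unfold clT KZero.clSub
  rw [dif_pos h]
  show rk₀ p (FreeAbelianGroup.of _) = _
  simp only [rk₀, FreeAbelianGroup.lift_apply_of]

lemma isField_loc (t u : A) (htu : t * u = 0) [hp : (Ideal.span {t}).IsPrime]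
    (hu : u ∉ Ideal.span {t}) : IsField (Localization.AtPrime (Ideal.span {t})) := by
  rw [IsLocalRing.isField_iff_maximalIdeal_eq,
    ← Localization.AtPrime.map_eq_maximalIdeal, Ideal.map_span,
    Set.image_singleton, Ideal.span_singleton_eq_bot]
  have hunit : IsUnit (algebraMap A (Localization.AtPrime (Ideal.span {t})) u) :=
    IsLocalization.map_units _ (⟨u, hu⟩ : (Ideal.span {t}).primeCompl)
  have : algebraMap A (Localization.AtPrime (Ideal.span {t})) t
      * algebraMap A (Localization.AtPrime (Ideal.span {t})) u = 0 := by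
    rw [← map_mul, htu, map_zero]
  exact (hunit.mul_left_eq_zero).1 this

end rank

theorem main (t u : A) (htu : t * u = 0)
    [IsDomain (A ⧸ Ideal.span {t})] [IsPrincipalIdealRing (A ⧸ Ideal.span {t})]
    [IsDomain (A ⧸ Ideal.span {u})] [IsPrincipalIdealRing (A ⧸ Ideal.span {u})]
    (hut : u ∉ Ideal.span {t}) (htu' : t ∉ Ideal.span {u}) :
    Function.Bijective (fun q : ℤ × ℤ =>
      q.1 • clT A (A ⧸ Ideal.span {t}) + q.2 • clT A (A ⧸ Ideal.span {u})) := by
  haveI hpt : (Ideal.span {t}).IsPrime := (Ideal.Quotient.isDomain_iff_prime _).mp inferInstance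
  haveI hpu : (Ideal.span {u}).IsPrime := (Ideal.Quotient.isDomain_iff_prime _).mp inferInstance
  have hFt := isField_loc t u htu hut
  have hFu := isField_loc u t (by rw [mul_comm]; exact htu) htu'
  constructor
  · rintro ⟨a, b⟩ ⟨a', b'⟩ h
    simp only at h
    have h1 := congrArg (rk (Ideal.span {t}) hFt) h
    have h2 := congrArg (rk (Ideal.span {u}) hFu) h
    simp only [map_add, map_zsmul, rk_clT] at h1 h2
    rw [len_eq_zero_of_kill (Ideal.span {t}) (A ⧸ Ideal.span {u}) u hut (quot_kill u)] at h1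
    rw [len_eq_zero_of_kill (Ideal.span {u}) (A ⧸ Ideal.span {t}) t htu' (quot_kill t)] at h2
    have hlam : ((len (Ideal.span {t}) (A ⧸ Ideal.span {t})).toNat : ℤ) ≠ 0 := by
      intro h0
      have h0' : (len (Ideal.span {t}) (A ⧸ Ideal.span {t})).toNat = 0 := by exact_mod_cast h0
      rcases ENat.toNat_eq_zero.1 h0' with h | h
      · exact len_ne_zero_quot t h
      · exact len_ne_top _ hFt _ h
    have hmu : ((len (Ideal.span {u}) (A ⧸ Ideal.span {u})).toNat : ℤ) ≠ 0 := by
      intro h0
      have h0' : (len (Ideal.span {u}) (A ⧸ Ideal.span {u})).toNat = 0 := by exact_mod_cast h0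
      rcases ENat.toNat_eq_zero.1 h0' with h | h
      · exact len_ne_zero_quot u h
      · exact len_ne_top _ hFu _ h
    simp only [smul_eq_mul, ENat.toNat_zero, Nat.cast_zero, mul_zero, add_zero, zero_add] at h1 h2
    exact Prod.ext (mul_right_cancel₀ hlam h1) (mul_right_cancel₀ hmu h2)
  · intro y
    have hy := all_mem t u htu y
    rw [AddSubgroup.mem_closure_pair] at hy
    obtain ⟨a, b, hab⟩ := hy
    exact ⟨(a, b), hab⟩

section node

variable (k : Type uu) [Field k]

noncomputable abbrev I₀ : Ideal (MvPolynomial (Fin 2) k) :=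
  Ideal.span {(MvPolynomial.X 0 * MvPolynomial.X 1 : MvPolynomial (Fin 2) k)}

noncomputable abbrev Nd := MvPolynomial (Fin 2) k ⧸ I₀ k

noncomputable abbrev xb (i : Fin 2) : Nd k := Ideal.Quotient.mk (I₀ k) (MvPolynomial.X i)

noncomputable def r0 (i : Fin 2) : MvPolynomial (Fin 2) k →+* Polynomial k :=
  MvPolynomial.eval₂Hom Polynomial.C (fun l => if l = i then 0 else Polynomial.X)

lemma r0_X (i l : Fin 2) : r0 k i (MvPolynomial.X l) = if l = i then 0 else Polynomial.X := by
  unfold r0
  rw [MvPolynomial.eval₂Hom_X']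

lemma r0_I (i : Fin 2) : ∀ a ∈ I₀ k, r0 k i a = 0 := by
  intro a ha
  have : I₀ k ≤ RingHom.ker (r0 k i) := by
    rw [Ideal.span_le]
    intro b hb
    rw [Set.mem_singleton_iff] at hb
    rw [SetLike.mem_coe, RingHom.mem_ker, hb, map_mul, r0_X, r0_X]
    fin_cases i <;> simp
  exact this ha

noncomputable def r1 (i : Fin 2) : Nd k →+* Polynomial k :=
  Ideal.Quotient.lift (I₀ k) (r0 k i) (r0_I k i)

lemma r1_xb (i l : Fin 2) : r1 k i (xb k l) = if l = i then 0 else Polynomial.X := by
  unfold r1 xb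
  rw [Ideal.Quotient.lift_mk, r0_X]

lemma r1_C (i : Fin 2) (a : k) :
    r1 k i (Ideal.Quotient.mk _ (MvPolynomial.C a)) = Polynomial.C a := by
  unfold r1
  rw [Ideal.Quotient.lift_mk]
  unfold r0
  rw [MvPolynomial.eval₂Hom_C]

lemma span_le_ker (i : Fin 2) : Ideal.span {xb k i} ≤ RingHom.ker (r1 k i) := by
  rw [Ideal.span_le]
  intro b hb
  rw [Set.mem_singleton_iff] at hb
  rw [SetLike.mem_coe, RingHom.mem_ker, hb, r1_xb, if_pos rfl]

noncomputable def r2 (i : Fin 2) : (Nd k ⧸ Ideal.span {xb k i}) →+* Polynomial k :=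
  Ideal.Quotient.lift (Ideal.span {xb k i}) (r1 k i) (fun a ha => RingHom.mem_ker.1 (span_le_ker k i ha))

noncomputable def s2 (i j : Fin 2) : Polynomial k →+* (Nd k ⧸ Ideal.span {xb k i}) :=
  Polynomial.eval₂RingHom (algebraMap k (Nd k ⧸ Ideal.span {xb k i}))
    (Ideal.Quotient.mk _ (xb k j))

lemma r2_s2 (i j : Fin 2) (hij : j ≠ i) : (r2 k i).comp (s2 k i j) = RingHom.id _ := by
  apply Polynomial.ringHom_ext
  · intro a
    simp only [RingHom.comp_apply, RingHom.id_apply]
    unfold s2
    rw [Polynomial.coe_eval₂RingHom, Polynomial.eval₂_C]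
    show r2 k i (Ideal.Quotient.mk _ (Ideal.Quotient.mk _ (MvPolynomial.C a))) = _
    unfold r2
    rw [Ideal.Quotient.lift_mk, r1_C]
  · simp only [RingHom.comp_apply, RingHom.id_apply]
    unfold s2
    rw [Polynomial.coe_eval₂RingHom, Polynomial.eval₂_X]
    unfold r2
    rw [Ideal.Quotient.lift_mk, r1_xb, if_neg hij]

lemma s2_r2 (i j : Fin 2) (hij : j ≠ i) : (s2 k i j).comp (r2 k i) = RingHom.id _ := by
  apply Ideal.Quotient.ringHom_ext
  apply Ideal.Quotient.ringHom_ext
  apply MvPolynomial.ringHom_ext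
  · intro a
    simp only [RingHom.comp_apply, RingHom.id_apply]
    unfold r2
    rw [Ideal.Quotient.lift_mk, r1_C]
    unfold s2
    rw [Polynomial.coe_eval₂RingHom, Polynomial.eval₂_C]
    rfl
  · intro l
    simp only [RingHom.comp_apply, RingHom.id_apply]
    show s2 k i j (r2 k i (Ideal.Quotient.mk _ (xb k l))) = Ideal.Quotient.mk _ (xb k l)
    unfold r2
    rw [Ideal.Quotient.lift_mk, r1_xb]
    by_cases hl : l = i
    · rw [if_pos hl, map_zero, hl]
      exact (Ideal.Quotient.eq_zero_iff_mem.2 (Ideal.mem_span_singleton_self _)).symm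
    · rw [if_neg hl]
      have : l = j := by
        apply Fin.ext
        have h1 : l.val ≠ i.val := fun h => hl (Fin.ext h)
        have h2 : j.val ≠ i.val := fun h => hij (Fin.ext h)
        have := l.isLt
        have := i.isLt
        have := j.isLt
        omega
      rw [this]
      unfold s2
      rw [Polynomial.coe_eval₂RingHom, Polynomial.eval₂_X]

noncomputable def eqv (i j : Fin 2) (hij : j ≠ i) :
    (Nd k ⧸ Ideal.span {xb k i}) ≃+* Polynomial k :=
  RingEquiv.ofRingHom (r2 k i) (s2 k i j) (r2_s2 k i j hij) (s2_r2 k i j hij)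

lemma dom (i j : Fin 2) (hij : j ≠ i) : IsDomain (Nd k ⧸ Ideal.span {xb k i}) :=
  (eqv k i j hij).toMulEquiv.isDomain _

lemma pir (i j : Fin 2) (hij : j ≠ i) : IsPrincipalIdealRing (Nd k ⧸ Ideal.span {xb k i}) :=
  IsPrincipalIdealRing.of_surjective (eqv k i j hij).symm.toRingHom (eqv k i j hij).symm.surjective

lemma xb_not_mem (i j : Fin 2) (hij : j ≠ i) : xb k j ∉ Ideal.span {xb k i} := by
  intro h
  have : r1 k i (xb k j) = 0 := span_le_ker k i h
  rw [r1_xb, if_neg hij] at this
  exact Polynomial.X_ne_zero this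

lemma xb_mul : xb k 0 * xb k 1 = 0 := by
  unfold xb
  rw [← map_mul]
  exact Ideal.Quotient.eq_zero_iff_mem.2 (Ideal.mem_span_singleton_self _)

end node

end Helper9.NodeK0
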