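import Mathlib
import Groth.Prelude
import Groth.Agent.Lib.Helper14.NormalRing
import Groth.Agent.S9413

/-!
# Normality of a product with a geometrically normal scheme (helper9)

* `isNormalRing_sections`, `isNormalScheme_of_cover`: normal schemes vs normal rings on affine opens.
* `isPushout_chart`: sections of a fibre product over `Spec k` on a product of affine opens.
* `main`: `X` geometrically normal over `k`, `Y` normal over `k` ⇒ `X ×_k Y` normal.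
-/

set_option autoImplicit false
set_option linter.style.haveILetI false
set_option backward.isDefEq.respectTransparency.types false
universe u
open AlgebraicGeometry CategoryTheory Limits TensorProduct

namespace Groth.Agent.Lib.Helper9.NormProd

theorem exists_point_of_prime {Y : Scheme.{u}} {V : Y.Opens} (hV : IsAffineOpen V)
    (p : Ideal Γ(Y, V)) [p.IsPrime] :
    ∃ (y : Y) (hy : y ∈ V), (hV.primeIdealOf ⟨y, hy⟩).asIdeal = p := by
  let x : V := hV.isoSpec.inv (⟨p, inferInstance⟩ : PrimeSpectrum Γ(Y, V))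
  refine ⟨x.1, x.2, ?_⟩
  have : hV.primeIdealOf ⟨x.1, x.2⟩ = ⟨p, inferInstance⟩ := by
    show hV.isoSpec.hom (hV.isoSpec.inv _) = _
    rw [← Scheme.Hom.comp_apply, Iso.inv_hom_id]
    rfl
  rw [this]

/-- Sections of a normal scheme over an affine open form a normal ring. -/
theorem isNormalRing_sections {X : Scheme.{u}} (hX : Pi1.IsNormalScheme X) {U : X.Opens}
    (hU : IsAffineOpen U) : EGA4.IsNormalRing Γ(X, U) := by
  intro p hp
  obtain ⟨x, hx, rfl⟩ := exists_point_of_prime hU p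
  obtain ⟨hd, hic⟩ := hX x
  letI := X.presheaf.algebra_section_stalk (⟨x, hx⟩ : U)
  haveI := hU.isLocalization_stalk ⟨x, hx⟩
  let e : Localization.AtPrime (hU.primeIdealOf ⟨x, hx⟩).asIdeal ≃ₐ[Γ(X, U)]
      X.presheaf.stalk (⟨x, hx⟩ : U) :=
    IsLocalization.algEquiv (hU.primeIdealOf ⟨x, hx⟩).asIdeal.primeCompl _ _
  haveI : IsDomain (X.presheaf.stalk (⟨x, hx⟩ : U)) := hd
  haveI : IsIntegrallyClosed (X.presheaf.stalk (⟨x, hx⟩ : U)) := hic
  exact ⟨e.toRingEquiv.toMulEquiv.isDomain _, IsIntegrallyClosed.of_equiv e.symm.toRingEquiv⟩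

/-- A scheme covered by affine opens with normal coordinate rings is normal. -/
theorem isNormalScheme_of_cover {P : Scheme.{u}}
    (h : ∀ z : P, ∃ W : P.Opens, z ∈ W ∧ IsAffineOpen W ∧ EGA4.IsNormalRing Γ(P, W)) :
    Pi1.IsNormalScheme P := by
  intro z
  obtain ⟨W, hzW, hW, hn⟩ := h z
  obtain ⟨hd, hic⟩ := hn (hW.primeIdealOf ⟨z, hzW⟩).asIdeal
  letI := P.presheaf.algebra_section_stalk (⟨z, hzW⟩ : W)
  haveI := hW.isLocalization_stalk ⟨z, hzW⟩
  let e : Localization.AtPrime (hW.primeIdealOf ⟨z, hzW⟩).asIdeal ≃ₐ[Γ(P, W)]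
      P.presheaf.stalk (⟨z, hzW⟩ : W) :=
    IsLocalization.algEquiv (hW.primeIdealOf ⟨z, hzW⟩).asIdeal.primeCompl _ _
  haveI := hd
  haveI := hic
  exact ⟨e.symm.toRingEquiv.toMulEquiv.isDomain _, IsIntegrallyClosed.of_equiv e.toRingEquiv⟩

/-- Sections of a fibre product over `Spec k` on a product of affine opens. -/
theorem isPushout_chart {X Y P : Scheme.{u}} {k : CommRingCat.{u}} {fst : P ⟶ X} {snd : P ⟶ Y}
    {p : X ⟶ Spec k} {q : Y ⟶ Spec k} (H : IsPullback fst snd p q)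
    {U : X.Opens} (hU : IsAffineOpen U) {V : Y.Opens} (hV : IsAffineOpen V) :
    IsAffineOpen (fst ⁻¹ᵁ U ⊓ snd ⁻¹ᵁ V) ∧
      IsPushout ((Scheme.ΓSpecIso k).inv ≫ p.appLE ⊤ U le_top)
        ((Scheme.ΓSpecIso k).inv ≫ q.appLE ⊤ V le_top)
        (fst.appLE U (fst ⁻¹ᵁ U ⊓ snd ⁻¹ᵁ V) inf_le_left)
        (snd.appLE V (fst ⁻¹ᵁ U ⊓ snd ⁻¹ᵁ V) inf_le_right) := by
  have hT : IsAffineOpen (⊤ : (Spec k).Opens) := isAffineOpen_top _
  have hUST : V ≤ q ⁻¹ᵁ ⊤ := fun _ _ => trivial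
  have hUSX : U ≤ p ⁻¹ᵁ ⊤ := fun _ _ => trivial
  have hUY : fst ⁻¹ᵁ U ⊓ snd ⁻¹ᵁ V = fst ⁻¹ᵁ U ⊓ snd ⁻¹ᵁ V := rfl
  have : IsAffine (U : Scheme) := hU
  have : IsAffine (V : Scheme) := hV
  have : IsAffine ((⊤ : (Spec k).Opens) : Scheme) := hT
  have hW : IsAffineOpen (fst ⁻¹ᵁ U ⊓ snd ⁻¹ᵁ V) :=
    .of_isIso (Scheme.Hom.isPullback_resLE H hUST hUSX hUY).isoPullback.hom
  have hiso := isIso_pushoutSection_of_isAffineOpen H hUST hUSX hUY hT hV hU
  have hpo := (isIso_pushoutSection_iff H hUST hUSX hUY).mp hiso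
  refine ⟨hW, ?_⟩
  exact hpo.of_iso (Scheme.ΓSpecIso k) (Iso.refl _) (Iso.refl _) (Iso.refl _) (by simp) (by simp)
    (by simp) (by simp)

/-- Tensor product form of `isPushout_chart`. -/
theorem chart_tensor {X Y P : Scheme.{u}} {k : CommRingCat.{u}} {fst : P ⟶ X} {snd : P ⟶ Y}
    {p : X ⟶ Spec k} {q : Y ⟶ Spec k} (H : IsPullback fst snd p q)
    {U : X.Opens} (hU : IsAffineOpen U) {V : Y.Opens} (hV : IsAffineOpen V) :
    letI : Algebra k Γ(X, U) := ((Scheme.ΓSpecIso k).inv ≫ p.appLE ⊤ U le_top).hom.toAlgebra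
    letI : Algebra k Γ(Y, V) := ((Scheme.ΓSpecIso k).inv ≫ q.appLE ⊤ V le_top).hom.toAlgebra
    IsAffineOpen (fst ⁻¹ᵁ U ⊓ snd ⁻¹ᵁ V) ∧
      Nonempty (Γ(X, U) ⊗[k] Γ(Y, V) ≃+* Γ(P, fst ⁻¹ᵁ U ⊓ snd ⁻¹ᵁ V)) := by
  letI algA : Algebra k Γ(X, U) :=
    ((Scheme.ΓSpecIso k).inv ≫ p.appLE ⊤ U le_top).hom.toAlgebra
  letI algB : Algebra k Γ(Y, V) :=
    ((Scheme.ΓSpecIso k).inv ≫ q.appLE ⊤ V le_top).hom.toAlgebra
  obtain ⟨hW, H2⟩ := isPushout_chart H hU hV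
  have H3 := CommRingCat.isPushout_tensorProduct k Γ(X, U) Γ(Y, V)
  exact ⟨hW, ⟨(H3.isoIsPushout _ _ H2).commRingCatIsoToRingEquiv⟩⟩

/-- Chart of the base change to a field extension. -/
theorem chart_field (k : Type u) [Field k] (X : Scheme.{u}) [X.Over (Spec (CommRingCat.of k))]
    (K : Type u) [Field K] [Algebra k K] {U : X.Opens} (hU : IsAffineOpen U) :
    letI : Algebra k Γ(X, U) := ((Scheme.ΓSpecIso (CommRingCat.of k)).inv ≫
      (X ↘ Spec (CommRingCat.of k)).appLE ⊤ U le_top).hom.toAlgebra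
    ∃ W : (Curv2.bc k X K).Opens, IsAffineOpen W ∧
      Nonempty (Γ(X, U) ⊗[k] K ≃+* Γ(Curv2.bc k X K, W)) := by
  letI algA : Algebra k Γ(X, U) := ((Scheme.ΓSpecIso (CommRingCat.of k)).inv ≫
      (X ↘ Spec (CommRingCat.of k)).appLE ⊤ U le_top).hom.toAlgebra
  set p := X ↘ Spec (CommRingCat.of k) with hp
  let φ : CommRingCat.of k ⟶ CommRingCat.of K := CommRingCat.ofHom (algebraMap k K)
  obtain ⟨hW, hpo⟩ := isPushout_chart (IsPullback.of_hasPullback p (Spec.map φ)) hU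
    (isAffineOpen_top (Spec (CommRingCat.of K)))
  refine ⟨_, hW, ?_⟩
  have hUST : (⊤ : (Spec (CommRingCat.of K)).Opens) ≤ (Spec.map φ) ⁻¹ᵁ ⊤ := fun _ _ => trivial
  have hcommg : ((Scheme.ΓSpecIso (CommRingCat.of k)).inv ≫ (Spec.map φ).appLE ⊤ ⊤ hUST) ≫
      (Scheme.ΓSpecIso (CommRingCat.of K)).hom = 𝟙 _ ≫ φ := by
    have h0 : (Spec.map φ).appLE ⊤ ⊤ hUST = (Spec.map φ).appTop := by
      have h00 : (Spec (CommRingCat.of K)).presheaf.map (homOfLE hUST).op = 𝟙 _ :=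
        (Spec (CommRingCat.of K)).presheaf.map_id _
      rw [Scheme.Hom.appLE, h00]
      exact Category.comp_id _
    rw [h0, Category.assoc, Scheme.ΓSpecIso_naturality, Iso.inv_hom_id_assoc, Category.id_comp]
  have H2 : IsPushout ((Scheme.ΓSpecIso (CommRingCat.of k)).inv ≫ p.appLE ⊤ U le_top) φ
      ((pullback.fst p (Spec.map φ)).appLE U
        ((pullback.fst p (Spec.map φ)) ⁻¹ᵁ U ⊓ (pullback.snd p (Spec.map φ)) ⁻¹ᵁ ⊤) inf_le_left)
      ((Scheme.ΓSpecIso (CommRingCat.of K)).inv ≫ (pullback.snd p (Spec.map φ)).appLE ⊤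
        ((pullback.fst p (Spec.map φ)) ⁻¹ᵁ U ⊓ (pullback.snd p (Spec.map φ)) ⁻¹ᵁ ⊤)
        inf_le_right) :=
    hpo.of_iso (Iso.refl _) (Iso.refl _) (Scheme.ΓSpecIso (CommRingCat.of K)) (Iso.refl _)
      (by simp) hcommg (by simp) (by simp)
  have H3 := CommRingCat.isPushout_tensorProduct k Γ(X, U) K
  exact ⟨(H3.isoIsPushout _ _ H2).commRingCatIsoToRingEquiv⟩

/-- `X` geometrically normal over `k` and `Y` normal over `k` imply `X ×_k Y` normal. -/
theorem main (k : Type u) [Field k] (X : Scheme.{u}) [X.Over (Spec (CommRingCat.of k))]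
    (Y : Scheme.{u}) [Y.Over (Spec (CommRingCat.of k))]
    (hX : ∀ (K : Type u) [Field K] [Algebra k K], Pi1.IsNormalScheme (Curv2.bc k X K))
    (hY : Pi1.IsNormalScheme Y) :
    Pi1.IsNormalScheme
      (pullback (X ↘ (Spec (CommRingCat.of k))) (Y ↘ (Spec (CommRingCat.of k)))) := by
  refine isNormalScheme_of_cover (fun z => ?_)
  obtain ⟨U, hU, hxU, -⟩ := exists_isAffineOpen_mem_and_subset
    (x := (pullback.fst (X ↘ (Spec (CommRingCat.of k))) (Y ↘ (Spec (CommRingCat.of k)))) z)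
    (U := (⊤ : X.Opens)) trivial
  obtain ⟨V, hV, hyV, -⟩ := exists_isAffineOpen_mem_and_subset
    (x := (pullback.snd (X ↘ (Spec (CommRingCat.of k))) (Y ↘ (Spec (CommRingCat.of k)))) z)
    (U := (⊤ : Y.Opens)) trivial
  letI algA : Algebra k Γ(X, U) := ((Scheme.ΓSpecIso (CommRingCat.of k)).inv ≫
      (X ↘ Spec (CommRingCat.of k)).appLE ⊤ U le_top).hom.toAlgebra
  letI algB : Algebra k Γ(Y, V) := ((Scheme.ΓSpecIso (CommRingCat.of k)).inv ≫
      (Y ↘ Spec (CommRingCat.of k)).appLE ⊤ V le_top).hom.toAlgebra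
  obtain ⟨hW, ⟨ε⟩⟩ := chart_tensor (IsPullback.of_hasPullback (X ↘ (Spec (CommRingCat.of k)))
    (Y ↘ (Spec (CommRingCat.of k)))) hU hV
  refine ⟨(pullback.fst (X ↘ (Spec (CommRingCat.of k))) (Y ↘ (Spec (CommRingCat.of k)))) ⁻¹ᵁ U ⊓
    (pullback.snd (X ↘ (Spec (CommRingCat.of k))) (Y ↘ (Spec (CommRingCat.of k)))) ⁻¹ᵁ V,
    ⟨hxU, hyV⟩, hW, ?_⟩
  have hA : EGA4.IsGeomNormal k Γ(X, U) := by
    intro K _ _ _
    obtain ⟨W, hWK, ⟨εK⟩⟩ := chart_field k X K hU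
    have hn : EGA4.IsNormalRing Γ(Curv2.bc k X K, W) := isNormalRing_sections (hX K) hWK
    have h1 : EGA4.IsNormalRing (Γ(X, U) ⊗[k] K) :=
      Groth.Agent.Lib.Helper14.isNormalRing_of_ringEquiv εK.symm hn
    exact Groth.Agent.Lib.Helper14.isNormalRing_of_ringEquiv
      (Algebra.TensorProduct.comm k Γ(X, U) K).toRingEquiv h1
  have hB : EGA4.IsNormalRing Γ(Y, V) := isNormalRing_sections hY hV
  exact Groth.Agent.Lib.Helper14.isNormalRing_of_ringEquiv ε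
    (Groth.Agent.S9413.result k Γ(X, U) Γ(Y, V) hA hB)

end Groth.Agent.Lib.Helper9.NormProd
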