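import Mathlib
import Groth.Agent.S0595

/-!
# Flatness of Kähler differentials along a regular ring map (helper9)

For a regular homomorphism `k → A` of Noetherian rings, the module `Ω[A⁄k]` is flat over `A`.
The proof descends a relation to a finitely generated `k`-subalgebra `A₁` of `A` (using the
presentation `KaehlerDifferential.kerTotal` of `Ω`), factors `A₁ → A` through a smooth `k`-algebra
`B` by Popescu's theorem (S0595), and uses that `A ⊗[B] Ω[B⁄k]` is flat.
-/

set_option autoImplicit false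
set_option linter.style.haveILetI false
set_option linter.unusedSectionVars false
universe u

namespace Groth.Agent.Lib.Helper9.OmegaFlat

open TensorProduct KaehlerDifferential

section ev

variable (k : Type u) [CommRing k] (A : Type u) [CommRing A] [Algebra k A]
variable (A₂ : Subalgebra k A) (B : Type u) [CommRing B] [Algebra k B] [Algebra B A]
  [IsScalarTower k B A] (g : A₂ →ₐ[k] B)

open Classical in
/-- the image of the symbol `d a` in `A ⊗[B] Ω[B⁄k]` (zero when `a ∉ A₂`). -/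
noncomputable def gen (a : A) : A ⊗[B] Ω[B⁄k] :=
  if h : a ∈ A₂ then (1 : A) ⊗ₜ[B] D k B (g ⟨a, h⟩) else 0

/-- evaluation of formal combinations of symbols `d a`. -/
noncomputable def ev : (A →₀ A) →ₗ[A] A ⊗[B] Ω[B⁄k] :=
  Finsupp.linearCombination A (gen k A A₂ B g)

variable {k A A₂ B}

lemma gen_of_mem {a : A} (h : a ∈ A₂) :
    gen k A A₂ B g a = (1 : A) ⊗ₜ[B] D k B (g ⟨a, h⟩) := dif_pos h

lemma ev_single (a c : A) : ev k A A₂ B g (Finsupp.single a c) = c • gen k A A₂ B g a := by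
  rw [ev, Finsupp.linearCombination_single]

lemma one_tmul_smul (hg : ∀ a : A₂, algebraMap B A (g a) = a) (a : A₂) (ω : Ω[B⁄k]) :
    (1 : A) ⊗ₜ[B] (g a • ω) = (a : A) • ((1 : A) ⊗ₜ[B] ω) := by
  rw [← TensorProduct.smul_tmul, TensorProduct.smul_tmul', Algebra.smul_def, hg, smul_eq_mul]

lemma mapBaseChange_gen (hg : ∀ a : A₂, algebraMap B A (g a) = a) {a : A} (h : a ∈ A₂) :
    mapBaseChange k B A (gen k A A₂ B g a) = D k A a := by
  rw [gen_of_mem g h, mapBaseChange_tmul, one_smul, map_D, hg]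

end ev

section good

variable (k : Type u) [CommRing k] (A : Type u) [CommRing A] [Algebra k A]

/-- `ξ` evaluates to zero at all sufficiently large stages. -/
def Good1 (ξ : A →₀ A) (A₁ : Subalgebra k A) : Prop :=
  ∀ (A₂ : Subalgebra k A), A₁ ≤ A₂ → ∀ (B : Type u) [CommRing B] [Algebra k B] [Algebra B A]
    [IsScalarTower k B A] (g : A₂ →ₐ[k] B), (∀ a : A₂, algebraMap B A (g a) = a) →
    ev k A A₂ B g ξ = 0

/-- `ξ` evaluates to a lift of its image in `Ω[A⁄k]` at all sufficiently large stages. -/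
def Good2 (ξ : A →₀ A) (A₁ : Subalgebra k A) : Prop :=
  ∀ (A₂ : Subalgebra k A), A₁ ≤ A₂ → ∀ (B : Type u) [CommRing B] [Algebra k B] [Algebra B A]
    [IsScalarTower k B A] (g : A₂ →ₐ[k] B), (∀ a : A₂, algebraMap B A (g a) = a) →
    mapBaseChange k B A (ev k A A₂ B g ξ) = Finsupp.linearCombination A (D k A) ξ

variable {k A}

theorem exists_good2 (ξ : A →₀ A) : ∃ A₁ : Subalgebra k A, A₁.FG ∧ Good2 k A ξ A₁ := by
  classical
  induction ξ using Finsupp.induction_linear with
  | zero =>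
    refine ⟨⊥, Subalgebra.fg_bot, ?_⟩
    intro A₂ _ B _ _ _ _ g _
    simp
  | add ξ₁ ξ₂ h₁ h₂ =>
    obtain ⟨A₁, hfg₁, hA₁⟩ := h₁
    obtain ⟨A₁', hfg₂, hA₂⟩ := h₂
    refine ⟨A₁ ⊔ A₁', hfg₁.sup hfg₂, ?_⟩
    intro A₂ hle B _ _ _ _ g hg
    rw [map_add, map_add, map_add, hA₁ A₂ (le_sup_left.trans hle) B g hg,
      hA₂ A₂ (le_sup_right.trans hle) B g hg]
  | single a c =>
    refine ⟨Algebra.adjoin k {a}, Subalgebra.fg_adjoin_finset {a} |> (by simpa using ·), ?_⟩
    intro A₂ hle B _ _ _ _ g hg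
    have ha : a ∈ A₂ := hle (Algebra.subset_adjoin (Set.mem_singleton a))
    rw [ev_single, map_smul, mapBaseChange_gen g hg ha, Finsupp.linearCombination_single]

theorem exists_good1 (ξ : A →₀ A) (hξ : ξ ∈ kerTotal k A) :
    ∃ A₁ : Subalgebra k A, A₁.FG ∧ Good1 k A ξ A₁ := by
  classical
  rw [kerTotal] at hξ
  induction hξ using Submodule.span_induction with
  | zero =>
    refine ⟨⊥, Subalgebra.fg_bot, ?_⟩
    intro A₂ _ B _ _ _ _ g _
    simp
  | add ξ₁ ξ₂ _ _ h₁ h₂ =>
    obtain ⟨A₁, hfg₁, hA₁⟩ := h₁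
    obtain ⟨A₁', hfg₂, hA₂⟩ := h₂
    refine ⟨A₁ ⊔ A₁', hfg₁.sup hfg₂, ?_⟩
    intro A₂ hle B _ _ _ _ g hg
    rw [map_add, hA₁ A₂ (le_sup_left.trans hle) B g hg,
      hA₂ A₂ (le_sup_right.trans hle) B g hg, add_zero]
  | smul c ξ _ h =>
    obtain ⟨A₁, hfg₁, hA₁⟩ := h
    refine ⟨A₁, hfg₁, ?_⟩
    intro A₂ hle B _ _ _ _ g hg
    rw [map_smul, hA₁ A₂ hle B g hg, smul_zero]
  | mem ξ hmem =>
    rcases hmem with (⟨⟨x, y⟩, rfl⟩ | ⟨⟨x, y⟩, rfl⟩) | ⟨r, rfl⟩
    · refine ⟨Algebra.adjoin k {x, y},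
        Subalgebra.fg_adjoin_finset {x, y} |> (by simpa using ·), ?_⟩
      intro A₂ hle B _ _ _ _ g hg
      have hx : x ∈ A₂ := hle (Algebra.subset_adjoin (by simp))
      have hy : y ∈ A₂ := hle (Algebra.subset_adjoin (by simp))
      have hxy : x + y ∈ A₂ := A₂.add_mem hx hy
      have e : (⟨x + y, hxy⟩ : A₂) = ⟨x, hx⟩ + ⟨y, hy⟩ := rfl
      simp only [map_add, map_sub, ev_single, one_smul]
      rw [gen_of_mem g hx, gen_of_mem g hy, gen_of_mem g hxy, e, map_add, map_add,
        TensorProduct.tmul_add, sub_self]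
    · refine ⟨Algebra.adjoin k {x, y},
        Subalgebra.fg_adjoin_finset {x, y} |> (by simpa using ·), ?_⟩
      intro A₂ hle B _ _ _ _ g hg
      have hx : x ∈ A₂ := hle (Algebra.subset_adjoin (by simp))
      have hy : y ∈ A₂ := hle (Algebra.subset_adjoin (by simp))
      have hxy : x * y ∈ A₂ := A₂.mul_mem hx hy
      have e : (⟨x * y, hxy⟩ : A₂) = ⟨x, hx⟩ * ⟨y, hy⟩ := rfl
      simp only [map_add, map_sub, ev_single, one_smul]
      rw [gen_of_mem g hx, gen_of_mem g hy, gen_of_mem g hxy, e, map_mul, Derivation.leibniz,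
        TensorProduct.tmul_add, one_tmul_smul g hg, one_tmul_smul g hg, sub_self]
    · refine ⟨⊥, Subalgebra.fg_bot, ?_⟩
      intro A₂ _ B _ _ _ _ g _
      have hr : algebraMap k A r ∈ A₂ := A₂.algebraMap_mem r
      have e : (⟨algebraMap k A r, hr⟩ : A₂) = algebraMap k A₂ r := rfl
      rw [ev_single, one_smul, gen_of_mem g hr, e, AlgHom.commutes, Derivation.map_algebraMap,
        TensorProduct.tmul_zero]

end good

/-- **`Ω[A⁄k]` is flat for a regular homomorphism `k → A` of Noetherian rings.** -/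
theorem flat_kaehler (k A : Type u) [CommRing k] [IsNoetherianRing k] [CommRing A]
    [IsNoetherianRing A] [Algebra k A] (hreg : CAlg.IsRegularHom k A) :
    Module.Flat A Ω[A⁄k] := by
  classical
  apply Module.Flat.of_forall_isTrivialRelation
  intro l f x hfx
  have hsurj := KaehlerDifferential.linearCombination_surjective k A
  choose ξ hξ using fun j => hsurj (x j)
  set ζ : A →₀ A := ∑ j, f j • ξ j with hζdef
  have hζ : ζ ∈ kerTotal k A := by
    rw [← KaehlerDifferential.kerTotal_eq, LinearMap.mem_ker, hζdef, map_sum]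
    simp only [map_smul, hξ]
    exact hfx
  obtain ⟨A₀, hA₀fg, hA₀⟩ := exists_good1 ζ hζ
  choose Aj hAjfg hAj using fun j => exists_good2 (k := k) (ξ j)
  set A₁ : Subalgebra k A := A₀ ⊔ Finset.univ.sup Aj with hA₁
  have hfg : A₁.FG := by
    refine hA₀fg.sup ?_
    exact Finset.sup_induction Subalgebra.fg_bot (fun a ha b hb => ha.sup hb)
      (fun j _ => hAjfg j)
  haveI : Algebra.FiniteType k A₁ := (Subalgebra.fg_iff_finiteType A₁).mp hfg
  haveI : Algebra.FinitePresentation k A₁ :=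
    Algebra.FinitePresentation.of_finiteType.mp inferInstance
  obtain ⟨B, _, _, hsm, g, h, hgh⟩ := Groth.Agent.S0595.result k A hreg A₁ A₁.val
  haveI := hsm
  letI : Algebra B A := h.toRingHom.toAlgebra
  haveI : IsScalarTower k B A := IsScalarTower.of_algebraMap_eq (fun r => (h.commutes r).symm)
  have hg : ∀ a : A₁, algebraMap B A (g a) = a := fun a => by
    show h (g a) = a
    exact AlgHom.congr_fun hgh a
  set y : Fin l → A ⊗[B] Ω[B⁄k] := fun j => ev k A A₁ B g (ξ j) with hy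
  have hy0 : ∑ j, f j • y j = 0 := by
    rw [← hA₀ A₁ le_sup_left B g hg, hζdef, map_sum]
    simp only [map_smul, hy]
  haveI : Module.Flat A (A ⊗[B] Ω[B⁄k]) := inferInstance
  obtain ⟨k', a, n, hyn, hfa⟩ := Module.Flat.isTrivialRelation_of_sum_smul_eq_zero hy0
  refine ⟨k', a, fun t => mapBaseChange k B A (n t), ?_, hfa⟩
  intro j
  have hx : x j = mapBaseChange k B A (y j) := by
    rw [hy]
    show x j = mapBaseChange k B A (ev k A A₁ B g (ξ j))
    rw [hAj j A₁ (le_sup_of_le_right (Finset.le_sup (Finset.mem_univ j))) B g hg, hξ]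
  rw [hx, hyn j, map_sum]
  simp only [map_smul]

end Groth.Agent.Lib.Helper9.OmegaFlat
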