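import Mathlib
import Groth.Prelude.Def_Found
import Groth.Agent.Lib.Helper21.RegSepA
import Groth.Agent.Lib.Helper14.PerfectGeomRed
import Groth.Agent.Lib.Helper26.RegularRing

/-!
# Regular rings over perfect fields are geometrically regular (helper9)

* `isRegularRing_tensor`: `S ⊗[k] k'` is a regular ring for a regular ring `S` over a perfect
  field `k` and a finite extension `k'` of `k`.
* `isRegularHom_of_perfectField`: `k → S` is a regular homomorphism (`CAlg.IsRegularHom`).
-/

set_option autoImplicit false
set_option linter.style.haveILetI false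
universe u

namespace Groth.Agent.Lib.Helper9.RegPerfect

open TensorProduct

theorem isRegularRing_tensor (k S k' : Type u) [Field k] [PerfectField k] [CommRing S]
    [Algebra k S] [IsRegularRing S] [Field k'] [Algebra k k'] [Module.Finite k k'] :
    IsRegularRing (S ⊗[k] k') := by
  haveI : Algebra.IsGeometricallyReduced k k' :=
    Groth.Agent.Lib.Helper14.PerfectGeomRed.isGeometricallyReduced_of_perfectField
  haveI : Algebra.FiniteType S (S ⊗[k] k') := Module.Finite.finiteType _
  haveI : IsNoetherianRing (S ⊗[k] k') := Algebra.FiniteType.isNoetherianRing S _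
  refine ⟨fun q' hq' => ?_⟩
  exact Groth.Agent.Lib.Helper21.RegSep.isRegularLocalRing_atPrime_baseChange k S k' q'
    inferInstance

theorem isRegularHom_of_perfectField (k S : Type u) [Field k] [PerfectField k] [CommRing S]
    [Algebra k S] [IsRegularRing S] : CAlg.IsRegularHom k S := by
  refine ⟨inferInstance, fun p hp => ⟨?_, ?_⟩⟩
  · let e := Ideal.algEquivResidueFieldOfField p
    let E : (p.ResidueField ⊗[k] S) ≃+* S :=
      (Algebra.TensorProduct.congr e.symm (AlgEquiv.refl : S ≃ₐ[k] S)).toRingEquiv.trans
        (Algebra.TensorProduct.lid k S).toRingEquiv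
    exact isNoetherianRing_of_ringEquiv S E.symm
  · intro κ' _ _ hfin
    haveI := hfin
    have hb : Function.Bijective (algebraMap k p.ResidueField) :=
      (Ideal.algEquivResidueFieldOfField p).bijective
    letI : Algebra k κ' :=
      ((algebraMap p.ResidueField κ').comp (algebraMap k p.ResidueField)).toAlgebra
    haveI : IsScalarTower k p.ResidueField κ' := IsScalarTower.of_algebraMap_eq (fun _ => rfl)
    haveI : Module.Finite k p.ResidueField :=
      Module.Finite.of_surjective (Algebra.linearMap k p.ResidueField) hb.2
    haveI : Module.Finite k κ' := Module.Finite.trans p.ResidueField κ'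
    haveI := isRegularRing_tensor k S κ'
    let c := Algebra.TensorProduct.cancelBaseChange k p.ResidueField κ' κ' S
    let E : (S ⊗[k] κ') ≃+* (κ' ⊗[p.ResidueField] (p.ResidueField ⊗[k] S)) :=
      (Algebra.TensorProduct.comm k S κ').toRingEquiv.trans c.symm.toRingEquiv
    exact IsRegularRing.of_ringEquiv E

end Groth.Agent.Lib.Helper9.RegPerfect
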