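import Mathlib
import Groth.Agent.Lib.Helper9.ExtFlat
import Groth.Agent.Lib.Helper9.OmegaFlat
import Groth.Agent.Lib.Helper9.RegPerfect
import Groth.Agent.Lib.Helper9.LCReg

/-!
# Differential forms on regular local rings of characteristic `p` (helper9)

* `flat_exteriorPower_kaehler`: for a regular local ring `A` of characteristic `p`, the modules
  `⋀^i Ω[A⁄ℤ]` are flat over `A` (Popescu's theorem applied to `𝔽_p → A`).
* `main`: vanishing of the local cohomology `H^j_{(ts)}(⋀^i Ω[A⁄ℤ])` for `j ≠ ts.length`, `ts` a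
  regular sequence.
-/

set_option autoImplicit false
set_option linter.style.haveILetI false
set_option linter.unusedSectionVars false
universe u

namespace Groth.Agent.Lib.Helper9.OmegaLC

open KaehlerDifferential

/-- `Ω[A⁄ℤ] ≃ Ω[A⁄k]` when `ℤ → k` is surjective. -/
noncomputable def kaehlerIntEquiv (k A : Type u) [CommRing k] [CommRing A] [Algebra k A]
    (hk : Function.Surjective (algebraMap ℤ k)) : Ω[A⁄ℤ] ≃ₗ[A] Ω[A⁄k] := by
  haveI : Subsingleton Ω[k⁄ℤ] := KaehlerDifferential.subsingleton_of_surjective ℤ k hk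
  have hex := KaehlerDifferential.exact_mapBaseChange_map ℤ k A
  have hinj : Function.Injective (KaehlerDifferential.map ℤ k A A) := by
    rw [injective_iff_map_eq_zero]
    intro x hx
    obtain ⟨y, rfl⟩ := (hex x).mp hx
    rw [Subsingleton.elim y 0, map_zero]
  exact LinearEquiv.ofBijective (KaehlerDifferential.map ℤ k A A)
    ⟨hinj, KaehlerDifferential.map_surjective ℤ k A⟩

theorem flat_exteriorPower_kaehler (p : ℕ) [Fact p.Prime] (A : Type u) [CommRing A]
    [IsRegularLocalRing A] [CharP A p] (i : ℕ) :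
    Module.Flat A (⋀[A]^i (Ω[A⁄ℤ])) := by
  letI : Algebra (ZMod p) A := ZMod.algebra A p
  letI : Algebra (ULift.{u} (ZMod p)) A :=
    ((algebraMap (ZMod p) A).comp
      (ULift.ringEquiv : ULift.{u} (ZMod p) ≃+* ZMod p).toRingHom).toAlgebra
  haveI : Finite (ULift.{u} (ZMod p)) := inferInstance
  haveI : PerfectField (ULift.{u} (ZMod p)) := PerfectField.ofFinite
  haveI : IsRegularRing A :=
    Groth.Agent.Lib.Helper26.RegularRing.isRegularRing_of_isRegularLocalRing A
  have hreg := RegPerfect.isRegularHom_of_perfectField (ULift.{u} (ZMod p)) A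
  haveI : Module.Flat A Ω[A⁄ULift.{u} (ZMod p)] :=
    OmegaFlat.flat_kaehler (ULift.{u} (ZMod p)) A hreg
  have hk : Function.Surjective (algebraMap ℤ (ULift.{u} (ZMod p))) := by
    intro x
    obtain ⟨n, hn⟩ := ZMod.intCast_surjective x.down
    refine ⟨n, ?_⟩
    apply ULift.ext
    rw [← hn]
    simp
  haveI : Module.Flat A Ω[A⁄ℤ] :=
    Module.Flat.of_linearEquiv (kaehlerIntEquiv (ULift.{u} (ZMod p)) A hk)
  exact ExtFlat.flat_exteriorPower i

theorem main (p : ℕ) [Fact p.Prime] (A : Type u) [CommRing A] [IsRegularLocalRing A]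
    [CharP A p] (ts : List A) (hreg : RingTheory.Sequence.IsRegular A ts) (i j : ℕ)
    (hj : j ≠ ts.length) :
    Subsingleton (LocCoh.H (Ideal.ofList ts) j
      ↥(ExteriorAlgebra.exteriorPower A i (KaehlerDifferential ℤ A))) := by
  haveI := flat_exteriorPower_kaehler p A i
  exact LCReg.H_subsingleton_of_flat ts hreg.toIsWeaklyRegular _ j hj

end Groth.Agent.Lib.Helper9.OmegaLC
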