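import Mathlib
import Groth.Agent.Lib.Helper9.PCMor

/-!
# Finite pseudo-coherent algebras (helper9)
-/

set_option autoImplicit false
set_option linter.style.haveILetI false
universe u
open CategoryTheory CategoryTheory.Limits CategoryTheory.Pretriangulated DerivedCategory
open Groth.Agent.Lib.Helper18.DR

attribute [local instance] HasDerivedCategory.standard

namespace Groth.Agent.Lib.Helper9.PCM

/-- a finite algebra is pseudo-coherent as an algebra iff it is so as a module -/
theorem pcAlg_iff_of_finite {A B : Type u} [CommRing A] [CommRing B] [Algebra A B]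
    [Module.Finite A B] : PCAlg A B ↔ DRing.IsPseudoCoherentModule' A B := by
  have key : ∀ m : ℤ, DerCA.IsRelPseudoCoherent A B m (Dual.inD B B) ↔
      DRing.IsPseudoCoherent A m (Dual.inD A B) := by
    intro m
    rw [(relPC_iff_restrict_of_finite (R := A) (A := A) (B := B) (Dual.inD B B) m).1]
    rw [relPC_iff_of_surjective (Q := A) (B := A) Function.surjective_id]
    have e1 : (DRing.restrictD (algebraMap A A)).obj
        ((DRing.restrictD (algebraMap A B)).obj (Dual.inD B B)) ≅
        (DRing.restrictD (algebraMap A B)).obj (Dual.inD B B) :=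
      (Shr.resIdIso (algebraMap A A) rfl).app _
    have e2 : (DRing.restrictD (algebraMap A B)).obj (Dual.inD B B) ≅ Dual.inD A B :=
      restrictDSgIso _ 0 (ModuleCat.of B B) ≪≫
        (singleFunctor (ModuleCat.{u} A) 0).mapIso (resBEquiv (A := A) (B := B)).toModuleIso
    exact ⟨fun h => isPseudoCoherent_of_iso (e1 ≪≫ e2) h,
      fun h => isPseudoCoherent_of_iso (e1 ≪≫ e2).symm h⟩
  show (∀ m, _) ↔ DRing.IsPseudoCoherent' A (Dual.inD A B)
  rw [← isPseudoCoherent'_iff_forall]
  exact forall_congr' key

end Groth.Agent.Lib.Helper9.PCM
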