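import Mathlib
import Groth.Agent.Lib.Helper9.PerfReg
import Groth.Agent.S7068

/-!
# Quotients of flat finitely presented algebras: pseudo-coherence (helper9)
-/

set_option autoImplicit false
set_option linter.style.haveILetI false
universe u
open CategoryTheory CategoryTheory.Limits CategoryTheory.Pretriangulated DerivedCategory
open Groth.Agent.Lib.Helper18.DR

attribute [local instance] HasDerivedCategory.standard

namespace Groth.Agent.Lib.Helper9.PCM

section

variable {B : Type u} [CommRing B] (I : Ideal B)

/-- `0 → I → B → B/I → 0` -/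
noncomputable def idealSC : ShortComplex (ModuleCat.{u} B) :=
  ShortComplex.mk (ModuleCat.ofHom I.subtype) (ModuleCat.ofHom (Submodule.mkQ I)) (by
    ext x
    exact (Submodule.Quotient.mk_eq_zero I).2 x.2)

lemma idealSC_shortExact : (idealSC I).ShortExact := by
  apply ModuleCat.shortComplex_shortExact
  · intro (y : B)
    constructor
    · intro hy
      have h1 : y ∈ I := (Submodule.Quotient.mk_eq_zero I).1 hy
      exact ⟨⟨y, h1⟩, rfl⟩
    · rintro ⟨x, rfl⟩
      exact (Submodule.Quotient.mk_eq_zero I).2 x.2
  · intro (p : I) (q : I) h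
    exact Subtype.ext h
  · intro (y : B ⧸ I)
    obtain ⟨p, rfl⟩ := Submodule.Quotient.mk_surjective I y
    exact ⟨p, rfl⟩

theorem pc'_quot_iff_ideal :
    DRing.IsPseudoCoherent' B (Dual.inD B (B ⧸ I)) ↔ DRing.IsPseudoCoherent' B (Dual.inD B I) := by
  have hT := (idealSC_shortExact I).singleTriangle_distinguished
  have h3 := isPseudoCoherent'_two_of_three _ hT
  have hB : DRing.IsPseudoCoherent' B (Dual.inD B B) := perfModLE_self.1
  exact ⟨fun h => h3.2.2 hB h, fun h => h3.1 h hB⟩

end

theorem pcAlg_iff_module_of_surjective {B C : Type u} [CommRing B] [CommRing C] [Algebra B C]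
    (hs : Function.Surjective (algebraMap B C)) :
    PCAlg B C ↔ DRing.IsPseudoCoherent' B (Dual.inD B C) := by
  let l : resM (algebraMap B C) (ModuleCat.of C C) ≃ₗ[B] C :=
    { toFun := fun c => c
      invFun := fun c => c
      map_add' := fun _ _ => rfl
      map_smul' := fun a c => algebraMap_smul C a (show C from c)
      left_inv := fun _ => rfl
      right_inv := fun _ => rfl }
  have key : PCHom (algebraMap B C) ↔ DRing.IsPseudoCoherent' B (Dual.inD B C) := by
    rw [← isPseudoCoherent'_iff_forall]
    constructor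
    · intro h m
      exact isPseudoCoherent_of_iso ((singleFunctor (ModuleCat.{u} B) 0).mapIso l.toModuleIso) (h m)
    · intro h m
      exact isPseudoCoherent_of_iso
        ((singleFunctor (ModuleCat.{u} B) 0).mapIso l.toModuleIso).symm (h m)
  exact ⟨fun h => key.1 (h.pcHom_of_surjective hs), fun h => PCAlg.of_surjective_pcHom hs (key.2 h)⟩

theorem pcHom_quot_iff {A B : Type u} [CommRing A] [CommRing B] [Algebra A B] [Module.Flat A B]
    [Algebra.FinitePresentation A B] (I : Ideal B) :
    MoreMor.IsPseudoCoherentHom A (B ⧸ I) ↔ DRing.IsPseudoCoherentModule' B ↥I := by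
  have hB : PCAlg A B := pcAlg_iff_isPseudoCoherentHom.2 (Groth.Agent.S7068.result A B).1
  have hs : Function.Surjective (algebraMap B (B ⧸ I)) := Ideal.Quotient.mk_surjective
  have h1 : PCAlg A (B ⧸ I) ↔ PCAlg B (B ⧸ I) :=
    ⟨fun h => PCAlg.of_tower hB h, fun h => PCAlg.trans hB h⟩
  exact pcAlg_iff_isPseudoCoherentHom.symm.trans
    (h1.trans ((pcAlg_iff_module_of_surjective hs).trans (pc'_quot_iff_ideal I)))

end Groth.Agent.Lib.Helper9.PCM
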