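import Mathlib
import Groth.Prelude.Def_W4c1hilbpnTgt
import Groth.Agent.Lib.Helper20.MonoIdeal
import Groth.Agent.Lib.Helper29.BddComp
import Groth.Agent.Lib.Helper9.MonoSoc

/-! Staircase bound for the `(+,+,-)` pieces of `T(I)` for monomial ideals in three variables
(helper9). -/

set_option autoImplicit false
universe u
open MvPolynomial W4c1hilbpn
open Groth.Agent.Lib.Helper29.BddComp
open Groth.Agent.Lib.Helper20.MonoIdeal (exps_of_le e3_zero e3_one e3_two finite_compl_exps)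
open Groth.Agent.Lib.Helper9.MonoSoc (eq_e3 e3_le_iff)

namespace Groth.Agent.Lib.Helper9.PPN

/-! ### subadditivity of finrank over finite sups -/

theorem finrank_biSup_le {K V ι : Type*} [Field K] [AddCommGroup V] [Module K V]
    (p : ι → Submodule K V) (hfd : ∀ i, FiniteDimensional K ↥(p i)) (s : Finset ι) :
    FiniteDimensional K ↥(⨆ i ∈ s, p i) ∧
      Module.finrank K ↥(⨆ i ∈ s, p i) ≤ ∑ i ∈ s, Module.finrank K ↥(p i) := by
  classical
  induction s using Finset.induction_on with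
  | empty =>
    have e : (⨆ i ∈ (∅ : Finset ι), p i) = ⊥ := by simp
    rw [e]
    exact ⟨inferInstance, by simp⟩
  | insert a s ha ih =>
    obtain ⟨ih1, ih2⟩ := ih
    have e : (⨆ i ∈ insert a s, p i) = p a ⊔ ⨆ i ∈ s, p i := Finset.iSup_insert a s p
    rw [e]
    haveI := hfd a
    haveI := ih1
    refine ⟨inferInstance, ?_⟩
    rw [Finset.sum_insert ha]
    exact (Submodule.finrank_add_le_finrank_add_finrank _ _).trans (Nat.add_le_add_left ih2 _)

/-! ### staircase numbers -/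

section Stair
variable {k : Type u} [Field k] (I : Ideal (MvPolynomial (Fin 3) k))

theorem finite_col (hI : IsMonomial I) [Module.Finite k (MvPolynomial (Fin 3) k ⧸ I)] (i j : ℕ) :
    Set.Finite {c : ℕ | e3 i j c ∉ exps I} := by
  have h : Finite {β : Fin 3 →₀ ℕ // β ∉ exps I} := finite_compl_exps I hI
  have hfin : Set.Finite {γ : Fin 3 →₀ ℕ | γ ∉ exps I} := Set.finite_coe_iff.mp h
  have hinj : Function.Injective (fun c : ℕ => e3 i j c) := by
    intro c d hcd
    have h2 := DFunLike.congr_fun hcd 2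
    rw [e3_two, e3_two] at h2
    exact h2
  exact Set.Finite.preimage hinj.injOn hfin

theorem mem_exps_iff (hI : IsMonomial I) [Module.Finite k (MvPolynomial (Fin 3) k ⧸ I)]
    (i j l : ℕ) : e3 i j l ∈ exps I ↔ stairZ I i j ≤ l := by
  classical
  have hfin := finite_col I hI i j
  have hex : ∃ c : ℕ, e3 i j c ∈ exps I := by
    by_contra hno
    push Not at hno
    have e : {c : ℕ | e3 i j c ∉ exps I} = Set.univ := by
      ext c
      simp only [Set.mem_ofPred_eq, Set.mem_univ, iff_true]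
      exact hno c
    rw [e] at hfin
    exact Set.infinite_univ hfin
  have hmem : ∀ c, e3 i j c ∈ exps I ↔ Nat.find hex ≤ c := by
    intro c
    constructor
    · intro hc
      exact Nat.find_min' hex hc
    · intro hc
      have h1 : e3 i j (Nat.find hex) ∈ exps I := Nat.find_spec hex
      refine exps_of_le h1 ?_
      rw [e3_le_iff, e3_zero, e3_one, e3_two]
      exact ⟨le_refl _, le_refl _, hc⟩
  have hcard : stairZ I i j = Nat.find hex := by
    show Nat.card {c : ℕ // e3 i j c ∉ exps I} = Nat.find hex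
    have hiff : ∀ c : ℕ, e3 i j c ∉ exps I ↔ c < Nat.find hex := by
      intro c
      rw [hmem c]
      exact not_le
    rw [Nat.card_congr ((Equiv.subtypeEquivRight hiff).trans Fin.equivSubtype.symm),
      Nat.card_eq_fintype_card, Fintype.card_fin]
  rw [hcard]
  exact hmem l

theorem stair_anti (hI : IsMonomial I) [Module.Finite k (MvPolynomial (Fin 3) k ⧸ I)]
    (i j s t : ℕ) : stairZ I (i + s) (j + t) ≤ stairZ I i j := by
  rw [← mem_exps_iff I hI]
  have h1 : e3 i j (stairZ I i j) ∈ exps I := (mem_exps_iff I hI i j _).mpr le_rfl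
  refine exps_of_le h1 ?_
  rw [e3_le_iff, e3_zero, e3_one, e3_two]
  exact ⟨Nat.le_add_right _ _, Nat.le_add_right _ _, le_rfl⟩

/-! ### cells and the region -/

def cell (i j : ℕ) (l : ℤ) : Fin 3 → ℤ := ![(i : ℤ), (j : ℤ), l]

def alp (a1 a2 c : ℕ) : Fin 3 → ℤ := ![(a1 : ℤ), (a2 : ℤ), -(c : ℤ)]

theorem cell_zero (i j : ℕ) (l : ℤ) : cell i j l 0 = (i : ℤ) := rfl
theorem cell_one (i j : ℕ) (l : ℤ) : cell i j l 1 = (j : ℤ) := rfl
theorem cell_two (i j : ℕ) (l : ℤ) : cell i j l 2 = l := rfl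
theorem alp_zero (a1 a2 c : ℕ) : alp a1 a2 c 0 = (a1 : ℤ) := rfl
theorem alp_one (a1 a2 c : ℕ) : alp a1 a2 c 1 = (a2 : ℤ) := rfl
theorem alp_two (a1 a2 c : ℕ) : alp a1 a2 c 2 = -(c : ℤ) := rfl

theorem cell_inj {i j i' j' : ℕ} {l l' : ℤ} (h : cell i j l = cell i' j' l') :
    i = i' ∧ j = j' ∧ l = l' := by
  have h0 := congrFun h 0
  have h1 := congrFun h 1
  have h2 := congrFun h 2
  rw [cell_zero, cell_zero] at h0
  rw [cell_one, cell_one] at h1
  rw [cell_two, cell_two] at h2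
  exact ⟨by exact_mod_cast h0, by exact_mod_cast h1, h2⟩

theorem eq_cell (x : Fin 3 → ℤ) (i j : ℕ) (l : ℤ) (h0 : x 0 = i) (h1 : x 1 = j) (h2 : x 2 = l) :
    x = cell i j l := by
  funext t
  fin_cases t
  · exact h0
  · exact h1
  · exact h2

theorem toZ_eq_cell (a1 a2 c : ℕ) (β : Fin 3 →₀ ℕ) :
    toZ β (alp a1 a2 c) = cell (β 0 + a1) (β 1 + a2) ((β 2 : ℤ) - c) := by
  apply eq_cell
  · show (β 0 : ℤ) + alp a1 a2 c 0 = ((β 0 + a1 : ℕ) : ℤ)
    rw [alp_zero]; push_cast; rfl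
  · show (β 1 : ℤ) + alp a1 a2 c 1 = ((β 1 + a2 : ℕ) : ℤ)
    rw [alp_one]; push_cast; rfl
  · show (β 2 : ℤ) + alp a1 a2 c 2 = (β 2 : ℤ) - c
    rw [alp_two]; ring

theorem toN_cell (i j : ℕ) (l : ℤ) :
    (Finsupp.equivFunOnFinite.symm fun t => (cell i j l t).toNat : Fin 3 →₀ ℕ) =
      e3 i j l.toNat := by
  apply eq_e3
  · show (cell i j l 0).toNat = i
    rw [cell_zero]; exact Int.toNat_natCast _
  · show (cell i j l 1).toNat = j
    rw [cell_one]; exact Int.toNat_natCast _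
  · show (cell i j l 2).toNat = l.toNat
    rw [cell_two]

theorem region_nf (hI : IsMonomial I) [Module.Finite k (MvPolynomial (Fin 3) k ⧸ I)]
    (a1 a2 c : ℕ) (x : Fin 3 → ℤ) (hx : x ∈ region I (alp a1 a2 c)) :
    ∃ (i j : ℕ) (l : ℤ), x = cell i j l ∧ a1 ≤ i ∧ a2 ≤ j ∧
      (stairZ I (i - a1) (j - a2) : ℤ) ≤ l + c ∧ l < stairZ I i j := by
  obtain ⟨⟨β, hβ, hxe⟩, hnot⟩ := hx
  have hβe : β = e3 (β 0) (β 1) (β 2) := eq_e3 _ _ _ β rfl rfl rfl
  have hx' : x = cell (β 0 + a1) (β 1 + a2) ((β 2 : ℤ) - c) := by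
    rw [← toZ_eq_cell]; exact hxe
  refine ⟨β 0 + a1, β 1 + a2, (β 2 : ℤ) - c, hx', Nat.le_add_left _ _, Nat.le_add_left _ _, ?_, ?_⟩
  · rw [Nat.add_sub_cancel, Nat.add_sub_cancel]
    rw [hβe] at hβ
    have h1 := (mem_exps_iff I hI _ _ _).mp hβ
    have h2 : (stairZ I (β 0) (β 1) : ℤ) ≤ (β 2 : ℤ) := by exact_mod_cast h1
    linarith
  · by_contra hge
    push Not at hge
    apply hnot
    have hl : (0 : ℤ) ≤ (β 2 : ℤ) - c := le_trans (Int.natCast_nonneg _) hge
    subst hx'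
    constructor
    · intro t
      fin_cases t
      · show (0 : ℤ) ≤ cell (β 0 + a1) (β 1 + a2) ((β 2 : ℤ) - c) 0
        rw [cell_zero]; exact Int.natCast_nonneg _
      · show (0 : ℤ) ≤ cell (β 0 + a1) (β 1 + a2) ((β 2 : ℤ) - c) 1
        rw [cell_one]; exact Int.natCast_nonneg _
      · show (0 : ℤ) ≤ cell (β 0 + a1) (β 1 + a2) ((β 2 : ℤ) - c) 2
        rw [cell_two]; exact hl
    · rw [toN_cell, mem_exps_iff I hI]
      have h3 : (stairZ I (β 0 + a1) (β 1 + a2) : ℤ) ≤ ((((β 2 : ℤ) - c).toNat : ℕ) : ℤ) := by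
        rw [Int.toNat_of_nonneg hl]; exact hge
      exact_mod_cast h3

theorem region_of (hI : IsMonomial I) [Module.Finite k (MvPolynomial (Fin 3) k ⧸ I)]
    (a1 a2 c i j : ℕ) (l : ℤ) (h1 : a1 ≤ i) (h2 : a2 ≤ j)
    (h3 : (stairZ I (i - a1) (j - a2) : ℤ) ≤ l + c) (h4 : l < stairZ I i j) :
    cell i j l ∈ region I (alp a1 a2 c) := by
  have hlc : (0 : ℤ) ≤ l + c := le_trans (Int.natCast_nonneg _) h3
  have hcell : cell i j l = toZ (e3 (i - a1) (j - a2) (l + c).toNat) (alp a1 a2 c) := by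
    rw [toZ_eq_cell, e3_zero, e3_one, e3_two, Nat.sub_add_cancel h1, Nat.sub_add_cancel h2,
      Int.toNat_of_nonneg hlc, add_sub_cancel_right]
  refine ⟨⟨e3 (i - a1) (j - a2) (l + c).toNat, ?_, hcell⟩, ?_⟩
  · rw [mem_exps_iff I hI]
    have h5 : (stairZ I (i - a1) (j - a2) : ℤ) ≤ (((l + c).toNat : ℕ) : ℤ) := by
      rw [Int.toNat_of_nonneg hlc]; exact h3
    exact_mod_cast h5
  · rintro ⟨hnn, hmem⟩
    have hl : 0 ≤ l := by
      have h5 := hnn 2
      rwa [cell_two] at h5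
    rw [toN_cell, mem_exps_iff I hI] at hmem
    have h5 : ((stairZ I i j : ℕ) : ℤ) ≤ ((l.toNat : ℕ) : ℤ) := by exact_mod_cast hmem
    rw [Int.toNat_of_nonneg hl] at h5
    omega

theorem cell_mem_iff (hI : IsMonomial I) [Module.Finite k (MvPolynomial (Fin 3) k ⧸ I)]
    (a1 a2 c i j : ℕ) (l : ℤ) :
    cell i j l ∈ region I (alp a1 a2 c) ↔
      a1 ≤ i ∧ a2 ≤ j ∧ (stairZ I (i - a1) (j - a2) : ℤ) ≤ l + c ∧ l < stairZ I i j := by
  constructor
  · intro h
    obtain ⟨i', j', l', he, h1, h2, h3, h4⟩ := region_nf I hI a1 a2 c _ h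
    obtain ⟨rfl, rfl, rfl⟩ := cell_inj he
    exact ⟨h1, h2, h3, h4⟩
  · rintro ⟨h1, h2, h3, h4⟩
    exact region_of I hI a1 a2 c i j l h1 h2 h3 h4

/-! ### the graph -/

theorem bump_cell_two (i j : ℕ) (l : ℤ) : bump (cell i j l) 2 = cell i j (l + 1) := by
  apply eq_cell
  · show cell i j l 0 + (if (2 : Fin 3) = 0 then (1 : ℤ) else 0) = (i : ℤ)
    rw [cell_zero, if_neg (by decide), add_zero]
  · show cell i j l 1 + (if (2 : Fin 3) = 1 then (1 : ℤ) else 0) = (j : ℤ)
    rw [cell_one, if_neg (by decide), add_zero]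
  · show cell i j l 2 + (if (2 : Fin 3) = 2 then (1 : ℤ) else 0) = l + 1
    rw [cell_two, if_pos rfl]

theorem bump_cell_zero (i j : ℕ) (l : ℤ) : bump (cell i j l) 0 = cell (i + 1) j l := by
  apply eq_cell
  · show cell i j l 0 + (if (0 : Fin 3) = 0 then (1 : ℤ) else 0) = ((i + 1 : ℕ) : ℤ)
    rw [cell_zero, if_pos rfl]; push_cast; rfl
  · show cell i j l 1 + (if (0 : Fin 3) = 1 then (1 : ℤ) else 0) = (j : ℤ)
    rw [cell_one, if_neg (by decide), add_zero]
  · show cell i j l 2 + (if (0 : Fin 3) = 2 then (1 : ℤ) else 0) = l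
    rw [cell_two, if_neg (by decide), add_zero]

theorem bump_cell_one (i j : ℕ) (l : ℤ) : bump (cell i j l) 1 = cell i (j + 1) l := by
  apply eq_cell
  · show cell i j l 0 + (if (1 : Fin 3) = 0 then (1 : ℤ) else 0) = (i : ℤ)
    rw [cell_zero, if_neg (by decide), add_zero]
  · show cell i j l 1 + (if (1 : Fin 3) = 1 then (1 : ℤ) else 0) = ((j + 1 : ℕ) : ℤ)
    rw [cell_one, if_pos rfl]; push_cast; rfl
  · show cell i j l 2 + (if (1 : Fin 3) = 2 then (1 : ℤ) else 0) = l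
    rw [cell_two, if_neg (by decide), add_zero]

theorem vert (hI : IsMonomial I) [Module.Finite k (MvPolynomial (Fin 3) k ⧸ I)]
    (a1 a2 c i j : ℕ) (n : ℕ) :
    ∀ (l : ℤ) (h1 : cell i j l ∈ region I (alp a1 a2 c))
      (h2 : cell i j (l + n) ∈ region I (alp a1 a2 c)),
      (RG I (alp a1 a2 c)).connectedComponentMk ⟨_, h1⟩ =
        (RG I (alp a1 a2 c)).connectedComponentMk ⟨_, h2⟩ := by
  induction n with
  | zero =>
    intro l h1 h2
    exact congrArg (RG I (alp a1 a2 c)).connectedComponentMk (Subtype.ext (by simp))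
  | succ n ih =>
    intro l h1 h2
    have hm : cell i j (l + n) ∈ region I (alp a1 a2 c) := by
      rw [cell_mem_iff I hI] at h1 h2 ⊢
      obtain ⟨p1, p2, p3, p4⟩ := h1
      obtain ⟨q1, q2, q3, q4⟩ := h2
      refine ⟨p1, p2, ?_, ?_⟩
      · have : (0 : ℤ) ≤ n := Int.natCast_nonneg n
        linarith
      · push_cast at q4
        linarith
    rw [ih l h1 hm]
    apply SimpleGraph.ConnectedComponent.connectedComponentMk_eq_of_adj
    apply adj_of_bump I _ _ _ 2
    show cell i j (l + ((n + 1 : ℕ) : ℤ)) = bump (cell i j (l + n)) 2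
    rw [bump_cell_two]
    congr 1
    push_cast
    ring

theorem vert' (hI : IsMonomial I) [Module.Finite k (MvPolynomial (Fin 3) k ⧸ I)]
    (a1 a2 c i j : ℕ) (l1 l2 : ℤ) (hle : l1 ≤ l2)
    (h1 : cell i j l1 ∈ region I (alp a1 a2 c))
    (h2 : cell i j l2 ∈ region I (alp a1 a2 c)) :
    (RG I (alp a1 a2 c)).connectedComponentMk ⟨_, h1⟩ =
      (RG I (alp a1 a2 c)).connectedComponentMk ⟨_, h2⟩ := by
  obtain ⟨n, rfl⟩ := Int.le.dest hle
  exact vert I hI a1 a2 c i j n l1 h1 h2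

/-- the sink condition -/
def Econd (a1 a2 c : ℕ) (p : ℕ × ℕ) : Prop :=
  a1 ≤ p.1 ∧ a2 ≤ p.2 ∧ c ≤ stairZ I (p.1 - a1) (p.2 - a2) ∧
  stairZ I (p.1 - a1) (p.2 - a2) < stairZ I p.1 p.2 + c ∧
  stairZ I (p.1 + 1) p.2 + c ≤ stairZ I (p.1 - a1) (p.2 - a2) ∧
  stairZ I p.1 (p.2 + 1) + c ≤ stairZ I (p.1 - a1) (p.2 - a2)

theorem exists_col (hI : IsMonomial I) [Module.Finite k (MvPolynomial (Fin 3) k ⧸ I)]
    (a1 a2 c : ℕ) (C : BC I (alp a1 a2 c)) :
    ∃ (p : ℕ × ℕ) (l : ℤ) (h : cell p.1 p.2 l ∈ region I (alp a1 a2 c)),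
      (RG I (alp a1 a2 c)).connectedComponentMk ⟨_, h⟩ = C.1 ∧ Econd I a1 a2 c p := by
  classical
  obtain ⟨x, hxC, hmax⟩ := Set.exists_max_image C.1.supp
    (fun y : region I (alp a1 a2 c) => y.1 0 + y.1 1) C.2 C.1.nonempty_supp
  have hxC' : (RG I (alp a1 a2 c)).connectedComponentMk x = C.1 := hxC
  obtain ⟨i, j, l, hxe, h1, h2, h3, h4⟩ := region_nf I hI a1 a2 c x.1 x.2
  have hxm : cell i j l ∈ region I (alp a1 a2 c) := hxe ▸ x.2
  have hx2 : x = ⟨cell i j l, hxm⟩ := Subtype.ext hxe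
  have key : ∀ (y : region I (alp a1 a2 c)),
      (RG I (alp a1 a2 c)).connectedComponentMk y = C.1 → y.1 0 + y.1 1 ≤ (i : ℤ) + j := by
    intro y hy
    have h5 : y.1 0 + y.1 1 ≤ x.1 0 + x.1 1 := hmax y hy
    rw [hxe, cell_zero, cell_one] at h5
    exact h5
  have hxC2 : (RG I (alp a1 a2 c)).connectedComponentMk
      (⟨cell i j l, hxm⟩ : region I (alp a1 a2 c)) = C.1 := by
    rw [← hx2]; exact hxC'
  have hcB : c ≤ stairZ I (i - a1) (j - a2) := by
    by_contra hlt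
    push Not at hlt
    by_cases hl : l < 0
    · have hinf := infinite_of_neg I (alp a1 a2 c) (by norm_num) x 2
        (by rw [hxe, cell_two]; exact hl)
      rw [hxC'] at hinf
      exact hinf C.2
    · have hm1 : cell i j (-1) ∈ region I (alp a1 a2 c) :=
        (cell_mem_iff I hI a1 a2 c i j (-1)).mpr ⟨h1, h2, by omega, by omega⟩
      have hc1 := vert' I hI a1 a2 c i j (-1) l (by omega) hm1 hxm
      have hinf := infinite_of_neg I (alp a1 a2 c) (by norm_num)
        (⟨cell i j (-1), hm1⟩ : region I (alp a1 a2 c)) 2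
        (by show cell i j (-1) 2 < 0; rw [cell_two]; norm_num)
      rw [hc1, hxC2] at hinf
      exact hinf C.2
  have hBb : stairZ I (i - a1) (j - a2) < stairZ I i j + c := by omega
  obtain ⟨h, hh⟩ : ∃ h : ℤ, h = (stairZ I (i - a1) (j - a2) : ℤ) - c := ⟨_, rfl⟩
  have hy : cell i j h ∈ region I (alp a1 a2 c) :=
    (cell_mem_iff I hI a1 a2 c i j h).mpr ⟨h1, h2, by omega, by omega⟩
  have hyC : (RG I (alp a1 a2 c)).connectedComponentMk
      (⟨cell i j h, hy⟩ : region I (alp a1 a2 c)) = C.1 := by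
    rw [← hxC2]
    exact vert' I hI a1 a2 c i j h l (by omega) hy hxm
  have hs1 : stairZ I (i + 1) j + c ≤ stairZ I (i - a1) (j - a2) := by
    by_contra hlt
    push Not at hlt
    have hB' : stairZ I (i + 1 - a1) (j - a2) ≤ stairZ I (i - a1) (j - a2) := by
      have e : i + 1 - a1 = (i - a1) + 1 := by omega
      rw [e]
      exact stair_anti I hI (i - a1) (j - a2) 1 0
    have hz : cell (i + 1) j h ∈ region I (alp a1 a2 c) :=
      (cell_mem_iff I hI a1 a2 c (i + 1) j h).mpr ⟨by omega, h2, by omega, by omega⟩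
    have hadj : (RG I (alp a1 a2 c)).Adj (⟨cell i j h, hy⟩ : region I (alp a1 a2 c))
        ⟨cell (i + 1) j h, hz⟩ :=
      adj_of_bump I _ _ _ 0 (by
        show cell (i + 1) j h = bump (cell i j h) 0
        rw [bump_cell_zero])
    have hzC : (RG I (alp a1 a2 c)).connectedComponentMk
        (⟨cell (i + 1) j h, hz⟩ : region I (alp a1 a2 c)) = C.1 := by
      rw [← hyC]
      exact (SimpleGraph.ConnectedComponent.connectedComponentMk_eq_of_adj hadj).symm
    have h5 : cell (i + 1) j h 0 + cell (i + 1) j h 1 ≤ (i : ℤ) + j := key ⟨_, hz⟩ hzC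
    rw [cell_zero, cell_one] at h5
    push_cast at h5
    omega
  have hs2 : stairZ I i (j + 1) + c ≤ stairZ I (i - a1) (j - a2) := by
    by_contra hlt
    push Not at hlt
    have hB' : stairZ I (i - a1) (j + 1 - a2) ≤ stairZ I (i - a1) (j - a2) := by
      have e : j + 1 - a2 = (j - a2) + 1 := by omega
      rw [e]
      exact stair_anti I hI (i - a1) (j - a2) 0 1
    have hz : cell i (j + 1) h ∈ region I (alp a1 a2 c) :=
      (cell_mem_iff I hI a1 a2 c i (j + 1) h).mpr ⟨h1, by omega, by omega, by omega⟩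
    have hadj : (RG I (alp a1 a2 c)).Adj (⟨cell i j h, hy⟩ : region I (alp a1 a2 c))
        ⟨cell i (j + 1) h, hz⟩ :=
      adj_of_bump I _ _ _ 1 (by
        show cell i (j + 1) h = bump (cell i j h) 1
        rw [bump_cell_one])
    have hzC : (RG I (alp a1 a2 c)).connectedComponentMk
        (⟨cell i (j + 1) h, hz⟩ : region I (alp a1 a2 c)) = C.1 := by
      rw [← hyC]
      exact (SimpleGraph.ConnectedComponent.connectedComponentMk_eq_of_adj hadj).symm
    have h5 : cell i (j + 1) h 0 + cell i (j + 1) h 1 ≤ (i : ℤ) + j := key ⟨_, hz⟩ hzC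
    rw [cell_zero, cell_one] at h5
    push_cast at h5
    omega
  exact ⟨(i, j), l, hxm, hxC2, h1, h2, hcB, hBb, hs1, hs2⟩

theorem col_inj (hI : IsMonomial I) [Module.Finite k (MvPolynomial (Fin 3) k ⧸ I)]
    (a1 a2 c : ℕ) (C C' : BC I (alp a1 a2 c)) (p p' : ℕ × ℕ) (hp : p = p') (l l' : ℤ)
    (h : cell p.1 p.2 l ∈ region I (alp a1 a2 c))
    (h' : cell p'.1 p'.2 l' ∈ region I (alp a1 a2 c))
    (hC : (RG I (alp a1 a2 c)).connectedComponentMk ⟨_, h⟩ = C.1)
    (hC' : (RG I (alp a1 a2 c)).connectedComponentMk ⟨_, h'⟩ = C'.1) : C = C' := by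
  subst hp
  apply Subtype.ext
  rw [← hC, ← hC']
  rcases le_total l l' with hle | hle
  · exact vert' I hI a1 a2 c p.1 p.2 l l' hle h h'
  · exact (vert' I hI a1 a2 c p.1 p.2 l' l hle h' h).symm

open Classical in
theorem card_BC_le (hI : IsMonomial I) [Module.Finite k (MvPolynomial (Fin 3) k ⧸ I)]
    (a1 a2 c : ℕ) (F : Finset (ℕ × ℕ)) (hF : ∀ p : ℕ × ℕ, 0 < stairZ I p.1 p.2 → p ∈ F) :
    Nat.card (BC I (alp a1 a2 c)) ≤ (F.filter (fun p => Econd I a1 a2 c p)).card := by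
  choose f hf using exists_col I hI a1 a2 c
  have hmem : ∀ C, f C ∈ F.filter (fun p => Econd I a1 a2 c p) := by
    intro C
    obtain ⟨l, h, hc, hE⟩ := hf C
    rw [Finset.mem_filter]
    refine ⟨hF _ ?_, hE⟩
    obtain ⟨_, _, e3', e4, _, _⟩ := hE
    omega
  have hinj : Function.Injective
      (fun C => (⟨f C, hmem C⟩ : ↥(F.filter (fun p => Econd I a1 a2 c p)))) := by
    intro C C' he
    have he' : f C = f C' := congrArg Subtype.val he
    obtain ⟨l, h, hc, _⟩ := hf C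
    obtain ⟨l', h', hc', _⟩ := hf C'
    exact col_inj I hI a1 a2 c C C' (f C) (f C') he' l l' h h' hc hc'
  have h1 := Nat.card_le_card_of_injective _ hinj
  rwa [Nat.card_eq_fintype_card (α := ↥(F.filter (fun p => Econd I a1 a2 c p))),
    Fintype.card_coe] at h1

open Classical in
theorem count_le (a1 a2 M : ℕ) (F : Finset (ℕ × ℕ)) :
    ∑ c ∈ Finset.range (M + 1), (F.filter (fun p => Econd I a1 a2 c p)).card ≤
      ∑ p ∈ F, (if a1 ≤ p.1 ∧ a2 ≤ p.2
        then stairZ I p.1 p.2 - max (stairZ I (p.1 + 1) p.2) (stairZ I p.1 (p.2 + 1)) else 0) := by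
  have h1 : ∀ c, (F.filter (fun p => Econd I a1 a2 c p)).card =
      ∑ p ∈ F, if Econd I a1 a2 c p then 1 else 0 := fun c => Finset.card_filter _ _
  simp_rw [h1]
  rw [Finset.sum_comm]
  apply Finset.sum_le_sum
  intro p _
  rw [← Finset.card_filter]
  by_cases hp : a1 ≤ p.1 ∧ a2 ≤ p.2
  · rw [if_pos hp]
    by_cases hmB : max (stairZ I (p.1 + 1) p.2) (stairZ I p.1 (p.2 + 1)) ≤
        stairZ I (p.1 - a1) (p.2 - a2)
    · have hsub : (Finset.range (M + 1)).filter (fun c => Econd I a1 a2 c p) ⊆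
          Finset.Icc (stairZ I (p.1 - a1) (p.2 - a2) + 1 - stairZ I p.1 p.2)
            (stairZ I (p.1 - a1) (p.2 - a2) -
              max (stairZ I (p.1 + 1) p.2) (stairZ I p.1 (p.2 + 1))) := by
        intro c hc
        rw [Finset.mem_filter] at hc
        obtain ⟨_, _, _, e3', e4, e5, e6⟩ := hc
        rw [Finset.mem_Icc]
        constructor <;> omega
      refine (Finset.card_le_card hsub).trans ?_
      rw [Nat.card_Icc]
      omega
    · have hemp : (Finset.range (M + 1)).filter (fun c => Econd I a1 a2 c p) = ∅ := by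
        rw [Finset.filter_eq_empty_iff]
        intro c _ hE
        obtain ⟨_, _, e3', e4, e5, e6⟩ := hE
        omega
      rw [hemp, Finset.card_empty]
      exact Nat.zero_le _
  · rw [if_neg hp, Nat.le_zero, Finset.card_eq_zero, Finset.filter_eq_empty_iff]
    intro c _ hE
    exact hp ⟨hE.1, hE.2.1⟩

end Stair

/-! ### the main theorem -/

section Main
variable {k : Type u} [Field k] (I : Ideal (MvPolynomial (Fin 3) k))

theorem tPiece_fd (hI : IsMonomial I) [Module.Finite k (MvPolynomial (Fin 3) k ⧸ I)]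
    (α : Fin 3 → ℤ) : FiniteDimensional k ↥(tPiece I α) := by
  haveI : Finite (BC I α) := finite_BC I α (by norm_num) hI
  have e : (BC I α → k) ≃ₗ[k] ↥(tPiece I α) :=
    LinearEquiv.ofBijective (PhiLin I α (by norm_num) hI)
      ⟨PhiLin_injective I α _ hI, PhiLin_surjective I α _ hI⟩
  exact Module.Finite.equiv e

theorem finrank_tPiece (hI : IsMonomial I) [Module.Finite k (MvPolynomial (Fin 3) k ⧸ I)]
    (α : Fin 3 → ℤ) : Module.finrank k ↥(tPiece I α) = Nat.card (BC I α) := by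
  haveI : Finite (BC I α) := finite_BC I α (by norm_num) hI
  haveI : Fintype (BC I α) := Fintype.ofFinite _
  have e : (BC I α → k) ≃ₗ[k] ↥(tPiece I α) :=
    LinearEquiv.ofBijective (PhiLin I α (by norm_num) hI)
      ⟨PhiLin_injective I α _ hI, PhiLin_surjective I α _ hI⟩
  rw [← e.finrank_eq, Module.finrank_fintype_fun_eq_card]
  exact Nat.card_eq_fintype_card.symm

theorem main (hI : IsMonomial I) [Module.Finite k (MvPolynomial (Fin 3) k ⧸ I)] (a1 a2 : ℕ) :
    Module.finrank k ↥(⨆ α : {α : Fin 3 → ℤ // α 0 = (a1 : ℤ) ∧ α 1 = (a2 : ℤ) ∧ α 2 < 0},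
        tPiece I α.1) ≤
      ∑ᶠ p : ℕ × ℕ, (if a1 ≤ p.1 ∧ a2 ≤ p.2
        then stairZ I p.1 p.2 - max (stairZ I (p.1 + 1) p.2) (stairZ I p.1 (p.2 + 1)) else 0) := by
  classical
  have hFfin : Set.Finite {p : ℕ × ℕ | 0 < stairZ I p.1 p.2} := by
    have h : Finite {β : Fin 3 →₀ ℕ // β ∉ exps I} := finite_compl_exps I hI
    have hfin : Set.Finite {γ : Fin 3 →₀ ℕ | γ ∉ exps I} := Set.finite_coe_iff.mp h
    have hinj : Function.Injective (fun p : ℕ × ℕ => e3 p.1 p.2 0) := by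
      intro p q hpq
      have h0 := DFunLike.congr_fun hpq 0
      have h1 := DFunLike.congr_fun hpq 1
      rw [e3_zero, e3_zero] at h0
      rw [e3_one, e3_one] at h1
      exact Prod.ext h0 h1
    refine (Set.Finite.preimage hinj.injOn hfin).subset ?_
    intro p hp
    show e3 p.1 p.2 0 ∉ exps I
    rw [mem_exps_iff I hI]
    have h5 : 0 < stairZ I p.1 p.2 := hp
    omega
  have hFmem : ∀ p : ℕ × ℕ, 0 < stairZ I p.1 p.2 → p ∈ hFfin.toFinset :=
    fun p hp => hFfin.mem_toFinset.mpr hp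
  have hfd : ∀ c : ℕ, FiniteDimensional k ↥(tPiece I (alp a1 a2 c)) :=
    fun c => tPiece_fd I hI _
  obtain ⟨hW, hWle⟩ := finrank_biSup_le (fun c : ℕ => tPiece I (alp a1 a2 c)) hfd
    (Finset.range (stairZ I 0 0 + 1))
  have hle : (⨆ α : {α : Fin 3 → ℤ // α 0 = (a1 : ℤ) ∧ α 1 = (a2 : ℤ) ∧ α 2 < 0},
      tPiece I α.1) ≤ ⨆ c ∈ Finset.range (stairZ I 0 0 + 1), tPiece I (alp a1 a2 c) := by
    apply iSup_le
    rintro ⟨α, h0, h1, h2⟩
    obtain ⟨c, hc⟩ : ∃ c : ℕ, α 2 = -(c : ℤ) :=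
      ⟨(-α 2).toNat, by rw [Int.toNat_of_nonneg (by omega)]; ring⟩
    have hα : α = alp a1 a2 c := by
      funext x
      fin_cases x
      · exact h0
      · exact h1
      · exact hc
    show tPiece I α ≤ _
    rw [hα]
    by_cases hcM : c ≤ stairZ I 0 0
    · exact le_iSup₂_of_le c (Finset.mem_range.mpr (by omega)) le_rfl
    · have hcard : Nat.card (BC I (alp a1 a2 c)) = 0 := by
        have h5 := card_BC_le I hI a1 a2 c hFfin.toFinset hFmem
        have hemp : hFfin.toFinset.filter (fun p => Econd I a1 a2 c p) = ∅ := by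
          rw [Finset.filter_eq_empty_iff]
          intro p _ hE
          obtain ⟨e1, e2, e3', _⟩ := hE
          have h6 := stair_anti I hI 0 0 (p.1 - a1) (p.2 - a2)
          rw [Nat.zero_add, Nat.zero_add] at h6
          omega
        rw [hemp, Finset.card_empty] at h5
        omega
      have hfr : Module.finrank k ↥(tPiece I (alp a1 a2 c)) = 0 := by
        rw [finrank_tPiece I hI, hcard]
      haveI := tPiece_fd I hI (alp a1 a2 c)
      have hbot : tPiece I (alp a1 a2 c) = ⊥ := Submodule.finrank_eq_zero.mp hfr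
      rw [hbot]
      exact bot_le
  haveI := hW
  have hsupp : Function.support (fun p : ℕ × ℕ => (if a1 ≤ p.1 ∧ a2 ≤ p.2
        then stairZ I p.1 p.2 - max (stairZ I (p.1 + 1) p.2) (stairZ I p.1 (p.2 + 1)) else 0)) ⊆
      ↑hFfin.toFinset := by
    intro p hp
    rw [Finset.mem_coe]
    apply hFmem
    by_contra h0
    apply hp
    show (if a1 ≤ p.1 ∧ a2 ≤ p.2
        then stairZ I p.1 p.2 - max (stairZ I (p.1 + 1) p.2) (stairZ I p.1 (p.2 + 1)) else 0) = 0
    have hz : stairZ I p.1 p.2 = 0 := by omega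
    rw [hz, Nat.zero_sub]
    exact ite_self 0
  rw [finsum_eq_sum_of_support_subset _ hsupp]
  calc Module.finrank k ↥(⨆ α : {α : Fin 3 → ℤ // α 0 = (a1 : ℤ) ∧ α 1 = (a2 : ℤ) ∧ α 2 < 0},
        tPiece I α.1)
      ≤ Module.finrank k ↥(⨆ c ∈ Finset.range (stairZ I 0 0 + 1), tPiece I (alp a1 a2 c)) :=
        Submodule.finrank_mono hle
    _ ≤ ∑ c ∈ Finset.range (stairZ I 0 0 + 1), Module.finrank k ↥(tPiece I (alp a1 a2 c)) := hWle
    _ = ∑ c ∈ Finset.range (stairZ I 0 0 + 1), Nat.card (BC I (alp a1 a2 c)) :=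
        Finset.sum_congr rfl (fun c _ => finrank_tPiece I hI _)
    _ ≤ ∑ c ∈ Finset.range (stairZ I 0 0 + 1),
          (hFfin.toFinset.filter (fun p => Econd I a1 a2 c p)).card :=
        Finset.sum_le_sum (fun c _ => card_BC_le I hI a1 a2 c _ hFmem)
    _ ≤ _ := count_le I a1 a2 _ _

end Main

end Groth.Agent.Lib.Helper9.PPN
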