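import Mathlib
import Groth.Agent.Lib.Helper7.PowSerCRing
import Groth.Agent.Lib.Helper4.RegCM
import Groth.Agent.Lib.Helper4.CM
import Groth.Agent.Lib.Helper9.QuasiReg

/-!
# A complete regular local ring is finite free over a parameter power series ring
-/

set_option autoImplicit false
set_option linter.style.haveILetI false

namespace Groth.Agent.Lib.Helper9.ParamPS

open IsLocalRing

universe u v

/-- length over a local ring equals length over a coefficient field. -/
theorem length_eq_of_residue {A : Type u} [CommRing A] [IsLocalRing A] {k : Type v} [Field k]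
    [Algebra k A] (hk : Function.Surjective (residue A ∘ algebraMap k A)) :
    ∀ (n : ℕ) (M : Type u) [AddCommGroup M] [Module A M] [Module k M] [IsScalarTower k A M],
      Module.length A M = n → Module.length k M = n := by
  intro n
  induction n with
  | zero =>
    intro M _ _ _ _ h
    rw [Nat.cast_zero] at h ⊢
    rw [Module.length_eq_zero_iff] at h ⊢
    exact h
  | succ n ih =>
    intro M _ _ _ _ h
    have hfin : Module.length A M ≠ ⊤ := by rw [h]; exact ENat.coe_ne_top _
    rw [Module.length_ne_top_iff, isFiniteLength_iff_isNoetherian_isArtinian] at hfin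
    obtain ⟨hN, hAr⟩ := hfin
    have hnt : Nontrivial M := by
      by_contra hc
      rw [not_nontrivial_iff_subsingleton] at hc
      have h0 := (Module.length_eq_zero_iff (R := A)).mpr hc
      rw [h0] at h
      have : (0 : ℕ) = n + 1 := by exact_mod_cast h
      omega
    obtain ⟨S, hS⟩ := IsAtomic.exists_atom (Submodule A M)
    haveI : IsSimpleModule A S := isSimpleModule_iff_isAtom.mpr hS
    have hadd := Module.length_eq_add_of_exact S.subtype S.mkQ S.injective_subtype
      S.mkQ_surjective (LinearMap.exact_subtype_mkQ S)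
    rw [Module.length_eq_one A S, h] at hadd
    have hq : Module.length A (M ⧸ S) = n := by
      have hne : Module.length A (M ⧸ S) ≠ ⊤ := by
        intro htop
        rw [htop] at hadd
        simp at hadd
      obtain ⟨m, hm⟩ := ENat.ne_top_iff_exists.mp hne
      rw [← hm] at hadd ⊢
      have h1 : n + 1 = 1 + m := by exact_mod_cast hadd
      have h2 : m = n := by omega
      rw [h2]
    have hq' := ih (M ⧸ S) hq
    have hS1 : Module.length k S = 1 := by
      haveI : Nontrivial S := IsSimpleModule.nontrivial A S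
      obtain ⟨s, hs⟩ := exists_ne (0 : S)
      have hsurjA := IsSimpleModule.toSpanSingleton_surjective A hs
      have hmax := IsSimpleModule.ker_toSpanSingleton_isMaximal A hs
      have hker : LinearMap.ker (LinearMap.toSpanSingleton A S s) = maximalIdeal A :=
        IsLocalRing.eq_maximalIdeal hmax
      let g : k →ₗ[k] S := LinearMap.toSpanSingleton k S s
      have hgdef : ∀ c, g c = c • s := fun c => rfl
      have hg : Function.Bijective g := by
        constructor
        · rw [← LinearMap.ker_eq_bot, LinearMap.ker_eq_bot']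
          intro c hc
          by_contra hc0
          apply hs
          have h1 : s = c⁻¹ • (c • s) := by rw [smul_smul, inv_mul_cancel₀ hc0, one_smul]
          rw [h1, ← hgdef, hc, smul_zero]
        · intro s'
          obtain ⟨a, ha⟩ := hsurjA s'
          obtain ⟨c, hc⟩ := hk (residue A a)
          refine ⟨c, ?_⟩
          have h1 : a - algebraMap k A c ∈ maximalIdeal A := by
            rw [← residue_eq_zero_iff, map_sub, sub_eq_zero]
            exact hc.symm
          rw [← hker, LinearMap.mem_ker, LinearMap.toSpanSingleton_apply, sub_smul,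
            sub_eq_zero] at h1
          rw [hgdef, ← ha, LinearMap.toSpanSingleton_apply, h1, algebraMap_smul]
      rw [← (LinearEquiv.ofBijective g hg).length_eq]
      exact Module.length_eq_one k k
    have haddk := Module.length_eq_add_of_exact (S.subtype.restrictScalars k)
      (S.mkQ.restrictScalars k) S.injective_subtype S.mkQ_surjective
      (LinearMap.exact_subtype_mkQ S)
    rw [haddk, hS1, hq']
    push_cast
    ring

theorem krullDimLE_zero_quot {A : Type u} [CommRing A] [IsLocalRing A] (I : Ideal A)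
    (hI : I.radical = maximalIdeal A) : Ring.KrullDimLE 0 (A ⧸ I) := by
  rw [Ring.krullDimLE_zero_iff]
  intro Q hQ
  have hq : (Q.comap (Ideal.Quotient.mk I)).IsPrime := Ideal.comap_isPrime _ _
  have hle : I ≤ Q.comap (Ideal.Quotient.mk I) := by
    intro a ha
    rw [Ideal.mem_comap, Ideal.Quotient.eq_zero_iff_mem.mpr ha]
    exact Q.zero_mem
  have h2 : maximalIdeal A ≤ Q.comap (Ideal.Quotient.mk I) := by
    rw [← hI]
    exact hq.radical_le_iff.mpr hle
  have h3 : Q.comap (Ideal.Quotient.mk I) = maximalIdeal A :=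
    le_antisymm (IsLocalRing.le_maximalIdeal hq.ne_top) h2
  have h4 : (Q.comap (Ideal.Quotient.mk I)).IsMaximal := h3 ▸ maximalIdeal.isMaximal A
  have h5 := Ideal.map_eq_top_or_isMaximal_of_surjective (Ideal.Quotient.mk I)
    Ideal.Quotient.mk_surjective h4
  rw [Ideal.map_comap_of_surjective _ Ideal.Quotient.mk_surjective] at h5
  exact h5.resolve_left hQ.ne_top

theorem isWeaklyRegular_of_sop (A : Type u) [CommRing A] [IsRegularLocalRing A] (n : ℕ)
    (hn : ringKrullDim A = n) (x : Fin n → A)
    (hx : (Ideal.span (Set.range x)).radical = maximalIdeal A) :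
    RingTheory.Sequence.IsWeaklyRegular A (List.ofFn x) := by
  have hM := Groth.Agent.Lib.Helper4.RegCM.isCohenMacaulayModule_self A
  have hIm : Ideal.span (Set.range x) ≤ maximalIdeal A := by
    rw [← hx]; exact Ideal.le_radical
  have hxs : ∀ y ∈ List.ofFn x, y ∈ maximalIdeal A := by
    intro y hy
    rw [List.mem_ofFn] at hy
    obtain ⟨i, rfl⟩ := hy
    exact hIm (Ideal.subset_span ⟨i, rfl⟩)
  apply Groth.Agent.Lib.Helper4.cm_isWeaklyRegular_of_supportDim hM (List.ofFn x) hxs
  have hJ : (Ideal.ofList (List.ofFn x) • (⊤ : Submodule A A)) = Ideal.span (Set.range x) := by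
    rw [Groth.Agent.Lib.Helper9.QuasiReg.ofList_ofFn, smul_eq_mul, Ideal.mul_top]
  rw [Module.supportDim_self_eq_ringKrullDim, hn, List.length_ofFn,
    Module.supportDim_eq_of_equiv (Submodule.quotEquivOfEq _ _ hJ),
    Module.supportDim_quotient_eq_ringKrullDim]
  haveI := krullDimLE_zero_quot _ hx
  haveI : Nontrivial (A ⧸ Ideal.span (Set.range x)) :=
    Ideal.Quotient.nontrivial_iff.mpr (fun h => (maximalIdeal.isMaximal A).ne_top
      (top_le_iff.mp (h ▸ hIm)))
  have h0 : ringKrullDim (A ⧸ Ideal.span (Set.range x)) = 0 :=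
    le_antisymm (Ring.krullDimLE_iff.mp inferInstance) ringKrullDim_nonneg_of_nontrivial
  rw [h0, zero_add]

section pi

variable {R : Type*} [CommRing R] (J : Ideal R) {ι : Type*} [Fintype ι] [DecidableEq ι]
  (M : Type*) [AddCommGroup M] [Module R M]

theorem apply_mem_of_mem_smul_top_pi {v : ι → M} (hv : v ∈ J • (⊤ : Submodule R (ι → M)))
    (i : ι) : v i ∈ J • (⊤ : Submodule R M) := by
  have h1 : (LinearMap.proj i : (ι → M) →ₗ[R] M) v ∈
      Submodule.map (LinearMap.proj i : (ι → M) →ₗ[R] M) (J • ⊤) := Submodule.mem_map_of_mem hv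
  rw [Submodule.map_smul''] at h1
  exact Submodule.smul_mono le_rfl le_top h1

theorem mem_smul_top_pi_of_apply_mem {v : ι → M} (hv : ∀ i, v i ∈ J • (⊤ : Submodule R M)) :
    v ∈ J • (⊤ : Submodule R (ι → M)) := by
  rw [← Finset.univ_sum_single v]
  refine Submodule.sum_mem _ fun i _ => ?_
  have h1 : (LinearMap.single R (fun _ : ι => M) i) (v i) ∈
      Submodule.map (LinearMap.single R (fun _ : ι => M) i) (J • ⊤) :=
    Submodule.mem_map_of_mem (hv i)
  rw [Submodule.map_smul''] at h1
  exact Submodule.smul_mono le_rfl le_top h1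

theorem isPrecomplete_pi [IsPrecomplete J M] : IsPrecomplete J (ι → M) := by
  refine ⟨fun {f} hf => ?_⟩
  have hcomp : ∀ i, ∃ L : M, ∀ n, f n i ≡ L [SMOD (J ^ n • ⊤ : Submodule R M)] := by
    intro i
    apply IsPrecomplete.prec (inferInstance : IsPrecomplete J M) (f := fun n => f n i)
    intro m n hmn
    have h1 := hf hmn
    rw [SModEq.sub_mem] at h1 ⊢
    exact apply_mem_of_mem_smul_top_pi (J ^ m) M h1 i
  choose L hL using hcomp
  refine ⟨L, fun n => ?_⟩
  rw [SModEq.sub_mem]
  apply mem_smul_top_pi_of_apply_mem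
  intro i
  have h1 := hL i n
  rw [SModEq.sub_mem] at h1
  exact h1

end pi

theorem isHausdorff_of_le {R : Type*} [CommRing R] {I J : Ideal R} (h : I ≤ J)
    [IsHausdorff J R] : IsHausdorff I R := by
  refine ⟨fun a ha => ?_⟩
  apply IsHausdorff.haus (inferInstance : IsHausdorff J R)
  intro n
  have h1 := ha n
  rw [SModEq.zero] at h1 ⊢
  exact Submodule.smul_mono_left (Ideal.pow_right_mono h n) h1

open MvPowerSeries in
theorem main (A : Type u) [CommRing A] [IsRegularLocalRing A]
    [IsAdicComplete (maximalIdeal A) A] (n : ℕ) (hn : ringKrullDim A = n)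
    (k : Type v) [Field k] [Algebra k A]
    (hk : Function.Surjective (residue A ∘ algebraMap k A))
    (x : Fin n → A) (hx : (Ideal.span (Set.range x)).radical = maximalIdeal A)
    (φ : MvPowerSeries (Fin n) k →ₐ[k] A) (hφ : ∀ i, φ (MvPowerSeries.X i) = x i) :
    ∃ (d : ℕ) (b : Fin d → A), (d : ℕ∞) = Module.length A (A ⧸ Ideal.span (Set.range x)) ∧
      Function.Bijective (fun r : Fin d → MvPowerSeries (Fin n) k => ∑ i, φ (r i) * b i) := by
  classical
  set I : Ideal A := Ideal.span (Set.range x) with hIdef
  have hIm : I ≤ maximalIdeal A := by rw [← hx]; exact Ideal.le_radical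
  -- Step 1: finite length
  haveI := krullDimLE_zero_quot I hx
  haveI : IsArtinianRing (A ⧸ I) := isArtinianRing_iff_krullDimLE_zero.mpr inferInstance
  haveI : IsArtinian A (A ⧸ I) :=
    isArtinian_of_surjective_algebraMap (R := A ⧸ I) (S := A) (M := A ⧸ I)
      Ideal.Quotient.mk_surjective
  have hfin : Module.length A (A ⧸ I) ≠ ⊤ := Module.length_ne_top
  obtain ⟨d, hd⟩ := ENat.ne_top_iff_exists.mp hfin
  -- Step 2: a `k`-basis of `A ⧸ I`
  have hlenk : Module.length k (A ⧸ I) = d := length_eq_of_residue hk d (A ⧸ I) hd.symm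
  have hfink : IsFiniteLength k (A ⧸ I) := by
    rw [← Module.length_ne_top_iff, hlenk]; exact ENat.coe_ne_top _
  rw [isFiniteLength_iff_isNoetherian_isArtinian] at hfink
  haveI : IsNoetherian k (A ⧸ I) := hfink.1
  haveI : Module.Finite k (A ⧸ I) := inferInstance
  have hfr : Module.finrank k (A ⧸ I) = d := by
    have h1 := Module.length_eq_finrank k (A ⧸ I)
    rw [hlenk] at h1
    exact_mod_cast h1.symm
  let bb : Module.Basis (Fin d) k (A ⧸ I) := Module.finBasisOfFinrankEq k (A ⧸ I) hfr
  have hbex : ∀ i, ∃ a : A, Ideal.Quotient.mk I a = bb i := fun i =>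
    Ideal.Quotient.mk_surjective (bb i)
  choose b hb using hbex
  refine ⟨d, b, hd, ?_⟩
  -- Step 3: φ and the maximal ideal
  have hφC : ∀ c : k, φ (MvPowerSeries.C c) = algebraMap k A c := by
    intro c
    have h1 : (MvPowerSeries.C c : MvPowerSeries (Fin n) k) =
        algebraMap k (MvPowerSeries (Fin n) k) c := by
      rw [MvPowerSeries.algebraMap_apply]; rfl
    rw [h1, AlgHom.commutes]
  have hmP : maximalIdeal (MvPowerSeries (Fin n) k) =
      Ideal.span (Set.range (MvPowerSeries.X : Fin n → MvPowerSeries (Fin n) k)) := by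
    rw [Groth.Agent.Lib.Helper7.PowSerCRing.maximalIdeal_eq_sup, IsLocalRing.maximalIdeal_eq_bot,
      Ideal.map_bot, bot_sup_eq]
  have hmapm : Ideal.map φ.toRingHom (maximalIdeal (MvPowerSeries (Fin n) k)) = I := by
    rw [hmP, Ideal.map_span, ← Set.range_comp]
    have : (φ.toRingHom ∘ (MvPowerSeries.X : Fin n → MvPowerSeries (Fin n) k)) = x :=
      funext hφ
    rw [this]
  have hmappow : ∀ j (t : MvPowerSeries (Fin n) k),
      t ∈ maximalIdeal (MvPowerSeries (Fin n) k) ^ j → φ t ∈ I ^ j := by
    intro j t ht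
    have h1 := Ideal.mem_map_of_mem φ.toRingHom ht
    rw [Ideal.map_pow, hmapm] at h1
    exact h1
  -- Step 4: module structure
  letI : Algebra (MvPowerSeries (Fin n) k) A := φ.toRingHom.toAlgebra
  have halg : ∀ t : MvPowerSeries (Fin n) k, algebraMap (MvPowerSeries (Fin n) k) A t = φ t :=
    fun t => rfl
  haveI : IsAdicComplete (maximalIdeal k) k := by
    rw [IsLocalRing.maximalIdeal_eq_bot]; infer_instance
  haveI := Groth.Agent.Lib.Helper7.PowSerCRing.isAdicComplete (σ := Fin n) (R := k)
  haveI : IsHausdorff I A := isHausdorff_of_le hIm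
  haveI : IsHausdorff (maximalIdeal (MvPowerSeries (Fin n) k)) A := by
    apply (IsHausdorff.map_algebraMap_iff (R := MvPowerSeries (Fin n) k) (S := A) (M := A)
      (I := maximalIdeal (MvPowerSeries (Fin n) k))).mp
    have : Ideal.map (algebraMap (MvPowerSeries (Fin n) k) A)
        (maximalIdeal (MvPowerSeries (Fin n) k)) = I := hmapm
    rw [this]
    infer_instance
  haveI : IsPrecomplete (maximalIdeal (MvPowerSeries (Fin n) k))
      (Fin d → MvPowerSeries (Fin n) k) := isPrecomplete_pi _ _
  let Ψ : (Fin d → MvPowerSeries (Fin n) k) →ₗ[MvPowerSeries (Fin n) k] A :=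
    Fintype.linearCombination (MvPowerSeries (Fin n) k) b
  have hΨ : ∀ r, Ψ r = ∑ i, φ (r i) * b i := by
    intro r
    rw [Fintype.linearCombination_apply]
    apply Finset.sum_congr rfl
    intro i _
    rw [Algebra.smul_def, halg]
  have hfun : (fun r : Fin d → MvPowerSeries (Fin n) k => ∑ i, φ (r i) * b i) = ⇑Ψ :=
    funext fun r => (hΨ r).symm
  rw [hfun]
  have hsmultop : ∀ a : A, a ∈ (maximalIdeal (MvPowerSeries (Fin n) k) •
      (⊤ : Submodule (MvPowerSeries (Fin n) k) A)) ↔ a ∈ I := by
    intro a
    rw [Ideal.smul_top_eq_map, Submodule.restrictScalars_mem]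
    have : Ideal.map (algebraMap (MvPowerSeries (Fin n) k) A)
        (maximalIdeal (MvPowerSeries (Fin n) k)) = I := hmapm
    rw [this]
  have hmkb : ∀ (c : k) (i : Fin d), Ideal.Quotient.mk I (algebraMap k A c * b i) = c • bb i := by
    intro c i
    rw [← hb i, ← Algebra.smul_def]
    rfl
  constructor
  · -- injectivity
    rw [← LinearMap.ker_eq_bot, LinearMap.ker_eq_bot']
    intro r hr
    by_contra hne
    have hex : ∃ m : ℕ, ∃ (i : Fin d) (e : Fin n →₀ ℕ), Finsupp.degree e = m ∧
        MvPowerSeries.coeff e (r i) ≠ 0 := by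
      by_contra hcon
      apply hne
      funext i
      ext e
      by_contra h1
      exact hcon ⟨Finsupp.degree e, i, e, rfl, h1⟩
    let ν := Nat.find hex
    obtain ⟨i₀, e₀, he₀, hc₀⟩ := Nat.find_spec hex
    have hmin : ∀ (i : Fin d) (e : Fin n →₀ ℕ), Finsupp.degree e < ν →
        MvPowerSeries.coeff e (r i) = 0 := by
      intro i e he
      by_contra h1
      exact Nat.find_min hex he ⟨i, e, rfl, h1⟩
    let Sν : Finset (Fin n →₀ ℕ) := (Finset.univ : Finset (Fin n)).finsuppAntidiag ν
    have hSν : ∀ e : Fin n →₀ ℕ, e ∈ Sν ↔ Finsupp.degree e = ν := by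
      intro e
      rw [Finset.mem_finsuppAntidiag, Finsupp.degree_eq_sum]
      simp
    let h : Fin d → MvPolynomial (Fin n) k := fun i => MvPowerSeries.truncFinset k Sν (r i)
    have hcoeffh : ∀ i e, MvPolynomial.coeff e (h i) =
        if e ∈ Sν then MvPowerSeries.coeff e (r i) else 0 := by
      intro i e
      exact MvPowerSeries.coeff_truncFinset (r i)
    have hhom : ∀ i, (h i).IsHomogeneous ν := by
      intro i e he
      have h1 : e ∈ Sν := by
        by_contra h2
        rw [hcoeffh, if_neg h2] at he
        exact he rfl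
      have h3 := (hSν e).mp h1
      rw [← h3, Finsupp.degree_eq_weight_one]
      rfl
    -- the remainder lies in 𝔪^(ν+1)
    have ht : ∀ i, r i - (h i : MvPowerSeries (Fin n) k) ∈
        maximalIdeal (MvPowerSeries (Fin n) k) ^ (ν + 1) := by
      intro i
      rw [Groth.Agent.Lib.Helper7.PowSerCRing.maximalIdeal_pow_eq_W,
        Groth.Agent.Lib.Helper7.PowSerCRing.mem_W]
      intro e
      rw [IsLocalRing.maximalIdeal_eq_bot]
      by_cases hle : Finsupp.degree e ≤ ν
      · have hpos : ν + 1 - Finsupp.degree e ≠ 0 := by omega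
        rw [Ideal.bot_pow hpos, Ideal.mem_bot, map_sub, MvPolynomial.coeff_coe, hcoeffh]
        rcases Nat.lt_or_eq_of_le hle with hlt | heq
        · have hnot : e ∉ Sν := by rw [hSν]; omega
          rw [if_neg hnot, hmin i e hlt, sub_zero]
        · rw [if_pos ((hSν e).mpr heq), sub_self]
      · have h0 : ν + 1 - Finsupp.degree e = 0 := by omega
        rw [h0, pow_zero, Ideal.one_eq_top]
        trivial
    have hφpoly : ∀ p : MvPolynomial (Fin n) k,
        φ (p : MvPowerSeries (Fin n) k) = MvPolynomial.aeval x p := by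
      intro p
      induction p using MvPolynomial.induction_on with
      | C a => rw [MvPolynomial.coe_C, hφC, MvPolynomial.aeval_C]
      | add p q hp hq => rw [MvPolynomial.coe_add, map_add, map_add, hp, hq]
      | mul_X p i hp =>
        rw [MvPolynomial.coe_mul, MvPolynomial.coe_X, map_mul, map_mul, hp, hφ,
          MvPolynomial.aeval_X]
    let F : MvPolynomial (Fin n) A :=
      ∑ i, MvPolynomial.C (b i) * MvPolynomial.map (algebraMap k A) (h i)
    have hFhom : F.IsHomogeneous ν := by
      apply MvPolynomial.IsHomogeneous.sum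
      intro i _
      rw [mul_comm]
      have h1 := ((hhom i).map (algebraMap k A)).C_mul (b i)
      rw [mul_comm] at h1 ⊢
      rw [mul_comm]
      exact h1
    have hFeval : MvPolynomial.eval x F ∈ I ^ (ν + 1) := by
      have h1 : MvPolynomial.eval x F = ∑ i, φ (h i : MvPowerSeries (Fin n) k) * b i := by
        simp only [F, map_sum, map_mul, MvPolynomial.eval_C, MvPolynomial.eval_map]
        apply Finset.sum_congr rfl
        intro i _
        rw [hφpoly, mul_comm, MvPolynomial.aeval_def]
      have h2 : ∑ i, φ (h i : MvPowerSeries (Fin n) k) * b i =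
          - ∑ i, φ (r i - (h i : MvPowerSeries (Fin n) k)) * b i := by
        have h3 : ∑ i, φ (r i) * b i = 0 := by rw [← hΨ]; exact hr
        rw [eq_neg_iff_add_eq_zero, ← Finset.sum_add_distrib, ← h3]
        apply Finset.sum_congr rfl
        intro i _
        rw [map_sub]; ring
      rw [h1, h2]
      apply Ideal.neg_mem_iff _ |>.mpr
      refine Ideal.sum_mem _ fun i _ => ?_
      exact Ideal.mul_mem_right _ _ (hmappow (ν + 1) _ (ht i))
    have hreg := isWeaklyRegular_of_sop A n hn x hx
    have hqr := Groth.Agent.Lib.Helper9.QuasiReg.quasiRegular_of_isWeaklyRegular x hreg ν F hFhom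
      hFeval e₀
    have hcoefF : MvPolynomial.coeff e₀ F =
        ∑ i, algebraMap k A (MvPowerSeries.coeff e₀ (r i)) * b i := by
      simp only [F, MvPolynomial.coeff_sum, MvPolynomial.coeff_C_mul, MvPolynomial.coeff_map]
      apply Finset.sum_congr rfl
      intro i _
      rw [hcoeffh, if_pos ((hSν e₀).mpr he₀), mul_comm]
    rw [hcoefF] at hqr
    have hzero : ∑ i, (MvPowerSeries.coeff e₀ (r i)) • bb i = 0 := by
      have h1 := Ideal.Quotient.eq_zero_iff_mem.mpr hqr
      rw [map_sum] at h1
      rw [← h1]
      apply Finset.sum_congr rfl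
      intro i _
      exact (hmkb _ i).symm
    have hli := Fintype.linearIndependent_iff.mp bb.linearIndependent
      (fun i => MvPowerSeries.coeff e₀ (r i)) hzero i₀
    exact hc₀ hli
  · -- surjectivity
    apply surjective_of_mkQ_comp_surjective (I := maximalIdeal (MvPowerSeries (Fin n) k))
    intro y
    obtain ⟨a, rfl⟩ := Submodule.mkQ_surjective _ y
    let c := bb.repr (Ideal.Quotient.mk I a)
    refine ⟨fun i => MvPowerSeries.C (c i), ?_⟩
    rw [LinearMap.comp_apply]
    rw [Submodule.mkQ_apply, Submodule.mkQ_apply, Submodule.Quotient.eq, hsmultop, hΨ]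
    rw [← Ideal.Quotient.eq_zero_iff_mem, map_sub, map_sum, sub_eq_zero]
    have h1 : ∀ i, Ideal.Quotient.mk I (φ (MvPowerSeries.C (c i)) * b i) = c i • bb i := by
      intro i
      rw [hφC, hmkb]
    simp only [h1]
    exact bb.sum_repr (Ideal.Quotient.mk I a)

end Groth.Agent.Lib.Helper9.ParamPS
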