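import Mathlib
import Groth.Agent.Lib.Helper9.PerfKoszul
import Groth.Agent.Lib.Helper9.PerfMor
import Groth.Agent.Lib.Helper1.RegComp
import Groth.Agent.S7068

/-!
# Koszul-regular immersions, flat lfp morphisms and lci morphisms (factorisation form) are perfect (helper9)
-/

set_option autoImplicit false
set_option linter.style.haveILetI false
universe u
open CategoryTheory CategoryTheory.Limits AlgebraicGeometry

namespace Groth.Agent.Lib.Helper9.PCM

open Groth.Agent.Lib.Helper1

/-- a Koszul-regular immersion is perfect -/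
theorem perfMor_of_koszulRegularImmersion {Z X : Scheme.{u}} (i : Z ⟶ X)
    (hi : RegImm.IsRegularImmersion .koszul i) : perfMor i := by
  haveI := hi.1
  rw [perfMor_iff_exists]
  intro z
  obtain ⟨⟨U, hU⟩, hzU, hcl, rs, hrs, hker⟩ := hi.2 z
  haveI : IsClosedImmersion (i ∣_ U) := hcl
  obtain ⟨hiU, hsU⟩ := ConormMap.good_of_le_coborderRange i hU
    (UTKoszul.le_coborderRange_of_isClosedImmersion_restrict i U)
  refine ⟨⟨U, hU⟩, ⟨i ⁻¹ᵁ U, hiU⟩, hzU, le_rfl, ?_⟩
  have e : i.appLE U (i ⁻¹ᵁ U) le_rfl = i.app U := Scheme.Hom.appLE_eq_app i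
  show PerfRingHom (i.appLE U (i ⁻¹ᵁ U) le_rfl).hom
  rw [e]
  exact perfRingHom_of_koszulRegular _ hsU rs hrs hker

/-- a flat morphism locally of finite presentation is perfect -/
theorem perfMor_of_flat_of_lfp {X Y : Scheme.{u}} (f : X ⟶ Y) [Flat f]
    [LocallyOfFinitePresentation f] : perfMor f := by
  intro U V hU hV e
  letI := (f.appLE V U e).hom.toAlgebra
  haveI : Module.Flat Γ(Y, V) Γ(X, U) :=
    HasRingHomProperty.appLE (P := @Flat) f inferInstance ⟨V, hV⟩ ⟨U, hU⟩ e
  haveI : Algebra.FinitePresentation Γ(Y, V) Γ(X, U) :=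
    HasRingHomProperty.appLE (P := @LocallyOfFinitePresentation) f inferInstance ⟨V, hV⟩ ⟨U, hU⟩ e
  exact Groth.Agent.S7068.result _ _

/-- a smooth morphism is perfect -/
theorem perfMor_of_smooth {X Y : Scheme.{u}} (f : X ⟶ Y) [Smooth f] : perfMor f := by
  haveI : Flat f := inferInstance
  haveI : LocallyOfFinitePresentation f := inferInstance
  exact perfMor_of_flat_of_lfp f

/-- a morphism that is Koszul (lci in the factorisation sense) at every point is perfect -/
theorem perfMor_of_forall_isKoszulAt {X Y : Scheme.{u}} (f : X ⟶ Y)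
    (hf : ∀ x : X, Synt.IsKoszulAt f x) : perfMor f := by
  choose U P i π hxU hlft hreg hsm hcomp using hf
  have hU : iSup U = ⊤ := by
    rw [eq_top_iff]
    intro x _
    exact TopologicalSpace.Opens.mem_iSup.2 ⟨x, hxU x⟩
  haveI : IsZariskiLocalAtSource perfMor.{u} := inferInstance
  rw [IsZariskiLocalAtSource.iff_of_iSup_eq_top (P := perfMor) U hU]
  intro x
  rw [← hcomp x]
  haveI := hsm x
  exact perfMor_isStableUnderComposition.comp_mem _ _
    (perfMor_of_koszulRegularImmersion (i x) (hreg x)) (perfMor_of_smooth (π x))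

end Groth.Agent.Lib.Helper9.PCM
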