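import Mathlib
import Groth.Agent.Lib.Helper9.NPCBridge
import Groth.Agent.Lib.Helper9.StalkUnit
import Groth.Agent.Lib.Helper9.PCMor
import Groth.Agent.Lib.Helper9.PerfLci

/-!
# Pseudo-coherent morphisms (chart form, all `n`) versus `MoreMor.IsPseudoCoherentMor` (helper9)
-/

set_option autoImplicit false
set_option linter.style.haveILetI false
universe u
open CategoryTheory CategoryTheory.Limits AlgebraicGeometry Opposite TopologicalSpace
open Groth.Agent.Lib.Helper9.PCM

attribute [local instance] HasDerivedCategory.standard

namespace Groth.Agent.Lib.Helper9.RelBridge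

variable {X S : Scheme.{u}}

/-- `O_X[0]` is pseudo-coherent relative to `f` (chart form, every degree) iff `f` is a pseudo-coherent
morphism (all affine pairs, presentation form). -/
theorem isPseudoCoherentRelAll_unit_iff (f : X ⟶ S) [LocallyOfFiniteType f] :
    DerSch.IsPseudoCoherentRelAll f (DCoh.toD X (DerSch.unitCx X)) ↔ pcMor f := by
  constructor
  · intro h U V hU hV e
    have h1 : PCRingHom (f.appLE V U e).hom := by
      rw [pcRingHom_iff]
      intro m
      exact npcHom_of_isNPseudoCoherent f m (h m) hU hV e
    exact h1
  · intro h m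
    refine isNPseudoCoherent_of_npcHom f m (fun U V e => ?_)
    have h1 : PCRingHom (f.appLE (V : S.Opens) (U : X.Opens) e).hom := h U.1 V.1 U.2 V.2 e
    rw [pcRingHom_iff] at h1
    exact h1 m

theorem pcMor_of_perfMor {f : X ⟶ S} (h : perfMor f) : pcMor f :=
  fun U V hU hV e => (h U V hU hV e).1

end Groth.Agent.Lib.Helper9.RelBridge
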