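import Mathlib
import Groth.Agent.Lib.Helper9.PerfReg
import Groth.Agent.Lib.Helper1.SecSch

/-!
# Cancelling a smooth morphism from a perfect composite (helper9)
-/

set_option autoImplicit false
set_option linter.style.haveILetI false
universe u
open CategoryTheory CategoryTheory.Limits AlgebraicGeometry

namespace Groth.Agent.Lib.Helper9.PCM

/-- a section of a smooth morphism is perfect -/
theorem perfMor_of_section_of_smooth {P X : Scheme.{u}} (p : P ⟶ X) [Smooth p] (σ : X ⟶ P)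
    (hσ : σ ≫ p = 𝟙 X) : perfMor σ := by
  rw [perfMor_iff_exists]
  intro x
  obtain ⟨D, hD, hxD, hσD, hsD, rs, hreg, hker⟩ :=
    Groth.Agent.Lib.Helper1.SecSch.exists_chart_of_section p σ hσ x
  refine ⟨⟨D, hD⟩, ⟨σ ⁻¹ᵁ D, hσD⟩, hxD, le_rfl, ?_⟩
  have e : σ.appLE D (σ ⁻¹ᵁ D) le_rfl = σ.app D := Scheme.Hom.appLE_eq_app σ
  show PerfRingHom (σ.appLE D (σ ⁻¹ᵁ D) le_rfl).hom
  rw [e]
  exact perfRingHom_of_surjective_of_ker_eq_ofList _ hsD rs hreg hker

theorem perfMor_of_comp_smooth {X Y S : Scheme.{u}} (f : X ⟶ Y) (g : Y ⟶ S) [Smooth g]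
    (h : perfMor (f ≫ g)) : perfMor f := by
  haveI : Flat g := inferInstance
  have h1 : perfMor (pullback.snd (f ≫ g) g) :=
    perfMor_flat_baseChange (IsPullback.of_hasPullback (f ≫ g) g) h
  let σ : X ⟶ pullback (f ≫ g) g := pullback.lift (𝟙 X) f (by simp)
  have hσ : σ ≫ pullback.fst (f ≫ g) g = 𝟙 X := pullback.lift_fst _ _ _
  have h2 : perfMor σ := perfMor_of_section_of_smooth (pullback.fst (f ≫ g) g) σ hσ
  have e : f = σ ≫ pullback.snd (f ≫ g) g := (pullback.lift_snd _ _ _).symm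
  rw [e]
  exact perfMor_isStableUnderComposition.comp_mem _ _ h2 h1

end Groth.Agent.Lib.Helper9.PCM
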