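import Mathlib
import Groth.Agent.Lib.Helper18.DRDesc
import Groth.Agent.Lib.Helper18.DRTorZ2

/-!
# Spreading out tor amplitude of a pseudo-coherent module from a prime to a basic open (helper9)
-/

set_option autoImplicit false
set_option linter.style.haveILetI false
universe u
open CategoryTheory CategoryTheory.Limits CategoryTheory.Pretriangulated DerivedCategory TensorProduct
open Groth.Agent.Lib.Helper18.DR

attribute [local instance] HasDerivedCategory.standard

namespace Groth.Agent.Lib.Helper9.PCM

section spread

variable {R : Type u} [CommRing R]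

/-- the cokernel of a differential of a termwise finite free complex is finitely presented -/
lemma finitePresentation_cok (F : DRing.Cx R) (hF : DRing.TermwiseFiniteFree F) (i j : ℤ) :
    Module.FinitePresentation R (cok F i j) := by
  haveI := (hF j).1
  haveI := (hF j).2
  haveI := (hF i).1
  haveI : Module.FinitePresentation R (F.X j) := Module.finitePresentation_of_projective R _
  refine Module.finitePresentation_of_surjective (LinearMap.range (F.d i j).hom).mkQ
    (Submodule.mkQ_surjective _) ?_
  rw [Submodule.ker_mkQ, LinearMap.range_eq_map]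
  exact Module.Finite.fg_top.map _

/-- base change of a resolution of a module along a flat ring map -/
noncomputable def extResIso (S : Type u) [CommRing S] [Algebra R S] [Module.Flat R S]
    (F : DRing.Cx R) (M : Type u) [AddCommGroup M] [Module R M]
    (e : DRing.toD F ≅ Dual.inD R M) :
    DRing.toD (((extM (A := R) (B := S)).mapHomologicalComplex (ComplexShape.up ℤ)).obj F) ≅
      Dual.inD S (S ⊗[R] M) :=
  (mapDToDIso extM F).symm ≪≫ (extD R S).mapIso e ≪≫ extDInDIso M

/-- if the localization of a pseudo-coherent module at a prime has tor amplitude in `[a, 0]`,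
so does its localization at some basic open neighbourhood -/
theorem exists_away_hasTorAmplitudeIn (F : DRing.Cx R) (c : ℤ) (hFc : DRing.VanishesAbove F c)
    (hFff : DRing.TermwiseFiniteFree F) (M : Type u) [AddCommGroup M] [Module R M]
    (e : DRing.toD F ≅ Dual.inD R M) (q : Ideal R) [q.IsPrime] (a : ℤ) (ha : a ≤ 0)
    (h : DRing.HasTorAmplitudeIn (Localization.AtPrime q) a 0
      (Dual.inD (Localization.AtPrime q) (Localization.AtPrime q ⊗[R] M))) :
    ∃ g : R, g ∉ q ∧ DRing.HasTorAmplitudeIn (Localization.Away g) a 0
      (Dual.inD (Localization.Away g) (Localization.Away g ⊗[R] M)) := by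
  have hFproj : ∀ i, Module.Projective R (F.X i) := fun i => by
    haveI := (hFff i).2; exact Module.Projective.of_free
  have h1 : DRing.HasTorAmplitudeIn (Localization.AtPrime q) a 0 (DRing.toD
      (((extM (A := R) (B := Localization.AtPrime q)).mapHomologicalComplex
        (ComplexShape.up ℤ)).obj F)) :=
    hasTorAmplitudeIn_of_iso (extResIso (Localization.AtPrime q) F M e).symm h
  have h2 : Module.Flat (Localization.AtPrime q)
      (cok (((extM (A := R) (B := Localization.AtPrime q)).mapHomologicalComplex
      (ComplexShape.up ℤ)).obj F) (a - 1) a) :=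
    flat_cok_of_hasTorAmplitudeIn _ c (vanishesAbove_mapHC extM F c hFc)
      (fun j => by haveI := hFproj j; exact projective_extM (B := Localization.AtPrime q) (F.X j))
      a 0 (a - 1) (by omega) h1
  haveI hfp : Module.FinitePresentation R (cok F (a - 1) a) := finitePresentation_cok F hFff _ _
  haveI h3 : Module.Flat (Localization.AtPrime q) (Localization.AtPrime q ⊗[R] cok F (a - 1) a) :=
    Module.Flat.of_linearEquiv (cokExtMEquiv (B := Localization.AtPrime q) F (a - 1) a).symm
  haveI : Module.Free (Localization.AtPrime q) (Localization.AtPrime q ⊗[R] cok F (a - 1) a) :=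
    Module.free_of_flat_of_isLocalRing
  obtain ⟨g, hg, hfree, -⟩ := Module.FinitePresentation.exists_free_localizedModule_powers
    q.primeCompl (TensorProduct.mk R (Localization.AtPrime q) (cok F (a - 1) a) 1)
    (Localization.AtPrime q)
  refine ⟨g, hg, ?_⟩
  haveI := hfree
  haveI h4 : Module.Flat (Localization.Away g) (Localization.Away g ⊗[R] cok F (a - 1) a) :=
    Module.Flat.of_linearEquiv
      (IsLocalizedModule.isBaseChange (Submonoid.powers g) (Localization.Away g)
        (LocalizedModule.mkLinearMap (Submonoid.powers g) (cok F (a - 1) a))).equiv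
  have h5 : Module.Flat (Localization.Away g)
      (cok (((extM (A := R) (B := Localization.Away g)).mapHomologicalComplex
      (ComplexShape.up ℤ)).obj F) (a - 1) a) :=
    Module.Flat.of_linearEquiv (cokExtMEquiv (B := Localization.Away g) F (a - 1) a)
  have eg := extResIso (Localization.Away g) F M e
  refine hasTorAmplitudeIn_of_iso eg
    (hasTorAmplitudeIn_of_flat_cok _ c a 0 (a - 1) (by omega)
      (vanishesAbove_mapHC extM F c hFc)
      (fun j => by
        haveI := hFproj j
        haveI : Module.Flat R (F.X j) := inferInstance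
        exact flat_extM (B := Localization.Away g) (F.X j))
      (fun i hi => ?_) (fun i hi => ?_) h5)
  · exact (isZero_of_isGE (Sg 0 (ModuleCat.of (Localization.Away g)
      (Localization.Away g ⊗[R] M))) 0 i (by omega)).of_iso ((H (Localization.Away g) i).mapIso eg)
  · exact (isZero_of_isLE (Sg 0 (ModuleCat.of (Localization.Away g)
      (Localization.Away g ⊗[R] M))) 0 i hi).of_iso ((H (Localization.Away g) i).mapIso eg)

/-- a pseudo-coherent module whose localizations at all primes have bounded tor amplitude has
finite tor dimension -/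
theorem exists_hasTorAmplitudeIn_of_forall_prime (M : Type u) [AddCommGroup M] [Module R M]
    (hM : DRing.IsPseudoCoherentModule' R M)
    (h : ∀ (q : Ideal R) [q.IsPrime], ∃ a : ℤ, a ≤ 0 ∧
      DRing.HasTorAmplitudeIn (Localization.AtPrime q) a 0
        (Dual.inD (Localization.AtPrime q) (Localization.AtPrime q ⊗[R] M))) :
    ∃ a : ℤ, DRing.HasTorAmplitudeIn R a 0 (Dual.inD R M) := by
  classical
  obtain ⟨F, c, hFc, hFff, ⟨e⟩⟩ := hM
  have key : ∀ q : PrimeSpectrum R, ∃ g : R, g ∉ q.asIdeal ∧ ∃ a : ℤ,
      DRing.HasTorAmplitudeIn (Localization.Away g) a 0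
        (Dual.inD (Localization.Away g) (Localization.Away g ⊗[R] M)) := by
    intro q
    obtain ⟨a, ha, hq⟩ := h q.asIdeal
    obtain ⟨g, hg, hga⟩ := exists_away_hasTorAmplitudeIn F c hFc hFff M e q.asIdeal a ha hq
    exact ⟨g, hg, a, hga⟩
  choose g hg hga using key
  have hspan : Ideal.span (Set.range g) = ⊤ := by
    by_contra hne
    obtain ⟨m, hm, hle⟩ := Ideal.exists_le_maximal _ hne
    exact hg ⟨m, hm.isPrime⟩ (hle (Ideal.subset_span ⟨_, rfl⟩))
  obtain ⟨s, hs, hs'⟩ := (Ideal.span_eq_top_iff_finite _).1 hspan
  have hx : ∀ x ∈ s, ∃ a : ℤ, DRing.HasTorAmplitudeIn (Localization.Away x) a 0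
      (Dual.inD (Localization.Away x) (Localization.Away x ⊗[R] M)) := by
    intro x hx
    obtain ⟨q, rfl⟩ := hs hx
    exact hga q
  choose a' ha' using hx
  obtain ⟨a₁, ha₁⟩ := Finset.exists_le (s.attach.image fun x : {x // x ∈ s} => - a' x.1 x.2)
  have ha₀ : ∀ x (hx : x ∈ s), -a₁ ≤ a' x hx := fun x hx => by
    have := ha₁ (- a' x hx) (Finset.mem_image.2 ⟨⟨x, hx⟩, Finset.mem_attach _ _, rfl⟩)
    omega
  let f : Fin s.card → R := fun i => (s.equivFin.symm i).1
  have hrange : Set.range f = ↑s := by
    ext x
    constructor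
    · rintro ⟨i, rfl⟩
      exact (s.equivFin.symm i).2
    · intro hx
      exact ⟨s.equivFin ⟨x, hx⟩, by simp [f]⟩
  have hf : Ideal.span (Set.range f) = ⊤ := by rw [hrange]; exact hs'
  refine ⟨-a₁, hasTorAmplitudeIn_of_iso e (hasTorAmplitudeIn_of_away f hf F (-a₁) 0 (fun i => ?_))⟩
  have hmem : f i ∈ s := (s.equivFin.symm i).2
  have h1 := ha' (f i) hmem
  have h2 : -a₁ ≤ a' (f i) hmem := ha₀ _ hmem
  exact hasTorAmplitudeIn_of_iso (extResIso (Localization.Away (f i)) F M e).symm
    (hasTorAmplitudeIn_mono h1 h2 le_rfl)

end spread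

end Groth.Agent.Lib.Helper9.PCM
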