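import Mathlib
import Groth.Agent.Lib.Helper18.DRFib2
import Groth.Agent.Lib.Helper18.DRReg3
import Groth.Agent.Lib.Helper18.KProjG
import Groth.Agent.Lib.Helper18.DRTorZ2
import Groth.Agent.Lib.Helper18.DRRel4
import Groth.Agent.Lib.Helper9.TorSpread
import Groth.Agent.Lib.Helper9.RegularLoc
import Groth.Agent.Lib.Helper9.PerfMor
import Groth.Agent.S7066

/-!
# Perfect morphisms and finite tor dimension of the stalk maps (helper9)
-/

set_option autoImplicit false
set_option linter.style.haveILetI false
universe u
open CategoryTheory CategoryTheory.Limits CategoryTheory.Pretriangulated DerivedCategory TensorProduct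
open Groth.Agent.Lib.Helper18.DR

attribute [local instance] HasDerivedCategory.standard

namespace Groth.Agent.Lib.Helper9.PCM

section dim

lemma ringKrullDim_le_of_isLocalization {R S : Type*} [CommRing R] [CommRing S] [Algebra R S]
    (M : Submonoid R) [IsLocalization M S] : ringKrullDim S ≤ ringKrullDim R :=
  Order.krullDim_le_of_strictMono (PrimeSpectrum.comap (algebraMap R S))
    (Monotone.strictMono_of_injective (fun _ _ h => Ideal.comap_mono h)
      (PrimeSpectrum.localization_comap_injective S M))

lemma exists_nat_eq_of_le {x : WithBot ℕ∞} {n : ℕ} (h0 : 0 ≤ x) (hn : x ≤ (n : WithBot ℕ∞)) :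
    ∃ d : ℕ, x = (d : WithBot ℕ∞) ∧ d ≤ n := by
  have h1 : x ≠ ⊥ := fun h => by rw [h] at h0; exact absurd h0 (by simp)
  lift x to ℕ∞ using h1
  have h2 : x ≠ ⊤ := fun h => by
    rw [h] at hn
    exact ENat.natCast_ne_top n (top_le_iff.1 (by exact_mod_cast hn))
  lift x to ℕ using h2
  exact ⟨x, rfl, by exact_mod_cast hn⟩

/-- global dimension of the fibres of a localization of a polynomial ring -/
theorem hgl_localization {A : Type u} [CommRing A] (n : ℕ)
    (S : Submonoid (MvPolynomial (Fin n) A)) (p : PrimeSpectrum A) (M : Type u) [AddCommGroup M]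
    [Module (p.asIdeal.ResidueField ⊗[A] Localization S) M] :
    HasProjectiveDimensionLT (ModuleCat.of (p.asIdeal.ResidueField ⊗[A] Localization S) M)
      (n + 1) := by
  letI : Algebra (p.asIdeal.ResidueField ⊗[A] (MvPolynomial (Fin n) A)) (p.asIdeal.ResidueField ⊗[A] (Localization S)) :=
    RingHom.toAlgebra (R := p.asIdeal.ResidueField ⊗[A] (MvPolynomial (Fin n) A)) (S := p.asIdeal.ResidueField ⊗[A] (Localization S))
      (Algebra.TensorProduct.map (AlgHom.id A p.asIdeal.ResidueField) (IsScalarTower.toAlgHom A (MvPolynomial (Fin n) A) (Localization S))).toRingHom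
  haveI : IsScalarTower p.asIdeal.ResidueField (p.asIdeal.ResidueField ⊗[A] (MvPolynomial (Fin n) A)) (p.asIdeal.ResidueField ⊗[A] (Localization S)) := by
    refine IsScalarTower.of_algebraMap_eq (R := p.asIdeal.ResidueField) (S := p.asIdeal.ResidueField ⊗[A] (MvPolynomial (Fin n) A)) (A := p.asIdeal.ResidueField ⊗[A] (Localization S))
      (fun x => ?_)
    change _ = (Algebra.TensorProduct.map (AlgHom.id A p.asIdeal.ResidueField) (IsScalarTower.toAlgHom A (MvPolynomial (Fin n) A) (Localization S)))
      (algebraMap p.asIdeal.ResidueField (p.asIdeal.ResidueField ⊗[A] (MvPolynomial (Fin n) A)) x)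
    simp
  haveI hloc := IsLocalization.tensorProduct_tensorProduct_right A p.asIdeal.ResidueField S (Localization S)
    (RingHom.ext (fun x => by
      change (Algebra.TensorProduct.map (AlgHom.id A p.asIdeal.ResidueField) (IsScalarTower.toAlgHom A (MvPolynomial (Fin n) A) (Localization S)))
        ((1 : p.asIdeal.ResidueField) ⊗ₜ[A] x) = (1 : p.asIdeal.ResidueField) ⊗ₜ[A] (algebraMap (MvPolynomial (Fin n) A) (Localization S) x)
      simp))
  have e : MvPolynomial (Fin n) p.asIdeal.ResidueField ≃+* p.asIdeal.ResidueField ⊗[A] (MvPolynomial (Fin n) A) :=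
    (MvPolynomial.algebraTensorAlgEquiv A p.asIdeal.ResidueField).symm.toRingEquiv
  haveI : IsRegularRing (p.asIdeal.ResidueField ⊗[A] (MvPolynomial (Fin n) A)) :=
    IsRegularRing.of_ringEquiv (R := MvPolynomial (Fin n) p.asIdeal.ResidueField) e
  let M' := S.map (Algebra.TensorProduct.includeRight (R := A) (A := p.asIdeal.ResidueField) (B := (MvPolynomial (Fin n) A)))
  haveI : IsRegularRing (Localization M') :=
    Groth.Agent.Lib.Helper9.isRegularRing_localization _ M'
  haveI : IsRegularRing (p.asIdeal.ResidueField ⊗[A] (Localization S)) :=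
    IsRegularRing.of_ringEquiv (R := Localization M')
      (IsLocalization.algEquiv M' (Localization M') (p.asIdeal.ResidueField ⊗[A] (Localization S))).toRingEquiv
  have hdim : ringKrullDim (p.asIdeal.ResidueField ⊗[A] (MvPolynomial (Fin n) A)) = n := by
    rw [← ringKrullDim_eq_of_ringEquiv e, MvPolynomial.ringKrullDim_of_isNoetherianRing,
      ringKrullDim_eq_zero_of_field, Nat.card_fin, zero_add]
  have hle : ringKrullDim (p.asIdeal.ResidueField ⊗[A] (Localization S)) ≤ n :=
    hdim ▸ ringKrullDim_le_of_isLocalization
      (S := p.asIdeal.ResidueField ⊗[A] (Localization S)) M'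
  by_cases hT : Subsingleton (p.asIdeal.ResidueField ⊗[A] (Localization S))
  · haveI : Subsingleton M := Module.subsingleton (p.asIdeal.ResidueField ⊗[A] (Localization S)) M
    have hz : IsZero (ModuleCat.of (p.asIdeal.ResidueField ⊗[A] (Localization S)) M) := ModuleCat.isZero_of_subsingleton _
    haveI := hz.hasProjectiveDimensionLT_zero
    exact hasProjectiveDimensionLT_of_ge _ 0 (n + 1) (Nat.zero_le _)
  · haveI : Nontrivial (p.asIdeal.ResidueField ⊗[A] (Localization S)) := not_subsingleton_iff_nontrivial.1 hT
    obtain ⟨d', hd', hd'n⟩ := exists_nat_eq_of_le ringKrullDim_nonneg_of_nontrivial hle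
    haveI := globalDim_le_of_regular (R := p.asIdeal.ResidueField ⊗[A] (Localization S))
      (fun q => inferInstance) d' hd' M
    exact hasProjectiveDimensionLT_of_ge _ (d' + 1) (n + 1) (by omega)

end dim

section ring

/-- finite tor dimension of the local maps gives bounded tor amplitude of the localizations
of `B` over the localizations of a polynomial ring surjecting onto `B` -/
theorem local_torAmp {A B : Type u} [CommRing A] [CommRing B] [Algebra A B] (n : ℕ)
    [Algebra (MvPolynomial (Fin n) A) B] [IsScalarTower A (MvPolynomial (Fin n) A) B]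
    (hsurj : Function.Surjective (algebraMap (MvPolynomial (Fin n) A) B))
    (hB : DRing.IsPseudoCoherentModule' (MvPolynomial (Fin n) A) B)
    (h : ∀ (q : Ideal B) [q.IsPrime],
      FTDRingHom (Localization.localRingHom (q.comap (algebraMap A B)) q (algebraMap A B) rfl))
    (q' : Ideal (MvPolynomial (Fin n) A)) [q'.IsPrime] :
    ∃ a : ℤ, a ≤ 0 ∧ DRing.HasTorAmplitudeIn (Localization.AtPrime q') a 0
      (Dual.inD (Localization.AtPrime q')
        (Localization.AtPrime q' ⊗[MvPolynomial (Fin n) A] B)) := by
  by_cases hker : RingHom.ker (algebraMap (MvPolynomial (Fin n) A) B) ≤ q'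
  · let q : Ideal B := q'.map (algebraMap (MvPolynomial (Fin n) A) B)
    haveI hq : q.IsPrime := Ideal.map_isPrime_of_surjective hsurj hker
    have hcomap : q.comap (algebraMap (MvPolynomial (Fin n) A) B) = q' := by
      rw [Ideal.comap_map_of_surjective _ hsurj, ← RingHom.ker_eq_comap_bot]
      exact sup_eq_left.2 hker
    obtain ⟨d, hd⟩ := h q
    letI algApBq : Algebra (Localization.AtPrime (q.comap (algebraMap A B)))
        (Localization.AtPrime q) :=
      (Localization.localRingHom (q.comap (algebraMap A B)) q (algebraMap A B) rfl).toAlgebra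
    haveI : IsScalarTower A (Localization.AtPrime (q.comap (algebraMap A B)))
        (Localization.AtPrime q) := IsScalarTower.of_algebraMap_eq (fun a => by
      rw [IsScalarTower.algebraMap_apply A B (Localization.AtPrime q)]
      exact (Localization.localRingHom_to_map _ _ _ _ a).symm)
    have hABq : DRing.HasTorDimLE A d (Localization.AtPrime q) := by
      haveI : Module.Flat A (Localization.AtPrime (q.comap (algebraMap A B))) :=
        IsLocalization.flat _ (q.comap (algebraMap A B)).primeCompl
      have := hasTorDimLE_trans (A := A) (B := Localization.AtPrime (q.comap (algebraMap A B)))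
        (C := Localization.AtPrime q) 0 d (hasTorDimLE_zero_of_flat _) hd
      rwa [zero_add] at this
    letI algP'Bq : Algebra (Localization.AtPrime q') (Localization.AtPrime q) :=
      (Localization.localRingHom q' q (algebraMap (MvPolynomial (Fin n) A) B)
        hcomap.symm).toAlgebra
    haveI : IsScalarTower (MvPolynomial (Fin n) A) (Localization.AtPrime q')
        (Localization.AtPrime q) := IsScalarTower.of_algebraMap_eq (fun x => by
      rw [IsScalarTower.algebraMap_apply (MvPolynomial (Fin n) A) B (Localization.AtPrime q)]
      exact (Localization.localRingHom_to_map _ _ _ _ x).symm)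
    haveI : IsScalarTower A (Localization.AtPrime q') (Localization.AtPrime q) :=
      IsScalarTower.of_algebraMap_eq (fun a => by
        rw [IsScalarTower.algebraMap_apply A (MvPolynomial (Fin n) A) (Localization.AtPrime q'),
          ← IsScalarTower.algebraMap_apply (MvPolynomial (Fin n) A) (Localization.AtPrime q')
            (Localization.AtPrime q),
          IsScalarTower.algebraMap_apply (MvPolynomial (Fin n) A) B (Localization.AtPrime q),
          ← IsScalarTower.algebraMap_apply A (MvPolynomial (Fin n) A) B,
          ← IsScalarTower.algebraMap_apply A B (Localization.AtPrime q)])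
    have hsub : Algebra.algebraMapSubmonoid B q'.primeCompl = q.primeCompl := by
      ext b
      constructor
      · rintro ⟨x, hx, rfl⟩
        intro hb
        exact hx (hcomap ▸ (Ideal.mem_comap.2 hb))
      · intro hb
        obtain ⟨x, rfl⟩ := hsurj b
        exact ⟨x, fun hx => hb (Ideal.mem_map_of_mem _ hx), rfl⟩
    haveI : IsLocalization (Algebra.algebraMapSubmonoid B q'.primeCompl)
        (Localization.AtPrime q) := by
      rw [hsub]; infer_instance
    haveI : Algebra.IsPushout (MvPolynomial (Fin n) A) (Localization.AtPrime q') B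
        (Localization.AtPrime q) :=
      (Algebra.isPushout_of_isLocalization q'.primeCompl (Localization.AtPrime q') B
        (Localization.AtPrime q)).symm
    let e₁ : Localization.AtPrime q' ⊗[MvPolynomial (Fin n) A] B ≃ₐ[Localization.AtPrime q']
        Localization.AtPrime q :=
      Algebra.IsPushout.equiv (MvPolynomial (Fin n) A) (Localization.AtPrime q') B
        (Localization.AtPrime q)
    let l : ↑(resM (algebraMap A (Localization.AtPrime q'))
        (ModuleCat.of (Localization.AtPrime q')
          (Localization.AtPrime q' ⊗[MvPolynomial (Fin n) A] B))) ≃ₗ[A]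
        Localization.AtPrime q :=
      { toFun := fun x => e₁ x
        invFun := fun y => e₁.symm y
        map_add' := fun x y => map_add e₁ x y
        map_smul' := fun a x => by
          change e₁ ((algebraMap A (Localization.AtPrime q') a) •
            (show Localization.AtPrime q' ⊗[MvPolynomial (Fin n) A] B from x)) = a • e₁ x
          rw [map_smul, algebraMap_smul]
        left_inv := fun x => e₁.symm_apply_apply x
        right_inv := fun y => e₁.apply_symm_apply y }
    have li : resM (algebraMap A (Localization.AtPrime q'))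
        (ModuleCat.of (Localization.AtPrime q')
          (Localization.AtPrime q' ⊗[MvPolynomial (Fin n) A] B)) ≅
        ModuleCat.of A (Localization.AtPrime q) := l.toModuleIso
    have hKa : DRing.HasTorAmplitudeIn A (-(d : ℤ)) 0
        ((DRing.restrictD (algebraMap A (Localization.AtPrime q'))).obj
          (Dual.inD (Localization.AtPrime q')
            (Localization.AtPrime q' ⊗[MvPolynomial (Fin n) A] B))) := by
      have h0 := (hasTorDimLE_iff_hasTorAmplitudeIn_single A (Localization.AtPrime q) d).1.1 hABq
      refine hasTorAmplitudeIn_of_iso ?_ h0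
      exact ((DerivedCategory.singleFunctor (ModuleCat.{u} A) 0).mapIso li).symm ≪≫
        (restrictDSgIso (algebraMap A (Localization.AtPrime q')) 0
          (ModuleCat.of (Localization.AtPrime q')
            (Localization.AtPrime q' ⊗[MvPolynomial (Fin n) A] B))).symm
    haveI : Module.Flat (MvPolynomial (Fin n) A) (Localization.AtPrime q') :=
      IsLocalization.flat _ q'.primeCompl
    have hpc : DRing.IsPseudoCoherent' (Localization.AtPrime q')
        (Dual.inD (Localization.AtPrime q')
          (Localization.AtPrime q' ⊗[MvPolynomial (Fin n) A] B)) :=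
      (isPseudoCoherentModule_baseChange_of_flat (A := MvPolynomial (Fin n) A)
        (B := Localization.AtPrime q') 0 B).2 hB
    haveI : Module.Flat A (Localization.AtPrime q') :=
      Module.Flat.trans A (MvPolynomial (Fin n) A) (Localization.AtPrime q')
    have hfin := isPerfect_of_flat_fibres_finite_globalDimension (A := A)
      (B := Localization.AtPrime q') n
      (fun pp M _ _ => hgl_localization n q'.primeCompl pp M) (-(d : ℤ)) 0 _ hpc hKa
    exact ⟨-(d : ℤ) - n, by omega, hfin.2⟩
  · obtain ⟨x, hxk, hxq⟩ := SetLike.not_le_iff_exists.1 hker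
    have hzero : ∀ t : Localization.AtPrime q' ⊗[MvPolynomial (Fin n) A] B, t = 0 := by
      intro t
      induction t using TensorProduct.induction_on with
      | zero => rfl
      | add a b ha hb => rw [ha, hb, add_zero]
      | tmul t b =>
        obtain ⟨u, hu⟩ := IsLocalization.map_units (Localization.AtPrime q')
          (⟨x, hxq⟩ : q'.primeCompl)
        have h1 : t = x • (t * ↑u⁻¹) := by
          rw [Algebra.smul_def]
          change t = algebraMap _ _ x * (t * ↑u⁻¹)
          rw [← hu]
          rw [mul_comm t, ← mul_assoc, Units.mul_inv, one_mul]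
        have h2 : x • b = 0 := by
          rw [Algebra.smul_def, (RingHom.mem_ker).1 hxk, zero_mul]
        rw [h1, TensorProduct.smul_tmul, h2, TensorProduct.tmul_zero]
    haveI : Subsingleton (Localization.AtPrime q' ⊗[MvPolynomial (Fin n) A] B) :=
      ⟨fun s t => by rw [hzero s, hzero t]⟩
    have hz : IsZero (Dual.inD (Localization.AtPrime q')
        (Localization.AtPrime q' ⊗[MvPolynomial (Fin n) A] B)) :=
      Functor.map_isZero _ (ModuleCat.isZero_of_subsingleton _)
    exact ⟨0, le_rfl, hasTorAmplitudeIn_of_isZero _ hz 0 0⟩

/-- a pseudo-coherent ring map all of whose local maps have finite tor dimension is perfect -/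
theorem perfRingHom_of_forall_localRingHom {A B : Type u} [CommRing A] [CommRing B] (φ : A →+* B)
    (hpc : PCRingHom φ)
    (h : ∀ (q : Ideal B) [q.IsPrime],
      FTDRingHom (Localization.localRingHom (q.comap φ) q φ rfl)) :
    PerfRingHom φ := by
  letI := φ.toAlgebra
  obtain ⟨n, α, hα, hB⟩ := hpc
  letI : Algebra (MvPolynomial (Fin n) A) B := α.toRingHom.toAlgebra
  haveI : IsScalarTower A (MvPolynomial (Fin n) A) B :=
    IsScalarTower.of_algebraMap_eq (fun a => (α.commutes a).symm)
  have hloc : ∀ (q' : Ideal (MvPolynomial (Fin n) A)) [q'.IsPrime], ∃ a : ℤ, a ≤ 0 ∧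
      DRing.HasTorAmplitudeIn (Localization.AtPrime q') a 0
        (Dual.inD (Localization.AtPrime q')
          (Localization.AtPrime q' ⊗[MvPolynomial (Fin n) A] B)) :=
    fun q' _ => local_torAmp n hα hB h q'
  obtain ⟨a, ha⟩ := exists_hasTorAmplitudeIn_of_forall_prime B hB hloc
  have hperf : DRing.IsPerfectModule (MvPolynomial (Fin n) A) B :=
    (isPerfect_iff_pc_and_finiteTorDim _).2 ⟨hB, a, 0, ha⟩
  exact (Groth.Agent.S7066.result A B).2 ⟨n, α, hα, hperf⟩

/-- finite tor dimension passes to the local maps -/
theorem ftd_localRingHom_of_ftd {A B : Type u} [CommRing A] [CommRing B] (φ : A →+* B)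
    (h : FTDRingHom φ) (q : Ideal B) [q.IsPrime] (I : Ideal A) [I.IsPrime]
    (hI : I = q.comap φ) : FTDRingHom (Localization.localRingHom I q φ hI) := by
  letI := φ.toAlgebra
  obtain ⟨d, hd⟩ := h
  letI : Algebra (Localization.AtPrime I) (Localization.AtPrime q) :=
    (Localization.localRingHom I q φ hI).toAlgebra
  haveI : IsScalarTower A (Localization.AtPrime I) (Localization.AtPrime q) :=
    IsScalarTower.of_algebraMap_eq (fun a => by
      rw [IsScalarTower.algebraMap_apply A B (Localization.AtPrime q)]
      exact (Localization.localRingHom_to_map _ _ _ _ a).symm)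
  haveI : Module.Flat B (Localization.AtPrime q) := IsLocalization.flat _ q.primeCompl
  haveI : Module.Flat A (Localization.AtPrime I) := IsLocalization.flat _ I.primeCompl
  have h1 : DRing.HasTorDimLE A (d + 0) (Localization.AtPrime q) :=
    hasTorDimLE_trans d 0 hd (hasTorDimLE_zero_of_flat _)
  have h2 : DRing.HasTorDimLE (Localization.AtPrime I) (d + 0)
      (Localization.AtPrime I ⊗[A] Localization.AtPrime q) := hasTorDimLE_tensorProduct (d + 0) h1
  haveI : IsLocalizedModule I.primeCompl
      (LinearMap.id : Localization.AtPrime q →ₗ[A] Localization.AtPrime q) :=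
    isLocalizedModule_id I.primeCompl (Localization.AtPrime q) (Localization.AtPrime I)
  exact ⟨d + 0, hasTorDimLE_of_linearEquiv
    (IsLocalizedModule.isBaseChange I.primeCompl (Localization.AtPrime I)
      (LinearMap.id : Localization.AtPrime q →ₗ[A] Localization.AtPrime q)).equiv (d + 0) h2⟩

lemma ftd_localRingHom_congr {A B : Type u} [CommRing A] [CommRing B] (φ : A →+* B)
    (I I' : Ideal A) [I.IsPrime] [I'.IsPrime] (q q' : Ideal B) [q.IsPrime] [q'.IsPrime]
    (hI : I = q.comap φ) (hI' : I' = q'.comap φ) (hq : q = q')
    (h : FTDRingHom (Localization.localRingHom I q φ hI)) :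
    FTDRingHom (Localization.localRingHom I' q' φ hI') := by
  subst hq
  subst hI
  subst hI'
  exact h

end ring

end Groth.Agent.Lib.Helper9.PCM
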