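import Mathlib

set_option autoImplicit false

namespace Groth.Agent.Lib.Helper9.PicTorsor

open CategoryTheory MonoidalCategory

universe v u v' u'

section act

variable {D : Type u'} [Category.{v'} D] [MonoidalCategory D]

/-- the action of an endomorphism of the unit on an object. -/
def act (φ : 𝟙_ D ⟶ 𝟙_ D) (Z : D) : Z ⟶ Z := (λ_ Z).inv ≫ (φ ▷ Z) ≫ (λ_ Z).hom

@[reassoc]
theorem act_naturality (φ : 𝟙_ D ⟶ 𝟙_ D) {Z W : D} (g : Z ⟶ W) :
    act φ Z ≫ g = g ≫ act φ W := by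
  unfold act
  simp only [Category.assoc]
  rw [← leftUnitor_naturality, ← whisker_exchange_assoc, leftUnitor_inv_naturality_assoc]

theorem act_comp (φ ψ : 𝟙_ D ⟶ 𝟙_ D) (Z : D) : act φ Z ≫ act ψ Z = act (φ ≫ ψ) Z := by
  unfold act
  simp

theorem act_id (Z : D) : act (𝟙 (𝟙_ D)) Z = 𝟙 Z := by
  unfold act
  simp

theorem act_whiskerRight (φ : 𝟙_ D ⟶ 𝟙_ D) (Z W : D) : act φ Z ▷ W = act φ (Z ⊗ W) := by
  unfold act
  monoidal

theorem act_injective (Z : D) [(tensorRight Z).Faithful] {φ ψ : 𝟙_ D ⟶ 𝟙_ D}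
    (h : act φ Z = act ψ Z) : φ = ψ := by
  unfold act at h
  have h1 : φ ▷ Z = ψ ▷ Z := by
    have h2 := (cancel_epi (λ_ Z).inv).mp h
    exact (cancel_mono (λ_ Z).hom).mp h2
  exact (tensorRight Z).map_injective h1

theorem act_surjective (Z : D) [(tensorRight Z).Full] (g : Z ⟶ Z) :
    ∃ φ : 𝟙_ D ⟶ 𝟙_ D, act φ Z = g := by
  obtain ⟨φ, hφ⟩ := (tensorRight Z).map_surjective ((λ_ Z).hom ≫ g ≫ (λ_ Z).inv)
  refine ⟨φ, ?_⟩
  unfold act
  have h1 : φ ▷ Z = (λ_ Z).hom ≫ g ≫ (λ_ Z).inv := hφ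
  rw [h1]
  simp

variable [BraidedCategory D]

theorem whiskerLeft_act (ψ : 𝟙_ D ⟶ 𝟙_ D) (Z W : D) : Z ◁ act ψ W = act ψ (Z ⊗ W) := by
  have h1 : Z ◁ act ψ W = (β_ Z W).hom ≫ (act ψ W ▷ Z) ≫ (β_ Z W).inv := by
    rw [← BraidedCategory.braiding_naturality_right_assoc, Iso.hom_inv_id, Category.comp_id]
  rw [h1, act_whiskerRight, ← act_naturality_assoc, Iso.hom_inv_id, Category.comp_id]

theorem act_tensorHom_act (φ ψ : 𝟙_ D ⟶ 𝟙_ D) (Z W : D) :
    act φ Z ⊗ₘ act ψ W = act (ψ ≫ φ) (Z ⊗ W) := by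
  rw [tensorHom_def', whiskerLeft_act, act_whiskerRight, act_comp]

end act

section main

variable {C : Type u} [Category.{v} C] [MonoidalCategory C] [IsGroupoid C]
  {D : Type u'} [Category.{v'} D] [MonoidalCategory D] [BraidedCategory D] [IsGroupoid D]
  (hD : ∀ X : D, (tensorLeft X).IsEquivalence ∧ (tensorRight X).IsEquivalence)
  (F G : C ⥤ D) [F.LaxMonoidal] [G.LaxMonoidal] (θ₀ : F ⟶ G) [NatTrans.IsMonoidal θ₀]

open Functor.LaxMonoidal

include hD in
theorem part1 (θ : F ⟶ G) (hθ : NatTrans.IsMonoidal θ) :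
    ∃! χ : Skeleton C →* End (𝟙_ D), ∀ X : C,
      θ.app X = θ₀.app X ≫ (λ_ (G.obj X)).inv ≫
        ((χ (toSkeleton X) : 𝟙_ D ⟶ 𝟙_ D) ▷ G.obj X) ≫ (λ_ (G.obj X)).hom := by
  haveI : ∀ Z : D, (tensorRight Z).IsEquivalence := fun Z => (hD Z).2
  -- the pointwise class
  have hex : ∀ X : C, ∃ φ : 𝟙_ D ⟶ 𝟙_ D, act φ (G.obj X) = inv (θ₀.app X) ≫ θ.app X :=
    fun X => act_surjective _ _
  choose φ hφ using hex
  have hθX : ∀ X, θ.app X = θ₀.app X ≫ act (φ X) (G.obj X) := by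
    intro X
    rw [hφ, IsIso.hom_inv_id_assoc]
  -- invariance under morphisms
  have hinv : ∀ {X Y : C} (f : X ⟶ Y), φ X = φ Y := by
    intro X Y f
    apply act_injective (G.obj Y)
    have h0 : inv (θ₀.app X) ≫ F.map f = G.map f ≫ inv (θ₀.app Y) := by
      rw [IsIso.inv_comp_eq, ← Category.assoc, ← θ₀.naturality, Category.assoc,
        IsIso.hom_inv_id, Category.comp_id]
    have h1 : G.map f ≫ act (φ X) (G.obj Y) = G.map f ≫ act (φ Y) (G.obj Y) := by
      rw [← act_naturality, hφ, hφ, Category.assoc, ← θ.naturality, ← Category.assoc, h0,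
        Category.assoc]
    exact (cancel_epi (G.map f)).mp h1
  -- multiplicativity
  have hmul : ∀ X Y : C, φ (X ⊗ Y) = φ Y ≫ φ X := by
    intro X Y
    apply act_injective (G.obj (X ⊗ Y))
    have h1 := hθ.tensor X Y
    have h2 := NatTrans.IsMonoidal.tensor (τ := θ₀) X Y
    rw [hθX (X ⊗ Y), hθX X, hθX Y, ← tensorHom_comp_tensorHom, ← Category.assoc, h2,
      Category.assoc, Category.assoc, act_tensorHom_act, act_naturality] at h1
    have h3 := (cancel_epi (θ₀.app X ⊗ₘ θ₀.app Y)).mp h1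
    exact (cancel_epi (μ G X Y)).mp h3
  have hone : φ (𝟙_ C) = 𝟙 (𝟙_ D) := by
    apply act_injective (G.obj (𝟙_ C))
    rw [act_id, hφ, IsIso.inv_comp_eq, Category.comp_id]
    have h1 := hθ.unit
    have h2 := NatTrans.IsMonoidal.unit (τ := θ₀)
    rw [← h2] at h1
    exact (cancel_epi (ε F)).mp h1
  -- the monoid hom
  let χ : Skeleton C →* End (𝟙_ D) :=
    { toFun := fun s => (φ ((fromSkeleton C).obj s) : 𝟙_ D ⟶ 𝟙_ D)
      map_one' := by
        have h1 : φ ((fromSkeleton C).obj (1 : Skeleton C)) = φ (𝟙_ C) :=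
          hinv (fromSkeletonToSkeletonIso (𝟙_ C)).hom
        rw [h1, hone]
        rfl
      map_mul' := by
        intro s t
        have h1 : φ ((fromSkeleton C).obj (s * t)) =
            φ ((fromSkeleton C).obj s ⊗ (fromSkeleton C).obj t) :=
          hinv (fromSkeletonToSkeletonIso _).hom
        rw [h1, hmul]
        rfl }
  have hχ : ∀ X : C, (χ (toSkeleton X) : 𝟙_ D ⟶ 𝟙_ D) = φ X := fun X =>
    hinv (fromSkeletonToSkeletonIso X).hom
  refine ⟨χ, ?_, ?_⟩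
  · intro X
    show θ.app X = θ₀.app X ≫ act (χ (toSkeleton X)) (G.obj X)
    rw [hχ, hθX]
  · intro χ' hχ'
    ext s
    have h1 : s = toSkeleton ((fromSkeleton C).obj s) := (toSkeleton_fromSkeleton_obj s).symm
    rw [h1]
    set X := (fromSkeleton C).obj s
    apply act_injective (G.obj X)
    have h2 : θ₀.app X ≫ act (χ' (toSkeleton X)) (G.obj X) =
        θ₀.app X ≫ act (χ (toSkeleton X)) (G.obj X) := by
      rw [hχ, ← hθX]
      exact (hχ' X).symm
    exact (cancel_epi (θ₀.app X)).mp h2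

theorem part2 (χ : Skeleton C →* End (𝟙_ D)) :
    ∃ θ : F ⟶ G, NatTrans.IsMonoidal θ ∧ ∀ X : C,
      θ.app X = θ₀.app X ≫ (λ_ (G.obj X)).inv ≫
        ((χ (toSkeleton X) : 𝟙_ D ⟶ 𝟙_ D) ▷ G.obj X) ≫ (λ_ (G.obj X)).hom := by
  let θ : F ⟶ G :=
    { app := fun X => θ₀.app X ≫ act (χ (toSkeleton X)) (G.obj X)
      naturality := by
        intro X Y f
        have h1 : toSkeleton X = toSkeleton Y := congr_toSkeleton_of_iso (asIso f)
        rw [Category.assoc, act_naturality, NatTrans.naturality_assoc, h1] }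
  have happ : ∀ X, θ.app X = θ₀.app X ≫ act (χ (toSkeleton X)) (G.obj X) := fun X => rfl
  refine ⟨θ, ⟨?_, ?_⟩, fun X => rfl⟩
  · rw [happ, ← Category.assoc, NatTrans.IsMonoidal.unit (τ := θ₀)]
    have h1 : (χ (toSkeleton (𝟙_ C)) : 𝟙_ D ⟶ 𝟙_ D) = 𝟙 (𝟙_ D) := by
      rw [← Skeleton.one_eq, map_one]
      rfl
    rw [h1, act_id, Category.comp_id]
  · intro X Y
    rw [happ, happ, happ, ← tensorHom_comp_tensorHom, ← Category.assoc,
      NatTrans.IsMonoidal.tensor (τ := θ₀) X Y, Category.assoc, Category.assoc,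
      act_tensorHom_act, act_naturality]
    congr 3
    rw [Skeleton.toSkeleton_tensorObj, map_mul]
    rfl

end main

end Groth.Agent.Lib.Helper9.PicTorsor
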