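import Mathlib
import Groth.Prelude.Def_W4c5quivmodgenus0Quiv

namespace Helper9.PtQuivLib

open PtQuiv Module

variable {K : Type*} [Field K] {κ : Type*} [Fintype κ] [DecidableEq κ]

theorem F1 (a b : κ) (hab : a ≠ b) (g : κ → ℚ) :
    ∑ i, g i = g a + g b + ∑ i : {i : κ // i ≠ a ∧ i ≠ b}, g i.1 := by
  have h0 : ∑ i, g i = ∑ i ∈ Finset.univ.filter (fun i => i ≠ a ∧ i ≠ b), g i
      + ∑ i ∈ Finset.univ.filter (fun i => ¬ (i ≠ a ∧ i ≠ b)), g i :=
    (Finset.sum_filter_add_sum_filter_not _ _ _).symm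
  have h1 : Finset.univ.filter (fun i => ¬ (i ≠ a ∧ i ≠ b)) = {a, b} := by
    ext i
    simp only [Finset.mem_filter, Finset.mem_univ, true_and, Finset.mem_insert,
      Finset.mem_singleton]
    constructor
    · intro h
      by_contra h'
      push_neg at h'
      exact h ⟨h'.1, h'.2⟩
    · rintro (h | h) h'
      · exact h'.1 h
      · exact h'.2 h
  have h2 : ∑ i ∈ Finset.univ.filter (fun i => i ≠ a ∧ i ≠ b), g i
      = ∑ i : {i : κ // i ≠ a ∧ i ≠ b}, g i.1 :=
    Finset.sum_subtype _ (by simp) _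
  rw [h0, h1, h2, Finset.sum_pair hab]
  ring

theorem L2 (a b : κ) (hab : a ≠ b) (θ : κ → ℚ) (I : Finset κ) :
    ∑ i ∈ I, θ i = (if a ∈ I then θ a else 0) + (if b ∈ I then θ b else 0)
      + ∑ i ∈ I.subtype (fun i => i ≠ a ∧ i ≠ b), θ i.1 := by
  have e1 : ∑ i ∈ I, θ i = ∑ i, (if i ∈ I then θ i else 0) := by
    rw [Finset.sum_ite_mem, Finset.univ_inter]
  have e2 : ∑ i ∈ I.subtype (fun i => i ≠ a ∧ i ≠ b), θ i.1
      = ∑ i : {i : κ // i ≠ a ∧ i ≠ b}, (if i.1 ∈ I then θ i.1 else 0) := by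
    rw [← Finset.sum_filter]
    congr 1
    ext i
    simp
  rw [e1, e2, F1 a b hab (fun i => if i ∈ I then θ i else 0)]

theorem L1 {x y : Fin 2 → K} (hli : LinearIndependent K ![x, y]) (L : Submodule K (Fin 2 → K))
    (hx : x ∈ L) (hy : y ∈ L) : 2 ≤ finrank K L := by
  have h1 : finrank K (Submodule.span K (Set.range ![x, y])) = 2 := by
    rw [finrank_span_eq_card hli]
    simp
  have h2 : Submodule.span K (Set.range ![x, y]) ≤ L := by
    rw [Submodule.span_le]
    rintro _ ⟨i, rfl⟩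
    fin_cases i
    · simpa using hx
    · simpa using hy
  calc 2 = finrank K (Submodule.span K (Set.range ![x, y])) := h1.symm
    _ ≤ finrank K L := Submodule.finrank_mono h2

theorem exists_coords {x y : Fin 2 → K} (hli : LinearIndependent K ![x, y]) (v : Fin 2 → K) :
    ∃ c : Fin 2 → K, v = c 0 • x + c 1 • y := by
  have hcard : Fintype.card (Fin 2) = finrank K (Fin 2 → K) := by simp
  let B := basisOfLinearIndependentOfCardEqFinrank hli hcard
  refine ⟨fun j => B.repr v j, ?_⟩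
  have := B.sum_repr v
  rw [Fin.sum_univ_two] at this
  simp only [B, coe_basisOfLinearIndependentOfCardEqFinrank, Matrix.cons_val_zero,
    Matrix.cons_val_one] at this
  exact this.symm

theorem ne_zero_of_li {x y : Fin 2 → K} (hli : LinearIndependent K ![x, y]) :
    x ≠ 0 ∧ y ≠ 0 := by
  refine ⟨?_, ?_⟩
  · have := hli.ne_zero 0
    simpa using this
  · have := hli.ne_zero 1
    simpa using this

theorem sub_cases (V : Submodule K K) :
    (V = ⊥ ∧ finrank K V = 0) ∨ (V = ⊤ ∧ finrank K V = 1) := by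
  rcases Ideal.eq_bot_or_top V with h | h
  · left
    refine ⟨h, ?_⟩
    rw [h]
    simp
  · right
    refine ⟨h, ?_⟩
    rw [h]
    simp

theorem pwt_eq (a b : κ) (θ : κ → ℚ) (c : ℚ) (U : Fin 2 → Submodule K K)
    (I : Finset {i : κ // i ≠ a ∧ i ≠ b}) :
    PWt K ![c * (θ a - 1), c * (θ b - 1)] (fun i : {i : κ // i ≠ a ∧ i ≠ b} => c * θ i.1) U I
      = c * ((θ a - 1) * (finrank K (U 0) : ℚ) + (θ b - 1) * (finrank K (U 1) : ℚ)
        + ∑ i ∈ I, θ i.1) := by
  unfold PWt
  rw [Fin.sum_univ_two, ← Finset.mul_sum]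
  show c * (θ a - 1) * _ + c * (θ b - 1) * _ + _ = _
  ring

theorem fwd_sub (a b : κ) (hab : a ≠ b) (s : κ → (Fin 2 → K)) (θ : κ → ℚ)
    (hli : LinearIndependent K ![s a, s b])
    (t : {i : κ // i ≠ a ∧ i ≠ b} → (Fin 2 → K))
    (ht : ∀ i, s i.1 = t i 0 • s a + t i 1 • s b)
    (U : Fin 2 → Submodule K K) (I : Finset {i : κ // i ≠ a ∧ i ≠ b}) (hUI : PSubrep t U I) :
    ∃ (L : Submodule K (Fin 2 → K)) (IQ : Finset κ), QSubrep s L IQ ∧
      finrank K L = finrank K (U 0) + finrank K (U 1) ∧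
      (∀ i : {i : κ // i ≠ a ∧ i ≠ b}, i ∈ I ↔ i.1 ∈ IQ) ∧
      QWt K (-1) θ L IQ = (θ a - 1) * (finrank K (U 0) : ℚ)
        + (θ b - 1) * (finrank K (U 1) : ℚ) + ∑ i ∈ I, θ i.1 := by
  obtain ⟨hsa, hsb⟩ := ne_zero_of_li hli
  obtain ⟨J, hJ⟩ : ∃ J : Finset κ, J = I.map (Function.Embedding.subtype _) := ⟨_, rfl⟩
  have hJsum : ∑ i ∈ J, θ i = ∑ i ∈ I, θ i.1 := by
    rw [hJ, Finset.sum_map]
    rfl
  have hJmem' : ∀ i : {i : κ // i ≠ a ∧ i ≠ b}, i ∈ I ↔ i.1 ∈ J := by
    intro i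
    rw [hJ]
    exact (Finset.mem_map' (Function.Embedding.subtype _)).symm
  have hJmem : ∀ i ∈ J, ∃ i' ∈ I, i'.1 = i := by
    intro i hi
    rw [hJ, Finset.mem_map] at hi
    obtain ⟨i', hi', h⟩ := hi
    exact ⟨i', hi', h⟩
  have haJ : a ∉ J := by
    intro h
    obtain ⟨i', _, h'⟩ := hJmem a h
    exact i'.2.1 h'
  have hbJ : b ∉ J := by
    intro h
    obtain ⟨i', _, h'⟩ := hJmem b h
    exact i'.2.2 h'
  have ht0 : U 0 = ⊥ → ∀ i' ∈ I, t i' 0 = 0 := by
    intro hU i' hi'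
    have := hUI i' hi' 0
    rw [hU] at this
    exact (Submodule.mem_bot K).1 this
  have ht1 : U 1 = ⊥ → ∀ i' ∈ I, t i' 1 = 0 := by
    intro hU i' hi'
    have := hUI i' hi' 1
    rw [hU] at this
    exact (Submodule.mem_bot K).1 this
  rcases sub_cases (U 0) with ⟨hU0, hd0⟩ | ⟨hU0, hd0⟩ <;>
    rcases sub_cases (U 1) with ⟨hU1, hd1⟩ | ⟨hU1, hd1⟩
  · -- ⊥ ⊥
    refine ⟨⊥, J, ?_, ?_, hJmem', ?_⟩
    · intro i hi
      obtain ⟨i', hi', rfl⟩ := hJmem i hi
      rw [ht i', ht0 hU0 i' hi', ht1 hU1 i' hi']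
      simp
    · rw [hd0, hd1]
      simp
    · unfold QWt
      rw [hd0, hd1, hJsum]
      simp
  · -- U0 = ⊥, U1 = ⊤
    refine ⟨Submodule.span K {s b}, insert b J, ?_, ?_, ?_, ?_⟩
    · intro i hi
      rw [Finset.mem_insert] at hi
      rcases hi with h | hi
      · rw [h]
        exact Submodule.mem_span_singleton_self _
      · obtain ⟨i', hi', rfl⟩ := hJmem i hi
        rw [ht i', ht0 hU0 i' hi', zero_smul, zero_add]
        exact Submodule.smul_mem _ _ (Submodule.mem_span_singleton_self _)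
    · rw [hd0, hd1, finrank_span_singleton hsb]
    · intro i
      rw [hJmem' i, Finset.mem_insert]
      constructor
      · intro h
        exact Or.inr h
      · rintro (h | h)
        · exact absurd h i.2.2
        · exact h
    · unfold QWt
      rw [hd0, hd1, finrank_span_singleton hsb, Finset.sum_insert hbJ, hJsum]
      push_cast
      ring
  · -- U0 = ⊤, U1 = ⊥
    refine ⟨Submodule.span K {s a}, insert a J, ?_, ?_, ?_, ?_⟩
    · intro i hi
      rw [Finset.mem_insert] at hi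
      rcases hi with h | hi
      · rw [h]
        exact Submodule.mem_span_singleton_self _
      · obtain ⟨i', hi', rfl⟩ := hJmem i hi
        rw [ht i', ht1 hU1 i' hi', zero_smul, add_zero]
        exact Submodule.smul_mem _ _ (Submodule.mem_span_singleton_self _)
    · rw [hd0, hd1, finrank_span_singleton hsa]
    · intro i
      rw [hJmem' i, Finset.mem_insert]
      constructor
      · intro h
        exact Or.inr h
      · rintro (h | h)
        · exact absurd h i.2.1
        · exact h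
    · unfold QWt
      rw [hd0, hd1, finrank_span_singleton hsa, Finset.sum_insert haJ, hJsum]
      push_cast
      ring
  · -- ⊤ ⊤
    refine ⟨⊤, insert a (insert b J), ?_, ?_, ?_, ?_⟩
    · intro i _
      exact Submodule.mem_top
    · rw [hd0, hd1]
      simp
    · intro i
      rw [hJmem' i, Finset.mem_insert, Finset.mem_insert]
      constructor
      · intro h
        exact Or.inr (Or.inr h)
      · rintro (h | h | h)
        · exact absurd h i.2.1
        · exact absurd h i.2.2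
        · exact h
    · unfold QWt
      have hab' : a ∉ insert b J := by
        rw [Finset.mem_insert]
        rintro (h | h)
        · exact hab h
        · exact haJ h
      rw [hd0, hd1, Finset.sum_insert hab', Finset.sum_insert hbJ, hJsum]
      have : finrank K (⊤ : Submodule K (Fin 2 → K)) = 2 := by simp
      rw [this]
      push_cast
      ring

theorem bwd_sub (a b : κ) (hab : a ≠ b) (s : κ → (Fin 2 → K)) (θ : κ → ℚ)
    (h0 : ∀ i, 0 ≤ θ i) (h2 : ∑ i, θ i = 2) (hθ : 1 < θ a + θ b)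
    (hli : LinearIndependent K ![s a, s b])
    (t : {i : κ // i ≠ a ∧ i ≠ b} → (Fin 2 → K))
    (ht : ∀ i, s i.1 = t i 0 • s a + t i 1 • s b)
    (L : Submodule K (Fin 2 → K)) (I : Finset κ) (hLI : QSubrep s L I) :
    finrank K L = 2 ∨ QWt K (-1) θ L I < 0 ∨
      ∃ U : Fin 2 → Submodule K K, PSubrep t U (I.subtype (fun i => i ≠ a ∧ i ≠ b)) ∧
        finrank K L = finrank K (U 0) + finrank K (U 1) ∧ finrank K L ≤ 1 ∧
        (a ∈ I → U 0 = ⊤) ∧ (b ∈ I → U 1 = ⊤) ∧
        QWt K (-1) θ L I = (θ a - 1) * (finrank K (U 0) : ℚ)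
          + (θ b - 1) * (finrank K (U 1) : ℚ)
          + ∑ i ∈ I.subtype (fun i => i ≠ a ∧ i ≠ b), θ i.1 := by
  obtain ⟨hsa, hsb⟩ := ne_zero_of_li hli
  have hle2 : finrank K L ≤ 2 := by
    have := Submodule.finrank_le L
    simpa using this
  by_cases hL2 : finrank K L = 2
  · exact Or.inl hL2
  right
  have hL1 : finrank K L ≤ 1 := by omega
  have hnot2 : ¬ 2 ≤ finrank K L := by omega
  have hsplit := L2 a b hab θ I
  have hsum : ∑ i : {i : κ // i ≠ a ∧ i ≠ b}, θ i.1 = 2 - θ a - θ b := by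
    have := F1 a b hab θ
    linarith
  have hI'le : ∑ i ∈ I.subtype (fun i => i ≠ a ∧ i ≠ b), θ i.1 ≤ 2 - θ a - θ b := by
    rw [← hsum]
    exact Finset.sum_le_univ_sum_of_nonneg (fun i => h0 i.1)
  have hne0 : ∀ x ∈ L, x ≠ 0 → finrank K L = 1 := by
    intro x hx hx0
    have hne : finrank K L ≠ 0 := by
      intro h0'
      rw [Submodule.finrank_eq_zero] at h0'
      rw [h0', Submodule.mem_bot] at hx
      exact hx0 hx
    omega
  have e1 : finrank K (⊤ : Submodule K K) = 1 := by simp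
  have e0 : finrank K (⊥ : Submodule K K) = 0 := by simp
  by_cases ha : a ∈ I <;> by_cases hb : b ∈ I
  · exact absurd (L1 hli L (hLI a ha) (hLI b hb)) hnot2
  · -- a ∈ I, b ∉ I
    right
    have hfr : finrank K L = 1 := hne0 _ (hLI a ha) hsa
    refine ⟨![⊤, ⊥], ?_, ?_, hL1, fun _ => rfl, fun h => absurd h hb, ?_⟩
    · intro i hi
      have hiI : i.1 ∈ I := Finset.mem_subtype.1 hi
      rw [Fin.forall_fin_two]
      refine ⟨?_, ?_⟩
      · show t i 0 ∈ (⊤ : Submodule K K)
        exact Submodule.mem_top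
      · show t i 1 ∈ (⊥ : Submodule K K)
        rw [Submodule.mem_bot]
        by_contra hne
        have hsb' : s b ∈ L := by
          have e : s b = (t i 1)⁻¹ • (s i.1 - t i 0 • s a) := by
            rw [ht i, add_sub_cancel_left, smul_smul, inv_mul_cancel₀ hne, one_smul]
          rw [e]
          exact L.smul_mem _ (L.sub_mem (hLI _ hiI) (L.smul_mem _ (hLI a ha)))
        exact hnot2 (L1 hli L (hLI a ha) hsb')
    · show finrank K L = finrank K (⊤ : Submodule K K) + finrank K (⊥ : Submodule K K)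
      rw [hfr, e1, e0]
    · show QWt K (-1) θ L I = (θ a - 1) * (finrank K (⊤ : Submodule K K) : ℚ)
          + (θ b - 1) * (finrank K (⊥ : Submodule K K) : ℚ) + _
      unfold QWt
      rw [hfr, hsplit, if_pos ha, if_neg hb, e1, e0]
      push_cast
      ring
  · -- a ∉ I, b ∈ I
    right
    have hfr : finrank K L = 1 := hne0 _ (hLI b hb) hsb
    refine ⟨![⊥, ⊤], ?_, ?_, hL1, fun h => absurd h ha, fun _ => rfl, ?_⟩
    · intro i hi
      have hiI : i.1 ∈ I := Finset.mem_subtype.1 hi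
      rw [Fin.forall_fin_two]
      refine ⟨?_, ?_⟩
      · show t i 0 ∈ (⊥ : Submodule K K)
        rw [Submodule.mem_bot]
        by_contra hne
        have hsa' : s a ∈ L := by
          have e : s a = (t i 0)⁻¹ • (s i.1 - t i 1 • s b) := by
            rw [ht i, add_sub_cancel_right, smul_smul, inv_mul_cancel₀ hne, one_smul]
          rw [e]
          exact L.smul_mem _ (L.sub_mem (hLI _ hiI) (L.smul_mem _ (hLI b hb)))
        exact hnot2 (L1 hli L hsa' (hLI b hb))
      · show t i 1 ∈ (⊤ : Submodule K K)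
        exact Submodule.mem_top
    · show finrank K L = finrank K (⊥ : Submodule K K) + finrank K (⊤ : Submodule K K)
      rw [hfr, e1, e0]
    · show QWt K (-1) θ L I = (θ a - 1) * (finrank K (⊥ : Submodule K K) : ℚ)
          + (θ b - 1) * (finrank K (⊤ : Submodule K K) : ℚ) + _
      unfold QWt
      rw [hfr, hsplit, if_neg ha, if_pos hb, e1, e0]
      push_cast
      ring
  · -- neither
    by_cases hL0 : finrank K L = 0
    · right
      have hLbot : L = ⊥ := Submodule.finrank_eq_zero.1 hL0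
      refine ⟨![⊥, ⊥], ?_, ?_, hL1, fun h => absurd h ha, fun h => absurd h hb, ?_⟩
      · intro i hi
        have hiI : i.1 ∈ I := Finset.mem_subtype.1 hi
        have hz : s i.1 = 0 := by
          have := hLI _ hiI
          rw [hLbot, Submodule.mem_bot] at this
          exact this
        have h00 := (LinearIndependent.pair_iff.1 hli) (t i 0) (t i 1)
          (by rw [← ht i]; exact hz)
        rw [Fin.forall_fin_two]
        refine ⟨?_, ?_⟩
        · show t i 0 ∈ (⊥ : Submodule K K)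
          rw [Submodule.mem_bot]
          exact h00.1
        · show t i 1 ∈ (⊥ : Submodule K K)
          rw [Submodule.mem_bot]
          exact h00.2
      · show finrank K L = finrank K (⊥ : Submodule K K) + finrank K (⊥ : Submodule K K)
        rw [hL0, e0]
      · show QWt K (-1) θ L I = (θ a - 1) * (finrank K (⊥ : Submodule K K) : ℚ)
          + (θ b - 1) * (finrank K (⊥ : Submodule K K) : ℚ) + _
        unfold QWt
        rw [hL0, hsplit, if_neg ha, if_neg hb, e0]
        push_cast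
        ring
    · left
      have hfr : finrank K L = 1 := by omega
      unfold QWt
      rw [hfr, hsplit, if_neg ha, if_neg hb]
      push_cast
      linarith

theorem li_of_semistable (a b : κ) (hab : a ≠ b) (s : κ → (Fin 2 → K)) (θ : κ → ℚ)
    (hθ : 1 < θ a + θ b) (hQ : QSemistable (-1) θ s) : LinearIndependent K ![s a, s b] := by
  by_contra hne
  have h1 : finrank K (Submodule.span K (Set.range ![s a, s b])) ≤ 1 := by
    have hle : finrank K (Submodule.span K (Set.range ![s a, s b])) ≤ 2 := by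
      have := finrank_range_le_card (R := K) ![s a, s b]
      simpa [Set.finrank] using this
    have hne2 : finrank K (Submodule.span K (Set.range ![s a, s b])) ≠ 2 := by
      intro h
      apply hne
      rw [linearIndependent_iff_card_eq_finrank_span]
      simp only [Set.finrank, Fintype.card_fin]
      exact h.symm
    omega
  have hsub : QSubrep s (Submodule.span K (Set.range ![s a, s b])) {a, b} := by
    intro i hi
    simp only [Finset.mem_insert, Finset.mem_singleton] at hi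
    rcases hi with h | h
    · rw [h]
      exact Submodule.subset_span ⟨0, rfl⟩
    · rw [h]
      exact Submodule.subset_span ⟨1, rfl⟩
  have := hQ.2 _ _ hsub
  unfold QWt at this
  rw [Finset.sum_pair hab] at this
  have h1' : (finrank K (Submodule.span K (Set.range ![s a, s b])) : ℚ) ≤ 1 := by
    exact_mod_cast h1
  linarith

theorem semistable_fwd (a b : κ) (hab : a ≠ b) (s : κ → (Fin 2 → K)) (θ : κ → ℚ)
    (h2 : ∑ i, θ i = 2) (hθ : 1 < θ a + θ b) (hθ' : θ a + θ b < 2)
    (hQ : QSemistable (-1) θ s) :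
    LinearIndependent K ![s a, s b] ∧
      ∀ t : {i : κ // i ≠ a ∧ i ≠ b} → (Fin 2 → K),
        (∀ i, s i.1 = t i 0 • s a + t i 1 • s b) →
          PSemistable ![(2 - θ a - θ b)⁻¹ * (θ a - 1), (2 - θ a - θ b)⁻¹ * (θ b - 1)]
            (fun i : {i : κ // i ≠ a ∧ i ≠ b} => (2 - θ a - θ b)⁻¹ * θ i.1) t := by
  have hli : LinearIndependent K ![s a, s b] := li_of_semistable a b hab s θ hθ hQ
  refine ⟨hli, ?_⟩
  intro t ht
  have hc : 0 < (2 - θ a - θ b)⁻¹ := inv_pos.mpr (by linarith)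
  refine ⟨?_, ?_⟩
  · rw [Fin.sum_univ_two, ← Finset.mul_sum]
    have hsum : ∑ i : {i : κ // i ≠ a ∧ i ≠ b}, θ i.1 = 2 - θ a - θ b := by
      have := F1 a b hab θ
      linarith
    rw [hsum]
    show (2 - θ a - θ b)⁻¹ * (θ a - 1) + (2 - θ a - θ b)⁻¹ * (θ b - 1)
      + (2 - θ a - θ b)⁻¹ * (2 - θ a - θ b) = 0
    ring
  · intro U I hUI
    rw [pwt_eq a b θ (2 - θ a - θ b)⁻¹ U I]
    obtain ⟨L, IQ, hsub, -, -, hw⟩ := fwd_sub a b hab s θ hli t ht U I hUI
    rw [← hw]
    have h := hQ.2 L IQ hsub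
    have := mul_nonneg hc.le (neg_nonneg.mpr h)
    rw [mul_neg] at this
    linarith

theorem semistable_bwd (a b : κ) (hab : a ≠ b) (s : κ → (Fin 2 → K)) (θ : κ → ℚ)
    (h0 : ∀ i, 0 ≤ θ i) (h2 : ∑ i, θ i = 2) (hθ : 1 < θ a + θ b) (hθ' : θ a + θ b < 2)
    (hli : LinearIndependent K ![s a, s b])
    (t : {i : κ // i ≠ a ∧ i ≠ b} → (Fin 2 → K))
    (ht : ∀ i, s i.1 = t i 0 • s a + t i 1 • s b)
    (hP : PSemistable ![(2 - θ a - θ b)⁻¹ * (θ a - 1), (2 - θ a - θ b)⁻¹ * (θ b - 1)]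
            (fun i : {i : κ // i ≠ a ∧ i ≠ b} => (2 - θ a - θ b)⁻¹ * θ i.1) t) :
    QSemistable (-1) θ s := by
  have hc : 0 < (2 - θ a - θ b)⁻¹ := inv_pos.mpr (by linarith)
  refine ⟨by rw [h2]; norm_num, ?_⟩
  intro L I hLI
  rcases bwd_sub a b hab s θ h0 h2 hθ hli t ht L I hLI with hA | hB | ⟨U, hU, -, -, -, -, hw⟩
  · unfold QWt
    rw [hA]
    have hItot : ∑ i ∈ I, θ i ≤ 2 := by
      rw [← h2]
      exact Finset.sum_le_univ_sum_of_nonneg (fun i => h0 i)
    push_cast
    linarith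
  · exact hB.le
  · rw [hw]
    have h := hP.2 U _ hU
    rw [pwt_eq a b θ (2 - θ a - θ b)⁻¹ U _] at h
    by_contra hcon
    push_neg at hcon
    have := mul_pos hc hcon
    linarith

theorem pos_of_pstable (a b : κ) (hab : a ≠ b) (θ : κ → ℚ) (h2 : ∑ i, θ i = 2)
    (h0 : ∀ i, 0 ≤ θ i)
    (t : {i : κ // i ≠ a ∧ i ≠ b} → (Fin 2 → K))
    (hP : PStable ![(2 - θ a - θ b)⁻¹ * (θ a - 1), (2 - θ a - θ b)⁻¹ * (θ b - 1)]
            (fun i : {i : κ // i ≠ a ∧ i ≠ b} => (2 - θ a - θ b)⁻¹ * θ i.1) t)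
    (i : {i : κ // i ≠ a ∧ i ≠ b}) : 0 < θ i.1 := by
  by_contra hcon
  have hz : θ i.1 = 0 := le_antisymm (not_lt.1 hcon) (h0 _)
  have hsum : ∑ i : {i : κ // i ≠ a ∧ i ≠ b}, θ i.1 = 2 - θ a - θ b := by
    have := F1 a b hab θ
    linarith
  have hU : PSubrep t (fun _ => ⊤) (Finset.univ.erase i) := by
    intro i' _ j
    exact Submodule.mem_top
  have hw : PWt K ![(2 - θ a - θ b)⁻¹ * (θ a - 1), (2 - θ a - θ b)⁻¹ * (θ b - 1)]
      (fun i : {i : κ // i ≠ a ∧ i ≠ b} => (2 - θ a - θ b)⁻¹ * θ i.1) (fun _ => ⊤)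
      (Finset.univ.erase i) = 0 := by
    rw [pwt_eq a b θ (2 - θ a - θ b)⁻¹ (fun _ => ⊤) (Finset.univ.erase i)]
    have e1 : finrank K (⊤ : Submodule K K) = 1 := by simp
    have hs : ∑ i' ∈ Finset.univ.erase i, θ i'.1 = 2 - θ a - θ b := by
      have := Finset.sum_erase_add Finset.univ
        (fun i' : {i : κ // i ≠ a ∧ i ≠ b} => θ i'.1) (Finset.mem_univ i)
      linarith
    show (2 - θ a - θ b)⁻¹ * ((θ a - 1) * (finrank K (⊤ : Submodule K K) : ℚ)
      + (θ b - 1) * (finrank K (⊤ : Submodule K K) : ℚ) + _) = 0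
    rw [e1, hs]
    push_cast
    ring
  rcases hP.2 _ _ hU hw with ⟨hbot, -⟩ | ⟨-, huniv⟩
  · have : (⊤ : Submodule K K) = ⊥ := congrFun hbot 0
    exact top_ne_bot this
  · have := Finset.mem_univ i
    rw [← huniv] at this
    exact Finset.notMem_erase _ _ this

theorem stable_fwd (a b : κ) (hab : a ≠ b) (s : κ → (Fin 2 → K)) (θ : κ → ℚ)
    (h2 : ∑ i, θ i = 2) (hθ : 1 < θ a + θ b) (hθ' : θ a + θ b < 2)
    (hQ : QStable (-1) θ s) :
    LinearIndependent K ![s a, s b] ∧
      ∀ t : {i : κ // i ≠ a ∧ i ≠ b} → (Fin 2 → K),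
        (∀ i, s i.1 = t i 0 • s a + t i 1 • s b) →
          PStable ![(2 - θ a - θ b)⁻¹ * (θ a - 1), (2 - θ a - θ b)⁻¹ * (θ b - 1)]
            (fun i : {i : κ // i ≠ a ∧ i ≠ b} => (2 - θ a - θ b)⁻¹ * θ i.1) t := by
  obtain ⟨hli, hPs⟩ := semistable_fwd a b hab s θ h2 hθ hθ' hQ.1
  refine ⟨hli, fun t ht => ⟨hPs t ht, ?_⟩⟩
  intro U I hUI hw
  have hc : (2 - θ a - θ b)⁻¹ ≠ 0 := inv_ne_zero (by linarith : (0:ℚ) < 2 - θ a - θ b).ne'
  rw [pwt_eq a b θ (2 - θ a - θ b)⁻¹ U I] at hw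
  have hw' := (mul_eq_zero.1 hw).resolve_left hc
  obtain ⟨L, IQ, hsub, hfr, hmem, hwq⟩ := fwd_sub a b hab s θ hli t ht U I hUI
  rw [← hwq] at hw'
  have hd0 : finrank K (U 0) ≤ 1 := by
    have := Submodule.finrank_le (U 0)
    simpa using this
  have hd1 : finrank K (U 1) ≤ 1 := by
    have := Submodule.finrank_le (U 1)
    simpa using this
  rcases hQ.2 L IQ hsub hw' with ⟨hL, hI⟩ | ⟨hL, hI⟩
  · left
    have hL0 : finrank K L = 0 := by
      rw [hL]
      simp
    have h00 : finrank K (U 0) = 0 := by omega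
    have h01 : finrank K (U 1) = 0 := by omega
    refine ⟨funext (Fin.forall_fin_two.2 ⟨?_, ?_⟩), ?_⟩
    · exact Submodule.finrank_eq_zero.1 h00
    · exact Submodule.finrank_eq_zero.1 h01
    · rw [Finset.eq_empty_iff_forall_notMem]
      intro i hi
      have := (hmem i).1 hi
      rw [hI] at this
      exact Finset.notMem_empty _ this
  · right
    have hL2 : finrank K L = 2 := by
      rw [hL]
      simp
    have h10 : finrank K (U 0) = 1 := by omega
    have h11 : finrank K (U 1) = 1 := by omega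
    refine ⟨funext (Fin.forall_fin_two.2 ⟨?_, ?_⟩), ?_⟩
    · exact Submodule.eq_top_of_finrank_eq (by rw [h10]; simp)
    · exact Submodule.eq_top_of_finrank_eq (by rw [h11]; simp)
    · rw [Finset.eq_univ_iff_forall]
      intro i
      rw [hmem i, hI]
      exact Finset.mem_univ _

theorem stable_bwd (a b : κ) (hab : a ≠ b) (s : κ → (Fin 2 → K)) (θ : κ → ℚ)
    (h0 : ∀ i, 0 ≤ θ i) (h1 : ∀ i, θ i ≤ 1) (h2 : ∑ i, θ i = 2)
    (hθ : 1 < θ a + θ b) (hθ' : θ a + θ b < 2)
    (hli : LinearIndependent K ![s a, s b])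
    (t : {i : κ // i ≠ a ∧ i ≠ b} → (Fin 2 → K))
    (ht : ∀ i, s i.1 = t i 0 • s a + t i 1 • s b)
    (hP : PStable ![(2 - θ a - θ b)⁻¹ * (θ a - 1), (2 - θ a - θ b)⁻¹ * (θ b - 1)]
            (fun i : {i : κ // i ≠ a ∧ i ≠ b} => (2 - θ a - θ b)⁻¹ * θ i.1) t) :
    QStable (-1) θ s := by
  refine ⟨semistable_bwd a b hab s θ h0 h2 hθ hθ' hli t ht hP.1, ?_⟩
  intro L I hLI hw
  have hpos : ∀ i, 0 < θ i := by
    intro i
    by_cases hia : i = a
    · rw [hia]
      linarith [h1 b]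
    · by_cases hib : i = b
      · rw [hib]
        linarith [h1 a]
      · exact pos_of_pstable a b hab θ h2 h0 t hP ⟨i, hia, hib⟩
  rcases bwd_sub a b hab s θ h0 h2 hθ hli t ht L I hLI with
    hA | hB | ⟨U, hU, hfr, hle1, haU, hbU, hwq⟩
  · right
    have hLtop : L = ⊤ := Submodule.eq_top_of_finrank_eq (by rw [hA]; simp)
    refine ⟨hLtop, ?_⟩
    unfold QWt at hw
    rw [hA] at hw
    have hI2 : ∑ i ∈ I, θ i = 2 := by
      push_cast at hw
      linarith
    rw [Finset.eq_univ_iff_forall]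
    intro i
    by_contra hi
    have hsub : I ⊆ Finset.univ.erase i := by
      intro j hj
      rw [Finset.mem_erase]
      refine ⟨?_, Finset.mem_univ _⟩
      intro hji
      rw [hji] at hj
      exact hi hj
    have hle := Finset.sum_le_sum_of_subset_of_nonneg hsub (fun j _ _ => h0 j)
    have := Finset.sum_erase_add Finset.univ θ (Finset.mem_univ i)
    linarith [hpos i]
  · exact absurd hw hB.ne
  · left
    rw [hwq] at hw
    have hw2 : PWt K ![(2 - θ a - θ b)⁻¹ * (θ a - 1), (2 - θ a - θ b)⁻¹ * (θ b - 1)]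
        (fun i : {i : κ // i ≠ a ∧ i ≠ b} => (2 - θ a - θ b)⁻¹ * θ i.1) U
        (I.subtype (fun i => i ≠ a ∧ i ≠ b)) = 0 := by
      rw [pwt_eq a b θ (2 - θ a - θ b)⁻¹ U _, hw, mul_zero]
    rcases hP.2 U _ hU hw2 with ⟨hUbot, hI'⟩ | ⟨hUtop, -⟩
    · have hU0 : U 0 = ⊥ := congrFun hUbot 0
      have hU1 : U 1 = ⊥ := congrFun hUbot 1
      have hL0 : finrank K L = 0 := by
        rw [hfr, hU0, hU1]
        simp
      refine ⟨Submodule.finrank_eq_zero.1 hL0, ?_⟩
      have haI : a ∉ I := fun h => by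
        have := haU h
        rw [hU0] at this
        exact bot_ne_top this
      have hbI : b ∉ I := fun h => by
        have := hbU h
        rw [hU1] at this
        exact bot_ne_top this
      rw [Finset.eq_empty_iff_forall_notMem]
      intro i hi
      have hia : i ≠ a := fun h => haI (h ▸ hi)
      have hib : i ≠ b := fun h => hbI (h ▸ hi)
      have : (⟨i, hia, hib⟩ : {i : κ // i ≠ a ∧ i ≠ b}) ∈
          I.subtype (fun i => i ≠ a ∧ i ≠ b) := Finset.mem_subtype.2 hi
      rw [hI'] at this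
      exact Finset.notMem_empty _ this
    · exfalso
      have hU0 : U 0 = ⊤ := congrFun hUtop 0
      have hU1 : U 1 = ⊤ := congrFun hUtop 1
      have : finrank K L = 2 := by
        rw [hfr, hU0, hU1]
        simp
      omega

end Helper9.PtQuivLib
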