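import Mathlib
import Groth.Agent.Lib.Helper2.Aff.PerfAff
import Groth.Agent.Lib.Helper13.PerfTor
import Groth.Agent.Lib.Helper13.PCohSingle
import Groth.Agent.Lib.Helper13.PerfTri
import Groth.Agent.Lib.Helper3.QCTilde
import Groth.Agent.Lib.Helper3.QCPush
import Groth.Agent.Lib.Helper14.TildeExact
import Groth.Agent.Lib.Helper9.PerfLci

/-!
# The direct image of the structure sheaf along a perfect closed immersion is perfect (helper9)
-/

set_option autoImplicit false
set_option linter.style.haveILetI false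
universe u
open CategoryTheory CategoryTheory.Limits AlgebraicGeometry Opposite TopologicalSpace DerivedCategory
open Groth.Agent.Lib.Helper18.DR

attribute [local instance] HasDerivedCategory.standard

namespace Groth.Agent.Lib.Helper9.PCM

/-- a perfect surjective ring map makes the target a perfect module -/
theorem isPerfectModule_of_isPerfectHom_of_surjective {A B : Type u} [CommRing A] [CommRing B]
    [Algebra A B] (h : MoreMor.IsPerfectHom A B) (hs : Function.Surjective (algebraMap A B)) :
    DRing.IsPerfectModule A B := by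
  obtain ⟨hpc, d, hd⟩ := h
  have h1 : PCHom (algebraMap A B) := (pcAlg_iff_isPseudoCoherentHom.2 hpc).pcHom_of_surjective hs
  have h2 : DRing.IsPseudoCoherent' A (Dual.inD A B) := by
    rw [← isPseudoCoherent'_iff_forall]
    intro m
    exact isPseudoCoherent_of_iso ((singleFunctor (ModuleCat.{u} A) 0).mapIso
      (resBEquiv (A := A) (B := B)).toModuleIso) (h1 m)
  exact (isPerfect_iff_pc_and_finiteTorDim _).2
    ⟨h2, -(d : ℤ), 0, (hasTorDimLE_iff_hasTorAmplitudeIn_single A B d).1.1 hd⟩

/-- a quasi-coherent module on an affine scheme whose module of global sections is perfect is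
perfect -/
theorem isPerfect_inD_spec (R : CommRingCat.{u}) (N : (Spec R).Modules) [N.IsQuasicoherent]
    (h : DRing.IsPerfect R ((singleFunctor (ModuleCat.{u} R) 0).obj
      ((modulesSpecToSheaf.obj N).presheaf.obj (op ⊤)))) :
    DCoh.IsPerfect (DCoh.inD (Spec R) N) := by
  haveI := Groth.Agent.Lib.Helper14.preservesFiniteLimits_tilde (CommRingCat.of R)
  haveI := Groth.Agent.Lib.Helper14.preservesFiniteLimits_tilde R
  have h1 := Groth.Agent.Lib.Helper2.Aff.PerfAff.isPerfect_tildeD_of_isPerfect R _ h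
  have e1 := ((tilde.functor R).mapDerivedCategorySingleFunctor 0).app
    ((modulesSpecToSheaf.obj N).presheaf.obj (op ⊤))
  haveI : IsIso N.fromTildeΓ := Scheme.Modules.isIso_fromTildeΓ_of_isQuasicoherent N
  have e2 := (singleFunctor (Spec R).Modules 0).mapIso (asIso N.fromTildeΓ)
  exact Groth.Agent.Lib.Helper13.PerfTri.isPerfect_of_iso (e1 ≪≫ e2) h1

/-- the direct image of the structure sheaf along a perfect closed immersion is perfect -/
theorem isPerfect_inD_push_of_isPerfectMor {Z X : Scheme.{u}} (i : Z ⟶ X) [IsClosedImmersion i]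
    (hi : MoreMor.IsPerfectMor i) :
    DCoh.IsPerfect (DCoh.inD X ((Scheme.Modules.pushforward i).obj (Coh.structureModule Z))) := by
  apply Groth.Agent.Lib.Helper13.PerfTor.isPerfect_of_locally
  intro x
  obtain ⟨U, hU, hxU⟩ := Groth.Agent.Lib.Helper3.QCProps.exists_affine_nbhd x
  haveI hGq : ((Scheme.Modules.pushforward i).obj (Coh.structureModule Z)).IsQuasicoherent :=
    Groth.Agent.Lib.Helper3.QCSec.isQuasicoherent_pushforward i _
  refine ⟨Spec Γ(X, U), hU.fromSpec, inferInstance, hU.primeIdealOf ⟨x, hxU⟩,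
    hU.fromSpec_primeIdealOf ⟨x, hxU⟩, ?_⟩
  refine Groth.Agent.Lib.Helper13.PerfTri.isPerfect_of_iso
    (Groth.Agent.Lib.Helper13.PCohSingle.restrictInDIso hU.fromSpec _).symm ?_
  apply isPerfect_inD_spec
  have hW : IsAffineOpen (i ⁻¹ᵁ U) := hU.preimage i
  letI alg : Algebra Γ(X, U) Γ(Z, i ⁻¹ᵁ U) := (i.appLE U (i ⁻¹ᵁ U) le_rfl).hom.toAlgebra
  have hperf : MoreMor.IsPerfectHom Γ(X, U) Γ(Z, i ⁻¹ᵁ U) := hi (i ⁻¹ᵁ U) U hW hU le_rfl
  have hsurj : Function.Surjective (algebraMap Γ(X, U) Γ(Z, i ⁻¹ᵁ U)) := by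
    have := i.app_surjective U hU
    rw [Scheme.Hom.app_eq_appLE] at this
    exact this
  have hB := isPerfectModule_of_isPerfectHom_of_surjective hperf hsurj
  let e₂ : Γ((Scheme.Modules.pushforward i).obj (Coh.structureModule Z), U) ≃ₗ[Γ(X, U)]
      Γ(Z, i ⁻¹ᵁ U) :=
    { toFun := fun s => s
      invFun := fun s => s
      map_add' := fun _ _ => rfl
      map_smul' := fun r s => by
        change (i.app U).hom r * _ = (i.appLE U (i ⁻¹ᵁ U) le_rfl).hom r * _
        rw [Scheme.Hom.app_eq_appLE]
      left_inv := fun _ => rfl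
      right_inv := fun _ => rfl }
  let e := (Groth.Agent.Lib.Helper3.QCTilde.chartSectionsEquiv hU _).trans e₂
  exact isPerfect_of_iso ((singleFunctor _ 0).mapIso e.symm.toModuleIso) hB

end Groth.Agent.Lib.Helper9.PCM
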