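import Mathlib
import Groth.Agent.S18708
import Groth.Agent.Lib.Helper4.CM
import Groth.Agent.Lib.Helper4.FiniteExt
import Groth.Agent.Lib.Helper28.DepthLoc
import Groth.Agent.Lib.Helper9.KollarBC3

/-!
# The abstract local step of Kollár's infinitesimal criterion (helper9)

Over an Artinian local base `A` and a Noetherian local flat `A`-algebra `T`, with a four-term exact
sequence `0 → K → E⁰ → E¹ → G → 0`: if `K` is `A`-flat and its closed fibre is `S₂`, then `G` is
`A`-flat.
-/

set_option autoImplicit false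
set_option maxHeartbeats 800000
set_option linter.unusedSectionVars false
set_option linter.unusedVariables false
set_option linter.style.haveILetI false
universe u

open IsLocalRing

namespace Groth.Agent.Lib.Helper9.QGorALT

/-! ### a socle element -/

theorem exists_socle (A : Type u) [CommRing A] [IsLocalRing A]
    (hnil : IsNilpotent (maximalIdeal A)) :
    ∃ s : A, s ≠ 0 ∧ (∀ a ∈ maximalIdeal A, a * s = 0) ∧
      ∀ a : A, a * s = 0 → a ∈ maximalIdeal A := by
  classical
  have hex : ∃ N : ℕ, (maximalIdeal A) ^ N = ⊥ := hnil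
  obtain ⟨N, hN, hmin⟩ : ∃ N : ℕ, (maximalIdeal A) ^ N = ⊥ ∧
      ∀ k < N, (maximalIdeal A) ^ k ≠ ⊥ :=
    ⟨Nat.find hex, Nat.find_spec hex, fun k hk => Nat.find_min hex hk⟩
  have hN0 : N ≠ 0 := by
    rintro rfl
    rw [pow_zero, Ideal.one_eq_top] at hN
    exact top_ne_bot hN
  obtain ⟨N', rfl⟩ := Nat.exists_eq_succ_of_ne_zero hN0
  have hne := hmin N' (Nat.lt_succ_self N')
  obtain ⟨s, hs, hs0⟩ := Submodule.exists_mem_ne_zero_of_ne_bot hne
  refine ⟨s, hs0, fun a ha => ?_, fun a ha => ?_⟩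
  · have : a * s ∈ (maximalIdeal A) ^ (N' + 1) := by
      rw [pow_succ']
      exact Ideal.mul_mem_mul ha hs
    rw [hN] at this
    exact this
  · by_contra hna
    have hu : IsUnit a := IsLocalRing.notMem_maximalIdeal.mp hna
    exact hs0 ((hu.mul_right_eq_zero).mp ha)

/-! ### flat modules and the socle -/

theorem mem_smul_top_of_smul_eq_zero {A : Type u} [CommRing A] [IsLocalRing A]
    {K : Type u} [AddCommGroup K] [Module A K] [Module.Flat A K] (s : A)
    (hs : ∀ a : A, a * s = 0 → a ∈ maximalIdeal A) (x : K) (hx : s • x = 0) :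
    x ∈ (maximalIdeal A) • (⊤ : Submodule A K) := by
  have hrel : ∑ i : Fin 1, (fun _ : Fin 1 => s) i • (fun _ : Fin 1 => x) i = 0 := by
    simpa using hx
  obtain ⟨k, a, y, hxy, ha⟩ := Module.Flat.isTrivialRelation_of_sum_smul_eq_zero hrel
  have h0 := hxy 0
  simp only at h0
  rw [h0]
  refine Submodule.sum_mem _ fun j _ => ?_
  refine Submodule.smul_mem_smul (hs _ ?_) Submodule.mem_top
  have := ha j
  simp only [Fin.sum_univ_one] at this
  rw [mul_comm]
  exact this

/-! ### the dimension lemma -/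

theorem depth_le_supportDim_of_injective {R : Type u} [CommRing R] [IsNoetherianRing R]
    [IsLocalRing R] {N E : Type u} [AddCommGroup N] [Module R N] [Module.Finite R N]
    [AddCommGroup E] [Module R E] [Module.Finite R E] (φ : N →ₗ[R] E)
    (hφ : Function.Injective φ) [Nontrivial N] :
    ((LocCoh.depth R E : ℕ∞) : WithBot ℕ∞) ≤ Module.supportDim R N := by
  obtain ⟨P, hP⟩ := associatedPrimes.nonempty R N
  have hPE : P ∈ associatedPrimes R E := associatedPrimes.subset_of_injective hφ hP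
  exact (Groth.Agent.Lib.Helper4.depth_le_ringKrullDim_quotient hPE).trans
    (Groth.Agent.Lib.Helper4.ringKrullDim_quotient_le_supportDim (p := ⟨P, hP.isPrime⟩)
      (Groth.Agent.Lib.Helper4.mem_support_of_mem_associatedPrimes hP))

/-! ### `S₂` plus an embedding into a module of depth `≥ 2` -/

theorem two_le_idealDepth_of_hasSk_of_injective {S : Type u} [CommRing S] [IsNoetherianRing S]
    (I : Ideal S) {N E : Type u} [AddCommGroup N] [Module S N] [Module.Finite S N]
    [AddCommGroup E] [Module S E] [Module.Finite S E] (φ : N →ₗ[S] E)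
    (hφ : Function.Injective φ) (hE : 2 ≤ LocCoh.idealDepth I E) (hSk : LocCoh.HasSk 2 S N) :
    2 ≤ LocCoh.idealDepth I N := by
  have := Groth.Agent.Lib.Helper28.le_idealDepth_of_forall_localization (M := N) I 2 ?_
  · exact_mod_cast this
  intro 𝔓 _ hI𝔓 hnt
  have hinj : Function.Injective (LocalizedModule.map 𝔓.primeCompl φ) :=
    LocalizedModule.map_injective 𝔓.primeCompl φ hφ
  haveI : Nontrivial (LocalizedModule 𝔓.primeCompl E) := hinj.nontrivial
  have h1 : (2 : ℕ∞) ≤ LocCoh.depth (Localization.AtPrime 𝔓) (LocalizedModule 𝔓.primeCompl E) :=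
    le_trans hE (Groth.Agent.Lib.Helper28.idealDepth_le_depth_localization I 𝔓 hI𝔓)
  have h2 := depth_le_supportDim_of_injective (LocalizedModule.map 𝔓.primeCompl φ) hinj
  have h3 : ((2 : ℕ∞) : WithBot ℕ∞) ≤
      Module.supportDim (Localization.AtPrime 𝔓) (LocalizedModule 𝔓.primeCompl N) :=
    le_trans (WithBot.coe_le_coe.mpr h1) h2
  have h4 := hSk 𝔓
  have h5 : ((2 : ℕ) : WithBot ℕ∞) ≤
      Module.supportDim (Localization.AtPrime 𝔓) (LocalizedModule 𝔓.primeCompl N) := h3
  rw [min_eq_left h5] at h4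
  have h6 : (((2 : ℕ) : ℕ∞) : WithBot ℕ∞) ≤
      ((LocCoh.depth (Localization.AtPrime 𝔓) (LocalizedModule 𝔓.primeCompl N) : ℕ∞) :
        WithBot ℕ∞) := h4
  exact_mod_cast WithBot.coe_le_coe.mp h6


/-! ### the abstract local step -/

section altA

variable (A T : Type u) [CommRing A] [CommRing T]
  [IsNoetherianRing A] [IsNoetherianRing T] [IsLocalRing A] [IsLocalRing T] [Algebra A T]
  [IsLocalHom (algebraMap A T)] (𝔍 : Ideal T)
  (K E0 E1 G : Type u) [AddCommGroup K] [Module T K] [Module A K] [IsScalarTower A T K]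
  [Module.Finite T K]
  [AddCommGroup E0] [Module T E0] [Module A E0] [IsScalarTower A T E0] [Module.Finite T E0]
  [Module.Flat A E0]
  [AddCommGroup E1] [Module T E1] [Module A E1] [IsScalarTower A T E1] [Module.Finite T E1]
  [Module.Flat A E1]
  [AddCommGroup G] [Module T G] [Module A G] [IsScalarTower A T G] [Module.Finite T G]
  (f : K →ₗ[T] E0) (u : E0 →ₗ[T] E1) (v : E1 →ₗ[T] G)
  (hf : Function.Injective f) (hfu : Function.Exact f u) (huv : Function.Exact u v)
  (hv : Function.Surjective v)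
  (hGU : ∀ q : PrimeSpectrum T, ¬ 𝔍 ≤ q.asIdeal → FlatCA.FlatAt A q.asIdeal G)

include hf hfu huv hv hGU in
/-- If `K` is `A`-flat with `S₂` closed fibre (and `A` is Artinian local), then `G` is `A`-flat. -/
theorem altA (𝔞 : Ideal A) (h𝔞 : 𝔞 = maximalIdeal A) (hnil : IsNilpotent (maximalIdeal A))
    [Module.Flat A K]
    (h0 : 2 ≤ LocCoh.idealDepth 𝔍 (E0 ⧸ (𝔞.map (algebraMap A T)) • (⊤ : Submodule T E0)))
    (h1 : 1 ≤ LocCoh.idealDepth 𝔍 (E1 ⧸ (𝔞.map (algebraMap A T)) • (⊤ : Submodule T E1)))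
    (hSk : LocCoh.HasSk 2 (T ⧸ 𝔞.map (algebraMap A T))
      (K ⧸ (𝔞.map (algebraMap A T)) • (⊤ : Submodule T K))) :
    Module.Flat A G := by
  subst h𝔞
  obtain ⟨r1, -, -⟩ := Groth.Agent.S18708.result A T 𝔍 K E0 E1 G f u v hf hfu huv hv hGU h0 h1
  apply r1.mp
  obtain ⟨I, hI⟩ : ∃ I : Ideal T, I = (maximalIdeal A).map (algebraMap A T) := ⟨_, rfl⟩
  show 2 ≤ LocCoh.idealDepth 𝔍
    (K ⧸ ((maximalIdeal A).map (algebraMap A T)) • (⊤ : Submodule T K))
  rw [← hI] at h0 hSk ⊢
  have hle : I • (⊤ : Submodule T K) ≤ (I • (⊤ : Submodule T E0)).comap f := by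
    rw [← Submodule.map_le_iff_le_comap, Submodule.map_smul'']
    exact Submodule.smul_mono le_rfl le_top
  let fbarT : (K ⧸ I • (⊤ : Submodule T K)) →ₗ[T] (E0 ⧸ I • (⊤ : Submodule T E0)) :=
    Submodule.mapQ _ _ f hle
  let fbar : (K ⧸ I • (⊤ : Submodule T K)) →ₗ[T ⧸ I] (E0 ⧸ I • (⊤ : Submodule T E0)) :=
    fbarT.extendScalarsOfSurjective Ideal.Quotient.mk_surjective
  have hfbar : Function.Injective fbar := by
    obtain ⟨s, hs0, hs1, hs2⟩ := exists_socle A hnil
    have hIle : I ≤ LinearMap.ker (LinearMap.mul T T (algebraMap A T s)) := by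
      rw [hI, Ideal.map_le_iff_le_comap]
      intro a ha
      rw [Ideal.mem_comap, LinearMap.mem_ker, LinearMap.mul_apply', ← map_mul, mul_comm,
        hs1 a ha, map_zero]
    have hkill : ∀ y ∈ I • (⊤ : Submodule T E0), s • y = 0 := by
      intro y hy
      refine Submodule.smul_induction_on hy ?_ ?_
      · intro t ht z _
        have h1 : algebraMap A T s * t = 0 := by
          have := hIle ht
          rwa [LinearMap.mem_ker, LinearMap.mul_apply'] at this
        rw [← algebraMap_smul T s (t • z), ← mul_smul, h1, zero_smul]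
      · intro y z hy hz
        rw [smul_add, hy, hz, add_zero]
    have hconv : ∀ x ∈ (maximalIdeal A) • (⊤ : Submodule A K), x ∈ I • (⊤ : Submodule T K) := by
      intro x hx
      refine Submodule.smul_induction_on hx ?_ ?_
      · intro a ha z _
        rw [← algebraMap_smul T a z]
        refine Submodule.smul_mem_smul ?_ Submodule.mem_top
        rw [hI]
        exact Ideal.mem_map_of_mem _ ha
      · intro y z hy hz
        exact add_mem hy hz
    have hinjT : Function.Injective fbarT := by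
      rw [injective_iff_map_eq_zero]
      intro xbar hx
      obtain ⟨x, rfl⟩ := Submodule.mkQ_surjective _ xbar
      have hx' : f x ∈ I • (⊤ : Submodule T E0) := by
        have : fbarT (Submodule.Quotient.mk x) = 0 := hx
        rwa [Submodule.mapQ_apply, Submodule.Quotient.mk_eq_zero] at this
      have h2 : f (s • x) = 0 := by
        rw [LinearMap.map_smul_of_tower]
        exact hkill _ hx'
      have h3 : s • x = 0 := hf (by rw [h2, map_zero])
      have h4 := mem_smul_top_of_smul_eq_zero s hs2 x h3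
      rw [Submodule.mkQ_apply, Submodule.Quotient.mk_eq_zero]
      exact hconv x h4
    exact hinjT
  haveI : Module.Finite (T ⧸ I) (K ⧸ I • (⊤ : Submodule T K)) :=
    Module.Finite.of_restrictScalars_finite T _ _
  haveI : Module.Finite (T ⧸ I) (E0 ⧸ I • (⊤ : Submodule T E0)) :=
    Module.Finite.of_restrictScalars_finite T _ _
  rw [Groth.Agent.Lib.Helper4.idealDepth_map_eq (A := T) (B := T ⧸ I) 𝔍
    (K ⧸ I • (⊤ : Submodule T K))]
  refine two_le_idealDepth_of_hasSk_of_injective _ fbar hfbar ?_ hSk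
  rw [← Groth.Agent.Lib.Helper4.idealDepth_map_eq (A := T) (B := T ⧸ I) 𝔍
    (E0 ⧸ I • (⊤ : Submodule T E0))]
  exact h0

end altA

/-! ### the double dual of a map which is an isomorphism off `V(𝔍)` -/

open Groth.Agent.Lib.Helper9.KollarBC3 in
theorem altB (T : Type u) [CommRing T] [IsNoetherianRing T] (𝔍 : Ideal T)
    (hT : 2 ≤ LocCoh.idealDepth 𝔍 T)
    {M K : Type u} [AddCommGroup M] [Module T M] [AddCommGroup K] [Module T K]
    [Module.IsReflexive T K] (γ : M →ₗ[T] K)
    (hγ : PrimeSpectrum.zeroLocus ((qinv γ : Ideal T) : Set T) ⊆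
      PrimeSpectrum.zeroLocus (𝔍 : Set T)) :
    Nonempty (Module.Dual T (Module.Dual T M) ≃ₗ[T] K) := by
  have h2 : 2 ≤ LocCoh.idealDepth (qinv γ) T :=
    le_trans hT (Groth.Agent.Lib.Helper4.idealDepth_le_of_zeroLocus_subset _ _ T hγ)
  have hb := dualMap_bijective_of_depth γ h2
  exact ⟨(LinearEquiv.ofBijective _ hb).dualMap.trans (Module.evalEquiv T K).symm⟩

/-! ### reflexivity of a kernel of a map of free modules -/

theorem isReflexive_ker (T : Type u) [CommRing T] [IsNoetherianRing T] (𝔍 : Ideal T)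
    (hT : 2 ≤ LocCoh.idealDepth 𝔍 T)
    {K E0 E1 : Type u} [AddCommGroup K] [Module T K] [Module.Finite T K]
    [AddCommGroup E0] [Module T E0] [Module.Finite T E0] [Module.Free T E0]
    [AddCommGroup E1] [Module T E1] [Module.Finite T E1] [Module.Free T E1]
    (f : K →ₗ[T] E0) (u : E0 →ₗ[T] E1) (hf : Function.Injective f) (hfu : Function.Exact f u)
    (hrefl : ∀ (Q : Ideal T) [Q.IsPrime], ¬ 𝔍 ≤ Q →
      Module.IsReflexive (Localization.AtPrime Q) (LocalizedModule Q.primeCompl K)) :
    Module.IsReflexive T K := by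
  have hJR : ∃ x ∈ 𝔍, IsSMulRegular T x := by
    by_cases htop : 𝔍 • (⊤ : Submodule T T) = ⊤
    · refine ⟨1, ?_, IsSMulRegular.one T⟩
      have h2 : 𝔍 • (⊤ : Submodule T T) = 𝔍 := by
        rw [smul_eq_mul, Ideal.mul_top]
      rw [← h2, htop]
      trivial
    · exact (Groth.Agent.Lib.Helper4.one_le_idealDepth_iff 𝔍 htop).mp
        (le_trans (by norm_num) hT)
  have hE0 : 2 ≤ LocCoh.idealDepth 𝔍 E0 :=
    le_trans hT (Groth.Agent.Lib.Helper28.le_idealDepth_of_free 𝔍 E0)
  have hE1 : 1 ≤ LocCoh.idealDepth 𝔍 E1 :=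
    le_trans (by norm_num) (le_trans hT (Groth.Agent.Lib.Helper28.le_idealDepth_of_free 𝔍 E1))
  exact Groth.Agent.Lib.Helper26.KollarDepth.isReflexive_of_depth T K 𝔍 hJR hrefl
    (Groth.Agent.Lib.Helper26.KollarDepth.two_le_idealDepth_ker 𝔍 f u hf hfu hE0 hE1)

end Groth.Agent.Lib.Helper9.QGorALT
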