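import Mathlib
import Groth.Agent.Lib.Helper9.KollarBC3

/-!
# Contracting homotopies up to a denominator (helper9)

A four-term exact sequence `0 → F → E⁰ → E¹ → G → 0` of finite modules with `E⁰, E¹` projective and
`G_q` projective has a contracting homotopy up to some `s ∉ q`; consequently the natural map
`B' ⊗ F → ker (B' ⊗ E⁰ → B' ⊗ E¹)` is invertible up to `s` for every `B`-algebra `B'`.
-/

set_option autoImplicit false
set_option maxHeartbeats 800000
set_option linter.unusedSectionVars false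
set_option linter.unusedVariables false
set_option linter.style.haveILetI false
universe u

open TensorProduct

namespace Groth.Agent.Lib.Helper9.QGorHom

open Groth.Agent.Lib.Helper9.KollarBC3

/-- a split four-term exact sequence has a contracting homotopy -/
theorem exists_homotopy {R : Type u} [CommRing R] {F E0 E1 G : Type u}
    [AddCommGroup F] [Module R F] [AddCommGroup E0] [Module R E0] [AddCommGroup E1] [Module R E1]
    [AddCommGroup G] [Module R G] [Module.Projective R E1] [Module.Projective R G]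
    (g : F →ₗ[R] E0) (u : E0 →ₗ[R] E1) (v : E1 →ₗ[R] G)
    (hg : Function.Injective g) (hgu : Function.Exact g u) (huv : Function.Exact u v)
    (hv : Function.Surjective v) :
    ∃ (τ : E0 →ₗ[R] F) (ρ : E1 →ₗ[R] E0),
      τ ∘ₗ g = LinearMap.id ∧ g ∘ₗ τ + ρ ∘ₗ u = LinearMap.id := by
  obtain ⟨σ, hσ⟩ := Module.projective_lifting_property v LinearMap.id hv
  have hπ : ∀ y : E1, ((LinearMap.id : E1 →ₗ[R] E1) - σ ∘ₗ v) y ∈ LinearMap.range u := by
    intro y
    rw [← LinearMap.exact_iff.mp huv, LinearMap.mem_ker, LinearMap.sub_apply, LinearMap.id_apply,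
      LinearMap.comp_apply, map_sub]
    have : v (σ (v y)) = v y := LinearMap.congr_fun hσ (v y)
    rw [this, sub_self]
  obtain ⟨ρ, hρ⟩ := Module.projective_lifting_property u.rangeRestrict
    (LinearMap.codRestrict (LinearMap.range u) ((LinearMap.id : E1 →ₗ[R] E1) - σ ∘ₗ v) hπ)
    (LinearMap.surjective_rangeRestrict u)
  have hρ' : ∀ y, u (ρ y) = y - σ (v y) := fun y =>
    congrArg Subtype.val (LinearMap.congr_fun hρ y)
  have hκ : ∀ x : E0, ((LinearMap.id : E0 →ₗ[R] E0) - ρ ∘ₗ u) x ∈ LinearMap.range g := by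
    intro x
    rw [← LinearMap.exact_iff.mp hgu, LinearMap.mem_ker, LinearMap.sub_apply, LinearMap.id_apply,
      LinearMap.comp_apply, map_sub, hρ', huv.apply_apply_eq_zero, map_zero, sub_zero, sub_self]
  obtain ⟨τ, hτ⟩ : ∃ τ : E0 →ₗ[R] F, ∀ x, g (τ x) = x - ρ (u x) := by
    let e : F ≃ₗ[R] LinearMap.range g := LinearEquiv.ofInjective g hg
    refine ⟨e.symm.toLinearMap ∘ₗ
      LinearMap.codRestrict (LinearMap.range g) ((LinearMap.id : E0 →ₗ[R] E0) - ρ ∘ₗ u) hκ, ?_⟩
    intro x
    have h1 : e ((e.symm.toLinearMap ∘ₗ LinearMap.codRestrict (LinearMap.range g)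
        ((LinearMap.id : E0 →ₗ[R] E0) - ρ ∘ₗ u) hκ) x) =
        ⟨((LinearMap.id : E0 →ₗ[R] E0) - ρ ∘ₗ u) x, hκ x⟩ := by
      simp only [LinearMap.comp_apply, LinearEquiv.coe_coe, LinearEquiv.apply_symm_apply]
      rfl
    have h2 := congrArg Subtype.val h1
    simpa [e] using h2
  refine ⟨τ, ρ, ?_, ?_⟩
  · ext y
    apply hg
    rw [LinearMap.comp_apply, hτ, hgu.apply_apply_eq_zero, map_zero, sub_zero, LinearMap.id_apply]
  · ext x
    rw [LinearMap.add_apply, LinearMap.comp_apply, LinearMap.comp_apply, hτ, LinearMap.id_apply,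
      sub_add_cancel]

/-- a contracting homotopy up to a denominator -/
theorem exists_homotopy_upTo {B : Type u} [CommRing B] [IsNoetherianRing B] (q : Ideal B)
    [q.IsPrime] {F E0 E1 G : Type u}
    [AddCommGroup F] [Module B F] [Module.Finite B F]
    [AddCommGroup E0] [Module B E0] [Module.Finite B E0]
    [AddCommGroup E1] [Module B E1] [Module.Finite B E1] [Module.Projective B E1]
    [AddCommGroup G] [Module B G]
    (g : F →ₗ[B] E0) (u : E0 →ₗ[B] E1) (v : E1 →ₗ[B] G)
    (hg : Function.Injective g) (hgu : Function.Exact g u) (huv : Function.Exact u v)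
    (hv : Function.Surjective v)
    (hG : Module.Projective (Localization.AtPrime q) (LocalizedModule q.primeCompl G)) :
    ∃ (s : B) (_ : s ∉ q) (τ : E0 →ₗ[B] F) (ρ : E1 →ₗ[B] E0),
      τ ∘ₗ g = s • LinearMap.id ∧ g ∘ₗ τ + ρ ∘ₗ u = s • LinearMap.id := by
  haveI : Module.FinitePresentation B E0 := Module.finitePresentation_of_finite B E0
  haveI : Module.FinitePresentation B E1 := Module.finitePresentation_of_finite B E1
  obtain ⟨τ₀, ρ₀, h1, h2⟩ := exists_homotopy
    (LocalizedModule.map q.primeCompl g) (LocalizedModule.map q.primeCompl u)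
    (LocalizedModule.map q.primeCompl v)
    (LocalizedModule.map_injective q.primeCompl g hg)
    (LocalizedModule.map_exact q.primeCompl g u hgu)
    (LocalizedModule.map_exact q.primeCompl u v huv)
    (LocalizedModule.map_surjective q.primeCompl v hv)
  obtain ⟨τ, s₂, hτ⟩ := Module.FinitePresentation.exists_lift_of_isLocalizedModule q.primeCompl
    (LocalizedModule.mkLinearMap q.primeCompl F)
    ((τ₀.restrictScalars B) ∘ₗ (LocalizedModule.mkLinearMap q.primeCompl E0))
  obtain ⟨ρ, s₁, hρ⟩ := Module.FinitePresentation.exists_lift_of_isLocalizedModule q.primeCompl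
    (LocalizedModule.mkLinearMap q.primeCompl E0)
    ((ρ₀.restrictScalars B) ∘ₗ (LocalizedModule.mkLinearMap q.primeCompl E1))
  have hτ' : ∀ x, LocalizedModule.mkLinearMap q.primeCompl F (τ x) =
      (s₂ : B) • τ₀ (LocalizedModule.mkLinearMap q.primeCompl E0 x) := fun x =>
    LinearMap.congr_fun hτ x
  have hρ' : ∀ y, LocalizedModule.mkLinearMap q.primeCompl E0 (ρ y) =
      (s₁ : B) • ρ₀ (LocalizedModule.mkLinearMap q.primeCompl E1 y) := fun y =>
    LinearMap.congr_fun hρ y
  have hgmk : ∀ x, LocalizedModule.mkLinearMap q.primeCompl E0 (g x) =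
      LocalizedModule.map q.primeCompl g (LocalizedModule.mkLinearMap q.primeCompl F x) := by
    intro x
    rw [LocalizedModule.mkLinearMap_apply, LocalizedModule.mkLinearMap_apply,
      LocalizedModule.map_mk]
  have humk : ∀ x, LocalizedModule.mkLinearMap q.primeCompl E1 (u x) =
      LocalizedModule.map q.primeCompl u (LocalizedModule.mkLinearMap q.primeCompl E0 x) := by
    intro x
    rw [LocalizedModule.mkLinearMap_apply, LocalizedModule.mkLinearMap_apply,
      LocalizedModule.map_mk]
  have H₁ : (LocalizedModule.mkLinearMap q.primeCompl F) ∘ₗ (τ ∘ₗ g) =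
      (LocalizedModule.mkLinearMap q.primeCompl F) ∘ₗ ((s₂ : B) • LinearMap.id) := by
    ext x
    have h1' : τ₀ (LocalizedModule.map q.primeCompl g
        (LocalizedModule.mkLinearMap q.primeCompl F x)) =
        LocalizedModule.mkLinearMap q.primeCompl F x := LinearMap.congr_fun h1 _
    rw [LinearMap.comp_apply, LinearMap.comp_apply, hτ', hgmk, h1', LinearMap.comp_apply,
      LinearMap.smul_apply, LinearMap.id_apply, map_smul]
  obtain ⟨s₃, hs₃⟩ := Module.Finite.exists_smul_of_comp_eq_of_isLocalizedModule q.primeCompl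
    (LocalizedModule.mkLinearMap q.primeCompl F) _ _ H₁
  have H₂ : (LocalizedModule.mkLinearMap q.primeCompl E0) ∘ₗ
      ((s₁ : B) • (g ∘ₗ τ) + (s₂ : B) • (ρ ∘ₗ u)) =
      (LocalizedModule.mkLinearMap q.primeCompl E0) ∘ₗ (((s₁ : B) * (s₂ : B)) • LinearMap.id) := by
    ext x
    have h2' : LocalizedModule.map q.primeCompl g
        (τ₀ (LocalizedModule.mkLinearMap q.primeCompl E0 x)) +
        ρ₀ (LocalizedModule.map q.primeCompl u (LocalizedModule.mkLinearMap q.primeCompl E0 x)) =
        LocalizedModule.mkLinearMap q.primeCompl E0 x := LinearMap.congr_fun h2 _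
    have e1 : LocalizedModule.mkLinearMap q.primeCompl E0 (g (τ x)) =
        (s₂ : B) • LocalizedModule.map q.primeCompl g
          (τ₀ (LocalizedModule.mkLinearMap q.primeCompl E0 x)) := by
      rw [hgmk, hτ', LinearMap.map_smul_of_tower]
    have e2 : LocalizedModule.mkLinearMap q.primeCompl E0 (ρ (u x)) =
        (s₁ : B) • ρ₀ (LocalizedModule.map q.primeCompl u
          (LocalizedModule.mkLinearMap q.primeCompl E0 x)) := by
      rw [hρ', humk]
    rw [LinearMap.comp_apply, LinearMap.comp_apply, LinearMap.add_apply, LinearMap.smul_apply,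
      LinearMap.smul_apply, LinearMap.comp_apply, LinearMap.comp_apply, map_add, map_smul,
      map_smul, e1, e2, LinearMap.smul_apply, LinearMap.id_apply, map_smul]
    conv_rhs => rw [← h2']
    rw [smul_add, mul_smul, mul_smul, smul_comm (s₂ : B) (s₁ : B)
      (ρ₀ (LocalizedModule.map q.primeCompl u (LocalizedModule.mkLinearMap q.primeCompl E0 x)))]
  obtain ⟨s₄, hs₄⟩ := Module.Finite.exists_smul_of_comp_eq_of_isLocalizedModule q.primeCompl
    (LocalizedModule.mkLinearMap q.primeCompl E0) _ _ H₂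
  have hs₃' : (s₃ : B) • (τ ∘ₗ g) = (s₃ : B) • ((s₂ : B) • LinearMap.id) := hs₃
  have hs₄' : (s₄ : B) • ((s₁ : B) • (g ∘ₗ τ) + (s₂ : B) • (ρ ∘ₗ u)) =
      (s₄ : B) • (((s₁ : B) * (s₂ : B)) • LinearMap.id) := hs₄
  refine ⟨(s₃ : B) * (s₄ : B) * (s₁ : B) * (s₂ : B), ?_,
    ((s₃ : B) * (s₄ : B) * (s₁ : B)) • τ, ((s₃ : B) * (s₄ : B) * (s₂ : B)) • ρ, ?_, ?_⟩
  · exact (q.primeCompl.mul_mem (q.primeCompl.mul_mem (q.primeCompl.mul_mem s₃.2 s₄.2) s₁.2) s₂.2)
  · rw [LinearMap.smul_comp]
    calc ((s₃ : B) * (s₄ : B) * (s₁ : B)) • (τ ∘ₗ g)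
        = ((s₄ : B) * (s₁ : B)) • ((s₃ : B) • (τ ∘ₗ g)) := by
          rw [smul_smul]
          congr 1
          ring
      _ = ((s₃ : B) * (s₄ : B) * (s₁ : B) * (s₂ : B)) • LinearMap.id := by
          rw [hs₃', smul_smul, smul_smul]
          congr 1
          ring
  · rw [LinearMap.comp_smul, LinearMap.smul_comp]
    calc ((s₃ : B) * (s₄ : B) * (s₁ : B)) • (g ∘ₗ τ) + ((s₃ : B) * (s₄ : B) * (s₂ : B)) • (ρ ∘ₗ u)
        = (s₃ : B) • ((s₄ : B) • ((s₁ : B) • (g ∘ₗ τ) + (s₂ : B) • (ρ ∘ₗ u))) := by
          rw [smul_add, smul_add, smul_smul, smul_smul, smul_smul, smul_smul, mul_assoc, mul_assoc]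
      _ = ((s₃ : B) * (s₄ : B) * (s₁ : B) * (s₂ : B)) • LinearMap.id := by
          rw [hs₄', smul_smul, smul_smul]
          congr 1
          ring

/-- base change of a scalar multiple of the identity -/
theorem baseChange_smul_id {B : Type u} [CommRing B] (B' : Type u) [CommRing B'] [Algebra B B']
    (Z : Type u) [AddCommGroup Z] [Module B Z] (c : B) :
    ((c • LinearMap.id : Z →ₗ[B] Z)).baseChange B' =
      algebraMap B B' c • (LinearMap.id : B' ⊗[B] Z →ₗ[B'] B' ⊗[B] Z) := by
  refine LinearMap.ext fun z => ?_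
  induction z using TensorProduct.induction_on with
  | zero => simp
  | tmul b z =>
    rw [LinearMap.baseChange_tmul, LinearMap.smul_apply, LinearMap.smul_apply,
      LinearMap.id_apply, LinearMap.id_apply, TensorProduct.tmul_smul, TensorProduct.smul_tmul',
      TensorProduct.smul_tmul', Algebra.smul_def, smul_eq_mul]
  | add x y hx hy => simp only [map_add, hx, hy]

/-- the natural map `B' ⊗ F → ker (B' ⊗ E⁰ → B' ⊗ E¹)` -/
noncomputable def kerMap {B : Type u} [CommRing B] (B' : Type u) [CommRing B'] [Algebra B B']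
    {F E0 E1 : Type u} [AddCommGroup F] [Module B F] [AddCommGroup E0] [Module B E0]
    [AddCommGroup E1] [Module B E1] (g : F →ₗ[B] E0) (u : E0 →ₗ[B] E1)
    (hgu : Function.Exact g u) : (B' ⊗[B] F) →ₗ[B'] LinearMap.ker (u.baseChange B') :=
  LinearMap.codRestrict (LinearMap.ker (u.baseChange B')) (g.baseChange B') (fun x => by
    rw [LinearMap.mem_ker, ← LinearMap.comp_apply, ← LinearMap.baseChange_comp]
    have : u ∘ₗ g = 0 := LinearMap.ext fun y => hgu.apply_apply_eq_zero y
    rw [this, LinearMap.baseChange_zero, LinearMap.zero_apply])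

theorem mem_qinv_kerMap {B : Type u} [CommRing B] (B' : Type u) [CommRing B'] [Algebra B B']
    {F E0 E1 : Type u} [AddCommGroup F] [Module B F] [AddCommGroup E0] [Module B E0]
    [AddCommGroup E1] [Module B E1] (g : F →ₗ[B] E0) (u : E0 →ₗ[B] E1)
    (hgu : Function.Exact g u) (s : B) (τ : E0 →ₗ[B] F) (ρ : E1 →ₗ[B] E0)
    (h1 : τ ∘ₗ g = s • LinearMap.id) (h2 : g ∘ₗ τ + ρ ∘ₗ u = s • LinearMap.id) :
    algebraMap B B' s ∈ qinv (X := B' ⊗[B] F) (Y := LinearMap.ker (u.baseChange B'))
      (kerMap B' g u hgu) := by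
  refine ⟨(τ.baseChange B') ∘ₗ (LinearMap.ker (u.baseChange B')).subtype, ?_, ?_⟩
  · ext x
    have : (τ.baseChange B') ((g.baseChange B') (1 ⊗ₜ[B] x)) =
        algebraMap B B' s • ((1 : B') ⊗ₜ[B] x) := by
      rw [← LinearMap.comp_apply, ← LinearMap.baseChange_comp, h1, baseChange_smul_id,
        LinearMap.smul_apply, LinearMap.id_apply]
    simpa [kerMap] using this
  · refine LinearMap.ext fun x => Subtype.ext ?_
    have hx : (u.baseChange B') x.1 = 0 := x.2
    have h3 : (g.baseChange B') ((τ.baseChange B') x.1) + (ρ.baseChange B') ((u.baseChange B') x.1) =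
        algebraMap B B' s • x.1 := by
      rw [← LinearMap.comp_apply, ← LinearMap.comp_apply, ← LinearMap.baseChange_comp,
        ← LinearMap.baseChange_comp, ← LinearMap.add_apply, ← LinearMap.baseChange_add, h2,
        baseChange_smul_id, LinearMap.smul_apply, LinearMap.id_apply]
    rw [hx, map_zero, add_zero] at h3
    simpa [kerMap] using h3

/-- quasi-inverses localize -/
theorem map_mem_qinv_localizedMap {R : Type u} [CommRing R] (S : Submonoid R)
    {X Y : Type u} [AddCommGroup X] [Module R X] [AddCommGroup Y] [Module R Y]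
    (γ : X →ₗ[R] Y) {c : R} (hc : c ∈ qinv γ) :
    algebraMap R (Localization S) c ∈ qinv (LocalizedModule.map S γ) := by
  obtain ⟨δ, h1, h2⟩ := hc
  refine ⟨LocalizedModule.map S δ, ?_, ?_⟩
  · refine LinearMap.ext fun x => ?_
    induction x using LocalizedModule.induction_on with
    | h m s =>
      have : δ (γ m) = c • m := LinearMap.congr_fun h1 m
      rw [LinearMap.comp_apply, LocalizedModule.map_mk, LocalizedModule.map_mk, this,
        LinearMap.smul_apply, LinearMap.id_apply, algebraMap_smul, LocalizedModule.smul'_mk]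
  · refine LinearMap.ext fun x => ?_
    induction x using LocalizedModule.induction_on with
    | h m s =>
      have : γ (δ m) = c • m := LinearMap.congr_fun h2 m
      rw [LinearMap.comp_apply, LocalizedModule.map_mk, LocalizedModule.map_mk, this,
        LinearMap.smul_apply, LinearMap.id_apply, algebraMap_smul, LocalizedModule.smul'_mk]

end Groth.Agent.Lib.Helper9.QGorHom
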