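import Mathlib
import Groth.Agent.Lib.Helper9.QGorALT
import Groth.Agent.Lib.Helper9.QGorHom
import Groth.Agent.Lib.Helper9.KollarBC2
import Groth.Agent.Lib.Helper28.Reflexive

/-!
# The infinitesimal step at a prime of an algebra over an Artinian local ring (helper9)
-/

set_option autoImplicit false
set_option maxHeartbeats 1600000
set_option linter.unusedSectionVars false
set_option linter.unusedVariables false
set_option linter.style.haveILetI false
universe u

open IsLocalRing

namespace Groth.Agent.Lib.Helper9.QGorApp

open Groth.Agent.Lib.Helper9.KollarBC3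

/-! ### generalities on localizations of localizations -/

theorem comap_le_of_prime {B : Type u} [CommRing B] (q : Ideal B) [q.IsPrime]
    (Q : Ideal (Localization.AtPrime q)) [Q.IsPrime] :
    Q.comap (algebraMap B (Localization.AtPrime q)) ≤ q := by
  have h1 : Q ≤ maximalIdeal (Localization.AtPrime q) :=
    IsLocalRing.le_maximalIdeal (Ideal.IsPrime.ne_top inferInstance)
  have h2 : Q.comap (algebraMap B (Localization.AtPrime q)) ≤
      (maximalIdeal (Localization.AtPrime q)).comap (algebraMap B (Localization.AtPrime q)) :=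
    Ideal.comap_mono (f := algebraMap B (Localization.AtPrime q)) h1
  have h3 : (maximalIdeal (Localization.AtPrime q)).comap
      (algebraMap B (Localization.AtPrime q)) = q := Localization.AtPrime.comap_maximalIdeal
  exact le_trans h2 h3.le

theorem isScalarTower_localized (A B : Type u) [CommRing A] [CommRing B] [Algebra A B]
    (X : Type u) [AddCommGroup X] [Module B X] [Module A X] [IsScalarTower A B X]
    (S : Submonoid B) : IsScalarTower A (Localization S) (LocalizedModule S X) :=
  IsScalarTower.of_algebraMap_smul fun a x => by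
    induction x using LocalizedModule.induction_on with
    | h m s =>
      rw [IsScalarTower.algebraMap_apply A B (Localization S), algebraMap_smul,
        LocalizedModule.smul'_mk, LocalizedModule.smul'_mk, algebraMap_smul]

/-- reflexivity passes through a localization of a localization -/
theorem isReflexive_locLoc {R : Type u} [CommRing R] [IsNoetherianRing R] (q : Ideal R)
    [q.IsPrime] (M : Type u) [AddCommGroup M] [Module R M] [Module.Finite R M]
    (Q : Ideal (Localization.AtPrime q)) [Q.IsPrime]
    (h : Module.IsReflexive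
      (Localization.AtPrime (Q.comap (algebraMap R (Localization.AtPrime q))))
      (LocalizedModule (Q.comap (algebraMap R (Localization.AtPrime q))).primeCompl M)) :
    Module.IsReflexive (Localization.AtPrime Q)
      (LocalizedModule Q.primeCompl (LocalizedModule q.primeCompl M)) := by
  haveI := Module.finitePresentation_of_finite R M
  haveI := Groth.Agent.Lib.Helper4.finitePresentation_dual R M
  haveI hloc : IsLocalizedModule (Q.comap (algebraMap R (Localization.AtPrime q))).primeCompl
      (((LocalizedModule.mkLinearMap Q.primeCompl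
        (LocalizedModule q.primeCompl M)).restrictScalars R) ∘ₗ
        LocalizedModule.mkLinearMap q.primeCompl M) :=
    Groth.Agent.Lib.Helper4.LocTrans.isLocalizedModule_comp_localization q.primeCompl Q
      (LocalizedModule.mkLinearMap q.primeCompl M)
      (LocalizedModule.mkLinearMap Q.primeCompl (LocalizedModule q.primeCompl M))
  haveI hLoc : IsLocalization.AtPrime (Localization.AtPrime Q)
      (Q.comap (algebraMap R (Localization.AtPrime q))) :=
    IsLocalization.isLocalization_atPrime_localization_atPrime q.primeCompl Q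
  have hb := (Groth.Agent.Lib.Helper4.isReflexive_localizedModule_iff R M
    (Q.comap (algebraMap R (Localization.AtPrime q)))).mp h
  exact ⟨(Groth.Agent.Lib.Helper4.dual_eval_bijective_iff_map
    (Q.comap (algebraMap R (Localization.AtPrime q))).primeCompl (Localization.AtPrime Q)
    (((LocalizedModule.mkLinearMap Q.primeCompl
        (LocalizedModule q.primeCompl M)).restrictScalars R) ∘ₗ
        LocalizedModule.mkLinearMap q.primeCompl M)).mpr hb⟩


/-- `(S_k)` of `H/IH` over `T/I` only depends on `H` up to isomorphism -/
theorem hasSk_quot_congr {T : Type u} [CommRing T] (I : Ideal T) {H K : Type u}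
    [AddCommGroup H] [Module T H] [AddCommGroup K] [Module T K] (e : H ≃ₗ[T] K) (k : ℕ)
    (h : LocCoh.HasSk k (T ⧸ I) (H ⧸ I • (⊤ : Submodule T H))) :
    LocCoh.HasSk k (T ⧸ I) (K ⧸ I • (⊤ : Submodule T K)) := by
  have hmap : (I • (⊤ : Submodule T H)).map e.toLinearMap = I • (⊤ : Submodule T K) := by
    rw [Submodule.map_smul'', Submodule.map_top, LinearEquiv.range]
  let ebar := Submodule.Quotient.equiv (I • (⊤ : Submodule T H)) (I • (⊤ : Submodule T K)) e hmap
  exact Groth.Agent.Lib.Helper28.hasSk_congr k
    (ebar.extendScalarsOfSurjective Ideal.Quotient.mk_surjective) h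

/-! ### the infinitesimal step -/

section app

variable (A' B' : Type u) [CommRing A'] [CommRing B'] [IsNoetherianRing A'] [IsNoetherianRing B']
  [IsLocalRing A'] [Algebra A' B'] [Module.Flat A' B'] (J' : Ideal B')
  (M' K' E0' E1' G' : Type u)
  [AddCommGroup M'] [Module B' M'] [Module A' M'] [IsScalarTower A' B' M'] [Module.Finite B' M']
  [AddCommGroup K'] [Module B' K'] [Module A' K'] [IsScalarTower A' B' K'] [Module.Finite B' K']
  [AddCommGroup E0'] [Module B' E0'] [Module A' E0'] [IsScalarTower A' B' E0']
  [Module.Finite B' E0'] [Module.Free B' E0']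
  [AddCommGroup E1'] [Module B' E1'] [Module A' E1'] [IsScalarTower A' B' E1']
  [Module.Finite B' E1'] [Module.Free B' E1']
  [AddCommGroup G'] [Module B' G'] [Module A' G'] [IsScalarTower A' B' G'] [Module.Finite B' G']
  (f' : K' →ₗ[B'] E0') (u' : E0' →ₗ[B'] E1') (v' : E1' →ₗ[B'] G')
  (hf' : Function.Injective f') (hfu' : Function.Exact f' u') (huv' : Function.Exact u' v')
  (hv' : Function.Surjective v')
  (hGfree : ∀ q'' : PrimeSpectrum B', ¬ J' ≤ q''.asIdeal →
    Module.Free (Localization.AtPrime q''.asIdeal) (LocalizedModule q''.asIdeal.primeCompl G'))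
  (Φ : M' →ₗ[B'] K')
  (hΦ : ∀ (q'' : Ideal B') [q''.IsPrime], ¬ J' ≤ q'' → ∃ c ∈ qinv Φ, c ∉ q'')
  (q' : Ideal B') [q'.IsPrime] (hq'A : q'.comap (algebraMap A' B') = maximalIdeal A')
  (hnil : IsNilpotent (maximalIdeal A'))
  (hD : ∀ (q'' : Ideal B') [q''.IsPrime], J' ≤ q'' → q'' ≤ q' →
    2 ≤ LocCoh.depth (EGA4.FibLocRing A' B' q'') (EGA4.FibLocRing A' B' q''))
  (hflat : Module.Flat A' (LocalizedModule q'.primeCompl (Module.Dual B' (Module.Dual B' M'))))
  (hSk : LocCoh.HasSk 2 (EGA4.FibLocRing A' B' q')
    (EGA4.FibLocMod A' B' q' (Module.Dual B' (Module.Dual B' M'))))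

include hf' hfu' huv' hv' hGfree hΦ hq'A hnil hD hflat hSk in
theorem app : Module.Flat A' (LocalizedModule q'.primeCompl G') := by
  classical
  -- the local homomorphism `A' → B'_{q'}`
  haveI hloc : IsLocalHom (algebraMap A' (Localization.AtPrime q')) := by
    constructor
    intro a ha
    by_contra hna
    have ham : a ∈ maximalIdeal A' := (IsLocalRing.mem_maximalIdeal a).mpr hna
    have h1 : algebraMap A' B' a ∈ q' := by
      rw [← hq'A] at ham
      exact ham
    have h2 : algebraMap B' (Localization.AtPrime q') (algebraMap A' B' a) ∈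
        maximalIdeal (Localization.AtPrime q') :=
      (IsLocalization.AtPrime.to_map_mem_maximal_iff (Localization.AtPrime q') q' _).mpr h1
    rw [← IsScalarTower.algebraMap_apply] at h2
    exact (IsLocalRing.mem_maximalIdeal _).mp h2 ha
  -- scalar towers
  haveI tK := isScalarTower_localized A' B' K' q'.primeCompl
  haveI tE0 := isScalarTower_localized A' B' E0' q'.primeCompl
  haveI tE1 := isScalarTower_localized A' B' E1' q'.primeCompl
  haveI tG := isScalarTower_localized A' B' G' q'.primeCompl
  haveI tH := isScalarTower_localized A' B' (Module.Dual B' (Module.Dual B' M')) q'.primeCompl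
  -- flatness of the `E`'s
  haveI flE0' : Module.Flat A' E0' := Module.Flat.trans A' B' E0'
  haveI flE1' : Module.Flat A' E1' := Module.Flat.trans A' B' E1'
  haveI flE0 : Module.Flat A' (LocalizedModule q'.primeCompl E0') :=
    Groth.Agent.Lib.Helper9.KollarS2.flat_localizedModule (A := A') q'.primeCompl E0'
  haveI flE1 : Module.Flat A' (LocalizedModule q'.primeCompl E1') :=
    Groth.Agent.Lib.Helper9.KollarS2.flat_localizedModule (A := A') q'.primeCompl E1'
  -- the localized sequence
  have hfT : Function.Injective (LocalizedModule.map q'.primeCompl f') :=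
    LocalizedModule.map_injective q'.primeCompl f' hf'
  have hfuT : Function.Exact (LocalizedModule.map q'.primeCompl f')
      (LocalizedModule.map q'.primeCompl u') := LocalizedModule.map_exact q'.primeCompl f' u' hfu'
  have huvT : Function.Exact (LocalizedModule.map q'.primeCompl u')
      (LocalizedModule.map q'.primeCompl v') := LocalizedModule.map_exact q'.primeCompl u' v' huv'
  have hvT : Function.Surjective (LocalizedModule.map q'.primeCompl v') :=
    LocalizedModule.map_surjective q'.primeCompl v' hv'
  -- flatness of `G` off `V(J')`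
  have hGUf : ∀ q'' : PrimeSpectrum B', ¬ J' ≤ q''.asIdeal →
      FlatCA.FlatAt A' q''.asIdeal G' := fun q'' hq'' =>
    Groth.Agent.Lib.Helper9.KollarBC2.flat_of_free_localized A' B' G' q''.asIdeal
      (hGfree q'' hq'')
  have hGUT : ∀ Q : PrimeSpectrum (Localization.AtPrime q'),
      ¬ J'.map (algebraMap B' (Localization.AtPrime q')) ≤ Q.asIdeal →
      FlatCA.FlatAt A' Q.asIdeal (LocalizedModule q'.primeCompl G') := by
    intro Q hQ
    have hnJ : ¬ J' ≤ Q.asIdeal.comap (algebraMap B' (Localization.AtPrime q')) := fun h =>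
      hQ (Ideal.map_le_iff_le_comap.mpr h)
    have hfl := hGUf ⟨Q.asIdeal.comap (algebraMap B' (Localization.AtPrime q')),
      Ideal.IsPrime.comap _⟩ hnJ
    exact Groth.Agent.Lib.Helper9.KollarGlobal.flat_locLoc G' q' Q.asIdeal hfl
  -- fibre depth of the `E`'s
  have hfibD : ∀ (q'' : Ideal B') [q''.IsPrime], J' ≤ q'' → q'' ≤ q' →
      2 ≤ LocCoh.idealDepth (q''.map (algebraMap B' (EGA4.FibLocRing A' B' q'')))
        (EGA4.FibLocRing A' B' q'') := by
    intro q'' _ h1 h2
    rw [Groth.Agent.Lib.Helper26.KollarDepth.map_fib_eq]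
    exact hD q'' h1 h2
  have h0T : 2 ≤ LocCoh.idealDepth (J'.map (algebraMap B' (Localization.AtPrime q')))
      (EGA4.FibLocMod A' B' q' E0') := by
    have := Groth.Agent.Lib.Helper9.KollarGlobal.p2i A' B' J' E0' q' 2
      (fun q'' _ hJq'' hle _ => by
        exact_mod_cast (Groth.Agent.Lib.Helper9.KollarBC2.fib_depth_proj A' B' E0' q'' _).2
          (hfibD q'' hJq'' hle))
    exact_mod_cast this
  have h1T : 1 ≤ LocCoh.idealDepth (J'.map (algebraMap B' (Localization.AtPrime q')))
      (EGA4.FibLocMod A' B' q' E1') := by
    have := Groth.Agent.Lib.Helper9.KollarGlobal.p2i A' B' J' E1' q' 1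
      (fun q'' _ hJq'' hle _ => by
        exact_mod_cast (Groth.Agent.Lib.Helper9.KollarBC2.fib_depth_proj A' B' E1' q'' _).1
          (le_trans (by norm_num) (hfibD q'' hJq'' hle)))
    exact_mod_cast this
  -- depth of the local ring along `J'`
  have hT : 2 ≤ LocCoh.idealDepth (J'.map (algebraMap B' (Localization.AtPrime q')))
      (Localization.AtPrime q') := by
    have h1 := Groth.Agent.Lib.Helper28.le_idealDepth_of_forall_localization
      (M := LocalizedModule q'.primeCompl B')
      (J'.map (algebraMap B' (Localization.AtPrime q'))) 2 (fun Q _ hQ hnt => ?_)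
    · rw [← Groth.Agent.Lib.Helper28.idealDepth_congr
        (Groth.Agent.Lib.Helper28.localizedSelfEquiv q'.primeCompl)]
      exact_mod_cast h1
    obtain ⟨q'', hq''⟩ : ∃ q'' : Ideal B',
        Q.comap (algebraMap B' (Localization.AtPrime q')) = q'' := ⟨_, rfl⟩
    haveI : q''.IsPrime := hq'' ▸ Ideal.IsPrime.comap _
    rw [(Groth.Agent.Lib.Helper4.LocTrans.depth_supportDim_locLoc' q'.primeCompl B' Q q'' hq'').1]
    have hJq'' : J' ≤ q'' := by
      rw [← hq'']
      exact Ideal.map_le_iff_le_comap.mp hQ
    have hle : q'' ≤ q' := by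
      rw [← hq'']
      exact comap_le_of_prime q' Q
    exact_mod_cast Groth.Agent.Lib.Helper26.KollarDepth.le_depth_ring A' B' q'' 2
      (hfibD q'' hJq'' hle)
  -- reflexivity of the localized kernel
  haveI frE0 : Module.Free (Localization.AtPrime q') (LocalizedModule q'.primeCompl E0') :=
    Module.free_of_isLocalizedModule q'.primeCompl (LocalizedModule.mkLinearMap q'.primeCompl E0')
  haveI frE1 : Module.Free (Localization.AtPrime q') (LocalizedModule q'.primeCompl E1') :=
    Module.free_of_isLocalizedModule q'.primeCompl (LocalizedModule.mkLinearMap q'.primeCompl E1')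
  haveI hKrefl : Module.IsReflexive (Localization.AtPrime q')
      (LocalizedModule q'.primeCompl K') := by
    refine Groth.Agent.Lib.Helper9.QGorALT.isReflexive_ker (Localization.AtPrime q')
      (J'.map (algebraMap B' (Localization.AtPrime q'))) hT
      (LocalizedModule.map q'.primeCompl f') (LocalizedModule.map q'.primeCompl u') hfT hfuT ?_
    intro Q _ hQ
    have hnJ : ¬ J' ≤ Q.comap (algebraMap B' (Localization.AtPrime q')) := fun h =>
      hQ (Ideal.map_le_iff_le_comap.mpr h)
    refine isReflexive_locLoc q' K' Q ?_
    exact Groth.Agent.Lib.Helper9.KollarBC2.isReflexive_localized_of_fourTerm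
      (Q.comap (algebraMap B' (Localization.AtPrime q'))) f' u' v' hf' hfu' huv' hv'
      (hGfree ⟨Q.comap (algebraMap B' (Localization.AtPrime q')), Ideal.IsPrime.comap _⟩ hnJ)
  -- the comparison map is an isomorphism off `V(J')`
  have hγ : PrimeSpectrum.zeroLocus
      ((qinv (LocalizedModule.map q'.primeCompl Φ) : Ideal (Localization.AtPrime q')) :
        Set (Localization.AtPrime q')) ⊆
      PrimeSpectrum.zeroLocus ((J'.map (algebraMap B' (Localization.AtPrime q')) :
        Ideal (Localization.AtPrime q')) : Set (Localization.AtPrime q')) := by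
    intro Q hQ
    rw [PrimeSpectrum.mem_zeroLocus, SetLike.coe_subset_coe] at hQ ⊢
    by_contra hJ
    have hnJ : ¬ J' ≤ Q.asIdeal.comap (algebraMap B' (Localization.AtPrime q')) := fun h =>
      hJ (Ideal.map_le_iff_le_comap.mpr h)
    obtain ⟨c, hc, hcq⟩ := hΦ (Q.asIdeal.comap (algebraMap B' (Localization.AtPrime q'))) hnJ
    exact hcq (hQ (Groth.Agent.Lib.Helper9.QGorHom.map_mem_qinv_localizedMap q'.primeCompl Φ hc))
  obtain ⟨e₁⟩ := Groth.Agent.Lib.Helper9.QGorALT.altB (Localization.AtPrime q')
    (J'.map (algebraMap B' (Localization.AtPrime q'))) hT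
    (LocalizedModule.map q'.primeCompl Φ) hγ
  -- the double dual commutes with localization
  haveI := Module.finitePresentation_of_finite B' M'
  haveI := Groth.Agent.Lib.Helper4.finitePresentation_dual B' M'
  let e₂0 := IsLocalizedModule.iso q'.primeCompl
    (Groth.Agent.Lib.Helper4.ddualLoc q'.primeCompl (Localization.AtPrime q')
      (LocalizedModule.mkLinearMap q'.primeCompl M'))
  let e₂ := LinearEquiv.extendScalarsOfIsLocalization q'.primeCompl (Localization.AtPrime q') e₂0
  let e := e₂.trans e₁
  -- flatness of the kernel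
  haveI hKflat : Module.Flat A' (LocalizedModule q'.primeCompl K') :=
    Module.Flat.of_linearEquiv (e.symm.restrictScalars A')
  -- `S₂` for the fibre of the kernel
  have hSkK : LocCoh.HasSk 2 (EGA4.FibLocRing A' B' q') (EGA4.FibLocMod A' B' q' K') :=
    hasSk_quot_congr (T := Localization.AtPrime q')
      ((q'.comap (algebraMap A' B')).map (algebraMap A' (Localization.AtPrime q')))
      (H := LocalizedModule q'.primeCompl (Module.Dual B' (Module.Dual B' M')))
      (K := LocalizedModule q'.primeCompl K') e 2 hSk
  exact Groth.Agent.Lib.Helper9.QGorALT.altA A' (Localization.AtPrime q')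
    (J'.map (algebraMap B' (Localization.AtPrime q')))
    (LocalizedModule q'.primeCompl K') (LocalizedModule q'.primeCompl E0')
    (LocalizedModule q'.primeCompl E1') (LocalizedModule q'.primeCompl G')
    (LocalizedModule.map q'.primeCompl f') (LocalizedModule.map q'.primeCompl u')
    (LocalizedModule.map q'.primeCompl v') hfT hfuT huvT hvT hGUT
    (q'.comap (algebraMap A' B')) hq'A hnil h0T h1T hSkK

end app

end Groth.Agent.Lib.Helper9.QGorApp
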