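import Mathlib
import Groth.Agent.Lib.Helper8.LocalCriterion3

/-!
# The `m`-adic local criterion of flatness, and localization versus base change (helper9)
-/

set_option autoImplicit false
set_option maxHeartbeats 800000
set_option linter.unusedSectionVars false
set_option linter.unusedVariables false
set_option linter.style.haveILetI false
universe u

open TensorProduct

namespace Groth.Agent.Lib.Helper9.QGorLC

/-- flatness can be tested modulo all powers of an ideal contained in the radical -/
theorem flat_of_forall_flat_quotient_pow_of_finite {A B : Type u} [CommRing A] [CommRing B]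
    [Algebra A B] [IsNoetherianRing A] [IsNoetherianRing B] (I : Ideal A)
    (hI : I.map (algebraMap A B) ≤ Ideal.jacobson ⊥)
    (M : Type u) [AddCommGroup M] [Module A M] [Module B M] [IsScalarTower A B M]
    [Module.Finite B M]
    (hflat : ∀ n : ℕ, 0 < n → Module.Flat (A ⧸ I ^ n) ((A ⧸ I ^ n) ⊗[A] M)) :
    Module.Flat A M := by
  refine Groth.Agent.Lib.Helper8.flat_of_forall_flat_quotient_pow I M hflat ?_
  intro 𝔞
  rw [eq_bot_iff]
  intro x hx
  rw [Submodule.mem_iInf] at hx
  rw [Submodule.mem_bot]
  have : Module.Finite B (M ⊗[A] 𝔞) := Groth.Agent.Lib.Helper8.finite_tensor M 𝔞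
  have hkrull := Ideal.iInf_pow_smul_eq_bot_of_le_jacobson (M := M ⊗[A] 𝔞)
    (I.map (algebraMap A B)) hI
  have hmem : (TensorProduct.comm A 𝔞 M) x ∈
      ⨅ i : ℕ, (I.map (algebraMap A B)) ^ i • (⊤ : Submodule B (M ⊗[A] 𝔞)) := by
    rw [Submodule.mem_iInf]
    intro n
    refine Submodule.smul_induction_on (hx n) ?_ ?_
    · intro j hj t _
      rw [map_smul, ← algebraMap_smul B j ((TensorProduct.comm A 𝔞 M) t)]
      refine Submodule.smul_mem_smul ?_ Submodule.mem_top
      rw [← Ideal.map_pow]
      exact Ideal.mem_map_of_mem _ hj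
    · intro t1 t2 h1 h2
      rw [map_add]
      exact add_mem h1 h2
  rw [hkrull, Submodule.mem_bot] at hmem
  exact (TensorProduct.comm A 𝔞 M).injective (by rw [hmem, map_zero])

/-- a pushout of a surjection is a surjection -/
theorem surjective_of_isPushout (R C A' C' : Type u) [CommRing R] [CommRing C] [CommRing A']
    [CommRing C'] [Algebra R C] [Algebra R A'] [Algebra C C'] [Algebra A' C'] [Algebra R C']
    [IsScalarTower R C C'] [IsScalarTower R A' C'] [Algebra.IsPushout R C A' C']
    (hsurj : Function.Surjective (algebraMap R A')) : Function.Surjective (algebraMap C C') := by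
  intro x
  have hbc : IsBaseChange C (IsScalarTower.toAlgHom R A' C').toLinearMap :=
    Algebra.IsPushout.out
  refine hbc.inductionOn x (fun y => ∃ a, algebraMap C C' a = y) ?_ ?_ ?_ ?_
  · exact ⟨0, map_zero _⟩
  · intro a
    obtain ⟨r, rfl⟩ := hsurj a
    refine ⟨algebraMap R C r, ?_⟩
    show algebraMap C C' (algebraMap R C r) = algebraMap A' C' (algebraMap R A' r)
    rw [← IsScalarTower.algebraMap_apply, ← IsScalarTower.algebraMap_apply]
  · rintro c y ⟨z, rfl⟩
    exact ⟨c * z, by rw [map_mul, Algebra.smul_def]⟩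
  · rintro y₁ y₂ ⟨z₁, rfl⟩ ⟨z₂, rfl⟩
    exact ⟨z₁ + z₂, map_add _ _ _⟩


/-- localizing the base change at the prime over `n` is the base change of the localization -/
theorem flat_tensor_of_flat_localized (R C A' C' : Type u) [CommRing R] [CommRing C]
    [CommRing A'] [CommRing C'] [Algebra R C] [Algebra R A'] [Algebra C C'] [Algebra A' C']
    [Algebra R C'] [IsScalarTower R C C'] [IsScalarTower R A' C'] [Algebra.IsPushout R C A' C']
    (hsurj : Function.Surjective (algebraMap R A'))
    (G : Type u) [AddCommGroup G] [Module C G] [Module R G] [IsScalarTower R C G]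
    (n : Ideal C) [n.IsPrime] (q' : Ideal C') [q'.IsPrime]
    (hq' : q'.comap (algebraMap C C') = n)
    (h : Module.Flat A' (LocalizedModule q'.primeCompl (C' ⊗[C] G))) :
    Module.Flat A' (A' ⊗[R] (LocalizedModule n.primeCompl G)) := by
  have hsurjC := surjective_of_isPushout R C A' C' hsurj
  have hsub : Algebra.algebraMapSubmonoid C' n.primeCompl = q'.primeCompl := by
    ext x
    constructor
    · rintro ⟨s, hs, rfl⟩
      intro hmem
      apply hs
      rw [← hq']
      exact hmem
    · intro hx
      obtain ⟨s, rfl⟩ := hsurjC x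
      refine ⟨s, fun hs => hx ?_, rfl⟩
      rw [← hq'] at hs
      exact hs
  -- the localization map of `C' ⊗ G` as a `C`-linear map
  haveI h1 : IsLocalizedModule (Algebra.algebraMapSubmonoid C' n.primeCompl)
      (LocalizedModule.mkLinearMap q'.primeCompl (C' ⊗[C] G)) := by
    rw [hsub]
    infer_instance
  haveI h2 : IsLocalizedModule n.primeCompl
      ((LocalizedModule.mkLinearMap q'.primeCompl (C' ⊗[C] G)).restrictScalars C) :=
    IsLocalizedModule.restrictScalars n.primeCompl
      (LocalizedModule.mkLinearMap q'.primeCompl (C' ⊗[C] G))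
  -- `G ⊗ A' ≃ C' ⊗ G`
  let θ₁ : G ⊗[R] A' ≃ₗ[C] G ⊗[C] (C ⊗[R] A') :=
    (AlgebraTensorModule.cancelBaseChange R C C G A').symm
  let θ₂ : G ⊗[C] (C ⊗[R] A') ≃ₗ[C] G ⊗[C] C' :=
    TensorProduct.congr (LinearEquiv.refl C G) (Algebra.IsPushout.equiv R C A' C').toLinearEquiv
  let θ₃ : G ⊗[C] C' ≃ₗ[C] C' ⊗[C] G := TensorProduct.comm C G C'
  let θ : G ⊗[R] A' ≃ₗ[C] C' ⊗[C] G := (θ₁.trans θ₂).trans θ₃
  haveI h3 : IsLocalizedModule n.primeCompl
      (((LocalizedModule.mkLinearMap q'.primeCompl (C' ⊗[C] G)).restrictScalars C) ∘ₗ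
        θ.toLinearMap) := IsLocalizedModule.of_linearEquiv_right n.primeCompl _ θ
  let e := IsLocalizedModule.linearEquiv n.primeCompl
    (AlgebraTensorModule.rTensor R A' (LocalizedModule.mkLinearMap n.primeCompl G))
    (((LocalizedModule.mkLinearMap q'.primeCompl (C' ⊗[C] G)).restrictScalars C) ∘ₗ
        θ.toLinearMap)
  let e' : A' ⊗[R] (LocalizedModule n.primeCompl G) ≃ₗ[R]
      LocalizedModule q'.primeCompl (C' ⊗[C] G) :=
    (TensorProduct.comm R A' (LocalizedModule n.primeCompl G)).trans (e.restrictScalars R)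
  haveI tR : IsScalarTower R A' (LocalizedModule q'.primeCompl (C' ⊗[C] G)) :=
    IsScalarTower.of_algebraMap_smul fun r x => by
      induction x using LocalizedModule.induction_on with
      | h m s =>
        rw [LocalizedModule.smul'_mk, LocalizedModule.smul'_mk, algebraMap_smul]
  exact Module.Flat.of_linearEquiv (e'.extendScalarsOfSurjective hsurj)

end Groth.Agent.Lib.Helper9.QGorLC
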