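import Mathlib
import Groth.Agent.S18709
import Groth.Agent.Lib.Helper9.QGorT
import Groth.Agent.Lib.Helper9.QGorApp
import Groth.Agent.Lib.Helper9.QGorLC
import Groth.Agent.Lib.Helper9.KollarBC1
import Groth.Agent.Lib.Helper9.KollarBC2

/-!
# Kollár's infinitesimal criterion: assembly (helper9)
-/

set_option autoImplicit false
set_option maxHeartbeats 1600000
set_option linter.unusedSectionVars false
set_option linter.unusedVariables false
set_option linter.style.haveILetI false
universe u

open IsLocalRing TensorProduct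

namespace Groth.Agent.Lib.Helper9.QGorMain

open Groth.Agent.Lib.Helper9.KollarBC3

/-- a prime of a pushout of a surjection over a given prime -/
theorem exists_prime_over (R C A' C' : Type u) [CommRing R] [CommRing C] [CommRing A']
    [CommRing C'] [Algebra R C] [Algebra R A'] [Algebra C C'] [Algebra A' C'] [Algebra R C']
    [IsScalarTower R C C'] [IsScalarTower R A' C'] [Algebra.IsPushout R C A' C']
    (hsurj : Function.Surjective (algebraMap R A'))
    (n : Ideal C) [n.IsPrime]
    (hker : RingHom.ker (algebraMap R A') ≤ n.comap (algebraMap R C)) :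
    ∃ q' : Ideal C', q'.IsPrime ∧ q'.comap (algebraMap C C') = n := by
  have hle : RingHom.ker (algebraMap R A') ≤ RingHom.ker (algebraMap R (C ⧸ n)) := by
    intro r hr
    have h1 := hker hr
    rw [RingHom.mem_ker, IsScalarTower.algebraMap_apply R C (C ⧸ n),
      Ideal.Quotient.algebraMap_eq, Ideal.Quotient.eq_zero_iff_mem]
    exact h1
  let g0 : A' →+* C ⧸ n :=
    RingHom.liftOfSurjective (algebraMap R A') hsurj ⟨algebraMap R (C ⧸ n), hle⟩
  let g : A' →ₐ[R] C ⧸ n :=
    { g0 with
      commutes' := fun r => RingHom.liftOfRightInverse_comp_apply _ _ _ _ r }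
  let φ : C' →ₐ[R] C ⧸ n :=
    Algebra.pushoutDesc C' (Ideal.Quotient.mkₐ R n) g (fun x y => mul_comm _ _)
  refine ⟨RingHom.ker φ, RingHom.ker_isPrime φ, ?_⟩
  ext x
  rw [Ideal.mem_comap, RingHom.mem_ker, Algebra.pushoutDesc_left, Ideal.Quotient.mkₐ_eq_mk,
    Ideal.Quotient.eq_zero_iff_mem]


/-- every prime of an algebra over a local ring with nilpotent maximal ideal lies over it -/
theorem comap_eq_maximalIdeal_of_isNilpotent (A' C' : Type u) [CommRing A'] [CommRing C']
    [IsLocalRing A'] [Algebra A' C'] (hnil : IsNilpotent (maximalIdeal A')) (q' : Ideal C')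
    [q'.IsPrime] : q'.comap (algebraMap A' C') = maximalIdeal A' := by
  refine ((IsLocalRing.maximalIdeal.isMaximal A').eq_of_le
    (Ideal.IsPrime.comap (algebraMap A' C')).ne_top ?_).symm
  obtain ⟨k, hk⟩ := hnil
  intro a ha
  have h1 : a ^ k ∈ (maximalIdeal A') ^ k := Ideal.pow_mem_pow ha k
  rw [hk] at h1
  have h2 : a ^ k = 0 := h1
  have h3 : a ^ k ∈ q'.comap (algebraMap A' C') := by rw [h2]; exact zero_mem _
  exact (Ideal.IsPrime.comap (algebraMap A' C')).mem_of_pow_mem k h3

section step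

variable (R C : Type u) [CommRing R] [CommRing C] [IsNoetherianRing R] [IsLocalRing R]
  [IsNoetherianRing C] [Algebra R C] [Module.Flat R C]
  (n : Ideal C) [n.IsPrime] (hnR : n.comap (algebraMap R C) = maximalIdeal R)
  (J : Ideal C)
  (F : Type u) [AddCommGroup F] [Module C F] [Module R F] [IsScalarTower R C F]
  [Module.Finite C F]
  (n₀ m₀ : ℕ) (g : F →ₗ[C] (Fin n₀ → C)) (h : (Fin n₀ → C) →ₗ[C] (Fin m₀ → C))
  (hg : Function.Injective g) (hex : Function.Exact g h)
  (hGfree : ∀ q : PrimeSpectrum C, ¬ J ≤ q.asIdeal →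
    Module.Free (Localization.AtPrime q.asIdeal)
      (LocalizedModule q.asIdeal.primeCompl ((Fin m₀ → C) ⧸ LinearMap.range h)))
  (hD1 : ∀ (q : Ideal C) [q.IsPrime], J ≤ q → q ≤ n →
    q.comap (algebraMap R C) = n.comap (algebraMap R C) →
    2 ≤ LocCoh.depth (EGA4.FibLocRing R C q) (EGA4.FibLocRing R C q))
  (A' C' : Type u) [CommRing A'] [IsLocalRing A'] [IsNoetherianRing A'] [Algebra R A']
  (hsurjA : Function.Surjective (algebraMap R A')) (hnil : IsNilpotent (maximalIdeal A'))
  [CommRing C'] [IsNoetherianRing C'] [Algebra C C'] [Algebra A' C'] [Algebra R C']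
  [IsScalarTower R C C'] [IsScalarTower R A' C'] [Algebra.IsPushout R C A' C']
  (q' : Ideal C') [q'.IsPrime] (hq' : q'.comap (algebraMap C C') = n)
  (hflat : FlatCA.FlatAt A' q' (Module.Dual C' (Module.Dual C' (C' ⊗[C] F))))
  (hSk : LocCoh.HasSk 2 (EGA4.FibLocRing A' C' q')
    (EGA4.FibLocMod A' C' q' (Module.Dual C' (Module.Dual C' (C' ⊗[C] F)))))

include hnR hg hex hGfree hD1 hsurjA hnil hq' hflat hSk in
theorem step : Module.Flat A' (A' ⊗[R]
    LocalizedModule n.primeCompl ((Fin m₀ → C) ⧸ LinearMap.range h)) := by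
  classical
  refine Groth.Agent.Lib.Helper9.QGorLC.flat_tensor_of_flat_localized R C A' C' hsurjA
    ((Fin m₀ → C) ⧸ LinearMap.range h) n q' hq' ?_
  haveI flC' : Module.Flat A' C' := by
    haveI : Algebra.IsPushout R A' C C' := Algebra.IsPushout.symm inferInstance
    exact Module.Flat.isBaseChange (R := R) (S := A') (M := C) C'
      (Algebra.IsPushout.out (R := R) (S := A') (R' := C) (S' := C'))
  have hexq : Function.Exact h (LinearMap.range h).mkQ := LinearMap.exact_map_mkQ_range h
  have hsurj : Function.Surjective (LinearMap.range h).mkQ := Submodule.mkQ_surjective _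
  have huv' : Function.Exact (h.baseChange C') ((LinearMap.range h).mkQ.baseChange C') := by
    rw [LinearMap.baseChange_eq_ltensor, LinearMap.baseChange_eq_ltensor]
    exact lTensor_exact C' hexq hsurj
  have hv' : Function.Surjective ((LinearMap.range h).mkQ.baseChange C') := by
    rw [LinearMap.baseChange_eq_ltensor]
    exact LinearMap.lTensor_surjective C' hsurj
  have hf' : Function.Injective (LinearMap.ker (h.baseChange C')).subtype :=
    Submodule.injective_subtype _
  have hfu' : Function.Exact (LinearMap.ker (h.baseChange C')).subtype (h.baseChange C') :=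
    LinearMap.exact_subtype_ker_map _
  have hGfree' : ∀ q'' : PrimeSpectrum C', ¬ J.map (algebraMap C C') ≤ q''.asIdeal →
      Module.Free (Localization.AtPrime q''.asIdeal)
        (LocalizedModule q''.asIdeal.primeCompl
          (C' ⊗[C] ((Fin m₀ → C) ⧸ LinearMap.range h))) := by
    intro q'' hq''
    refine Groth.Agent.Lib.Helper9.KollarBC2.free_localized_baseChange C C' _ q''.asIdeal ?_
    exact hGfree ⟨q''.asIdeal.comap (algebraMap C C'), inferInstance⟩
      (fun h => hq'' (Ideal.map_le_iff_le_comap.mpr h))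
  have hΦ : ∀ (q'' : Ideal C') [q''.IsPrime], ¬ J.map (algebraMap C C') ≤ q'' →
      ∃ c ∈ qinv (X := C' ⊗[C] F) (Y := LinearMap.ker (h.baseChange C'))
        (Groth.Agent.Lib.Helper9.QGorHom.kerMap C' g h hex), c ∉ q'' := by
    intro q'' _ hq''
    have hnJ : ¬ J ≤ q''.comap (algebraMap C C') := fun h =>
      hq'' (Ideal.map_le_iff_le_comap.mpr h)
    haveI := hGfree ⟨q''.comap (algebraMap C C'), inferInstance⟩ hnJ
    obtain ⟨s, hs, τ, ρ, h1, h2⟩ := Groth.Agent.Lib.Helper9.QGorHom.exists_homotopy_upTo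
      (q''.comap (algebraMap C C')) g h (LinearMap.range h).mkQ hg hex hexq hsurj inferInstance
    exact ⟨algebraMap C C' s,
      Groth.Agent.Lib.Helper9.QGorHom.mem_qinv_kerMap C' g h hex s τ ρ h1 h2, hs⟩
  have hq'A : q'.comap (algebraMap A' C') = maximalIdeal A' :=
    comap_eq_maximalIdeal_of_isNilpotent A' C' hnil q'
  have hmR : (maximalIdeal A').comap (algebraMap R A') = maximalIdeal R := by
    refine ((IsLocalRing.maximalIdeal.isMaximal R).eq_of_le
      (Ideal.IsPrime.comap (algebraMap R A')).ne_top ?_).symm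
    intro r hr
    rw [Ideal.mem_comap]
    by_contra hnot
    have hu : IsUnit (algebraMap R A' r) := IsLocalRing.notMem_maximalIdeal.mp hnot
    obtain ⟨b, hb⟩ := hu.exists_right_inv
    obtain ⟨r', rfl⟩ := hsurjA b
    rw [← map_mul] at hb
    have h1 : r * r' - 1 ∈ RingHom.ker (algebraMap R A') := by
      rw [RingHom.mem_ker, map_sub, hb, map_one, sub_self]
    have h2 : RingHom.ker (algebraMap R A') ≤ maximalIdeal R :=
      IsLocalRing.le_maximalIdeal (RingHom.ker_ne_top _)
    have h3 : r * r' ∈ maximalIdeal R := Ideal.mul_mem_right _ _ hr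
    have h4 : (1 : R) ∈ maximalIdeal R := by
      have := Ideal.sub_mem _ h3 (h2 h1)
      simpa using this
    exact (Ideal.ne_top_iff_one _).mp (IsLocalRing.maximalIdeal.isMaximal R).ne_top h4
  have hD : ∀ (q'' : Ideal C') [q''.IsPrime], J.map (algebraMap C C') ≤ q'' → q'' ≤ q' →
      2 ≤ LocCoh.depth (EGA4.FibLocRing A' C' q'') (EGA4.FibLocRing A' C' q'') := by
    intro q'' _ hJq'' hle
    have hJ : J ≤ q''.comap (algebraMap C C') := Ideal.map_le_iff_le_comap.mp hJq''
    have hle' : q''.comap (algebraMap C C') ≤ n := by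
      rw [← hq']
      exact Ideal.comap_mono hle
    have hc : (q''.comap (algebraMap C C')).comap (algebraMap R C) =
        n.comap (algebraMap R C) := by
      rw [hnR, Ideal.comap_comap, ← IsScalarTower.algebraMap_eq,
        IsScalarTower.algebraMap_eq R A' C', ← Ideal.comap_comap,
        comap_eq_maximalIdeal_of_isNilpotent A' C' hnil q'', hmR]
    exact le_trans (hD1 (q''.comap (algebraMap C C')) hJ hle' hc)
      (Groth.Agent.Lib.Helper9.KollarBC1.depth_fibLocRing_le_baseChange R C A' C' q'')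
  exact Groth.Agent.Lib.Helper9.QGorApp.app A' C' (J.map (algebraMap C C'))
    (C' ⊗[C] F) (LinearMap.ker (h.baseChange C')) (C' ⊗[C] (Fin n₀ → C)) (C' ⊗[C] (Fin m₀ → C))
    (C' ⊗[C] ((Fin m₀ → C) ⧸ LinearMap.range h))
    (LinearMap.ker (h.baseChange C')).subtype (h.baseChange C')
    ((LinearMap.range h).mkQ.baseChange C') hf' hfu' huv' hv' hGfree'
    (Groth.Agent.Lib.Helper9.QGorHom.kerMap C' g h hex) hΦ q' hq'A hnil hD hflat hSk

end step


section main

attribute [local instance] Algebra.TensorProduct.rightAlgebra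

/-- **Kollár's infinitesimal criterion**, affine-local form. -/
theorem main (R C : Type u) [CommRing R] [CommRing C] [IsNoetherianRing R] [IsLocalRing R]
    [IsNoetherianRing C] [Algebra R C] [Module.Flat R C]
    (n : PrimeSpectrum C) (hn : (IsLocalRing.maximalIdeal R).map (algebraMap R C) ≤ n.asIdeal)
    (hS2 : LocCoh.HasSk 2 (EGA4.FibLocRing R C n.asIdeal) (EGA4.FibLocRing R C n.asIdeal))
    (F : Type u) [AddCommGroup F] [Module C F] [Module R F] [IsScalarTower R C F]
    [Module.Finite C F] [Module.IsReflexive C F] (J : Ideal C)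
    (hFU : ∀ q : PrimeSpectrum C, ¬ J ≤ q.asIdeal →
      Module.Free (Localization.AtPrime q.asIdeal) (LocalizedModule q.asIdeal.primeCompl F))
    (hcodim : ∀ q : PrimeSpectrum C, J ≤ q.asIdeal →
      (2 : WithBot ℕ∞) ≤ ringKrullDim (EGA4.FibLocRing R C q.asIdeal))
    (hI : ∀ (A' : Type u) [CommRing A'] [IsArtinianRing A'] [IsLocalRing A'] [Algebra R A'],
      Function.Surjective (algebraMap R A') →
      ∀ (C' : Type u) [CommRing C'] [IsNoetherianRing C'] [Algebra C C'] [Algebra A' C']
        [Algebra R C'] [IsScalarTower R C C'] [IsScalarTower R A' C'],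
        Algebra.IsPushout R C A' C' →
        ∀ q' : PrimeSpectrum C', q'.asIdeal.comap (algebraMap C C') = n.asIdeal →
          FlatCA.FlatAt A' q'.asIdeal (Module.Dual C' (Module.Dual C' (C' ⊗[C] F))) ∧
          LocCoh.HasSk 2 (EGA4.FibLocRing A' C' q'.asIdeal)
            (EGA4.FibLocMod A' C' q'.asIdeal
              (Module.Dual C' (Module.Dual C' (C' ⊗[C] F))))) :
    FlatCA.FlatAt R n.asIdeal F ∧
      LocCoh.HasSk 2 (EGA4.FibLocRing R C n.asIdeal) (EGA4.FibLocMod R C n.asIdeal F) := by
  classical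
  have hnR : n.asIdeal.comap (algebraMap R C) = maximalIdeal R :=
    ((IsLocalRing.maximalIdeal.isMaximal R).eq_of_le
      (Ideal.IsPrime.comap (algebraMap R C)).ne_top (Ideal.map_le_iff_le_comap.mp hn)).symm
  obtain ⟨n₀, m₀, g, h, hg, hex, hGfree⟩ := Groth.Agent.S18709.result C J F hFU
  have hexq : Function.Exact h (LinearMap.range h).mkQ := LinearMap.exact_map_mkQ_range h
  have hsurj : Function.Surjective (LinearMap.range h).mkQ := Submodule.mkQ_surjective _
  haveI flE0 : Module.Flat R (Fin n₀ → C) := Module.Flat.trans R C (Fin n₀ → C)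
  haveI flE1 : Module.Flat R (Fin m₀ → C) := Module.Flat.trans R C (Fin m₀ → C)
  -- the fibre rings have depth `≥ 2` along `J`
  have hD1 : ∀ (q : Ideal C) [q.IsPrime], J ≤ q → q ≤ n.asIdeal →
      q.comap (algebraMap R C) = n.asIdeal.comap (algebraMap R C) →
      2 ≤ LocCoh.depth (EGA4.FibLocRing R C q) (EGA4.FibLocRing R C q) := by
    intro q _ hJq hqn hcomap
    have h1 := Groth.Agent.Lib.Helper9.QGorT.closed_ring_of_hasSk R C n.asIdeal 2 hS2 q hqn hcomap
    have h2 : ((2 : ℕ) : WithBot ℕ∞) ≤ ringKrullDim (EGA4.FibLocRing R C q) :=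
      hcodim ⟨q, inferInstance⟩ hJq
    rw [min_eq_left h2] at h1
    have h3 : (((2 : ℕ) : ℕ∞) : WithBot ℕ∞) ≤
        ((LocCoh.depth (EGA4.FibLocRing R C q) (EGA4.FibLocRing R C q) : ℕ∞) : WithBot ℕ∞) := h1
    exact_mod_cast WithBot.coe_le_coe.mp h3
  have hfibD : ∀ (q : Ideal C) [q.IsPrime], J ≤ q → q ≤ n.asIdeal →
      q.comap (algebraMap R C) = n.asIdeal.comap (algebraMap R C) →
      2 ≤ LocCoh.idealDepth (q.map (algebraMap C (EGA4.FibLocRing R C q)))
        (EGA4.FibLocRing R C q) := by
    intro q _ h1 h2 h3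
    rw [Groth.Agent.Lib.Helper26.KollarDepth.map_fib_eq]
    exact hD1 q h1 h2 h3
  -- the criterion at `n`
  have h0 : 2 ≤ LocCoh.idealDepth (J.map (algebraMap C (Localization.AtPrime n.asIdeal)))
      (EGA4.FibLocMod R C n.asIdeal (Fin n₀ → C)) := by
    have := Groth.Agent.Lib.Helper9.KollarGlobal.p2i R C J (Fin n₀ → C) n.asIdeal 2
      (fun q _ hJq hle hc => by
        exact_mod_cast (Groth.Agent.Lib.Helper9.KollarBC2.fib_depth_proj R C (Fin n₀ → C) q _).2
          (hfibD q hJq hle hc))
    exact_mod_cast this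
  have h1 : 1 ≤ LocCoh.idealDepth (J.map (algebraMap C (Localization.AtPrime n.asIdeal)))
      (EGA4.FibLocMod R C n.asIdeal (Fin m₀ → C)) := by
    have := Groth.Agent.Lib.Helper9.KollarGlobal.p2i R C J (Fin m₀ → C) n.asIdeal 1
      (fun q _ hJq hle hc => by
        exact_mod_cast (Groth.Agent.Lib.Helper9.KollarBC2.fib_depth_proj R C (Fin m₀ → C) q _).1
          (le_trans (by norm_num) (hfibD q hJq hle hc)))
    exact_mod_cast this
  have hGUf : ∀ q : PrimeSpectrum C, ¬ J ≤ q.asIdeal →
      FlatCA.FlatAt R q.asIdeal ((Fin m₀ → C) ⧸ LinearMap.range h) := fun q hq =>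
    Groth.Agent.Lib.Helper9.KollarBC2.flat_of_free_localized R C _ q.asIdeal (hGfree q hq)
  obtain ⟨c1, c2⟩ := Groth.Agent.Lib.Helper9.KollarGlobal.core R C J F (Fin n₀ → C) (Fin m₀ → C)
    ((Fin m₀ → C) ⧸ LinearMap.range h) g h (LinearMap.range h).mkQ hg hex hexq hsurj hGUf
    n.asIdeal h0 h1
  -- flatness of `G` at `n`
  have hGflat : Module.Flat R
      (LocalizedModule n.asIdeal.primeCompl ((Fin m₀ → C) ⧸ LinearMap.range h)) := by
    haveI := Groth.Agent.Lib.Helper9.QGorApp.isScalarTower_localized R C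
      ((Fin m₀ → C) ⧸ LinearMap.range h) n.asIdeal.primeCompl
    refine Groth.Agent.Lib.Helper9.QGorLC.flat_of_forall_flat_quotient_pow_of_finite (A := R)
      (B := Localization.AtPrime n.asIdeal) (maximalIdeal R) ?_ _ (fun k hk => ?_)
    · rw [IsLocalRing.jacobson_eq_maximalIdeal ⊥ bot_ne_top,
        IsScalarTower.algebraMap_eq R C (Localization.AtPrime n.asIdeal), ← Ideal.map_map,
        ← Localization.AtPrime.map_eq_maximalIdeal]
      exact Ideal.map_mono hn
    · have hle : maximalIdeal R ^ k ≤ maximalIdeal R := Ideal.pow_le_self hk.ne'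
      haveI : Nontrivial (R ⧸ maximalIdeal R ^ k) :=
        Ideal.Quotient.nontrivial_iff.mpr (fun h =>
          (IsLocalRing.maximalIdeal.isMaximal R).ne_top (top_le_iff.mp (h ▸ hle)))
      haveI : IsLocalRing (R ⧸ maximalIdeal R ^ k) :=
        IsLocalRing.of_surjective' (Ideal.Quotient.mk (maximalIdeal R ^ k))
          Ideal.Quotient.mk_surjective
      have hmax : (maximalIdeal R).map (Ideal.Quotient.mk (maximalIdeal R ^ k)) =
          maximalIdeal (R ⧸ maximalIdeal R ^ k) :=
        IsLocalRing.map_maximalIdeal_of_surjective _ Ideal.Quotient.mk_surjective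
      have hnil : IsNilpotent (maximalIdeal (R ⧸ maximalIdeal R ^ k)) :=
        ⟨k, by rw [← hmax, ← Ideal.map_pow, Ideal.map_quotient_self]; rfl⟩
      haveI : IsArtinianRing (R ⧸ maximalIdeal R ^ k) :=
        (isArtinianRing_iff_isNilpotent_maximalIdeal _).mpr hnil
      have hsurjA : Function.Surjective (algebraMap R (R ⧸ maximalIdeal R ^ k)) :=
        Ideal.Quotient.mk_surjective
      have hsurjC : Function.Surjective
          (algebraMap C ((R ⧸ maximalIdeal R ^ k) ⊗[R] C)) :=
        Groth.Agent.Lib.Helper9.QGorLC.surjective_of_isPushout R C (R ⧸ maximalIdeal R ^ k)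
          ((R ⧸ maximalIdeal R ^ k) ⊗[R] C) hsurjA
      haveI : IsNoetherianRing ((R ⧸ maximalIdeal R ^ k) ⊗[R] C) :=
        isNoetherianRing_of_surjective C _ (algebraMap C ((R ⧸ maximalIdeal R ^ k) ⊗[R] C)) hsurjC
      have hker : RingHom.ker (algebraMap R (R ⧸ maximalIdeal R ^ k)) ≤
          n.asIdeal.comap (algebraMap R C) := by
        rw [hnR, Ideal.Quotient.algebraMap_eq, Ideal.mk_ker]
        exact hle
      obtain ⟨q', hq'p, hq'⟩ := exists_prime_over R C (R ⧸ maximalIdeal R ^ k)
        ((R ⧸ maximalIdeal R ^ k) ⊗[R] C) hsurjA n.asIdeal hker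
      obtain ⟨hfl, hSk⟩ := hI (R ⧸ maximalIdeal R ^ k) hsurjA
        ((R ⧸ maximalIdeal R ^ k) ⊗[R] C) inferInstance ⟨q', hq'p⟩ hq'
      exact step R C n.asIdeal hnR J F n₀ m₀ g h hg hex hGfree hD1 (R ⧸ maximalIdeal R ^ k)
        ((R ⧸ maximalIdeal R ^ k) ⊗[R] C) hsurjA hnil q' hq' hfl hSk
  refine ⟨c2 hGflat, ?_⟩
  -- `S₂` of the fibre stalk
  refine (Groth.Agent.Lib.Helper9.QGorT.hasSk_fib_iff R C F n.asIdeal 2).mpr
    (fun q' _ hle hcomap => ?_)
  by_cases hJ : J ≤ q'
  · have h2 : 2 ≤ LocCoh.idealDepth (J.map (algebraMap C (Localization.AtPrime n.asIdeal)))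
        (EGA4.FibLocMod R C n.asIdeal F) := c1.mpr hGflat
    have hdisj : Disjoint (n.asIdeal.primeCompl : Set C) (q' : Set C) := by
      rw [Set.disjoint_left]
      intro x hx hx'
      exact hx (hle hx')
    haveI hQp : (q'.map (algebraMap C (Localization.AtPrime n.asIdeal))).IsPrime :=
      IsLocalization.isPrime_of_isPrime_disjoint n.asIdeal.primeCompl
        (Localization.AtPrime n.asIdeal) q' inferInstance hdisj
    have hQc : (q'.map (algebraMap C (Localization.AtPrime n.asIdeal))).comap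
        (algebraMap C (Localization.AtPrime n.asIdeal)) = q' :=
      IsLocalization.comap_map_of_isPrime_disjoint n.asIdeal.primeCompl
        (Localization.AtPrime n.asIdeal) inferInstance hdisj
    obtain ⟨hd, hs⟩ := Groth.Agent.Lib.Helper9.QGorT.t1 R C F n.asIdeal
      (q'.map (algebraMap C (Localization.AtPrime n.asIdeal))) q' hQc hcomap
    by_cases hnt : Nontrivial (LocalizedModule
        (q'.map (algebraMap C (Localization.AtPrime n.asIdeal))).primeCompl
        (EGA4.FibLocMod R C n.asIdeal F))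
    · have h3 := Groth.Agent.Lib.Helper28.idealDepth_le_depth_localization
        (M := EGA4.FibLocMod R C n.asIdeal F)
        (J.map (algebraMap C (Localization.AtPrime n.asIdeal)))
        (q'.map (algebraMap C (Localization.AtPrime n.asIdeal))) (Ideal.map_mono hJ)
      have h4 : (2 : ℕ∞) ≤ LocCoh.depth (EGA4.FibLocRing R C q') (EGA4.FibLocMod R C q' F) := by
        rw [← hd]
        exact le_trans h2 h3
      have h5 : (((2 : ℕ) : ℕ∞) : WithBot ℕ∞) ≤
          ((LocCoh.depth (EGA4.FibLocRing R C q') (EGA4.FibLocMod R C q' F) : ℕ∞) :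
            WithBot ℕ∞) := WithBot.coe_le_coe.mpr (by exact_mod_cast h4)
      exact le_trans (min_le_left _ _) h5
    · rw [not_nontrivial_iff_subsingleton] at hnt
      rw [← hs, Module.supportDim_eq_bot_of_subsingleton, min_bot_right]
      exact bot_le
  · haveI := hFU ⟨q', inferInstance⟩ hJ
    haveI : Module.Finite (EGA4.FibLocRing R C q') (EGA4.FibLocMod R C q' F) :=
      Module.Finite.of_restrictScalars_finite (Localization.AtPrime q') _ _
    haveI : Module.Projective (EGA4.FibLocRing R C q') (EGA4.FibLocMod R C q' F) :=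
      Groth.Agent.Lib.Helper9.projective_quot_smul_top _ (LocalizedModule q'.primeCompl F)
    haveI : Module.Free (EGA4.FibLocRing R C q') (EGA4.FibLocMod R C q' F) :=
      Module.free_of_flat_of_isLocalRing
    have hr := Groth.Agent.Lib.Helper9.QGorT.closed_ring_of_hasSk R C n.asIdeal 2 hS2 q' hle hcomap
    have hs : Module.supportDim (EGA4.FibLocRing R C q') (EGA4.FibLocMod R C q' F) ≤
        ringKrullDim (EGA4.FibLocRing R C q') := Module.supportDim_le_ringKrullDim _ _
    have hd : LocCoh.depth (EGA4.FibLocRing R C q') (EGA4.FibLocRing R C q') ≤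
        LocCoh.depth (EGA4.FibLocRing R C q') (EGA4.FibLocMod R C q' F) :=
      Groth.Agent.Lib.Helper28.le_idealDepth_of_free _ _
    exact le_trans (min_le_min_left _ hs) (le_trans hr (WithBot.coe_le_coe.mpr hd))

end main

end Groth.Agent.Lib.Helper9.QGorMain
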