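import Mathlib
import Groth.Prelude
import Groth.Agent.Lib.Helper12.DvrCurve
import Groth.Agent.Lib.Helper9.BlowSubm
import Groth.Agent.Lib.Helper26.UnivSubm
import Groth.Agent.Lib.Helper4.SigmaPts
import Groth.Agent.Lib.Helper10.DomUnivOpen
set_option backward.isDefEq.respectTransparency.types false
set_option autoImplicit false
universe u
open CategoryTheory CategoryTheory.Limits AlgebraicGeometry TopologicalSpace

/-!
# qfh-coverings of a geometrically unibranch irreducible Noetherian scheme (helper9)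
-/

namespace Groth.Agent.Lib.Helper9.Qfh

open Groth.Agent.Lib.Helper26.UnivSubm Groth.Agent.Lib.Helper4.SigmaPts Groth.Agent.Lib.Helper10.DomUnivOpen

theorem exists_dominant_member {X : Scheme.{u}} [IsLocallyNoetherian X] [IrreducibleSpace ↥X]
    {ι : Type u} (U : ι → Scheme.{u}) (f : ∀ i, U i ⟶ X)
    (h : SGA1.UnivSubmersive (Sigma.desc f)) (x : X) :
    ∃ (i : ι) (u : U i), IsDominant (f i) ∧ f i u = x := by
  have hfi : ∀ (i : ι) (u : U i), (Sigma.desc f) (Sigma.ι U i u) = f i u := by
    intro i u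
    rw [← Scheme.Hom.comp_apply, Sigma.ι_desc]
  by_cases hx : x = genericPoint ↥X
  · have hq : Topology.IsQuotientMap (Sigma.desc f) := MorphismProperty.universally_le _ _ h
    obtain ⟨z, hz⟩ := hq.surjective x
    obtain ⟨i, u, rfl⟩ := exists_sigmaι_eq U z
    rw [hfi] at hz
    exact ⟨i, u, isDominant_of_apply_eq_genericPoint (f i) u (hz.trans hx), hz⟩
  · have hspec : genericPoint ↥X ⤳ x := (genericPoint_spec ↥X).specializes trivial
    obtain ⟨R, iR, iD, iV, γ, hγs, hγη⟩ :=
      Groth.Agent.Lib.Helper12.DvrCurve.exists_dvr_scheme x (genericPoint ↥X) hspec (Ne.symm hx)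
    have hpq : Topology.IsQuotientMap (pullback.snd (Sigma.desc f) γ) :=
      h _ _ _ (IsPullback.of_hasPullback (Sigma.desc f) γ).flip
    have hRf : ¬ IsField R := IsDiscreteValuationRing.not_isField R
    obtain ⟨w, hws, hwcl⟩ := BlowSubm.exists_mem_closure_preimage hRf
      (fun w => (pullback.snd (Sigma.desc f) γ) w) hpq
    obtain ⟨i, u, hu⟩ := exists_sigmaι_eq U ((pullback.fst (Sigma.desc f) γ) w)
    let O : Set ↥(pullback (Sigma.desc f) γ) :=
      (pullback.fst (Sigma.desc f) γ) ⁻¹' (Set.range (Sigma.ι U i))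
    have hO : IsOpen O := (Scheme.Hom.isOpenEmbedding (Sigma.ι U i)).isOpen_range.preimage
      (pullback.fst (Sigma.desc f) γ).continuous
    have hwO : w ∈ O := ⟨u, hu⟩
    obtain ⟨w', hw'O, hw's⟩ := mem_closure_iff.mp hwcl O hO hwO
    obtain ⟨u', hu'⟩ := hw'O
    have hcond : ∀ v, (Sigma.desc f) ((pullback.fst (Sigma.desc f) γ) v) =
        γ ((pullback.snd (Sigma.desc f) γ) v) := by
      intro v
      rw [← Scheme.Hom.comp_apply, ← Scheme.Hom.comp_apply, pullback.condition]
    have hη : (pullback.snd (Sigma.desc f) γ) w' = (⟨⊥, Ideal.isPrime_bot⟩ : PrimeSpectrum R) := by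
      rcases BlowSubm.dvr_point_cases ((pullback.snd (Sigma.desc f) γ) w') with h' | h'
      · exact absurd h' hw's
      · exact h'
    have h1 : f i u' = genericPoint ↥X := by
      rw [← hfi, hu', hcond, hη, hγη]
    have h2 : f i u = x := by
      rw [← hfi, hu, hcond, ← hγs]
      exact congrArg (fun z => γ z) hws
    exact ⟨i, u, isDominant_of_apply_eq_genericPoint (f i) u' h1, h2⟩

theorem main {X : Scheme.{u}} [IsNoetherian X] [IrreducibleSpace ↥X]
    (hX : ∀ x : X, CAlg2.IsGeomUnibranch (X.presheaf.stalk x)) (E : PreZeroHypercover.{u} X)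
    [∀ i, LocallyOfFiniteType (E.f i)] [∀ i, LocallyQuasiFinite (E.f i)]
    [∀ i, IrreducibleSpace ↥(E.X i)] :
    (SGA1.UnivSubmersive (Sigma.desc E.f) ↔
        ∀ x : X, ∃ (i : E.I₀) (u : E.X i), IsDominant (E.f i) ∧ E.f i u = x) ∧
      ((∀ x : X, ∃ (i : E.I₀) (u : E.X i), IsDominant (E.f i) ∧ E.f i u = x) →
        SGA1.UnivSubmersive
          (Sigma.desc fun j : {i : E.I₀ // IsDominant (E.f i)} => E.f j.1)) := by
  have hB : (∀ x : X, ∃ (i : E.I₀) (u : E.X i), IsDominant (E.f i) ∧ E.f i u = x) →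
      SGA1.UnivSubmersive
        (Sigma.desc fun j : {i : E.I₀ // IsDominant (E.f i)} => E.f j.1) := by
    intro hcov
    haveI : UniversallyOpen
        (Sigma.desc fun j : {i : E.I₀ // IsDominant (E.f i)} => E.f j.1) := by
      apply IsZariskiLocalAtSource.sigmaDesc (P := @UniversallyOpen)
      intro j
      haveI : IsDominant (E.f j.1) := j.2
      exact universallyOpen_of_isDominant hX (E.f j.1)
    haveI : Surjective
        (Sigma.desc fun j : {i : E.I₀ // IsDominant (E.f i)} => E.f j.1) := by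
      apply surjective_sigmaDesc
      intro x
      obtain ⟨i, u, hd, hu⟩ := hcov x
      exact ⟨⟨i, hd⟩, u, hu⟩
    exact univSubmersive_of_universallyOpen_of_surjective _
  refine ⟨⟨fun h x => exists_dominant_member E.X E.f h x, fun hcov => ?_⟩, hB⟩
  have h1 := hB hcov
  have hfac : (Sigma.desc fun j : {i : E.I₀ // IsDominant (E.f i)} => E.f j.1) =
      (Sigma.desc fun j : {i : E.I₀ // IsDominant (E.f i)} => Sigma.ι E.X j.1) ≫
        Sigma.desc E.f := by
    apply Sigma.hom_ext
    intro j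
    simp
  rw [hfac] at h1
  exact univSubmersive_of_comp _ _ h1

end Groth.Agent.Lib.Helper9.Qfh
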