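import Mathlib

/-! Helper library for S1601: a quadric in `I^2` (colength `> 1`) is a scalar times a square. -/

namespace Helper9.Quadric1601

open Polynomial

section poly
variable {K : Type*} [Field K]

theorem quad0 {a₀ a₁ a₂ : K} (h : C a₀ + C a₁ * X + C a₂ * X ^ 2 = (0 : K[X])) :
    a₀ = 0 ∧ a₁ = 0 ∧ a₂ = 0 := by
  have h0 := congrArg (fun P => coeff P 0) h
  have h1 := congrArg (fun P => coeff P 1) h
  have h2 := congrArg (fun P => coeff P 2) h
  simp [coeff_X, coeff_C] at h0 h1 h2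
  exact ⟨h0, h1, h2⟩

theorem lemU {a b c d e f : K} {p : K[X]}
    (h1 : C c + C e * X + C (2*f) * p = 0)
    (h2 : C a + C b * X + C c * p + C d * X^2 + C e * X * p + C f * p^2 = 0) :
    (a = 0 ∧ b = 0 ∧ c = 0 ∧ d = 0 ∧ e = 0 ∧ f = 0) ∨
    ∃ p₀ p₁ : K, c = -2*f*p₀ ∧ e = -2*f*p₁ ∧ a = f*p₀^2 ∧ b = 2*f*p₀*p₁ ∧ d = f*p₁^2 := by
  have hC2 : (C (2*f) : K[X]) = 2 * C f := by rw [map_mul, map_ofNat]
  rw [hC2] at h1
  have h3 : C f * p^2 = C a + C b * X + C d * X^2 := by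
    linear_combination p * h1 - h2
  by_cases hf : f = 0
  · left
    subst hf
    simp only [map_zero, mul_zero, zero_mul, add_zero] at h1 h3
    have e1 := quad0 (a₀ := c) (a₁ := e) (a₂ := 0) (by simpa using h1)
    have e2 := quad0 (a₀ := a) (a₁ := b) (a₂ := d) h3.symm
    exact ⟨e2.1, e2.2.1, e1.1, e2.2.2, e1.2.1, rfl⟩
  · right
    have hdeg : p.natDegree ≤ 1 := by
      have hle : (C f * p^2).natDegree ≤ 2 := by
        rw [h3]
        have : C a + C b * X + C d * X^2 = C d * X^2 + C b * X + C a := by ring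
        rw [this]
        exact natDegree_quadratic_le
      rw [natDegree_C_mul hf, natDegree_pow] at hle
      omega
    have hp := eq_X_add_C_of_natDegree_le_one hdeg
    set p₁ := p.coeff 1
    set p₀ := p.coeff 0
    rw [hp] at h1 h3
    have e1 : C (c + 2*f*p₀) + C (e + 2*f*p₁) * X + C (0:K) * X^2 = 0 := by
      simp only [map_add, map_mul, map_ofNat, map_zero]
      linear_combination h1
    have e2 : C (a - f*p₀^2) + C (b - 2*f*p₀*p₁) * X + C (d - f*p₁^2) * X^2 = 0 := by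
      simp only [map_add, map_mul, map_ofNat, map_sub, map_pow]
      linear_combination -h3
    obtain ⟨k1, k2, -⟩ := quad0 e1
    obtain ⟨k3, k4, k5⟩ := quad0 e2
    refine ⟨p₀, p₁, ?_, ?_, ?_, ?_, ?_⟩
    · linear_combination k1
    · linear_combination k2
    · linear_combination k3
    · linear_combination k4
    · linear_combination k5

theorem coeffs_of_X2_dvd {k₀ k₁ k₂ : K} {s : K[X]}
    (h : C k₀ + C k₁ * X + C k₂ * X ^ 2 = X ^ 2 * s) : k₀ = 0 ∧ k₁ = 0 := by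
  have h0 := congrArg (fun P => coeff P 0) h
  have h1 := congrArg (fun P => coeff P 1) h
  simp [coeff_X, coeff_C, coeff_X_pow_mul'] at h0 h1
  exact ⟨h0, h1⟩

theorem coeff2_of_eq {k₀ k₁ k₂ j : K} {s : K[X]}
    (h : C k₀ + C k₁ * X + C k₂ * X ^ 2 = C j * X ^ 2 + X ^ 3 * s) : k₂ = j := by
  have h2 := congrArg (fun P => coeff P 2) h
  simp [coeff_X, coeff_C, coeff_X_pow_mul'] at h2
  exact h2

theorem vanish_of_sq_dvd {h P : K[X]} (hd : h^2 ∣ P) (hdeg : P.natDegree < 2 * h.natDegree) :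
    P = 0 := by
  apply eq_zero_of_dvd_of_natDegree_lt hd
  rw [natDegree_pow]
  exact hdeg

end poly

section NR
variable {κ : Type*} [Field κ]

local notation "Rk" => MvPolynomial (Fin 2) κ
local notation "Cm" => MvPolynomial.C
local notation "Xm" => MvPolynomial.X

/-- the general quadric -/
noncomputable def qpoly (a b c d e f : κ) : MvPolynomial (Fin 2) κ :=
  Cm a + Cm b * Xm 0 + Cm c * Xm 1 + Cm d * Xm 0 ^ 2 + Cm e * Xm 0 * Xm 1 + Cm f * Xm 1 ^ 2

theorem pderiv_mem_of_mem_sq (J : Ideal (MvPolynomial (Fin 2) κ)) (i : Fin 2)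
    {g : MvPolynomial (Fin 2) κ} (hg : g ∈ J^2) : MvPolynomial.pderiv i g ∈ J := by
  rw [pow_two] at hg
  refine Submodule.mul_induction_on hg (fun m hm n hn => ?_) (fun x y hx hy => ?_)
  · rw [Derivation.leibniz, smul_eq_mul, smul_eq_mul]
    exact J.add_mem (J.mul_mem_right _ hm) (J.mul_mem_right _ hn)
  · rw [map_add]; exact J.add_mem hx hy

theorem pderiv0_qpoly (a b c d e f : κ) :
    MvPolynomial.pderiv 0 (qpoly a b c d e f) = Cm b + Cm (2*d) * Xm 0 + Cm e * Xm 1 := by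
  have h10 : (1 : Fin 2) ≠ 0 := by decide
  simp only [qpoly, map_add, Derivation.leibniz, Derivation.leibniz_pow, MvPolynomial.pderiv_C,
    MvPolynomial.pderiv_X_self, MvPolynomial.pderiv_X_of_ne h10, smul_eq_mul, map_mul, map_ofNat]
  ring

theorem pderiv1_qpoly (a b c d e f : κ) :
    MvPolynomial.pderiv 1 (qpoly a b c d e f) = Cm c + Cm e * Xm 0 + Cm (2*f) * Xm 1 := by
  have h01 : (0 : Fin 2) ≠ 1 := by decide
  simp only [qpoly, map_add, Derivation.leibniz, Derivation.leibniz_pow, MvPolynomial.pderiv_C,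
    MvPolynomial.pderiv_X_self, MvPolynomial.pderiv_X_of_ne h01, smul_eq_mul, map_mul, map_ofNat]
  ring

theorem dvd_of_mem_ker {F K : Type*} [Field F] [Field K] [Algebra κ K] [Algebra K F] [Algebra κ F]
    [IsScalarTower κ K F] (π : MvPolynomial (Fin 2) κ →ₐ[κ] F)
    (ψ : MvPolynomial (Fin 2) κ →ₐ[κ] K[X])
    (θ : F) (hcomp : ∀ g, aeval θ (ψ g) = π g) :
    (∀ g ∈ RingHom.ker π, minpoly K θ ∣ ψ g) ∧
      (∀ g ∈ (RingHom.ker π)^2, (minpoly K θ)^2 ∣ ψ g) := by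
  have h1 : ∀ g ∈ RingHom.ker π, minpoly K θ ∣ ψ g := by
    intro g hg
    apply minpoly.dvd
    rw [hcomp]; exact hg
  refine ⟨h1, fun g hg => ?_⟩
  rw [pow_two] at hg
  refine Submodule.mul_induction_on hg (fun m hm n hn => ?_) (fun x y hx hy => ?_)
  · rw [map_mul, pow_two]; exact mul_dvd_mul (h1 m hm) (h1 n hn)
  · rw [map_add]; exact dvd_add hx hy

theorem nr12 {F : Type*} [Field F] [Algebra κ F] (π : MvPolynomial (Fin 2) κ →ₐ[κ] F)
    (ψ : MvPolynomial (Fin 2) κ →ₐ[κ] κ[X]) (θ : F)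
    (hdeg : 2 ≤ (minpoly κ θ).natDegree) (hcomp : ∀ g, aeval θ (ψ g) = π g)
    (p : κ[X]) (hp : p.natDegree < (minpoly κ θ).natDegree)
    (a b c d e f : κ) (g₂ g₁ : MvPolynomial (Fin 2) κ)
    (hg₂ : g₂ ∈ (RingHom.ker π)^2) (hg₁ : g₁ ∈ RingHom.ker π)
    (hψ₂ : ψ g₂ = C a + C b * X + C c * p + C d * X^2 + C e * X * p + C f * p^2)
    (hψ₁ : ψ g₁ = C c + C e * X + C (2*f) * p) :
    (a = 0 ∧ b = 0 ∧ c = 0 ∧ d = 0 ∧ e = 0 ∧ f = 0) ∨
    ∃ p₀ p₁ : κ, c = -2*f*p₀ ∧ e = -2*f*p₁ ∧ a = f*p₀^2 ∧ b = 2*f*p₀*p₁ ∧ d = f*p₁^2 := by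
  set n := (minpoly κ θ).natDegree with hn
  obtain ⟨hd1, hd2⟩ := dvd_of_mem_ker (K := κ) π ψ θ hcomp
  have hb1 : (C c + C e * X + C (2*f) * p).natDegree ≤ n - 1 := by
    refine natDegree_add_le_of_degree_le (natDegree_add_le_of_degree_le ?_ ?_) ?_
    · rw [natDegree_C]; omega
    · exact (natDegree_C_mul_le _ _).trans (by rw [natDegree_X]; omega)
    · exact (natDegree_C_mul_le _ _).trans (by omega)
  have hb2 : (C a + C b * X + C c * p + C d * X^2 + C e * X * p + C f * p^2).natDegree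
      ≤ 2 * n - 2 := by
    refine natDegree_add_le_of_degree_le (natDegree_add_le_of_degree_le
      (natDegree_add_le_of_degree_le (natDegree_add_le_of_degree_le
      (natDegree_add_le_of_degree_le ?_ ?_) ?_) ?_) ?_) ?_
    · rw [natDegree_C]; omega
    · exact (natDegree_C_mul_le _ _).trans (by rw [natDegree_X]; omega)
    · exact (natDegree_C_mul_le _ _).trans (by omega)
    · exact (natDegree_C_mul_le _ _).trans ((natDegree_X_pow_le _).trans (by omega))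
    · refine natDegree_mul_le.trans ?_
      have h1 : (C e * X : κ[X]).natDegree ≤ 1 :=
        (natDegree_C_mul_le _ _).trans (by rw [natDegree_X])
      omega
    · refine (natDegree_C_mul_le _ _).trans (natDegree_pow_le.trans ?_)
      omega
  have e1 : ψ g₁ = 0 :=
    eq_zero_of_dvd_of_natDegree_lt (hd1 g₁ hg₁) (by rw [hψ₁]; omega)
  have e2 : ψ g₂ = 0 := vanish_of_sq_dvd (hd2 g₂ hg₂) (by rw [hψ₂]; omega)
  exact lemU (hψ₁ ▸ e1) (hψ₂ ▸ e2)

theorem nr3 {F K : Type*} [Field F] [Field K] [Algebra κ K] [Algebra K F] [Algebra κ F]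
    [IsScalarTower κ K F] (π : MvPolynomial (Fin 2) κ →ₐ[κ] F)
    (ψ : MvPolynomial (Fin 2) κ →ₐ[κ] K[X]) (θ : F)
    (hdeg : 2 ≤ (minpoly K θ).natDegree) (hcomp : ∀ g, aeval θ (ψ g) = π g)
    (A₀ A₁ A₂ : K) (g : MvPolynomial (Fin 2) κ) (hg : g ∈ (RingHom.ker π)^2)
    (hψ : ψ g = C A₀ + C A₁ * X + C A₂ * X^2) : A₀ = 0 ∧ A₁ = 0 ∧ A₂ = 0 := by
  obtain ⟨-, hd2⟩ := dvd_of_mem_ker π ψ θ hcomp
  have hle : (C A₀ + C A₁ * X + C A₂ * X^2).natDegree ≤ 2 := by
    have : C A₀ + C A₁ * X + C A₂ * X^2 = C A₂ * X^2 + C A₁ * X + C A₀ := by ring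
    rw [this]
    exact natDegree_quadratic_le
  have : ψ g = 0 := vanish_of_sq_dvd (hd2 g hg) (by rw [hψ]; omega)
  rw [hψ] at this
  exact quad0 this

theorem lin_indep_aux {F : Type*} [Field F] [Algebra κ F] {ξ : F}
    (hξ : ξ ∉ Set.range (algebraMap κ F)) {c e : κ}
    (h : algebraMap κ F c + algebraMap κ F e * ξ = 0) : e = 0 ∧ c = 0 := by
  by_cases he : e = 0
  · subst he
    simp only [map_zero, zero_mul, add_zero] at h
    exact ⟨rfl, (map_eq_zero _).mp h⟩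
  · exfalso
    apply hξ
    refine ⟨-c/e, ?_⟩
    have he' : algebraMap κ F e ≠ 0 := by simpa using he
    rw [map_div₀, map_neg]
    field_simp
    linear_combination -h

theorem nr_main (m : Ideal (MvPolynomial (Fin 2) κ)) [hm : m.IsMaximal]
    (hnr : ¬ ∃ P₁ P₂ : κ, Xm 0 - Cm P₁ ∈ m ∧ Xm 1 - Cm P₂ ∈ m)
    (a b c d e f : κ) (hq : qpoly a b c d e f ∈ m^2) :
    (a = 0 ∧ b = 0 ∧ c = 0 ∧ d = 0 ∧ e = 0 ∧ f = 0) ∨
    ∃ j g h i : κ, qpoly a b c d e f = Cm j * (Cm g + Cm h * Xm 0 + Cm i * Xm 1)^2 := by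
  classical
  let _ : Field (MvPolynomial (Fin 2) κ ⧸ m) := Ideal.Quotient.field m
  set π : MvPolynomial (Fin 2) κ →ₐ[κ] (MvPolynomial (Fin 2) κ ⧸ m) :=
    Ideal.Quotient.mkₐ κ m with hπ
  have hker : RingHom.ker π = m := Ideal.Quotient.mkₐ_ker κ m
  have : Algebra.FiniteType κ (MvPolynomial (Fin 2) κ ⧸ m) :=
    Algebra.FiniteType.of_surjective π (Ideal.Quotient.mkₐ_surjective κ m)
  have : Module.Finite κ (MvPolynomial (Fin 2) κ ⧸ m) :=
    finite_of_finite_type_of_isJacobsonRing κ _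
  set ξ := π (Xm 0) with hξdef
  set η := π (Xm 1) with hηdef
  have hξi : IsIntegral κ ξ := Algebra.IsIntegral.isIntegral ξ
  have hηi : IsIntegral κ η := Algebra.IsIntegral.isIntegral η
  have hnot : ¬ (ξ ∈ Set.range (algebraMap κ (MvPolynomial (Fin 2) κ ⧸ m)) ∧
      η ∈ Set.range (algebraMap κ (MvPolynomial (Fin 2) κ ⧸ m))) := by
    rintro ⟨⟨P₁, h1⟩, ⟨P₂, h2⟩⟩
    apply hnr
    refine ⟨P₁, P₂, ?_, ?_⟩
    · rw [← hker, RingHom.mem_ker, map_sub, ← hξdef, ← h1]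
      simp [hπ]
    · rw [← hker, RingHom.mem_ker, map_sub, ← hηdef, ← h2]
      simp [hπ]
  have hq' : qpoly a b c d e f ∈ (RingHom.ker π)^2 := by rw [hker]; exact hq
  have hd0 : Cm b + Cm (2*d) * Xm 0 + Cm e * Xm 1 ∈ RingHom.ker π := by
    rw [hker, ← pderiv0_qpoly a b c d e f]; exact pderiv_mem_of_mem_sq m 0 hq
  have hd1 : Cm c + Cm e * Xm 0 + Cm (2*f) * Xm 1 ∈ RingHom.ker π := by
    rw [hker, ← pderiv1_qpoly a b c d e f]; exact pderiv_mem_of_mem_sq m 1 hq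
  -- a general fact: polynomial expressions in an element of the range lie in the range
  have hrange : ∀ (ζ : MvPolynomial (Fin 2) κ ⧸ m) (θ : MvPolynomial (Fin 2) κ ⧸ m),
      ζ ∈ Set.range (algebraMap κ (MvPolynomial (Fin 2) κ ⧸ m)) →
      θ ∈ IntermediateField.adjoin κ {ζ} →
      θ ∈ Set.range (algebraMap κ (MvPolynomial (Fin 2) κ ⧸ m)) := by
    intro ζ θ hζ hθ
    have : IntermediateField.adjoin κ {ζ} = ⊥ := by
      rw [IntermediateField.adjoin_simple_eq_bot_iff, IntermediateField.mem_bot]; exact hζ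
    rw [this, IntermediateField.mem_bot] at hθ
    exact hθ
  by_cases h1 : η ∈ IntermediateField.adjoin κ {ξ}
  · -- sub-case 1
    have hξr : ξ ∉ Set.range (algebraMap κ (MvPolynomial (Fin 2) κ ⧸ m)) :=
      fun hr => hnot ⟨hr, hrange ξ η hr h1⟩
    have h1' : η ∈ Algebra.adjoin κ {ξ} := by
      rw [← IntermediateField.adjoin_simple_toSubalgebra_of_isAlgebraic hξi.isAlgebraic]
      exact h1
    rw [Algebra.adjoin_singleton_eq_range_aeval] at h1'
    obtain ⟨p₀, hp₀⟩ := h1'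
    set p := p₀ %ₘ minpoly κ ξ with hpdef
    have hpe : aeval ξ p = η := by
      rw [← hp₀]
      exact aeval_modByMonic_eq_self_of_root (minpoly.aeval κ ξ)
    have hpd : p.natDegree < (minpoly κ ξ).natDegree :=
      natDegree_modByMonic_lt _ (minpoly.monic hξi) (minpoly.ne_one κ ξ)
    have h2le : 2 ≤ (minpoly κ ξ).natDegree := (minpoly.two_le_natDegree_iff hξi).mpr hξr
    set ψ : MvPolynomial (Fin 2) κ →ₐ[κ] κ[X] := MvPolynomial.aeval ![X, p] with hψ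
    have hcomp : ∀ g, aeval ξ (ψ g) = π g := by
      intro g
      have : (aeval ξ : κ[X] →ₐ[κ] _).comp ψ = π := by
        apply MvPolynomial.algHom_ext
        intro i
        fin_cases i
        · simp [hψ, hξdef]
        · simp [hψ, hpe, hηdef]
      exact DFunLike.congr_fun this g
    have key := nr12 π ψ ξ h2le hcomp p hpd a b c d e f (qpoly a b c d e f)
      (Cm c + Cm e * Xm 0 + Cm (2*f) * Xm 1) hq' hd1
      (by simp [qpoly, hψ]) (by simp [hψ])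
    rcases key with hz | ⟨q₀, q₁, hc, he, ha, hb, hd⟩
    · left; exact hz
    · right
      refine ⟨f, -q₀, -q₁, 1, ?_⟩
      subst hc he ha hb hd
      simp only [qpoly, map_mul, map_neg, map_pow, map_ofNat, map_one]
      ring
  · by_cases h2 : ξ ∈ IntermediateField.adjoin κ {η}
    · -- sub-case 2
      have hηr : η ∉ Set.range (algebraMap κ (MvPolynomial (Fin 2) κ ⧸ m)) :=
        fun hr => hnot ⟨hrange η ξ hr h2, hr⟩
      have h2' : ξ ∈ Algebra.adjoin κ {η} := by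
        rw [← IntermediateField.adjoin_simple_toSubalgebra_of_isAlgebraic hηi.isAlgebraic]
        exact h2
      rw [Algebra.adjoin_singleton_eq_range_aeval] at h2'
      obtain ⟨p₀, hp₀⟩ := h2'
      set p := p₀ %ₘ minpoly κ η with hpdef
      have hpe : aeval η p = ξ := by
        rw [← hp₀]
        exact aeval_modByMonic_eq_self_of_root (minpoly.aeval κ η)
      have hpd : p.natDegree < (minpoly κ η).natDegree :=
        natDegree_modByMonic_lt _ (minpoly.monic hηi) (minpoly.ne_one κ η)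
      have h2le : 2 ≤ (minpoly κ η).natDegree := (minpoly.two_le_natDegree_iff hηi).mpr hηr
      set ψ : MvPolynomial (Fin 2) κ →ₐ[κ] κ[X] := MvPolynomial.aeval ![p, X] with hψ
      have hcomp : ∀ g, aeval η (ψ g) = π g := by
        intro g
        have : (aeval η : κ[X] →ₐ[κ] _).comp ψ = π := by
          apply MvPolynomial.algHom_ext
          intro i
          fin_cases i
          · simp [hψ, hpe, hξdef]
          · simp [hψ, hηdef]
        exact DFunLike.congr_fun this g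
      have key := nr12 π ψ η h2le hcomp p hpd a c b f e d (qpoly a b c d e f)
        (Cm b + Cm (2*d) * Xm 0 + Cm e * Xm 1) hq' hd0
        (by simp [qpoly, hψ]; ring) (by simp [hψ]; ring)
      rcases key with hz | ⟨q₀, q₁, hb, he, ha, hc, hf⟩
      · left; exact ⟨hz.1, hz.2.2.1, hz.2.1, hz.2.2.2.2.2, hz.2.2.2.2.1, hz.2.2.2.1⟩
      · right
        refine ⟨d, -q₀, 1, -q₁, ?_⟩
        subst hb he ha hc hf
        simp only [qpoly, map_mul, map_neg, map_pow, map_ofNat, map_one]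
        ring
    · -- sub-case 3
      left
      have hξr : ξ ∉ Set.range (algebraMap κ (MvPolynomial (Fin 2) κ ⧸ m)) := by
        rintro ⟨P₁, hP⟩
        apply h2
        rw [← hP]
        exact IntermediateField.algebraMap_mem _ _
      have hηr : η ∉ Set.range (algebraMap κ (MvPolynomial (Fin 2) κ ⧸ m)) := by
        rintro ⟨P₁, hP⟩
        apply h1
        rw [← hP]
        exact IntermediateField.algebraMap_mem _ _
      -- orientation 1
      have o1 : algebraMap κ (MvPolynomial (Fin 2) κ ⧸ m) a + algebraMap κ _ b * ξ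
            + algebraMap κ _ d * ξ^2 = 0 ∧
          algebraMap κ (MvPolynomial (Fin 2) κ ⧸ m) c + algebraMap κ _ e * ξ = 0 ∧ f = 0 := by
        set K₁ := IntermediateField.adjoin κ {ξ} with hK₁
        set s₁ : K₁ := ⟨ξ, IntermediateField.mem_adjoin_simple_self κ ξ⟩ with hs₁
        have hηK : IsIntegral K₁ η := hηi.tower_top
        have hdeg : 2 ≤ (minpoly K₁ η).natDegree := by
          rw [minpoly.two_le_natDegree_iff hηK]
          rintro ⟨y, hy⟩
          apply h1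
          rw [← hy]
          exact y.2
        set ψ : MvPolynomial (Fin 2) κ →ₐ[κ] K₁[X] := MvPolynomial.aeval ![C s₁, X] with hψ
        have hcomp : ∀ g, aeval η (ψ g) = π g := by
          intro g
          have : ((aeval η : K₁[X] →ₐ[K₁] _).restrictScalars κ).comp ψ = π := by
            apply MvPolynomial.algHom_ext
            intro i
            fin_cases i
            · simp [hψ, hξdef, hs₁]
            · simp [hψ, hηdef]
          exact DFunLike.congr_fun this g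
        have key := nr3 π ψ η hdeg hcomp
          (algebraMap κ K₁ a + algebraMap κ K₁ b * s₁ + algebraMap κ K₁ d * s₁^2)
          (algebraMap κ K₁ c + algebraMap κ K₁ e * s₁) (algebraMap κ K₁ f)
          (qpoly a b c d e f) hq'
          (by simp only [qpoly, hψ, map_add, map_mul, map_pow, MvPolynomial.aeval_C,
                MvPolynomial.aeval_X, Polynomial.algebraMap_apply]
              simp
              ring)
        obtain ⟨k0, k1, k2⟩ := key
        refine ⟨?_, ?_, (map_eq_zero _).mp k2⟩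
        · have := congrArg (algebraMap K₁ (MvPolynomial (Fin 2) κ ⧸ m)) k0
          simpa [hs₁, ← IsScalarTower.algebraMap_apply] using this
        · have := congrArg (algebraMap K₁ (MvPolynomial (Fin 2) κ ⧸ m)) k1
          simpa [hs₁, ← IsScalarTower.algebraMap_apply] using this
      -- orientation 2
      have o2 : algebraMap κ (MvPolynomial (Fin 2) κ ⧸ m) a + algebraMap κ _ c * η
            + algebraMap κ _ f * η^2 = 0 ∧
          algebraMap κ (MvPolynomial (Fin 2) κ ⧸ m) b + algebraMap κ _ e * η = 0 ∧ d = 0 := by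
        set K₂ := IntermediateField.adjoin κ {η} with hK₂
        set s₂ : K₂ := ⟨η, IntermediateField.mem_adjoin_simple_self κ η⟩ with hs₂
        have hξK : IsIntegral K₂ ξ := hξi.tower_top
        have hdeg : 2 ≤ (minpoly K₂ ξ).natDegree := by
          rw [minpoly.two_le_natDegree_iff hξK]
          rintro ⟨y, hy⟩
          apply h2
          rw [← hy]
          exact y.2
        set ψ : MvPolynomial (Fin 2) κ →ₐ[κ] K₂[X] := MvPolynomial.aeval ![X, C s₂] with hψ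
        have hcomp : ∀ g, aeval ξ (ψ g) = π g := by
          intro g
          have : ((aeval ξ : K₂[X] →ₐ[K₂] _).restrictScalars κ).comp ψ = π := by
            apply MvPolynomial.algHom_ext
            intro i
            fin_cases i
            · simp [hψ, hξdef]
            · simp [hψ, hηdef, hs₂]
          exact DFunLike.congr_fun this g
        have key := nr3 π ψ ξ hdeg hcomp
          (algebraMap κ K₂ a + algebraMap κ K₂ c * s₂ + algebraMap κ K₂ f * s₂^2)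
          (algebraMap κ K₂ b + algebraMap κ K₂ e * s₂) (algebraMap κ K₂ d)
          (qpoly a b c d e f) hq'
          (by simp only [qpoly, hψ, map_add, map_mul, map_pow, MvPolynomial.aeval_C,
                MvPolynomial.aeval_X, Polynomial.algebraMap_apply]
              simp
              ring)
        obtain ⟨k0, k1, k2⟩ := key
        refine ⟨?_, ?_, (map_eq_zero _).mp k2⟩
        · have := congrArg (algebraMap K₂ (MvPolynomial (Fin 2) κ ⧸ m)) k0
          simpa [hs₂, ← IsScalarTower.algebraMap_apply] using this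
        · have := congrArg (algebraMap K₂ (MvPolynomial (Fin 2) κ ⧸ m)) k1
          simpa [hs₂, ← IsScalarTower.algebraMap_apply] using this
      obtain ⟨o1a, o1b, hf0⟩ := o1
      obtain ⟨o2a, o2b, hd0'⟩ := o2
      obtain ⟨he0, hc0⟩ := lin_indep_aux hξr o1b
      obtain ⟨-, hb0⟩ := lin_indep_aux hηr o2b
      subst hf0 hd0' he0 hc0 hb0
      simp only [map_zero, zero_mul, add_zero] at o1a
      exact ⟨(map_eq_zero _).mp o1a, rfl, rfl, rfl, rfl, rfl⟩

end NR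

section Rat
variable {κ : Type*} [Field κ] (P₁ P₂ : κ)

local notation "Rk" => MvPolynomial (Fin 2) κ
local notation "Cm" => MvPolynomial.C
local notation "Xm" => MvPolynomial.X

/-- the ideal of the rational point `(P₁, P₂)` -/
noncomputable def mP : Ideal (MvPolynomial (Fin 2) κ) := Ideal.span {Xm 0 - Cm P₁, Xm 1 - Cm P₂}

/-- evaluation at the rational point -/
noncomputable def evP : MvPolynomial (Fin 2) κ →ₐ[κ] κ := MvPolynomial.aeval ![P₁, P₂]

theorem s_mem : (Xm 0 - Cm P₁ : Rk) ∈ mP P₁ P₂ := Ideal.subset_span (by simp)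
theorem t_mem : (Xm 1 - Cm P₂ : Rk) ∈ mP P₁ P₂ := Ideal.subset_span (by simp)

theorem evP_C (c : κ) : evP P₁ P₂ (Cm c) = c := by simp [evP]
theorem evP_X0 : evP P₁ P₂ (Xm 0) = P₁ := by simp [evP]
theorem evP_X1 : evP P₁ P₂ (Xm 1) = P₂ := by simp [evP]

theorem taylor (g : MvPolynomial (Fin 2) κ) : ∃ A B : κ, ∃ r ∈ (mP P₁ P₂)^2,
    g = Cm (evP P₁ P₂ g) + Cm A * (Xm 0 - Cm P₁) + Cm B * (Xm 1 - Cm P₂) + r := by
  induction g using MvPolynomial.induction_on with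
  | C a => exact ⟨0, 0, 0, zero_mem _, by simp [evP_C]⟩
  | add g h hg hh =>
    obtain ⟨A, B, r, hr, e1⟩ := hg
    obtain ⟨A', B', r', hr', e2⟩ := hh
    refine ⟨A + A', B + B', r + r', add_mem hr hr', ?_⟩
    conv_lhs => rw [e1, e2]
    simp only [map_add]
    ring
  | mul_X g i hg =>
    obtain ⟨A, B, r, hr, e1⟩ := hg
    have hs := s_mem P₁ P₂
    have ht := t_mem P₁ P₂
    obtain rfl | rfl : i = 0 ∨ i = 1 := by fin_cases i <;> simp
    · refine ⟨A * P₁ + evP P₁ P₂ g, B * P₁,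
        r * Xm 0 + Cm A * ((Xm 0 - Cm P₁) * (Xm 0 - Cm P₁))
          + Cm B * ((Xm 1 - Cm P₂) * (Xm 0 - Cm P₁)), ?_, ?_⟩
      · refine add_mem (add_mem (Ideal.mul_mem_right _ _ hr) (Ideal.mul_mem_left _ _ ?_))
          (Ideal.mul_mem_left _ _ ?_)
        · rw [pow_two]; exact Ideal.mul_mem_mul hs hs
        · rw [pow_two]; exact Ideal.mul_mem_mul ht hs
      · rw [map_mul, evP_X0]
        conv_lhs => rw [e1]
        simp only [map_add, map_mul]
        ring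
    · refine ⟨A * P₂, B * P₂ + evP P₁ P₂ g,
        r * Xm 1 + Cm A * ((Xm 0 - Cm P₁) * (Xm 1 - Cm P₂))
          + Cm B * ((Xm 1 - Cm P₂) * (Xm 1 - Cm P₂)), ?_, ?_⟩
      · refine add_mem (add_mem (Ideal.mul_mem_right _ _ hr) (Ideal.mul_mem_left _ _ ?_))
          (Ideal.mul_mem_left _ _ ?_)
        · rw [pow_two]; exact Ideal.mul_mem_mul hs ht
        · rw [pow_two]; exact Ideal.mul_mem_mul ht ht
      · rw [map_mul, evP_X1]
        conv_lhs => rw [e1]
        simp only [map_add, map_mul]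
        ring

theorem ev_mP {g : Rk} (hg : g ∈ mP P₁ P₂) : evP P₁ P₂ g = 0 := by
  have : mP P₁ P₂ ≤ RingHom.ker (evP P₁ P₂) := by
    rw [mP, Ideal.span_le]
    rintro x (rfl | rfl)
    · simp [RingHom.mem_ker, evP_C, evP_X0]
    · simp [RingHom.mem_ker, evP_C, evP_X1]
  exact this hg

theorem mem_mP_of_ev {g : Rk} (h : evP P₁ P₂ g = 0) : g ∈ mP P₁ P₂ := by
  obtain ⟨A, B, r, hr, e⟩ := taylor P₁ P₂ g
  rw [e, h]
  simp only [map_zero, zero_add]
  exact add_mem (add_mem (Ideal.mul_mem_left _ _ (s_mem P₁ P₂))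
    (Ideal.mul_mem_left _ _ (t_mem P₁ P₂))) (Ideal.pow_le_self two_ne_zero hr)

theorem sub_C_ev_mem (g : Rk) : g - Cm (evP P₁ P₂ g) ∈ mP P₁ P₂ :=
  mem_mP_of_ev P₁ P₂ (by simp [evP_C])

theorem le_mP_of_maximal (m : Ideal Rk) [hm : m.IsMaximal] (hs : (Xm 0 - Cm P₁ : Rk) ∈ m)
    (ht : (Xm 1 - Cm P₂ : Rk) ∈ m) : m ≤ mP P₁ P₂ := by
  have hmPm : mP P₁ P₂ ≤ m := by
    rw [mP, Ideal.span_le]
    rintro x (rfl | rfl)
    · exact hs
    · exact ht
  intro g hg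
  apply mem_mP_of_ev
  by_contra hev
  have h1 : Cm (evP P₁ P₂ g) ∈ m := by
    have := m.sub_mem hg (hmPm (sub_C_ev_mem P₁ P₂ g))
    simpa using this
  apply hm.ne_top
  exact Ideal.eq_top_of_isUnit_mem _ h1 ((IsUnit.mk0 _ hev).map Cm)

/-- restriction to the line through `P` with direction `w` -/
noncomputable def psi (w₁ w₂ : κ) : MvPolynomial (Fin 2) κ →ₐ[κ] κ[X] :=
  MvPolynomial.aeval ![C P₁ + C w₁ * X, C P₂ + C w₂ * X]

theorem psi_C (w₁ w₂ c : κ) : psi P₁ P₂ w₁ w₂ (Cm c) = C c := by simp [psi]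
theorem psi_s (w₁ w₂ : κ) : psi P₁ P₂ w₁ w₂ (Xm 0 - Cm P₁) = C w₁ * X := by simp [psi]
theorem psi_t (w₁ w₂ : κ) : psi P₁ P₂ w₁ w₂ (Xm 1 - Cm P₂) = C w₂ * X := by simp [psi]

theorem psi_mP (w₁ w₂ : κ) {g : Rk} (hg : g ∈ mP P₁ P₂) : X ∣ psi P₁ P₂ w₁ w₂ g := by
  have : mP P₁ P₂ ≤ Ideal.comap (psi P₁ P₂ w₁ w₂) (Ideal.span {X}) := by
    rw [mP, Ideal.span_le]
    rintro x (rfl | rfl)
    · rw [SetLike.mem_coe, Ideal.mem_comap, Ideal.mem_span_singleton, psi_s]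
      exact dvd_mul_left _ _
    · rw [SetLike.mem_coe, Ideal.mem_comap, Ideal.mem_span_singleton, psi_t]
      exact dvd_mul_left _ _
  exact Ideal.mem_span_singleton.mp (this hg)

theorem psi_mP2 (w₁ w₂ : κ) {g : Rk} (hg : g ∈ (mP P₁ P₂)^2) : X^2 ∣ psi P₁ P₂ w₁ w₂ g := by
  rw [pow_two] at hg
  refine Submodule.mul_induction_on hg (fun m hm n hn => ?_) (fun x y hx hy => ?_)
  · rw [map_mul, pow_two]; exact mul_dvd_mul (psi_mP P₁ P₂ w₁ w₂ hm) (psi_mP P₁ P₂ w₁ w₂ hn)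
  · rw [map_add]; exact dvd_add hx hy

theorem psi_qpoly (w₁ w₂ a b c d e f : κ) : psi P₁ P₂ w₁ w₂ (qpoly a b c d e f) =
    C (a + b*P₁ + c*P₂ + d*P₁^2 + e*P₁*P₂ + f*P₂^2)
      + C ((b + 2*d*P₁ + e*P₂)*w₁ + (c + e*P₁ + 2*f*P₂)*w₂) * X
      + C (d*w₁^2 + e*w₁*w₂ + f*w₂^2) * X^2 := by
  simp only [qpoly, psi, map_add, map_mul, map_pow, MvPolynomial.aeval_C, MvPolynomial.aeval_X,
    Polynomial.algebraMap_apply, Algebra.algebraMap_self, RingHom.id_apply, map_ofNat,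
    Matrix.cons_val_zero, Matrix.cons_val_one]
  ring

theorem grad_zero {a b c d e f : κ} (hq : qpoly a b c d e f ∈ (mP P₁ P₂)^2) :
    a + b*P₁ + c*P₂ + d*P₁^2 + e*P₁*P₂ + f*P₂^2 = 0 ∧ b + 2*d*P₁ + e*P₂ = 0 ∧
      c + e*P₁ + 2*f*P₂ = 0 := by
  have h10 := psi_mP2 P₁ P₂ 1 0 hq
  have h01 := psi_mP2 P₁ P₂ 0 1 hq
  rw [psi_qpoly] at h10 h01
  obtain ⟨s, hs⟩ := h10
  obtain ⟨s', hs'⟩ := h01
  obtain ⟨c0, c1⟩ := coeffs_of_X2_dvd hs
  obtain ⟨-, c1'⟩ := coeffs_of_X2_dvd hs'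
  refine ⟨?_, ?_, ?_⟩
  · linear_combination c0
  · linear_combination c1
  · linear_combination c1'

theorem lemFin (u₁ u₂ j : κ) {a b c d e f : κ}
    (E1 : a + b*P₁ + c*P₂ + d*P₁^2 + e*P₁*P₂ + f*P₂^2 = 0) (E2 : b + 2*d*P₁ + e*P₂ = 0)
    (E3 : c + e*P₁ + 2*f*P₂ = 0) (hd : d = j*u₂^2) (he : e = -2*j*u₁*u₂) (hf : f = j*u₁^2) :
    ∃ j g h i : κ, qpoly a b c d e f = Cm j * (Cm g + Cm h * Xm 0 + Cm i * Xm 1)^2 := by
  refine ⟨j, u₁*P₂ - u₂*P₁, u₂, -u₁, ?_⟩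
  have hb : b = -(2*d*P₁ + e*P₂) := by linear_combination E2
  have hc : c = -(e*P₁ + 2*f*P₂) := by linear_combination E3
  have ha : a = -(b*P₁ + c*P₂ + d*P₁^2 + e*P₁*P₂ + f*P₂^2) := by linear_combination E1
  rw [ha, hb, hc, hd, he, hf]
  simp only [qpoly, map_add, map_mul, map_neg, map_sub, map_pow, map_ofNat]
  ring

theorem two_points (P₁' P₂' : κ) (hne : ¬ (P₁ = P₁' ∧ P₂ = P₂')) {a b c d e f : κ}
    (hq : qpoly a b c d e f ∈ (mP P₁ P₂)^2) (hq' : qpoly a b c d e f ∈ (mP P₁' P₂')^2) :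
    ∃ j g h i : κ, qpoly a b c d e f = Cm j * (Cm g + Cm h * Xm 0 + Cm i * Xm 1)^2 := by
  obtain ⟨E1, E2, E3⟩ := grad_zero P₁ P₂ hq
  obtain ⟨E1', E2', E3'⟩ := grad_zero P₁' P₂' hq'
  obtain ⟨w₁, hw₁⟩ : ∃ w, w = P₁' - P₁ := ⟨_, rfl⟩
  obtain ⟨w₂, hw₂⟩ : ∃ w, w = P₂' - P₂ := ⟨_, rfl⟩
  have k1 : 2*d*w₁ + e*w₂ = 0 := by rw [hw₁, hw₂]; linear_combination E2' - E2
  have k2 : e*w₁ + 2*f*w₂ = 0 := by rw [hw₁, hw₂]; linear_combination E3' - E3
  have k3 : d*w₁^2 + e*w₁*w₂ + f*w₂^2 = 0 := by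
    rw [hw₁, hw₂]; linear_combination E1' - E1 - (P₁' - P₁) * E2 - (P₂' - P₂) * E3
  by_cases hw : w₁ = 0
  · have hw2 : w₂ ≠ 0 := by
      intro h
      apply hne
      constructor
      · rw [hw₁] at hw; linear_combination -hw
      · rw [hw₂] at h; linear_combination -h
    rw [hw] at k1 k3
    have he0 : e = 0 := by
      have : e * w₂ = 0 := by linear_combination k1
      rcases mul_eq_zero.mp this with h | h
      · exact h
      · exact absurd h hw2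
    have hf0 : f = 0 := by
      have : f * w₂^2 = 0 := by linear_combination k3
      rcases mul_eq_zero.mp this with h | h
      · exact h
      · exact absurd ((pow_eq_zero_iff two_ne_zero).mp h) hw2
    refine lemFin P₁ P₂ 0 w₂ (d / w₂^2) E1 E2 E3 ?_ ?_ ?_
    · exact (div_mul_cancel₀ _ (pow_ne_zero 2 hw2)).symm
    · rw [he0]; ring
    · rw [hf0]; ring
  · refine lemFin P₁ P₂ w₁ w₂ (f / w₁^2) E1 E2 E3 ?_ ?_ ?_
    · rw [div_mul_eq_mul_div, eq_div_iff (pow_ne_zero 2 hw)]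
      linear_combination k3 - w₂ * k2
    · rw [show -2*(f/w₁^2)*w₁*w₂ = (-2*f*w₂*w₁)/w₁^2 by ring, eq_div_iff (pow_ne_zero 2 hw)]
      linear_combination w₁ * k2
    · exact (div_mul_cancel₀ _ (pow_ne_zero 2 hw)).symm

/-- the set of gradients at `P` of elements of `I` (modulo `mP^2`) -/
noncomputable def DI (I : Ideal (MvPolynomial (Fin 2) κ)) : Submodule κ (κ × κ) where
  carrier := {v | ∃ g ∈ I, ∃ r ∈ (mP P₁ P₂)^2,
    g = Cm v.1 * (Xm 0 - Cm P₁) + Cm v.2 * (Xm 1 - Cm P₂) + r}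
  add_mem' := by
    rintro v v' ⟨g, hg, r, hr, e⟩ ⟨g', hg', r', hr', e'⟩
    refine ⟨g + g', add_mem hg hg', r + r', add_mem hr hr', ?_⟩
    rw [e, e']
    simp only [Prod.fst_add, Prod.snd_add, map_add]
    ring
  zero_mem' := ⟨0, zero_mem _, 0, zero_mem _, by simp⟩
  smul_mem' := by
    rintro c v ⟨g, hg, r, hr, e⟩
    refine ⟨Cm c * g, Ideal.mul_mem_left _ _ hg, Cm c * r, Ideal.mul_mem_left _ _ hr, ?_⟩
    rw [e]
    simp only [Prod.smul_fst, Prod.smul_snd, smul_eq_mul, map_mul]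
    ring

theorem rat_case_lt (I : Ideal Rk) (hI : I ≤ mP P₁ P₂) (hD : DI P₁ P₂ I ≠ ⊤)
    (a b c d e f : κ) (hq : qpoly a b c d e f ∈ I^2) :
    ∃ j g h i : κ, qpoly a b c d e f = Cm j * (Cm g + Cm h * Xm 0 + Cm i * Xm 1)^2 := by
  obtain ⟨φ, hφ0, hφ⟩ := Submodule.exists_le_ker_of_lt_top _ (lt_top_iff_ne_top.mpr hD)
  set u₁ := φ (1, 0) with hu₁
  set u₂ := φ (0, 1) with hu₂
  have hφv : ∀ A B : κ, φ (A, B) = A * u₁ + B * u₂ := by
    intro A B
    have : ((A, B) : κ × κ) = A • ((1, 0) : κ × κ) + B • ((0, 1) : κ × κ) := by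
      ext <;> simp
    rw [this, map_add, map_smul, map_smul, smul_eq_mul, smul_eq_mul]
  have hu : u₁ ≠ 0 ∨ u₂ ≠ 0 := by
    by_contra h
    rw [not_or, not_not, not_not] at h
    apply hφ0
    refine LinearMap.ext fun v => ?_
    obtain ⟨A, B⟩ := v
    rw [hφv, h.1, h.2]
    simp
  have I1 : ∀ g ∈ I, ∃ α : κ, ∀ w₁ w₂ : κ, ∃ s : κ[X],
      psi P₁ P₂ w₁ w₂ g = C (α * (u₂*w₁ - u₁*w₂)) * X + X^2 * s := by
    intro g hg
    obtain ⟨A, B, r, hr, eq1⟩ := taylor P₁ P₂ g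
    have hev : evP P₁ P₂ g = 0 := ev_mP P₁ P₂ (hI hg)
    rw [hev, map_zero, zero_add] at eq1
    have hmemD : (A, B) ∈ DI P₁ P₂ I := ⟨g, hg, r, hr, eq1⟩
    have hAB : A * u₁ + B * u₂ = 0 := by
      rw [← hφv]; exact hφ hmemD
    obtain ⟨α, hαA, hαB⟩ : ∃ α, A = α * u₂ ∧ B = -(α * u₁) := by
      by_cases h1 : u₁ = 0
      · have h2 : u₂ ≠ 0 := by tauto
        refine ⟨A / u₂, by field_simp, ?_⟩
        rw [h1] at hAB ⊢
        have : B * u₂ = 0 := by linear_combination hAB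
        rcases mul_eq_zero.mp this with hB | hB
        · rw [hB]; ring
        · exact absurd hB h2
      · refine ⟨-B / u₁, ?_, by field_simp⟩
        field_simp
        linear_combination hAB
    refine ⟨α, fun w₁ w₂ => ?_⟩
    obtain ⟨s, hs⟩ := psi_mP2 P₁ P₂ w₁ w₂ hr
    refine ⟨s, ?_⟩
    rw [eq1, map_add, map_add, map_mul, map_mul, hs, psi_s, psi_t, psi_C, psi_C, hαA, hαB]
    simp only [map_mul, map_sub, map_neg]
    ring
  have I2 : ∀ q ∈ I^2, ∃ j : κ, ∀ w₁ w₂ : κ, ∃ s : κ[X],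
      psi P₁ P₂ w₁ w₂ q = C (j * (u₂*w₁ - u₁*w₂)^2) * X^2 + X^3 * s := by
    intro q hq
    rw [pow_two] at hq
    refine Submodule.mul_induction_on hq ?_ ?_
    · intro g hg h hh
      obtain ⟨α, hα⟩ := I1 g hg
      obtain ⟨β, hβ⟩ := I1 h hh
      refine ⟨α * β, fun w₁ w₂ => ?_⟩
      obtain ⟨s, hs⟩ := hα w₁ w₂
      obtain ⟨s', hs'⟩ := hβ w₁ w₂
      refine ⟨C (α * (u₂*w₁ - u₁*w₂)) * s' + C (β * (u₂*w₁ - u₁*w₂)) * s + X * s * s', ?_⟩
      rw [map_mul, hs, hs']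
      simp only [map_mul, map_sub, map_pow]
      ring
    · rintro x y ⟨j, hj⟩ ⟨j', hj'⟩
      refine ⟨j + j', fun w₁ w₂ => ?_⟩
      obtain ⟨s, hs⟩ := hj w₁ w₂
      obtain ⟨s', hs'⟩ := hj' w₁ w₂
      refine ⟨s + s', ?_⟩
      rw [map_add, hs, hs']
      simp only [map_add, map_mul, map_sub, map_pow]
      ring
  obtain ⟨j, hj⟩ := I2 _ hq
  have hco : ∀ w₁ w₂ : κ, d*w₁^2 + e*w₁*w₂ + f*w₂^2 = j * (u₂*w₁ - u₁*w₂)^2 := by
    intro w₁ w₂
    obtain ⟨s, hs⟩ := hj w₁ w₂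
    rw [psi_qpoly] at hs
    exact coeff2_of_eq hs
  obtain ⟨E1, E2, E3⟩ := grad_zero P₁ P₂ (Ideal.pow_right_mono hI 2 hq)
  have hd := hco 1 0
  have hf := hco 0 1
  have hdef := hco 1 1
  exact lemFin P₁ P₂ u₁ u₂ j E1 E2 E3 (by linear_combination hd)
    (by linear_combination hdef - hd - hf) (by linear_combination hf)

theorem mem_mP_sq_repr {r : Rk} (hr : r ∈ (mP P₁ P₂)^2) :
    ∃ α ∈ mP P₁ P₂, ∃ β ∈ mP P₁ P₂, r = α * (Xm 0 - Cm P₁) + β * (Xm 1 - Cm P₂) := by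
  rw [pow_two] at hr
  refine Submodule.mul_induction_on hr ?_ ?_
  · intro m hm n hn
    rw [mP, Ideal.mem_span_pair] at hn
    obtain ⟨x, y, rfl⟩ := hn
    exact ⟨m * x, Ideal.mul_mem_right _ _ hm, m * y, Ideal.mul_mem_right _ _ hm, by ring⟩
  · rintro x y ⟨α, hα, β, hβ, rfl⟩ ⟨α', hα', β', hβ', rfl⟩
    exact ⟨α + α', add_mem hα hα', β + β', add_mem hβ hβ', by ring⟩

end Rat

section Main
variable {κ : Type*} [Field κ]

local notation "Rk" => MvPolynomial (Fin 2) κ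
local notation "Cm" => MvPolynomial.C
local notation "Xm" => MvPolynomial.X

theorem main (I : Ideal Rk)
    (hI : ¬ (Module.Finite κ (Rk ⧸ I) ∧ Module.finrank κ (Rk ⧸ I) ≤ 1))
    (a b c d e f : κ) (hne : (a, b, c, d, e, f) ≠ (0, 0, 0, 0, 0, 0))
    (hmem : qpoly a b c d e f ∈ I ^ 2) :
    ∃ j g h i : κ, qpoly a b c d e f = Cm j * (Cm g + Cm h * Xm 0 + Cm i * Xm 1) ^ 2 := by
  have hnz : ¬ (a = 0 ∧ b = 0 ∧ c = 0 ∧ d = 0 ∧ e = 0 ∧ f = 0) := by
    rintro ⟨rfl, rfl, rfl, rfl, rfl, rfl⟩; exact hne rfl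
  have hquot : ∀ P₁ P₂ : κ, mP P₁ P₂ ≤ I → False := by
    intro P₁ P₂ hle
    apply hI
    have hsurj : Function.Surjective (Algebra.linearMap κ (Rk ⧸ I)) := by
      intro x
      obtain ⟨g, rfl⟩ := Ideal.Quotient.mk_surjective x
      refine ⟨evP P₁ P₂ g, ?_⟩
      rw [Algebra.linearMap_apply]
      have : algebraMap κ (Rk ⧸ I) (evP P₁ P₂ g) = Ideal.Quotient.mk I (Cm (evP P₁ P₂ g)) := rfl
      rw [this, eq_comm, Ideal.Quotient.eq]
      exact hle (sub_C_ev_mem P₁ P₂ g)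
    refine ⟨Module.Finite.of_surjective _ hsurj, ?_⟩
    refine finrank_le_one (1 : Rk ⧸ I) (fun w => ?_)
    obtain ⟨c, hc⟩ := hsurj w
    exact ⟨c, by rw [← hc, Algebra.linearMap_apply, Algebra.algebraMap_eq_smul_one]⟩
  have hItop : I ≠ ⊤ := by
    rintro rfl
    exact hquot 0 0 le_top
  obtain ⟨m, hm, hIm⟩ := Ideal.exists_le_maximal I hItop
  have hmem_m : qpoly a b c d e f ∈ m^2 := Ideal.pow_right_mono hIm 2 hmem
  by_cases hr : ∃ P₁ P₂ : κ, (Xm 0 - Cm P₁ : Rk) ∈ m ∧ (Xm 1 - Cm P₂ : Rk) ∈ m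
  swap
  · rcases nr_main m hr a b c d e f hmem_m with hz | h
    · exact absurd hz hnz
    · exact h
  obtain ⟨P₁, P₂, hs, ht⟩ := hr
  have hImP : I ≤ mP P₁ P₂ := hIm.trans (le_mP_of_maximal P₁ P₂ m hs ht)
  by_cases hD : DI P₁ P₂ I = ⊤
  swap
  · exact rat_case_lt P₁ P₂ I hImP hD a b c d e f hmem
  -- the gradients of `I` at `P` span everything
  have hs_sup : (Xm 0 - Cm P₁ : Rk) ∈ I ⊔ (mP P₁ P₂)^2 := by
    have h10 : ((1, 0) : κ × κ) ∈ DI P₁ P₂ I := by rw [hD]; trivial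
    obtain ⟨g, hg, r, hr, e⟩ := h10
    refine Submodule.mem_sup.mpr ⟨g, hg, -r, neg_mem hr, ?_⟩
    rw [e]; simp
  have ht_sup : (Xm 1 - Cm P₂ : Rk) ∈ I ⊔ (mP P₁ P₂)^2 := by
    have h01 : ((0, 1) : κ × κ) ∈ DI P₁ P₂ I := by rw [hD]; trivial
    obtain ⟨g, hg, r, hr, e⟩ := h01
    refine Submodule.mem_sup.mpr ⟨g, hg, -r, neg_mem hr, ?_⟩
    rw [e]; simp
  by_cases hle : mP P₁ P₂ ≤ I
  · exact (hquot P₁ P₂ hle).elim
  obtain ⟨z, hzm, hzI⟩ := SetLike.not_le_iff_exists.mp hle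
  -- two-generator Nakayama
  obtain ⟨i₁, hi₁, r₁, hr₁, e₁⟩ := Submodule.mem_sup.mp hs_sup
  obtain ⟨i₂, hi₂, r₂, hr₂, e₂⟩ := Submodule.mem_sup.mp ht_sup
  obtain ⟨α₁, hα₁, β₁, hβ₁, rfl⟩ := mem_mP_sq_repr P₁ P₂ hr₁
  obtain ⟨α₂, hα₂, β₂, hβ₂, rfl⟩ := mem_mP_sq_repr P₁ P₂ hr₂
  set s : Rk := Xm 0 - Cm P₁ with hsdef
  set t : Rk := Xm 1 - Cm P₂ with htdef
  set Δ : Rk := (1 - α₁) * (1 - β₂) - β₁ * α₂ with hΔ
  have hΔs : Δ * s ∈ I := by
    have : Δ * s = (1 - β₂) * i₁ + β₁ * i₂ := by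
      rw [hΔ]; linear_combination (-(1 - β₂)) * e₁ - β₁ * e₂
    rw [this]
    exact add_mem (Ideal.mul_mem_left _ _ hi₁) (Ideal.mul_mem_left _ _ hi₂)
  have hΔt : Δ * t ∈ I := by
    have : Δ * t = α₂ * i₁ + (1 - α₁) * i₂ := by
      rw [hΔ]; linear_combination (-α₂) * e₁ - (1 - α₁) * e₂
    rw [this]
    exact add_mem (Ideal.mul_mem_left _ _ hi₁) (Ideal.mul_mem_left _ _ hi₂)
  have hΔ1 : Δ - 1 ∈ mP P₁ P₂ := by
    have : Δ - 1 = -α₁ - β₂ + α₁ * β₂ - β₁ * α₂ := by rw [hΔ]; ring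
    rw [this]
    exact sub_mem (add_mem (sub_mem (neg_mem hα₁) hβ₂) (Ideal.mul_mem_right _ _ hα₁))
      (Ideal.mul_mem_right _ _ hβ₁)
  have hΔz : Δ * z ∈ I := by
    rw [mP, Ideal.mem_span_pair] at hzm
    obtain ⟨x, y, rfl⟩ := hzm
    have : Δ * (x * s + y * t) = x * (Δ * s) + y * (Δ * t) := by ring
    rw [this]
    exact add_mem (Ideal.mul_mem_left _ _ hΔs) (Ideal.mul_mem_left _ _ hΔt)
  have hJ : I ⊔ Ideal.span {Δ} ≠ ⊤ := by
    intro htop
    have h1 : (1 : Rk) ∈ I ⊔ Ideal.span {Δ} := by rw [htop]; trivial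
    obtain ⟨i, hi, k, hk, e⟩ := Submodule.mem_sup.mp h1
    obtain ⟨k', rfl⟩ := Ideal.mem_span_singleton'.mp hk
    apply hzI
    have : z = i * z + k' * (Δ * z) := by linear_combination (-z) * e
    rw [this]
    exact add_mem (Ideal.mul_mem_right _ _ hi) (Ideal.mul_mem_left _ _ hΔz)
  obtain ⟨m', hm', hJm'⟩ := Ideal.exists_le_maximal _ hJ
  have hIm' : I ≤ m' := le_sup_left.trans hJm'
  have hΔm' : Δ ∈ m' := hJm' (Submodule.mem_sup_right (Ideal.subset_span rfl))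
  have hmem_m' : qpoly a b c d e f ∈ m'^2 := Ideal.pow_right_mono hIm' 2 hmem
  by_cases hr' : ∃ P₁' P₂' : κ, (Xm 0 - Cm P₁' : Rk) ∈ m' ∧ (Xm 1 - Cm P₂' : Rk) ∈ m'
  swap
  · rcases nr_main m' hr' a b c d e f hmem_m' with hz | h
    · exact absurd hz hnz
    · exact h
  obtain ⟨P₁', P₂', hs', ht'⟩ := hr'
  have hImP' : I ≤ mP P₁' P₂' := hIm'.trans (le_mP_of_maximal P₁' P₂' m' hs' ht')
  refine two_points P₁ P₂ P₁' P₂' ?_ (Ideal.pow_right_mono hImP 2 hmem)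
    (Ideal.pow_right_mono hImP' 2 hmem)
  rintro ⟨rfl, rfl⟩
  apply hm'.ne_top
  rw [Ideal.eq_top_iff_one]
  have hle' : mP P₁ P₂ ≤ m' := by
    rw [mP, Ideal.span_le]
    rintro x (rfl | rfl)
    · exact hs'
    · exact ht'
  have := m'.sub_mem hΔm' (hle' hΔ1)
  simpa using this

end Main

end Helper9.Quadric1601
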