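import Mathlib
import Groth.Agent.Lib.Helper9.QuasiReg

/-!
# Intersections `J ∩ Rⁿ` for `R` generated by an `A/J`-regular sequence
-/

namespace Groth.Agent.Lib.Helper9.QuasiReg

open MvPolynomial

universe u
variable {A : Type u} [CommRing A]

/-- value of a monomial lies in the appropriate power -/
lemma prod_pow_mem {r : ℕ} (f : Fin r → A) (d : Fin r →₀ ℕ) :
    (∏ i, f i ^ d i) ∈ Ideal.span (Set.range f) ^ d.degree := by
  rw [Ideal.mem_span_pow_iff_exists_isHomogeneous]
  refine ⟨monomial d 1, isHomogeneous_monomial 1 rfl, ?_⟩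
  rw [eval_monomial, one_mul, Finsupp.prod_fintype]
  intro i
  exact pow_zero _

theorem inf_pow_le_step (J : Ideal A) {r : ℕ} (f : Fin r → A)
    (hf : RingTheory.Sequence.IsWeaklyRegular (A ⧸ J) (List.ofFn f)) (n : ℕ) :
    J ⊓ Ideal.span (Set.range f) ^ n ≤
      J * Ideal.span (Set.range f) ^ n ⊔ J ⊓ Ideal.span (Set.range f) ^ (n + 1) := by
  classical
  intro x hx
  obtain ⟨hxJ, hxR⟩ := Ideal.mem_inf.mp hx
  obtain ⟨P, hP, rfl⟩ := (Ideal.mem_span_pow_iff_exists_isHomogeneous f x).mp hxR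
  have hg : RingTheory.Sequence.IsWeaklyRegular (A ⧸ J)
      (List.ofFn fun i => Ideal.Quotient.mk J (f i)) := by
    have h := (RingTheory.Sequence.isWeaklyRegular_map_algebraMap_iff (A ⧸ J) (A ⧸ J)
      (List.ofFn f)).mpr hf
    rw [List.map_ofFn] at h
    exact h
  have hev : eval (fun i => Ideal.Quotient.mk J (f i)) (map (Ideal.Quotient.mk J) P) = 0 := by
    have h1 : eval (fun i => Ideal.Quotient.mk J (f i)) (map (Ideal.Quotient.mk J) P) =
        Ideal.Quotient.mk J (eval f P) := by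
      rw [eval_map, eval₂_comp]
      rfl
    rw [h1]
    exact Ideal.Quotient.eq_zero_iff_mem.mpr hxJ
  have hqr := quasiRegular_of_isWeaklyRegular (fun i => Ideal.Quotient.mk J (f i)) hg n
    (map (Ideal.Quotient.mk J) P) (hP.map _) (by rw [hev]; exact Ideal.zero_mem _)
  have hrange : Ideal.span (Set.range fun i => Ideal.Quotient.mk J (f i)) =
      (Ideal.span (Set.range f)).map (Ideal.Quotient.mk J) := by
    rw [Ideal.map_span, ← Set.range_comp]
    rfl
  have hcoeff : ∀ d, coeff d P ∈ Ideal.span (Set.range f) ⊔ J := by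
    intro d
    have h := hqr d
    rw [coeff_map, hrange, Ideal.mem_quotient_iff_mem_sup] at h
    exact h
  choose jd hjd rd hrd hsum using fun d => Submodule.mem_sup.mp (hcoeff d)
  -- hjd : jd d ∈ span range f, hrd : rd d ∈ J,  jd d + rd d = coeff d P
  have hdeg : ∀ d ∈ P.support, d.degree = n := by
    intro d hd
    by_contra h
    exact (mem_support_iff.mp hd) (hP.coeff_eq_zero h)
  have hx1 : eval f P = (∑ d ∈ P.support, rd d * ∏ i, f i ^ d i) +
      ∑ d ∈ P.support, jd d * ∏ i, f i ^ d i := by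
    rw [eval_eq', ← Finset.sum_add_distrib]
    refine Finset.sum_congr rfl fun d _ => ?_
    rw [← hsum d]
    ring
  have h1 : (∑ d ∈ P.support, rd d * ∏ i, f i ^ d i) ∈ J * Ideal.span (Set.range f) ^ n := by
    refine Ideal.sum_mem _ fun d hd => Ideal.mul_mem_mul (hrd d) ?_
    have := prod_pow_mem f d
    rwa [hdeg d hd] at this
  have h2 : (∑ d ∈ P.support, jd d * ∏ i, f i ^ d i) ∈ Ideal.span (Set.range f) ^ (n + 1) := by
    rw [pow_succ']
    refine Ideal.sum_mem _ fun d hd => Ideal.mul_mem_mul (hjd d) ?_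
    have := prod_pow_mem f d
    rwa [hdeg d hd] at this
  have h3 : (∑ d ∈ P.support, jd d * ∏ i, f i ^ d i) ∈ J := by
    have e : (∑ d ∈ P.support, jd d * ∏ i, f i ^ d i) =
        eval f P - ∑ d ∈ P.support, rd d * ∏ i, f i ^ d i := by
      rw [hx1]; ring
    rw [e]
    exact Ideal.sub_mem _ hxJ (Ideal.mul_le_left h1)
  have hfin : (∑ d ∈ P.support, rd d * ∏ i, f i ^ d i) +
      ∑ d ∈ P.support, jd d * ∏ i, f i ^ d i ∈
      J * Ideal.span (Set.range f) ^ n ⊔ J ⊓ Ideal.span (Set.range f) ^ (n + 1) :=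
    Ideal.add_mem _ (Ideal.mem_sup_left h1) (Ideal.mem_sup_right (Ideal.mem_inf.mpr ⟨h3, h2⟩))
  rw [hx1]
  exact hfin

/-- `J ∩ Rⁿ = J·Rⁿ + (J ∩ R^N)` for `n ≤ N` -/
theorem inf_pow_eq (J : Ideal A) {r : ℕ} (f : Fin r → A)
    (hf : RingTheory.Sequence.IsWeaklyRegular (A ⧸ J) (List.ofFn f)) (n N : ℕ) (hnN : n ≤ N) :
    J ⊓ Ideal.span (Set.range f) ^ n =
      J * Ideal.span (Set.range f) ^ n ⊔ J ⊓ Ideal.span (Set.range f) ^ N := by
  apply le_antisymm
  · induction N, hnN using Nat.le_induction with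
    | base => exact le_sup_right
    | succ N hN ih =>
      refine ih.trans (sup_le le_sup_left ?_)
      refine (inf_pow_le_step J f hf N).trans (sup_le ?_ le_sup_right)
      exact le_sup_of_le_left (Ideal.mul_mono_right (Ideal.pow_le_pow_right hN))
  · exact sup_le (le_inf Ideal.mul_le_left Ideal.mul_le_right)
      (inf_le_inf_left _ (Ideal.pow_le_pow_right hnN))

/-- Noetherian case with `R` in the Jacobson radical: `J ∩ Rⁿ = J·Rⁿ` -/
theorem inf_pow_eq_mul [IsNoetherianRing A] (J : Ideal A) {r : ℕ} (f : Fin r → A)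
    (hf : RingTheory.Sequence.IsWeaklyRegular (A ⧸ J) (List.ofFn f))
    (hrad : Ideal.span (Set.range f) ≤ (⊥ : Ideal A).jacobson) (n : ℕ) :
    J ⊓ Ideal.span (Set.range f) ^ n = J * Ideal.span (Set.range f) ^ n := by
  apply le_antisymm
  · intro x hx
    have hkrull := Ideal.iInf_pow_smul_eq_bot_of_le_jacobson
      (M := A ⧸ J * Ideal.span (Set.range f) ^ n) (Ideal.span (Set.range f)) hrad
    have hmem : (Ideal.Quotient.mk (J * Ideal.span (Set.range f) ^ n) x) ∈
        (⨅ i : ℕ, Ideal.span (Set.range f) ^ i • ⊤ :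
          Submodule A (A ⧸ J * Ideal.span (Set.range f) ^ n)) := by
      rw [Submodule.mem_iInf]
      intro N
      have hx' : x ∈ J * Ideal.span (Set.range f) ^ n ⊔ J ⊓ Ideal.span (Set.range f) ^ (n + N) := by
        rw [← inf_pow_eq J f hf n (n + N) (Nat.le_add_right n N)]
        exact hx
      obtain ⟨u, hu, v, hv, rfl⟩ := Submodule.mem_sup.mp hx'
      have hv' : v ∈ Ideal.span (Set.range f) ^ N :=
        Ideal.pow_le_pow_right (Nat.le_add_left N n) (Ideal.mem_inf.mp hv).2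
      rw [map_add, Ideal.Quotient.eq_zero_iff_mem.mpr hu, zero_add]
      have e : Ideal.Quotient.mk (J * Ideal.span (Set.range f) ^ n) v =
          v • (Ideal.Quotient.mk (J * Ideal.span (Set.range f) ^ n) 1) := by
        rw [← Ideal.Quotient.mk_eq_mk, ← Ideal.Quotient.mk_eq_mk, ← Submodule.Quotient.mk_smul,
          smul_eq_mul, mul_one]
      rw [e]
      exact Submodule.smul_mem_smul hv' Submodule.mem_top
    rw [hkrull, Submodule.mem_bot] at hmem
    exact Ideal.Quotient.eq_zero_iff_mem.mp hmem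
  · exact le_inf Ideal.mul_le_left Ideal.mul_le_right

/-- `J ∩ Q² = J·Q` for `Q = J + R` -/
theorem inf_sq_eq_mul [IsNoetherianRing A] (J : Ideal A) {r : ℕ} (f : Fin r → A)
    (hf : RingTheory.Sequence.IsWeaklyRegular (A ⧸ J) (List.ofFn f))
    (hrad : Ideal.span (Set.range f) ≤ (⊥ : Ideal A).jacobson) :
    J ⊓ (J ⊔ Ideal.span (Set.range f)) ^ 2 = J * (J ⊔ Ideal.span (Set.range f)) := by
  apply le_antisymm
  · intro x hx
    obtain ⟨hxJ, hxQ⟩ := Ideal.mem_inf.mp hx
    have hQ2 : x ∈ J * (J ⊔ Ideal.span (Set.range f)) ⊔ Ideal.span (Set.range f) ^ 2 := by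
      rw [pow_two] at hxQ
      refine Submodule.mul_induction_on hxQ ?_ ?_
      · intro p hp q hq
        obtain ⟨j₁, hj₁, r₁, hr₁, rfl⟩ := Submodule.mem_sup.mp hp
        obtain ⟨j₂, hj₂, r₂, hr₂, rfl⟩ := Submodule.mem_sup.mp hq
        have e : (j₁ + r₁) * (j₂ + r₂) = (j₁ * (j₂ + r₂) + j₂ * r₁) + r₁ * r₂ := by ring
        rw [e]
        refine Ideal.add_mem _ (Ideal.mem_sup_left (Ideal.add_mem _ ?_ ?_)) (Ideal.mem_sup_right ?_)
        · exact Ideal.mul_mem_mul hj₁ hq
        · exact Ideal.mul_mem_mul hj₂ (Ideal.mem_sup_right hr₁)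
        · rw [pow_two]
          exact Ideal.mul_mem_mul hr₁ hr₂
      · intro a b ha hb
        exact Ideal.add_mem _ ha hb
    obtain ⟨u, hu, v, hv, rfl⟩ := Submodule.mem_sup.mp hQ2
    have huJ : u ∈ J := Ideal.mul_le_left hu
    have hvJ : v ∈ J := by
      have : v = u + v - u := by ring
      rw [this]
      exact Ideal.sub_mem _ hxJ huJ
    have hv2 : v ∈ J * Ideal.span (Set.range f) ^ 2 := by
      rw [← inf_pow_eq_mul J f hf hrad 2]
      exact Ideal.mem_inf.mpr ⟨hvJ, hv⟩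
    refine Ideal.add_mem _ hu ?_
    refine Ideal.mul_mono_right ?_ hv2
    exact (Ideal.pow_le_self two_ne_zero).trans le_sup_right
  · refine le_inf Ideal.mul_le_left ?_
    rw [pow_two]
    exact Ideal.mul_mono_left le_sup_left

end Groth.Agent.Lib.Helper9.QuasiReg
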