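import Mathlib
import Groth.Prelude.Def_W4bk4grossh111Obs
import Groth.Agent.S1535
import Groth.Agent.Lib.Helper26.RegularNormal
import Groth.Agent.Lib.Helper9.EqLocusIC
import Groth.Agent.Lib.Helper9.ConnLocDomain

set_option autoImplicit false

/-!
# The ring of right-invariant functions on a connected smooth affine group is integrally closed
(helper9)
-/

universe u

open CategoryTheory MonoidalCategory CartesianMonoidalCategory MonObj GrpObj AlgebraicGeometry

namespace Helper9.RTransInvIC

/-- A connected affine scheme smooth over a field has an integrally closed domain of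
global functions. -/
theorem integral_and_ic (k : Type u) [Field k] (X : Scheme.{u}) (f : X ⟶ Spec (CommRingCat.of k))
    [Smooth f] [IsAffine X] [ConnectedSpace X] :
    ∃ _ : IsDomain Γ(X, ⊤), IsIntegrallyClosed Γ(X, ⊤) := by
  letI : X.Over (Spec (CommRingCat.of k)) := ⟨f⟩
  have hf : (X ↘ Spec (CommRingCat.of k)) = f := rfl
  haveI : Smooth (X ↘ Spec (CommRingCat.of k)) := by rw [hf]; infer_instance
  have hreg : ∀ x : X, IsRegularLocalRing (X.presheaf.stalk x) :=
    fun x => Groth.Agent.S1535.result k X x
  haveI : IsLocallyNoetherian X := LocallyOfFiniteType.isLocallyNoetherian f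
  haveI : IsNoetherianRing Γ(X, ⊤) :=
    IsLocallyNoetherian.component_noetherian ⟨⊤, isAffineOpen_top X⟩
  haveI : ConnectedSpace (PrimeSpectrum Γ(X, ⊤)) := by
    have hs : Function.Surjective (X.isoSpec.hom : X → Spec Γ(X, ⊤)) :=
      (inferInstance : Surjective X.isoSpec.hom).surj
    exact Function.Surjective.connectedSpace hs X.isoSpec.hom.continuous
  refine Helper9.ConnLocDomain.isIntegrallyClosed_of_connected _ (fun m hm => ?_)
  have hU := isAffineOpen_top X
  let y : PrimeSpectrum Γ(X, ⊤) := ⟨m, hm.isPrime⟩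
  letI := TopCat.Presheaf.algebra_section_stalk X.presheaf
    (⟨hU.fromSpec y, trivial⟩ : ↥(⊤ : X.Opens))
  haveI : IsLocalization.AtPrime (X.presheaf.stalk (hU.fromSpec y)) m :=
    hU.isLocalization_stalk' y trivial
  haveI := hreg (hU.fromSpec y)
  let e := IsLocalization.algEquiv m.primeCompl (X.presheaf.stalk (hU.fromSpec y))
    (Localization.AtPrime m)
  haveI : IsDomain (X.presheaf.stalk (hU.fromSpec y)) :=
    Groth.Agent.Lib.Helper9.RegLocal.isDomain_of_isRegularLocalRing _
  haveI : IsIntegrallyClosed (X.presheaf.stalk (hU.fromSpec y)) :=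
    Groth.Agent.Lib.Helper26.RegularNormal.isIntegrallyClosed_of_isRegularLocalRing _
  exact ⟨e.symm.toMulEquiv.isDomain _, IsIntegrallyClosed.of_equiv e.toRingEquiv⟩

theorem main (k : Type u) [Field k] [IsAlgClosed k]
    (G : Over (Spec (CommRingCat.of k))) [GrpObj G] [IsAffine G.left] [Smooth G.hom]
    (H : Over (Spec (CommRingCat.of k))) [GrpObj H] [Smooth H.hom] (i : H ⟶ G) [IsMonHom i]
    [IsClosedImmersion i.left] [ConnectedSpace G.left] :
    IsIntegrallyClosed ↥(AGF.rTransInv i) := by
  obtain ⟨hint, hic⟩ := integral_and_ic k G.left G.hom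
  haveI := hint
  haveI := hic
  haveI : IsAffine H.left := isAffine_of_isAffineHom i.left
  haveI : IsAffine (G ⊗ H).left := by
    rw [Over.tensorObj_left]
    infer_instance
  haveI : Flat (fst G H).left := by
    rw [Over.fst_left]
    infer_instance
  have hflat : (fst G H).left.appTop.hom.Flat :=
    (HasRingHomProperty.iff_of_isAffine (P := @Flat)).mp inferInstance
  unfold AGF.rTransInv
  refine Helper9.EqLocusIC.isIntegrallyClosed_eqLocus _ _ (fun b hb c hc => ?_)
  letI := (fst G H).left.appTop.hom.toAlgebra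
  haveI : Module.Flat Γ(G.left, ⊤) Γ((G ⊗ H).left, ⊤) := hflat
  have hreg : IsSMulRegular Γ((G ⊗ H).left, ⊤) b :=
    Module.Flat.isSMulRegular_of_nonZeroDivisors (mem_nonZeroDivisors_of_ne_zero hb)
  apply hreg
  show b • c = b • (0 : Γ((G ⊗ H).left, ⊤))
  rw [smul_zero, Algebra.smul_def]
  exact hc

end Helper9.RTransInvIC
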