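import Mathlib
import Groth.Agent.Lib.Helper27.RegFibE
import Groth.Agent.Lib.Helper14.LCF.Thickening
import Groth.Agent.Lib.Helper16.FlatBC1
import Groth.Agent.Lib.Helper26.RegularHom
import Groth.Agent.S2674

/-!
# Flat morphisms with geometrically regular fibres and fppf base change (helper9)

* `isGeometricallyRegular_of_cover`: geometric regularity of the coordinate rings of a locally
  Noetherian fibre may be checked on an affine open cover.
* `chartBC`: sections of the base-changed fibre over the preimage of an affine open.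
* `good_baseChange`, `good_descend`, `flat_descend`.
-/

set_option autoImplicit false
set_option linter.style.haveILetI false
universe u
open AlgebraicGeometry CategoryTheory Limits TensorProduct

namespace Groth.Agent.Lib.Helper9.RegBCa

open Groth.Agent.Lib.Helper27.RegFibA Groth.Agent.Lib.Helper27.RegFibB
  Groth.Agent.Lib.Helper27.RegFibC Groth.Agent.Lib.Helper27.RegFibD
  Groth.Agent.Lib.Helper27.RegFibE

/-- Geometric regularity of the coordinate rings of a locally Noetherian fibre can be checked on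
an affine open cover. -/
theorem isGeometricallyRegular_of_cover {X Y : Scheme.{u}} (f : X ⟶ Y) (y : Y)
    (hN : IsLocallyNoetherian (f.fiber y))
    (C : Set (f.fiber y).Opens)
    (hCaff : ∀ W₀ ∈ C, IsAffineOpen W₀)
    (hCcov : ∀ w : f.fiber y, ∃ W₀ ∈ C, w ∈ W₀)
    (hCreg : ∀ W₀ ∈ C,
      letI : Algebra (Y.residueField y) Γ(f.fiber y, W₀) := (fibStr f y W₀).hom.toAlgebra
      CAlg.IsGeometricallyRegular (Y.residueField y) Γ(f.fiber y, W₀))
    (W : (f.fiber y).Opens) (hW : IsAffineOpen W) :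
    letI : Algebra (Y.residueField y) Γ(f.fiber y, W) := (fibStr f y W).hom.toAlgebra
    CAlg.IsGeometricallyRegular (Y.residueField y) Γ(f.fiber y, W) := by
  letI algW : Algebra (Y.residueField y) Γ(f.fiber y, W) := algFib f y W
  intro K _ _ hfin
  haveI : IsNoetherianRing Γ(f.fiber y, W) := hN.component_noetherian ⟨W, hW⟩
  haveI : Module.Finite (Y.residueField y) K := hfin
  refine isRegularRing_tensor_of_local (Y.residueField y) Γ(f.fiber y, W) K (fun q hq => ?_)
  haveI := hq
  obtain ⟨w, hwW, hq'⟩ := exists_point_of_prime hW q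
  obtain ⟨W₀, hW₀C, hwW₀⟩ := hCcov w
  have hW₀ : IsAffineOpen W₀ := hCaff W₀ hW₀C
  letI algW₀ : Algebra (Y.residueField y) Γ(f.fiber y, W₀) := algFib f y W₀
  have hGR : CAlg.IsGeometricallyRegular (Y.residueField y) Γ(f.fiber y, W₀) := hCreg W₀ hW₀C
  haveI hregW₀ : IsRegularRing (K ⊗[Y.residueField y] Γ(f.fiber y, W₀)) := hGR K hfin
  obtain ⟨g, g₀, hgg₀, hwg⟩ := exists_basicOpen_le_affine_inter hW hW₀ w ⟨hwW, hwW₀⟩
  have hgq : g ∉ q := by
    rw [← hq']
    exact (mem_basicOpen_iff_notMem_primeIdealOf' hW ⟨w, hwW⟩ g).mp hwg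
  have hDW₀ : (f.fiber y).basicOpen g ≤ W₀ := by
    rw [hgg₀]; exact (f.fiber y).basicOpen_le g₀
  letI algD : Algebra (Y.residueField y) Γ(f.fiber y, (f.fiber y).basicOpen g) :=
    algFib f y ((f.fiber y).basicOpen g)
  letI algWD : Algebra Γ(f.fiber y, W) Γ(f.fiber y, (f.fiber y).basicOpen g) :=
    algRes ((f.fiber y).basicOpen_le g)
  haveI tw1 : IsScalarTower (Y.residueField y) Γ(f.fiber y, W)
      Γ(f.fiber y, (f.fiber y).basicOpen g) := isScalarTower_fib f y ((f.fiber y).basicOpen_le g)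
  haveI locW : IsLocalization.Away g Γ(f.fiber y, (f.fiber y).basicOpen g) :=
    hW.isLocalization_basicOpen g
  refine ⟨g, hgq, Γ(f.fiber y, (f.fiber y).basicOpen g), inferInstance, algD, algWD, tw1, locW, ?_⟩
  letI algW₀D : Algebra Γ(f.fiber y, W₀) Γ(f.fiber y, (f.fiber y).basicOpen g) :=
    algRes hDW₀
  haveI tw2 : IsScalarTower (Y.residueField y) Γ(f.fiber y, W₀)
      Γ(f.fiber y, (f.fiber y).basicOpen g) := isScalarTower_fib f y hDW₀
  haveI locW₀ : IsLocalization.Away g₀ Γ(f.fiber y, (f.fiber y).basicOpen g) :=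
    hW₀.isLocalization_of_eq_basicOpen g₀ (homOfLE hDW₀) hgg₀
  exact isRegularRing_tensor_away (Y.residueField y) Γ(f.fiber y, W₀) K g₀
    Γ(f.fiber y, (f.fiber y).basicOpen g)

/-- Sections of the base-changed fibre over the preimage of an affine open. -/
theorem chartBC {X Y X' Y' : Scheme.{u}} (f : X ⟶ Y) (f' : X' ⟶ Y') (g : Y' ⟶ Y) (y' : Y')
    (e : f'.fiber y' ⟶ f.fiber (g y'))
    (hpb : IsPullback e (f'.fiberToSpecResidueField y') (f.fiberToSpecResidueField (g y'))
      (Spec.map (g.residueFieldMap y')))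
    (W : (f.fiber (g y')).Opens) (hW : IsAffineOpen W) :
    letI : Algebra (Y.residueField (g y')) (Y'.residueField y') :=
      (g.residueFieldMap y').hom.toAlgebra
    letI : Algebra (Y.residueField (g y')) Γ(f.fiber (g y'), W) :=
      (fibStr f (g y') W).hom.toAlgebra
    IsAffineOpen (e ⁻¹ᵁ W) ∧
      ∃ ε : Y'.residueField y' ⊗[Y.residueField (g y')] Γ(f.fiber (g y'), W) ≃+*
          Γ(f'.fiber y', e ⁻¹ᵁ W),
        ∀ c : Y'.residueField y',
          ε (c ⊗ₜ[Y.residueField (g y')] (1 : Γ(f.fiber (g y'), W))) =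
            (fibStr f' y' (e ⁻¹ᵁ W)).hom c := by
  letI algκ : Algebra (Y.residueField (g y')) (Y'.residueField y') :=
    (g.residueFieldMap y').hom.toAlgebra
  letI algW : Algebra (Y.residueField (g y')) Γ(f.fiber (g y'), W) :=
    (fibStr f (g y') W).hom.toAlgebra
  have hT : IsAffineOpen (⊤ : (Spec (Y.residueField (g y'))).Opens) := isAffineOpen_top _
  have hT' : IsAffineOpen (⊤ : (Spec (Y'.residueField y')).Opens) := isAffineOpen_top _
  have hUST : (⊤ : (Spec (Y'.residueField y')).Opens) ≤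
      (Spec.map (g.residueFieldMap y')) ⁻¹ᵁ ⊤ := fun _ _ => trivial
  have hUSX : W ≤ (f.fiberToSpecResidueField (g y')) ⁻¹ᵁ ⊤ := fun _ _ => trivial
  have hUY : e ⁻¹ᵁ W = e ⁻¹ᵁ W ⊓ (f'.fiberToSpecResidueField y') ⁻¹ᵁ ⊤ := by simp
  have : IsAffine (W : Scheme) := hW
  have : IsAffine ((⊤ : (Spec (Y.residueField (g y'))).Opens) : Scheme) := hT
  have : IsAffine ((⊤ : (Spec (Y'.residueField y')).Opens) : Scheme) := hT'
  have hW' : IsAffineOpen (e ⁻¹ᵁ W) :=
    .of_isIso (Scheme.Hom.isPullback_resLE hpb hUST hUSX hUY).isoPullback.hom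
  have hiso := isIso_pushoutSection_of_isAffineOpen hpb hUST hUSX hUY hT hT' hW
  have hpo := (isIso_pushoutSection_iff hpb hUST hUSX hUY).mp hiso
  have hcommg : (Spec.map (g.residueFieldMap y')).appLE ⊤ ⊤ hUST ≫
      (Scheme.ΓSpecIso (Y'.residueField y')).hom =
      (Scheme.ΓSpecIso (Y.residueField (g y'))).hom ≫ g.residueFieldMap y' := by
    have h0 : (Spec.map (g.residueFieldMap y')).appLE ⊤ ⊤ hUST =
        (Spec.map (g.residueFieldMap y')).appTop := by
      have h00 : (Spec (Y'.residueField y')).presheaf.map (homOfLE hUST).op = 𝟙 _ :=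
        (Spec (Y'.residueField y')).presheaf.map_id _
      rw [Scheme.Hom.appLE, h00]
      exact Category.comp_id _
    rw [h0]
    exact Scheme.ΓSpecIso_naturality _
  have H2' : IsPushout
      ((Scheme.ΓSpecIso (Y.residueField (g y'))).inv ≫
        (f.fiberToSpecResidueField (g y')).appLE ⊤ W hUSX)
      (g.residueFieldMap y')
      (e.appLE W (e ⁻¹ᵁ W) le_rfl)
      ((Scheme.ΓSpecIso (Y'.residueField y')).inv ≫
        (f'.fiberToSpecResidueField y').appLE ⊤ (e ⁻¹ᵁ W) le_top) :=
    hpo.of_iso (Scheme.ΓSpecIso _) (Iso.refl _) (Scheme.ΓSpecIso _) (Iso.refl _) (by simp)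
      hcommg (by simp) (by simp)
  have H2 : IsPushout (fibStr f (g y') W) (g.residueFieldMap y')
      (e.appLE W (e ⁻¹ᵁ W) le_rfl) (fibStr f' y' (e ⁻¹ᵁ W)) := H2'
  have H3 := CommRingCat.isPushout_tensorProduct (Y.residueField (g y')) (Y'.residueField y')
    Γ(f.fiber (g y'), W)
  refine ⟨hW', (H3.isoIsPushout _ _ H2.flip).commRingCatIsoToRingEquiv, fun c => ?_⟩
  have h4 := H3.inl_isoIsPushout_hom _ _ H2.flip
  exact congr($(h4).hom c)

section ring

variable (k K S : Type u) [Field k] [Field K] [CommRing S] [Algebra k K] [Algebra k S]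

theorem isNoetherianRing_tensor_of_essFiniteType [Algebra.EssFiniteType k K]
    [IsNoetherianRing S] : IsNoetherianRing (K ⊗[k] S) := by
  haveI : Algebra.EssFiniteType S (S ⊗[k] K) := inferInstance
  haveI : IsNoetherianRing (S ⊗[k] K) := Algebra.EssFiniteType.isNoetherianRing S _
  exact isNoetherianRing_of_ringEquiv _ (Algebra.TensorProduct.comm k S K).toRingEquiv

theorem isNoetherianRing_of_tensor [IsNoetherianRing (K ⊗[k] S)] : IsNoetherianRing S := by
  haveI : Module.FaithfullyFlat k K := inferInstance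
  haveI : IsNoetherianRing (k ⊗[k] S) :=
    Groth.Agent.Lib.Helper26.RegularHom.isNoetherianRing_tensor_of_faithfullyFlat k S k K
  exact isNoetherianRing_of_ringEquiv _ (Algebra.TensorProduct.lid k S).toRingEquiv

end ring

/-- Flatness descends along a flat surjective base change. -/
theorem flat_descend {X Y X' Y' : Scheme.{u}} {f : X ⟶ Y} {f' : X' ⟶ Y'} {g' : X' ⟶ X}
    {g : Y' ⟶ Y} [Flat g] [Surjective g] (hc : IsPullback g' f' f g) [Flat f'] : Flat f := by
  haveI : Flat g' := MorphismProperty.of_isPullback hc.flip (inferInstance : Flat g)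
  haveI : Surjective g' := MorphismProperty.of_isPullback hc.flip (inferInstance : Surjective g)
  rw [Flat.iff_flat_stalkMap]
  intro x
  obtain ⟨x', rfl⟩ := g'.surjective x
  exact Groth.Agent.Lib.Helper16.FlatBC.flatAt_descend g' g f' f hc.w.symm x'
    (Flat.stalkMap g' x') (Flat.stalkMap g (f' x')) (Flat.stalkMap f' x')

/-- Base change: Noetherian geometrically regular fibres ascend along a base change which is
locally of finite type. -/
theorem good_baseChange {X Y X' Y' : Scheme.{u}} {f : X ⟶ Y} {f' : X' ⟶ Y'} {g' : X' ⟶ X}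
    {g : Y' ⟶ Y} [LocallyOfFiniteType g] (hc : IsPullback g' f' f g)
    (hfib : ∀ (y : Y) (W : (f.fiber y).Opens), IsAffineOpen W →
      letI : Algebra (Y.residueField y) Γ(f.fiber y, W) := (fibStr f y W).hom.toAlgebra
      IsNoetherianRing Γ(f.fiber y, W) ∧
        CAlg.IsGeometricallyRegular (Y.residueField y) Γ(f.fiber y, W))
    (y' : Y') (W' : (f'.fiber y').Opens) (hW' : IsAffineOpen W') :
    letI : Algebra (Y'.residueField y') Γ(f'.fiber y', W') := (fibStr f' y' W').hom.toAlgebra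
    IsNoetherianRing Γ(f'.fiber y', W') ∧
      CAlg.IsGeometricallyRegular (Y'.residueField y') Γ(f'.fiber y', W') := by
  obtain ⟨e, hpb, -⟩ := Groth.Agent.Lib.Helper14.LCF.exists_fibre_isPullback hc y'
  letI algκ : Algebra (Y.residueField (g y')) (Y'.residueField y') :=
    (g.residueFieldMap y').hom.toAlgebra
  haveI hess : Algebra.EssFiniteType (Y.residueField (g y')) (Y'.residueField y') :=
    RingHom.EssFiniteType.residueFieldMap (LocallyOfFiniteType.stalkMap g y')
  have key : ∀ (W : (f.fiber (g y')).Opens), IsAffineOpen W →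
      letI : Algebra (Y'.residueField y') Γ(f'.fiber y', e ⁻¹ᵁ W) :=
        (fibStr f' y' (e ⁻¹ᵁ W)).hom.toAlgebra
      IsAffineOpen (e ⁻¹ᵁ W) ∧ IsNoetherianRing Γ(f'.fiber y', e ⁻¹ᵁ W) ∧
        CAlg.IsGeometricallyRegular (Y'.residueField y') Γ(f'.fiber y', e ⁻¹ᵁ W) := by
    intro W hW
    letI algW : Algebra (Y.residueField (g y')) Γ(f.fiber (g y'), W) :=
      (fibStr f (g y') W).hom.toAlgebra
    letI algW' : Algebra (Y'.residueField y') Γ(f'.fiber y', e ⁻¹ᵁ W) :=
      (fibStr f' y' (e ⁻¹ᵁ W)).hom.toAlgebra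
    obtain ⟨hN, hGR⟩ := hfib (g y') W hW
    obtain ⟨haff, ε, hε⟩ := chartBC f f' g y' e hpb W hW
    haveI := hN
    haveI hNT : IsNoetherianRing
        (Y'.residueField y' ⊗[Y.residueField (g y')] Γ(f.fiber (g y'), W)) :=
      isNoetherianRing_tensor_of_essFiniteType _ _ _
    let εA : (Y'.residueField y' ⊗[Y.residueField (g y')] Γ(f.fiber (g y'), W))
        ≃ₐ[Y'.residueField y'] Γ(f'.fiber y', e ⁻¹ᵁ W) :=
      AlgEquiv.ofRingEquiv (f := ε) (fun c => by
        rw [Algebra.TensorProduct.algebraMap_apply]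
        exact hε c)
    refine ⟨haff, isNoetherianRing_of_ringEquiv _ ε, ?_⟩
    have h1 : CAlg.IsGeometricallyRegular (Y'.residueField y')
        (Y'.residueField y' ⊗[Y.residueField (g y')] Γ(f.fiber (g y'), W)) :=
      (Groth.Agent.S2674.result _ _ _).mp hGR
    exact isGeometricallyRegular_of_algEquiv' εA h1
  have hLN : IsLocallyNoetherian (f'.fiber y') := by
    refine isLocallyNoetherian_of_affine_cover (ι := (f.fiber (g y')).affineOpens)
      (S := fun W => ⟨e ⁻¹ᵁ W.1, (key W.1 W.2).1⟩) ?_ (fun W => (key W.1 W.2).2.1)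
    rw [eq_top_iff]
    intro x' _
    obtain ⟨W, hW, hxW, -⟩ := exists_isAffineOpen_mem_and_subset (x := e x')
      (U := (⊤ : (f.fiber (g y')).Opens)) trivial
    rw [TopologicalSpace.Opens.mem_iSup]
    exact ⟨⟨W, hW⟩, hxW⟩
  refine ⟨hLN.component_noetherian ⟨W', hW'⟩, ?_⟩
  exact isGeometricallyRegular_of_cover f' y' hLN
    {V | ∃ W : (f.fiber (g y')).Opens, IsAffineOpen W ∧ V = e ⁻¹ᵁ W}
    (by rintro _ ⟨W, hW, rfl⟩; exact (key W hW).1)
    (by
      intro x'
      obtain ⟨W, hW, hxW, -⟩ := exists_isAffineOpen_mem_and_subset (x := e x')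
        (U := (⊤ : (f.fiber (g y')).Opens)) trivial
      exact ⟨_, ⟨W, hW, rfl⟩, hxW⟩)
    (by rintro _ ⟨W, hW, rfl⟩; exact (key W hW).2.2)
    W' hW'

/-- Descent: Noetherian geometrically regular fibres descend along a base change which is
locally of finite type. -/
theorem good_descend {X Y X' Y' : Scheme.{u}} {f : X ⟶ Y} {f' : X' ⟶ Y'} {g' : X' ⟶ X}
    {g : Y' ⟶ Y} [LocallyOfFiniteType g] (hc : IsPullback g' f' f g)
    (hfib' : ∀ (y' : Y') (W' : (f'.fiber y').Opens), IsAffineOpen W' →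
      letI : Algebra (Y'.residueField y') Γ(f'.fiber y', W') := (fibStr f' y' W').hom.toAlgebra
      IsNoetherianRing Γ(f'.fiber y', W') ∧
        CAlg.IsGeometricallyRegular (Y'.residueField y') Γ(f'.fiber y', W'))
    (y' : Y') (W : (f.fiber (g y')).Opens) (hW : IsAffineOpen W) :
    letI : Algebra (Y.residueField (g y')) Γ(f.fiber (g y'), W) :=
      (fibStr f (g y') W).hom.toAlgebra
    IsNoetherianRing Γ(f.fiber (g y'), W) ∧
      CAlg.IsGeometricallyRegular (Y.residueField (g y')) Γ(f.fiber (g y'), W) := by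
  obtain ⟨e, hpb, -⟩ := Groth.Agent.Lib.Helper14.LCF.exists_fibre_isPullback hc y'
  letI algκ : Algebra (Y.residueField (g y')) (Y'.residueField y') :=
    (g.residueFieldMap y').hom.toAlgebra
  haveI hess : Algebra.EssFiniteType (Y.residueField (g y')) (Y'.residueField y') :=
    RingHom.EssFiniteType.residueFieldMap (LocallyOfFiniteType.stalkMap g y')
  letI algW : Algebra (Y.residueField (g y')) Γ(f.fiber (g y'), W) :=
    (fibStr f (g y') W).hom.toAlgebra
  letI algW' : Algebra (Y'.residueField y') Γ(f'.fiber y', e ⁻¹ᵁ W) :=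
    (fibStr f' y' (e ⁻¹ᵁ W)).hom.toAlgebra
  obtain ⟨haff, ε, hε⟩ := chartBC f f' g y' e hpb W hW
  obtain ⟨hN', hGR'⟩ := hfib' y' (e ⁻¹ᵁ W) haff
  let εA : (Y'.residueField y' ⊗[Y.residueField (g y')] Γ(f.fiber (g y'), W))
      ≃ₐ[Y'.residueField y'] Γ(f'.fiber y', e ⁻¹ᵁ W) :=
    AlgEquiv.ofRingEquiv (f := ε) (fun c => by
      rw [Algebra.TensorProduct.algebraMap_apply]
      exact hε c)
  haveI := hN'
  haveI hNT : IsNoetherianRing
      (Y'.residueField y' ⊗[Y.residueField (g y')] Γ(f.fiber (g y'), W)) :=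
    isNoetherianRing_of_ringEquiv _ ε.symm
  haveI hN : IsNoetherianRing Γ(f.fiber (g y'), W) :=
    isNoetherianRing_of_tensor (Y.residueField (g y')) (Y'.residueField y') _
  refine ⟨hN, ?_⟩
  have h1 : CAlg.IsGeometricallyRegular (Y'.residueField y')
      (Y'.residueField y' ⊗[Y.residueField (g y')] Γ(f.fiber (g y'), W)) :=
    isGeometricallyRegular_of_algEquiv' εA.symm hGR'
  exact (Groth.Agent.S2674.result _ _ _).mpr h1

end Groth.Agent.Lib.Helper9.RegBCa
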