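import Groth.Agent.Lib.Helper2.Aff.PCohAff
import Groth.Agent.Lib.Helper2.Aff.TildePush
import Groth.Agent.Lib.Helper2.Aff.BCChart
import Groth.Agent.Lib.Helper2.Aff.ChartModel
import Groth.Agent.Lib.Helper13.ClImmPush
import Groth.Agent.Lib.Helper13.ClImmPC
import Groth.Agent.Lib.Helper13.PCohSum
import Groth.Agent.Lib.Helper9.MapD
import Groth.Agent.Lib.Helper9.PCLocalG

/-!
# Bridge between the chart form of relative pseudo-coherence on schemes and the ring level (helper9)

For an affine open `U` of `X` and `E ∈ D(O_X)`, a *model* of `E` on `U` is an object `M` of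
`D(Γ(X, U))` with `M~ ≅ E|_{Spec Γ(X, U)}`.  The direct image of `E|_U` along a closed immersion
`U ⟶ Spec P` given by a surjection `φ : P → Γ(X, U)` is then `(M_P)~`, so that the chart test of
`DerSch.ChartPC` is pseudo-coherence of `M` over `P`.
-/

set_option autoImplicit false
set_option linter.style.haveILetI false
universe u
open CategoryTheory CategoryTheory.Limits AlgebraicGeometry Opposite TopologicalSpace
open AlgebraicGeometry.Scheme.Modules
open Groth.Agent.Lib.Helper18.DR

attribute [local instance] HasDerivedCategory.standard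
attribute [local instance] Groth.Agent.Lib.Helper14.preservesFiniteLimits_tilde

namespace Groth.Agent.Lib.Helper9.RelBridge

open Groth.Agent.Lib.Helper9.MapD Groth.Agent.Lib.Helper2.Aff Groth.Agent.Lib.Helper2.Aff.AffPush
  Groth.Agent.Lib.Helper13.ClImmPC Groth.Agent.Lib.Helper13.ClImmPush

local notation "cc" => ComplexShape.up ℤ

instance preservesFiniteLimits_tilde_of (A : Type u) [CommRing A] :
    PreservesFiniteLimits (tilde.functor (CommRingCat.of A)) :=
  Groth.Agent.Lib.Helper14.preservesFiniteLimits_tilde _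

variable {X : Scheme.{u}}

/-! ### models -/

section model

variable {U : X.Opens} (hU : IsAffineOpen U)

/-- `M ∈ D(Γ(X, U))` is a model of `E` on the affine open `U` -/
def IsModel (E : DCoh.D X) (M : Dual.D Γ(X, U)) : Prop :=
  Nonempty ((DCoh.tildeD Γ(X, U)).obj M ≅ (DCoh.restrictD hU.fromSpec).obj E)

theorem exists_isModel (E : DCoh.D X) (hE : DCoh.IsQCohD E) : ∃ M, IsModel hU E M := by
  have hq := isQCohD_restrict hU.fromSpec E hE
  obtain ⟨M, ⟨eM⟩⟩ := ((tildeD_fullyFaithful_essImage Γ(X, U)).2.2 _).1 hq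
  exact ⟨M, ⟨eM⟩⟩

theorem IsModel.iso {E : DCoh.D X} {M M' : Dual.D Γ(X, U)} (h : IsModel hU E M)
    (h' : IsModel hU E M') : Nonempty (M ≅ M') := by
  obtain ⟨hfull, hfaith, -⟩ := tildeD_fullyFaithful_essImage Γ(X, U)
  haveI := hfull
  haveI := hfaith
  obtain ⟨e⟩ := h
  obtain ⟨e'⟩ := h'
  exact ⟨(DCoh.tildeD Γ(X, U)).preimageIso (e ≪≫ e'.symm)⟩

theorem IsModel.of_iso {E E' : DCoh.D X} {M : Dual.D Γ(X, U)} (h : IsModel hU E M)
    (e : E ≅ E') : IsModel hU E' M := by
  obtain ⟨e₀⟩ := h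
  exact ⟨e₀ ≪≫ (DCoh.restrictD hU.fromSpec).mapIso e⟩

/-- restriction to `Spec Γ(X, U)` is restriction to `U` followed by the direct image along
`U ≅ Spec Γ(X, U)` -/
noncomputable def resIsoPush :
    restrictFunctor hU.fromSpec ≅ restrictFunctor U.ι ⋙ pushforward hU.isoSpec.hom :=
  restrictFunctorComp hU.isoSpec.inv U.ι ≪≫
    Functor.isoWhiskerLeft (restrictFunctor U.ι) (restrictIsoPush hU.isoSpec)

/-- the form of the restriction used in the statements -/
noncomputable def restrictDIsoPushCx (G : CochainComplex X.Modules ℤ) :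
    (DCoh.restrictD hU.fromSpec).obj (DCoh.toD X G) ≅
      DCoh.toD _ ((DerSch.pushCx hU.isoSpec.hom).obj ((DCoh.restrictCx U).obj G)) :=
  isoOfNatIso (resIsoPush hU) _ ≪≫
    (restrictFunctor U.ι ⋙ pushforward hU.isoSpec.hom).mapDerivedCategoryFactors.app G ≪≫
    DerivedCategory.Q.mapIso (mapHCCompIso _ _ G)

end model

/-! ### the chart isomorphism -/

section chart

variable {U : X.Opens} (hU : IsAffineOpen U) {R : Type u} [CommRing R] {n : ℕ}
  (φ : MvPolynomial (Fin n) R →+* Γ(X, U))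

lemma chartImm_eq :
    DerSch.chartImm U φ = hU.isoSpec.hom ≫ Spec.map (CommRingCat.ofHom φ) := rfl

/-- the functor `F ↦ i_*(F|_U)` for the chart `i` -/
noncomputable def chartFunctorIso :
    restrictFunctor U.ι ⋙ pushforward (DerSch.chartImm U φ) ≅
      restrictFunctor hU.fromSpec ⋙ pushforward (Spec.map (CommRingCat.ofHom φ)) :=
  Functor.isoWhiskerLeft (restrictFunctor U.ι)
      (pushforwardCongr (chartImm_eq hU φ) ≪≫
        (pushforwardComp hU.isoSpec.hom (Spec.map (CommRingCat.ofHom φ))).symm) ≪≫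
    (Functor.associator _ _ _).symm ≪≫
    Functor.isoWhiskerRight (resIsoPush hU).symm _

theorem nonempty_chart_iso (hφ : Function.Surjective φ) (G : CochainComplex X.Modules ℤ)
    (E : DCoh.D X) (eG : DCoh.toD X G ≅ E) (M : Dual.D Γ(X, U)) (hM : IsModel hU E M) :
    Nonempty (DCoh.toD _ ((DerSch.pushCx (DerSch.chartImm U φ)).obj ((DCoh.restrictCx U).obj G)) ≅
      (DCoh.tildeD (CommRingCat.of (MvPolynomial (Fin n) R))).obj
        ((DRing.restrictD φ).obj M)) := by
  haveI := isClosedImmersion_chartImm U hU φ hφ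
  haveI : IsClosedImmersion (Spec.map (CommRingCat.ofHom φ)) :=
    IsClosedImmersion.spec_of_surjective (CommRingCat.ofHom φ) hφ
  obtain ⟨e⟩ := hM
  let F₁ := restrictFunctor U.ι ⋙ pushforward (DerSch.chartImm U φ)
  let e1 : DCoh.toD _ ((DerSch.pushCx (DerSch.chartImm U φ)).obj ((DCoh.restrictCx U).obj G)) ≅
      F₁.mapDerivedCategory.obj (DerivedCategory.Q.obj G) :=
    DerivedCategory.Q.mapIso (mapHCCompIso _ _ G).symm ≪≫
      (F₁.mapDerivedCategoryFactors.app G).symm
  let e2 := isoOfNatIso (chartFunctorIso hU φ) (DerivedCategory.Q.obj G)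
  let e3 := compIso (restrictFunctor hU.fromSpec) (pushforward (Spec.map (CommRingCat.ofHom φ)))
    (DerivedCategory.Q.obj G)
  let e4 := (pushforward (Spec.map (CommRingCat.ofHom φ))).mapDerivedCategory.mapIso
    ((DCoh.restrictD hU.fromSpec).mapIso eG ≪≫ e.symm)
  let e5 := (compIso (tilde.functor Γ(X, U)) (pushforward (Spec.map (CommRingCat.ofHom φ))) M).symm
  let e6 := isoOfNatIso (tildePushIso (CommRingCat.ofHom φ)) M
  let e7 := compIso (ModuleCat.restrictScalars.{u} φ)
    (tilde.functor (CommRingCat.of (MvPolynomial (Fin n) R))) M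
  exact ⟨e1 ≪≫ e2 ≪≫ e3 ≪≫ e4 ≪≫ e5 ≪≫ e6 ≪≫ e7⟩

theorem chartPC_iff (hφ : Function.Surjective φ) (G : CochainComplex X.Modules ℤ)
    (E : DCoh.D X) (eG : DCoh.toD X G ≅ E) (M : Dual.D Γ(X, U)) (hM : IsModel hU E M) (m : ℤ) :
    DCoh.IsPseudoCoherentD m
        (DCoh.toD _ ((DerSch.pushCx (DerSch.chartImm U φ)).obj ((DCoh.restrictCx U).obj G))) ↔
      DRing.IsPseudoCoherent (MvPolynomial (Fin n) R) m ((DRing.restrictD φ).obj M) := by
  obtain ⟨e⟩ := nonempty_chart_iso hU φ hφ G E eG M hM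
  rw [← PerfAff.isPC_tildeD_iff (MvPolynomial (Fin n) R) _ m]
  exact ⟨fun h => Groth.Agent.Lib.Helper13.PCohSum.isPC_of_iso e h,
    fun h => Groth.Agent.Lib.Helper13.PCohSum.isPC_of_iso e.symm h⟩

end chart

/-! ### localization of models -/

section loc

variable {U : X.Opens} (hU : IsAffineOpen U) (g : Γ(X, U))

/-- the restriction map to the basic open -/
noncomputable abbrev resMap : Γ(X, U) ⟶ Γ(X, X.basicOpen g) :=
  X.presheaf.map (homOfLE (X.basicOpen_le g)).op

lemma resMap_fromSpec : Spec.map (resMap g) ≫ hU.fromSpec = (hU.basicOpen g).fromSpec :=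
  hU.map_fromSpec (hU.basicOpen g) _

include hU in
lemma isOpenImmersion_resMap : IsOpenImmersion (Spec.map (resMap g)) := by
  haveI : IsOpenImmersion (Spec.map (resMap g) ≫ hU.fromSpec) := by
    rw [resMap_fromSpec]; infer_instance
  exact IsOpenImmersion.of_comp _ hU.fromSpec

include hU in
lemma flat_basicOpen : Module.Flat Γ(X, U) Γ(X, X.basicOpen g) := by
  haveI := hU.isLocalization_basicOpen g
  exact IsLocalization.flat _ (Submonoid.powers g)

/-- `(M~)|_{D(g)} ≅ (M_g)~` -/
noncomputable def tildeResIso (_ : IsOpenImmersion (Spec.map (resMap g))) :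
    extM (A := Γ(X, U)) (B := Γ(X, X.basicOpen g)) ⋙ tilde.functor Γ(X, X.basicOpen g) ≅
      tilde.functor Γ(X, U) ⋙ restrictFunctor (Spec.map (resMap g)) :=
  (Functor.isoWhiskerLeft _ (restrictFunctorIsoPullback (Spec.map (resMap g))) ≪≫
    Groth.Agent.Lib.Helper12.TildePullback.tildePullbackIso (resMap g)).symm

/-- restriction to the chart of the basic open in two steps -/
noncomputable def resResIso (_ : IsOpenImmersion (Spec.map (resMap g))) :
    restrictFunctor (hU.basicOpen g).fromSpec ≅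
      restrictFunctor hU.fromSpec ⋙ restrictFunctor (Spec.map (resMap g)) :=
  restrictFunctorCongr (resMap_fromSpec hU g).symm ≪≫ restrictFunctorComp _ _

theorem isModel_basicOpen [Module.Flat Γ(X, U) Γ(X, X.basicOpen g)] (E : DCoh.D X)
    (M : Dual.D Γ(X, U)) (hM : IsModel hU E M) :
    IsModel (hU.basicOpen g) E ((extD Γ(X, U) Γ(X, X.basicOpen g)).obj M) := by
  have hoi := isOpenImmersion_resMap hU g
  haveI := hoi
  obtain ⟨e⟩ := hM
  let e1 := (compIso (extM (A := Γ(X, U)) (B := Γ(X, X.basicOpen g)))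
    (tilde.functor Γ(X, X.basicOpen g)) M).symm
  let e2 := isoOfNatIso (tildeResIso g hoi) M
  let e3 := compIso (tilde.functor Γ(X, U)) (restrictFunctor (Spec.map (resMap g))) M
  let e4 := (restrictFunctor (Spec.map (resMap g))).mapDerivedCategory.mapIso e
  let e5 := (compIso (restrictFunctor hU.fromSpec) (restrictFunctor (Spec.map (resMap g))) E).symm
  let e6 := isoOfNatIso (resResIso hU g hoi).symm E
  exact ⟨e1 ≪≫ e2 ≪≫ e3 ≪≫ e4 ≪≫ e5 ≪≫ e6⟩

end loc

end Groth.Agent.Lib.Helper9.RelBridge
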