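import Groth.Agent.Lib.Helper9.RelBridge

/-!
# Relative pseudo-coherence in chart form on schemes equals the ring-level notion (helper9)

`RelPCOn f E m hU V h`: every model of `E` on the affine open `U ≤ f⁻¹V` is `m`-pseudo-coherent
relative to `Γ(S, V)`.  For `E` with quasi-coherent cohomology and `f` locally of finite type,
`DerSch.IsPseudoCoherentRel f m E` holds iff `RelPCOn` holds for all affine pairs.
-/

set_option autoImplicit false
set_option linter.style.haveILetI false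
universe u
open CategoryTheory CategoryTheory.Limits AlgebraicGeometry Opposite TopologicalSpace
open AlgebraicGeometry.Scheme.Modules
open Groth.Agent.Lib.Helper18.DR Groth.Agent.Lib.Helper9.PCM

attribute [local instance] HasDerivedCategory.standard
attribute [local instance] Groth.Agent.Lib.Helper14.preservesFiniteLimits_tilde

namespace Groth.Agent.Lib.Helper9.RelBridge

variable {X S : Scheme.{u}} (f : X ⟶ S) (E : DCoh.D X) (m : ℤ)

/-- every model of `E` on `U` is `m`-pseudo-coherent relative to `Γ(S, V)` -/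
def RelPCOn {U : X.Opens} (hU : IsAffineOpen U) (V : S.Opens) (h : U ≤ f ⁻¹ᵁ V) : Prop :=
  letI := (f.appLE V U h).hom.toAlgebra
  ∀ M : Dual.D Γ(X, U), IsModel hU E M → DerCA.IsRelPseudoCoherent Γ(S, V) Γ(X, U) m M

variable {f E m}

lemma relPCOn_congr {U U' : X.Opens} (hU : IsAffineOpen U) (hU' : IsAffineOpen U')
    {V V' : S.Opens} (h : U ≤ f ⁻¹ᵁ V) (h' : U' ≤ f ⁻¹ᵁ V') (eU : U = U') (eV : V = V')
    (hrel : RelPCOn f E m hU V h) : RelPCOn f E m hU' V' h' := by
  subst eU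
  subst eV
  exact hrel

/-- the chart test is the ring-level condition on models -/
theorem chartPC_iff_relPCOn {U : X.Opens} (hU : IsAffineOpen U) {V : S.Opens}
    (h : U ≤ f ⁻¹ᵁ V) (hE : DCoh.IsQCohD E) {n : ℕ}
    (φ : MvPolynomial (Fin n) Γ(S, V) →+* Γ(X, U)) (hφ : DerSch.IsChart f U V h φ) :
    DerSch.ChartPC m E U V φ ↔ RelPCOn f E m hU V h := by
  letI := (f.appLE V U h).hom.toAlgebra
  have hc : ∀ r : Γ(S, V), φ (algebraMap Γ(S, V) (MvPolynomial (Fin n) Γ(S, V)) r) =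
      algebraMap Γ(S, V) Γ(X, U) r := fun r => by
    rw [MvPolynomial.algebraMap_eq]
    exact RingHom.congr_fun hφ.2 r
  let α : MvPolynomial (Fin n) Γ(S, V) →ₐ[Γ(S, V)] Γ(X, U) := { φ with commutes' := hc }
  have hα : Function.Surjective α := hφ.1
  constructor
  · intro hpc M hM
    let G := DerivedCategory.Q.objPreimage E
    let eG : DCoh.toD X G ≅ E := DerivedCategory.Q.objObjPreimageIso E
    have h1 := (chartPC_iff hU φ hφ.1 G E eG M hM m).1 (hpc G ⟨eG⟩)
    exact (relPC_iff_via α hα m M).2 h1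
  · intro hrel G ⟨eG⟩
    obtain ⟨M, hM⟩ := exists_isModel hU E hE
    exact (chartPC_iff hU φ hφ.1 G E eG M hM m).2 ((relPC_iff_via α hα m M).1 (hrel M hM))

section localization

variable {U : X.Opens} (hU : IsAffineOpen U) {V : S.Opens} (h : U ≤ f ⁻¹ᵁ V)

include hU in
lemma tower_basicOpen (g : Γ(X, U)) :
    letI := (f.appLE V U h).hom.toAlgebra
    letI := (f.appLE V (X.basicOpen g) ((X.basicOpen_le g).trans h)).hom.toAlgebra
    IsScalarTower Γ(S, V) Γ(X, U) Γ(X, X.basicOpen g) := by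
  letI := (f.appLE V U h).hom.toAlgebra
  letI := (f.appLE V (X.basicOpen g) ((X.basicOpen_le g).trans h)).hom.toAlgebra
  refine IsScalarTower.of_algebraMap_eq (fun r => ?_)
  have := congrArg (fun ψ => ψ.hom r) (f.appLE_map h (homOfLE (X.basicOpen_le g)).op)
  exact this.symm

/-- passage to a basic open of the source -/
theorem relPCOn_basicOpen (hE : DCoh.IsQCohD E) (g : Γ(X, U))
    (hrel : RelPCOn f E m hU V h) :
    RelPCOn f E m (hU.basicOpen g) V ((X.basicOpen_le g).trans h) := by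
  intro M' hM'
  letI := (f.appLE V U h).hom.toAlgebra
  letI := (f.appLE V (X.basicOpen g) ((X.basicOpen_le g).trans h)).hom.toAlgebra
  haveI := tower_basicOpen hU h g
  haveI := hU.isLocalization_basicOpen g
  haveI := flat_basicOpen hU g
  obtain ⟨M, hM⟩ := exists_isModel hU E hE
  have h1 := hrel M hM
  have h2 := relPC_away_of_relPCG (R := Γ(S, V)) M m g Γ(X, X.basicOpen g) h1
  have h3 := isModel_basicOpen hU g E M hM
  obtain ⟨i⟩ := IsModel.iso (hU.basicOpen g) h3 hM'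
  exact relPC_of_iso i h2

/-- gluing along a finite cover of the source by basic opens -/
theorem relPCOn_of_finset [LocallyOfFiniteType f] (hV : IsAffineOpen V)
    (s : Finset Γ(X, U)) (hs : Ideal.span (s : Set Γ(X, U)) = ⊤)
    (hrel : ∀ g ∈ s, RelPCOn f E m (hU.basicOpen g) V ((X.basicOpen_le g).trans h)) :
    RelPCOn f E m hU V h := by
  intro M hM
  letI := (f.appLE V U h).hom.toAlgebra
  haveI : Algebra.FiniteType Γ(S, V) Γ(X, U) := f.finiteType_appLE hV hU h
  refine relPC_of_relPC_awayG M m s hs (fun g hg => ?_)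
  letI algB : Algebra Γ(S, V) Γ(X, X.basicOpen g) :=
    (f.appLE V (X.basicOpen g) ((X.basicOpen_le g).trans h)).hom.toAlgebra
  haveI tw := tower_basicOpen hU h g
  haveI loc := hU.isLocalization_basicOpen g
  haveI fl := flat_basicOpen hU g
  exact ⟨Γ(X, X.basicOpen g), inferInstance, inferInstance, loc, algB, tw, fl,
    hrel g hg _ (isModel_basicOpen hU g E M hM)⟩

/-- gluing, pointwise form -/
theorem relPCOn_of_forall_exists [LocallyOfFiniteType f] (hV : IsAffineOpen V)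
    (H : ∀ x ∈ U, ∃ g : Γ(X, U), x ∈ X.basicOpen g ∧
      RelPCOn f E m (hU.basicOpen g) V ((X.basicOpen_le g).trans h)) :
    RelPCOn f E m hU V h := by
  have H' : ∀ x : U, ∃ g : Γ(X, U), (x : X) ∈ X.basicOpen g ∧
      RelPCOn f E m (hU.basicOpen g) V ((X.basicOpen_le g).trans h) := fun x => H x x.2
  choose g hg₁ hg₂ using H'
  have hspan : Ideal.span (Set.range g) = ⊤ := by
    rw [← hU.self_le_iSup_basicOpen_iff]
    intro x hx
    rw [iSup_range', Opens.mem_iSup]
    exact ⟨_, hg₁ ⟨x, hx⟩⟩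
  obtain ⟨t, ht₁, ht₂⟩ := (Ideal.span_eq_top_iff_finite _).mp hspan
  refine relPCOn_of_finset hU h hV t ht₂ (fun a ha => ?_)
  obtain ⟨x, rfl⟩ := ht₁ ha
  exact hg₂ x

end localization

section base

variable {U : X.Opens} (hU : IsAffineOpen U) {V : S.Opens} (hV : IsAffineOpen V)

include hV

/-- shrinking the base to a basic open does not change the condition -/
theorem relPCOn_basicOpen_base_iff [LocallyOfFiniteType f] (t : Γ(S, V))
    (h : U ≤ f ⁻¹ᵁ (S.basicOpen t)) :
    RelPCOn f E m hU (S.basicOpen t) h ↔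
      RelPCOn f E m hU V (h.trans (f.preimage_mono (S.basicOpen_le t))) := by
  letI : Algebra Γ(S, S.basicOpen t) Γ(X, U) := (f.appLE (S.basicOpen t) U h).hom.toAlgebra
  letI : Algebra Γ(S, V) Γ(X, U) :=
    (f.appLE V U (h.trans (f.preimage_mono (S.basicOpen_le t)))).hom.toAlgebra
  haveI : IsScalarTower Γ(S, V) Γ(S, S.basicOpen t) Γ(X, U) := by
    refine IsScalarTower.of_algebraMap_eq (fun r => ?_)
    have := congrArg (fun ψ => ψ.hom r) (f.map_appLE h (homOfLE (S.basicOpen_le t)).op)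
    exact this.symm
  haveI := hV.isLocalization_basicOpen t
  have hPC : PCAlg Γ(S, V) Γ(S, S.basicOpen t) := PCAlg.localization_away t _
  haveI : Algebra.FiniteType Γ(S, S.basicOpen t) Γ(X, U) :=
    f.finiteType_appLE (hV.basicOpen t) hU h
  constructor
  · intro hrel M hM
    exact (relPC_tower_iff hPC M m).1 (hrel M hM)
  · intro hrel M hM
    exact (relPC_tower_iff hPC M m).2 (hrel M hM)

/-- the condition does not depend on the affine open of the base -/
theorem relPCOn_base_indep [LocallyOfFiniteType f] {V' : S.Opens} (hV' : IsAffineOpen V')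
    (h : U ≤ f ⁻¹ᵁ V) (h' : U ≤ f ⁻¹ᵁ V') (hE : DCoh.IsQCohD E)
    (hrel : RelPCOn f E m hU V h) : RelPCOn f E m hU V' h' := by
  refine relPCOn_of_forall_exists hU h' hV' (fun x hx => ?_)
  obtain ⟨t, t', e, hxt⟩ := exists_basicOpen_le_affine_inter hV hV' (f.base x) ⟨h hx, h' hx⟩
  let g : Γ(X, U) := (f.appLE V U h).hom t
  let g' : Γ(X, U) := (f.appLE V' U h').hom t'
  have hg : X.basicOpen g = U ⊓ f ⁻¹ᵁ (S.basicOpen t) := Scheme.basicOpen_appLE f U V h t
  have hg' : X.basicOpen g' = U ⊓ f ⁻¹ᵁ (S.basicOpen t') := Scheme.basicOpen_appLE f U V' h' t'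
  have hgg : X.basicOpen g = X.basicOpen g' := by rw [hg, hg', e]
  have hle : X.basicOpen g ≤ f ⁻¹ᵁ (S.basicOpen t) := by rw [hg]; exact inf_le_right
  have hle' : X.basicOpen g' ≤ f ⁻¹ᵁ (S.basicOpen t') := by rw [hg']; exact inf_le_right
  refine ⟨g', ?_, ?_⟩
  · rw [hg']
    exact ⟨hx, by rw [← e]; exact hxt⟩
  · have h1 := relPCOn_basicOpen hU h hE g hrel
    have h2 := (relPCOn_basicOpen_base_iff (hU.basicOpen g) hV t hle).2 h1
    have h3 : RelPCOn f E m (hU.basicOpen g') (S.basicOpen t') hle' :=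
      relPCOn_congr (hU.basicOpen g) (hU.basicOpen g') hle hle' hgg e h2
    exact (relPCOn_basicOpen_base_iff (hU.basicOpen g') hV' t' hle').1 h3

end base

/-- **relative pseudo-coherence in chart form gives the ring-level condition on every affine
pair** -/
theorem relPCOn_of_isPseudoCoherentRel (hE : DCoh.IsQCohD E)
    (hrel : DerSch.IsPseudoCoherentRel f m E) {U : X.Opens} (hU : IsAffineOpen U) {V : S.Opens}
    (hV : IsAffineOpen V) (h : U ≤ f ⁻¹ᵁ V) : RelPCOn f E m hU V h := by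
  obtain ⟨hft, 𝒱, h𝒱, H⟩ := hrel
  haveI := hft
  refine relPCOn_of_forall_exists hU h hV (fun x hx => ?_)
  have hfx : f.base x ∈ (⨆ V ∈ 𝒱, (V : S.Opens)) := by rw [h𝒱]; trivial
  simp only [Opens.mem_iSup] at hfx
  obtain ⟨Vj, hVj, hxVj⟩ := hfx
  obtain ⟨𝒰, h𝒰, HU⟩ := H Vj hVj
  have hx' : x ∈ (⨆ U ∈ 𝒰, (U : X.Opens)) := by rw [h𝒰]; exact hxVj
  simp only [Opens.mem_iSup] at hx'
  obtain ⟨Ui, hUi, hxUi⟩ := hx'
  have hle : (Ui : X.Opens) ≤ f ⁻¹ᵁ (Vj : S.Opens) := by
    rw [← h𝒰]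
    exact le_iSup₂ (f := fun (U : X.affineOpens) (_ : U ∈ 𝒰) => (U : X.Opens)) Ui hUi
  obtain ⟨n, φ, hchart, hpc⟩ := HU Ui hUi hle
  have hreli : RelPCOn f E m Ui.2 (Vj : S.Opens) hle :=
    (chartPC_iff_relPCOn Ui.2 hle hE φ hchart).1 hpc
  obtain ⟨g, gi, e, hxg⟩ := exists_basicOpen_le_affine_inter hU Ui.2 x ⟨hx, hxUi⟩
  refine ⟨g, hxg, ?_⟩
  have h1 := relPCOn_basicOpen Ui.2 hle hE gi hreli
  have hle2 : X.basicOpen g ≤ f ⁻¹ᵁ (Vj : S.Opens) := by
    rw [e]; exact (X.basicOpen_le gi).trans hle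
  have h2 : RelPCOn f E m (hU.basicOpen g) (Vj : S.Opens) hle2 :=
    relPCOn_congr (Ui.2.basicOpen gi) (hU.basicOpen g) _ hle2 e.symm rfl h1
  exact relPCOn_base_indep (hU.basicOpen g) Vj.2 hV hle2 ((X.basicOpen_le g).trans h) hE h2

/-- **the ring-level condition on all affine pairs gives relative pseudo-coherence in chart
form** -/
theorem isPseudoCoherentRel_of_relPCOn [LocallyOfFiniteType f] (hE : DCoh.IsQCohD E)
    (H : ∀ (U : X.affineOpens) (V : S.affineOpens) (h : (U : X.Opens) ≤ f ⁻¹ᵁ (V : S.Opens)),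
      RelPCOn f E m U.2 (V : S.Opens) h) :
    DerSch.IsPseudoCoherentRel f m E := by
  refine ⟨inferInstance, Set.univ, ?_, fun V _ => ⟨{U | (U : X.Opens) ≤ f ⁻¹ᵁ (V : S.Opens)}, ?_,
    fun U _ h => ?_⟩⟩
  · rw [eq_top_iff]
    intro x _
    obtain ⟨_, ⟨W, hW, rfl⟩, hxW, -⟩ :=
      S.isBasis_affineOpens.exists_subset_of_mem_open (Set.mem_univ x) isOpen_univ
    simp only [Opens.mem_iSup]
    exact ⟨⟨W, hW⟩, Set.mem_univ _, hxW⟩
  · apply le_antisymm
    · exact iSup₂_le (fun U hU => hU)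
    · intro x hx
      obtain ⟨_, ⟨W, hW, rfl⟩, hxW, hWV⟩ :=
        X.isBasis_affineOpens.exists_subset_of_mem_open hx (f ⁻¹ᵁ (V : S.Opens)).2
      simp only [Opens.mem_iSup]
      exact ⟨⟨W, hW⟩, hWV, hxW⟩
  · letI := (f.appLE (V : S.Opens) (U : X.Opens) h).hom.toAlgebra
    haveI : Algebra.FiniteType Γ(S, (V : S.Opens)) Γ(X, (U : X.Opens)) :=
      f.finiteType_appLE V.2 U.2 h
    obtain ⟨n, α, hα⟩ := exists_presentation (R := Γ(S, (V : S.Opens))) (A := Γ(X, (U : X.Opens)))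
    let φ : MvPolynomial (Fin n) Γ(S, (V : S.Opens)) →+* Γ(X, (U : X.Opens)) := α
    have hchart : DerSch.IsChart f (U : X.Opens) (V : S.Opens) h φ :=
      ⟨hα, RingHom.ext fun r => α.commutes r⟩
    exact ⟨n, φ, hchart, (chartPC_iff_relPCOn U.2 h hE φ hchart).2 (H U V h)⟩

end Groth.Agent.Lib.Helper9.RelBridge
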