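import Mathlib
import Groth.Prelude
import Groth.Agent.Lib.Helper23.FBC5
import Groth.Agent.Lib.Helper7.PushLinear
import Groth.Agent.Lib.Helper3.PbBasic
import Groth.Agent.Lib.Helper12.OmegaAffine1
import Groth.Agent.Lib.Helper25.RelNefC0

/-!
# helper9: (C) of the S19496 farm — nefness passes to closed subschemes

The degree `χ(E) - n χ(O)` of a module on a scheme over a field is invariant under isomorphisms of
schemes (`deg_pullback_iso`) and of modules (`deg_eq_of_iso`); combined with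
`Helper25.RelNefC0.exists_iso_subscheme` this gives `C_nef_sub`.
-/

set_option autoImplicit false
set_option linter.style.haveILetI false
universe u
open CategoryTheory CategoryTheory.Limits AlgebraicGeometry

namespace Groth.Agent.Lib.Helper9.RelNefC

/-- the Euler characteristic is invariant under pullback along an isomorphism of schemes. -/
theorem euler_pullback_iso (K : Type u) [Field K] {Z Z' : Scheme.{u}} (e : Z ≅ Z')
    (t' : Z' ⟶ Spec (CommRingCat.of K)) (M : Z'.Modules) :
    @Curv2.euler K _ Z ⟨e.hom ≫ t'⟩ ((Scheme.Modules.pullback e.hom).obj M) =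
      @Curv2.euler K _ Z' ⟨t'⟩ M := by
  letI iZ : Z.Over (Spec (CommRingCat.of K)) := ⟨e.hom ≫ t'⟩
  letI iZ' : Z'.Over (Spec (CommRingCat.of K)) := ⟨t'⟩
  have e1 : (Scheme.Modules.pullback e.hom).obj M ≅ (Scheme.Modules.pushforward e.inv).obj M :=
    (Groth.Agent.Lib.Helper12.OmegaAffine.pullbackInvIsoPushforward e.symm).app M
  rw [Groth.Agent.Lib.Helper23.FBC.euler_eq_of_iso' K e1]
  unfold Curv2.euler
  refine finsum_congr fun i => ?_
  have hXS : Z' ↘ Spec (CommRingCat.of K) = e.inv ≫ (Z ↘ Spec (CommRingCat.of K)) := by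
    change t' = e.inv ≫ e.hom ≫ t'
    rw [Iso.inv_hom_id_assoc]
  rw [Groth.Agent.Lib.Helper7.PushLinear.finrank_push e.inv M K hXS i]

/-- the Euler characteristic of the structure module is invariant under isomorphisms. -/
theorem euler_structure_iso (K : Type u) [Field K] {Z Z' : Scheme.{u}} (e : Z ≅ Z')
    (t' : Z' ⟶ Spec (CommRingCat.of K)) :
    @Curv2.euler K _ Z ⟨e.hom ≫ t'⟩ (Coh.structureModule Z) =
      @Curv2.euler K _ Z' ⟨t'⟩ (Coh.structureModule Z') := by
  rw [← euler_pullback_iso K e t' (Coh.structureModule Z')]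
  letI iZ : Z.Over (Spec (CommRingCat.of K)) := ⟨e.hom ≫ t'⟩
  exact (Groth.Agent.Lib.Helper23.FBC.euler_eq_of_iso' K
    (Groth.Agent.Lib.Helper3.PbBasic.pbUnit e.hom)).symm

/-- the degree is invariant under pullback along an isomorphism of schemes. -/
theorem deg_pullback_iso (K : Type u) [Field K] {Z Z' : Scheme.{u}} (e : Z ≅ Z')
    (t : Z ⟶ Spec (CommRingCat.of K)) (t' : Z' ⟶ Spec (CommRingCat.of K)) (ht : t = e.hom ≫ t')
    (M : Z'.Modules) (n : ℕ) :
    @Curv2.deg K _ Z ⟨t⟩ ((Scheme.Modules.pullback e.hom).obj M) n =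
      @Curv2.deg K _ Z' ⟨t'⟩ M n := by
  subst ht
  unfold Curv2.deg
  rw [euler_pullback_iso K e t' M, euler_structure_iso K e t']

/-- the degree is invariant under isomorphisms of modules. -/
theorem deg_eq_of_iso (K : Type u) [Field K] {Z : Scheme.{u}} [Z.Over (Spec (CommRingCat.of K))]
    {M N : Z.Modules} (e : M ≅ N) (n : ℕ) : Curv2.deg K Z M n = Curv2.deg K Z N n := by
  unfold Curv2.deg
  rw [Groth.Agent.Lib.Helper23.FBC.euler_eq_of_iso' K e]

/-- auxiliary form of (C) with the closed subscheme of `X` and the isomorphism as data. -/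
theorem C_aux {A : Type u} [CommRing A] {X : Scheme.{u}}
    (f : X ⟶ Spec (CommRingCat.of A)) {K : Type u} [Field K] (i : A →+* K)
    (J : X.IdealSheafData) (t : J.subscheme ⟶ Spec (CommRingCat.of K))
    (ht : t ≫ Spec.map (CommRingCat.ofHom i) = J.subschemeι ≫ f) (L : X.Modules)
    (hnef : ∀ (K : Type u) [Field K] (i : A →+* K) (J : X.IdealSheafData)
      (t : J.subscheme ⟶ Spec (CommRingCat.of K)),
      AlgebraicGeometry.IsIntegral J.subscheme → topologicalKrullDim ↥J.subscheme = 1 →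
      t ≫ Spec.map (CommRingCat.ofHom i) = J.subschemeι ≫ f →
      0 ≤ @Curv2.deg K _ J.subscheme ⟨t⟩ ((Scheme.Modules.pullback J.subschemeι).obj L) 1)
    (Γ : J.subscheme.IdealSheafData) (J2 : X.IdealSheafData) (e : Γ.subscheme ≅ J2.subscheme)
    (he : e.hom ≫ J2.subschemeι = Γ.subschemeι ≫ J.subschemeι)
    (hint : AlgebraicGeometry.IsIntegral Γ.subscheme)
    (hdim : topologicalKrullDim ↥Γ.subscheme = 1) :
    0 ≤ @Curv2.deg K _ Γ.subscheme ⟨Γ.subschemeι ≫ t⟩
      ((Scheme.Modules.pullback Γ.subschemeι).obj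
        ((Scheme.Modules.pullback J.subschemeι).obj L)) 1 := by
  have hint2 : AlgebraicGeometry.IsIntegral J2.subscheme :=
    Groth.Agent.Lib.Helper25.RelNefC0.isIntegral_of_iso e hint
  have hdim2 : topologicalKrullDim ↥J2.subscheme = 1 := by
    rw [← Groth.Agent.Lib.Helper25.RelNefC0.topologicalKrullDim_eq_of_iso e]
    exact hdim
  have hcomm : (e.inv ≫ Γ.subschemeι ≫ t) ≫ Spec.map (CommRingCat.ofHom i) =
      J2.subschemeι ≫ f := by
    rw [Category.assoc, Category.assoc, ht, ← Category.assoc Γ.subschemeι, ← he, Category.assoc,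
      Iso.inv_hom_id_assoc]
  have h0 := hnef K i J2 (e.inv ≫ Γ.subschemeι ≫ t) hint2 hdim2 hcomm
  have htt : Γ.subschemeι ≫ t = e.hom ≫ (e.inv ≫ Γ.subschemeι ≫ t) := by
    rw [Iso.hom_inv_id_assoc]
  rw [← deg_pullback_iso K e (Γ.subschemeι ≫ t) (e.inv ≫ Γ.subschemeι ≫ t) htt] at h0
  letI iΓ : Γ.subscheme.Over (Spec (CommRingCat.of K)) := ⟨Γ.subschemeι ≫ t⟩
  let eM : (Scheme.Modules.pullback e.hom).obj ((Scheme.Modules.pullback J2.subschemeι).obj L) ≅
      (Scheme.Modules.pullback Γ.subschemeι).obj ((Scheme.Modules.pullback J.subschemeι).obj L) :=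
    (Scheme.Modules.pullbackComp e.hom J2.subschemeι).app L ≪≫
      (Scheme.Modules.pullbackCongr he).app L ≪≫
      ((Scheme.Modules.pullbackComp Γ.subschemeι J.subschemeι).app L).symm
  have := deg_eq_of_iso K eM 1
  rw [← this]
  exact h0

/-- (C) nefness passes to closed subschemes. -/
theorem C_nef_sub {A : Type u} [CommRing A] {X : Scheme.{u}}
    (f : X ⟶ Spec (CommRingCat.of A)) {K : Type u} [Field K] (i : A →+* K)
    (J : X.IdealSheafData) (t : J.subscheme ⟶ Spec (CommRingCat.of K))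
    (ht : t ≫ Spec.map (CommRingCat.ofHom i) = J.subschemeι ≫ f) (L : X.Modules)
    (hnef : ∀ (K : Type u) [Field K] (i : A →+* K) (J : X.IdealSheafData)
      (t : J.subscheme ⟶ Spec (CommRingCat.of K)),
      AlgebraicGeometry.IsIntegral J.subscheme → topologicalKrullDim ↥J.subscheme = 1 →
      t ≫ Spec.map (CommRingCat.ofHom i) = J.subschemeι ≫ f →
      0 ≤ @Curv2.deg K _ J.subscheme ⟨t⟩ ((Scheme.Modules.pullback J.subschemeι).obj L) 1) :
    ∀ Γ : J.subscheme.IdealSheafData, AlgebraicGeometry.IsIntegral Γ.subscheme →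
      topologicalKrullDim ↥Γ.subscheme = 1 →
      0 ≤ @Curv2.deg K _ Γ.subscheme ⟨Γ.subschemeι ≫ t⟩
        ((Scheme.Modules.pullback Γ.subschemeι).obj
          ((Scheme.Modules.pullback J.subschemeι).obj L)) 1 := by
  intro Γ hint hdim
  obtain ⟨e, he⟩ := Groth.Agent.Lib.Helper25.RelNefC0.exists_iso_subscheme J Γ
  exact C_aux f i J t ht L hnef Γ _ e he hint hdim

end Groth.Agent.Lib.Helper9.RelNefC
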