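import Mathlib
import Groth.Prelude
import Groth.Agent.Lib.Helper17.DevStep
import Groth.Agent.Lib.Helper23.T2A
import Groth.Agent.Lib.Helper3.QCSec
import Groth.Agent.Lib.Helper26.RelNefA
import Groth.Agent.Lib.Helper21.RelNefB
import Groth.Agent.Lib.Helper9.RelNefC
import Groth.Agent.Lib.Helper9.RelNefE
import Groth.Agent.Lib.Helper17.RelNefF
import Groth.Agent.Lib.Helper20.RelNefG1
import Groth.Agent.Lib.Helper4.RelNefN
import Groth.Agent.Lib.Helper13.RelNefH

/-!
# helper9: the eight farmed lemmas A B C E F G1 N H of the S19496 farm behind ONE import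

Every theorem below has helper23's exact stub text (post 3523) and is closed by one landed module per
letter; this file checks that the eight modules can be imported together.
-/

set_option autoImplicit false
set_option linter.style.haveILetI false
universe u
open CategoryTheory CategoryTheory.Limits AlgebraicGeometry

namespace Groth.Agent.Lib.Helper9.RelNefAll

open Groth.Agent.Lib.Helper3.QCSec Groth.Agent.Lib.Helper17 Groth.Agent.Lib.Helper23.T2

/-- the ideal sheaf of the scheme-theoretic fibre of `f` over the closed subscheme `V(m)`. -/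
noncomputable def fibIdeal {A : Type u} [CommRing A] {X : Scheme.{u}}
    (f : X ⟶ Spec (CommRingCat.of A)) (m : Ideal A) : X.IdealSheafData :=
  (Spec.map (CommRingCat.ofHom (Ideal.Quotient.mk m))).ker.comap f

/-- (A) the fibre is a proper scheme over `A/m`. -/
theorem A_exists_structure {A : Type u} [CommRing A] {X : Scheme.{u}}
    (f : X ⟶ Spec (CommRingCat.of A)) [IsProper f] (m : Ideal A) :
    ∃ t : (fibIdeal f m).subscheme ⟶ Spec (CommRingCat.of (A ⧸ m)),
      t ≫ Spec.map (CommRingCat.ofHom (Ideal.Quotient.mk m)) = (fibIdeal f m).subschemeι ≫ f ∧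
        IsProper t :=
  Groth.Agent.Lib.Helper26.RelNefA.A_exists_structure f m

/-- (B) the fibre over a closed point has dimension `≤ 1`. -/
theorem B_dim_le {A : Type u} [CommRing A] {X : Scheme.{u}}
    (f : X ⟶ Spec (CommRingCat.of A)) (m : Ideal A) [m.IsMaximal]
    (hfib : ∀ y : ↥(Spec (CommRingCat.of A)), topologicalKrullDim ↥(f.fiber y) ≤ 1) :
    topologicalKrullDim ↥(fibIdeal f m).subscheme ≤ 1 :=
  Groth.Agent.Lib.Helper21.RelNefB.B_dim_le f m hfib

/-- (C) nefness passes to closed subschemes. -/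
theorem C_nef_sub {A : Type u} [CommRing A] {X : Scheme.{u}}
    (f : X ⟶ Spec (CommRingCat.of A)) {K : Type u} [Field K] (i : A →+* K)
    (J : X.IdealSheafData) (t : J.subscheme ⟶ Spec (CommRingCat.of K))
    (ht : t ≫ Spec.map (CommRingCat.ofHom i) = J.subschemeι ≫ f) (L : X.Modules)
    (hnef : ∀ (K : Type u) [Field K] (i : A →+* K) (J : X.IdealSheafData)
      (t : J.subscheme ⟶ Spec (CommRingCat.of K)),
      AlgebraicGeometry.IsIntegral J.subscheme → topologicalKrullDim ↥J.subscheme = 1 →
      t ≫ Spec.map (CommRingCat.ofHom i) = J.subschemeι ≫ f →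
      0 ≤ @Curv2.deg K _ J.subscheme ⟨t⟩ ((Scheme.Modules.pullback J.subschemeι).obj L) 1) :
    ∀ Γ : J.subscheme.IdealSheafData, AlgebraicGeometry.IsIntegral Γ.subscheme →
      topologicalKrullDim ↥Γ.subscheme = 1 →
      0 ≤ @Curv2.deg K _ Γ.subscheme ⟨Γ.subschemeι ≫ t⟩
        ((Scheme.Modules.pullback Γ.subschemeι).obj
          ((Scheme.Modules.pullback J.subschemeι).obj L)) 1 :=
  Groth.Agent.Lib.Helper9.RelNefC.C_nef_sub f i J t ht L hnef

/-- (E) a module endomorphism which is multiplication by the global function `g` acts on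
cohomology as the scalar `g`. -/
theorem E_Hmap_eq_smul (X : Scheme.{u}) (L : X.Modules) (g : Coh.Γtop X) (μ : L ⟶ L)
    (hμ : ∀ (U : X.Opens) (s : Γ(L, U)), μ.app U s = rres X (le_top : U ≤ ⊤) g • s)
    (p : ℕ) (x : Coh.HH X L p) : Hmap μ p x = g • x :=
  Groth.Agent.Lib.Helper9.RelNefE.E_Hmap_eq_smul X L g μ hμ p x

/-- (F) the kernel of `L → L/mL` is a quotient of `L^r` via multiplication by generators of `m`. -/
theorem F_exists_epi_kernel {A : Type u} [CommRing A] [IsNoetherianRing A] {X : Scheme.{u}}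
    (f : X ⟶ Spec (CommRingCat.of A)) (m : Ideal A) (L : X.Modules) [L.IsQuasicoherent] :
    ∃ (r : ℕ) (a : Fin r → A) (μ : Fin r → (L ⟶ L))
      (φ : (∐ fun _ : Fin r => L) ⟶ kernel (DevStep.proj (fibIdeal f m) L)),
      (∀ i, a i ∈ m) ∧
      (∀ (i : Fin r) (U : X.Opens) (s : Γ(L, U)),
        (μ i).app U s = rres X (le_top : U ≤ ⊤) (Coh.toGlobal f (a i)) • s) ∧
      Epi φ ∧ ∀ i, Sigma.ι (fun _ : Fin r => L) i ≫ φ ≫ kernel.ι _ = μ i :=
  Groth.Agent.Lib.Helper17.RelNefF.F_exists_epi_kernel f m L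

/-- (G1) cohomology of a finite coproduct is generated by the summands. -/
theorem G1_exists_sum {X : Scheme.{u}} (L : X.Modules) (r : ℕ) (p : ℕ)
    (z : Coh.HH X (∐ fun _ : Fin r => L) p) :
    ∃ zs : Fin r → Coh.HH X L p, z = ∑ i, Hmap (Sigma.ι (fun _ : Fin r => L) i) p (zs i) :=
  Groth.Agent.Lib.Helper20.RelNefG1.G1_exists_sum L r p z

/-- (N) Nakayama over all maximal ideals. -/
theorem N_subsingleton {A M : Type u} [CommRing A] [AddCommGroup M] [Module A M]
    [Module.Finite A M]
    (h : ∀ m : Ideal A, m.IsMaximal → (⊤ : Submodule A M) ≤ m • (⊤ : Submodule A M)) :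
    Subsingleton M :=
  Groth.Agent.Lib.Helper4.RelNefN.N_subsingleton h

/-- (H) global generation can be checked on the closed fibres. -/
theorem H_gg_of_fibres {A : Type u} [CommRing A] [IsNoetherianRing A] {X : Scheme.{u}}
    (f : X ⟶ Spec (CommRingCat.of A)) [IsProper f] (L : X.Modules) (hL : PicF.IsInvertible L)
    (h : ∀ m : Ideal A, m.IsMaximal →
      Function.Surjective (Hmap (DevStep.proj (fibIdeal f m) L) 0) ∧
        Curv2.IsGloballyGenerated ((Scheme.Modules.pullback (fibIdeal f m).subschemeι).obj L)) :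
    Curv2.IsGloballyGenerated L :=
  Groth.Agent.Lib.Helper13.RelNefH.H_gg_of_fibres f L hL h

end Groth.Agent.Lib.Helper9.RelNefAll
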