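import Mathlib

set_option autoImplicit false
universe u
open CategoryTheory CategoryTheory.Limits AlgebraicGeometry

namespace Groth.Agent.Lib.Helper9.Ribbon

/-- Ring lemma: in a pushout square of commutative rings `B → A`, `B ↠ B'`, `A → A'`, `B' → A'`,
if the kernel of `A → A'` has square zero and `B → A → A'` is surjective, then `B → A` is surjective. -/
theorem ring_surj {A A' B B' : CommRingCat.{u}} {φ : B ⟶ A} {β : B ⟶ B'} {α : A ⟶ A'}
    {γ : B' ⟶ A'} (hpo : IsPushout φ β α γ) (hβ : Function.Surjective β.hom)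
    (hαφ : Function.Surjective (φ ≫ α).hom)
    (hsq : (RingHom.ker α.hom) ^ 2 = ⊥) : Function.Surjective φ.hom := by
  have hLK : Ideal.map φ.hom (RingHom.ker β.hom) ≤ RingHom.ker α.hom := by
    rw [Ideal.map_le_iff_le_comap]
    intro b hb
    rw [Ideal.mem_comap, RingHom.mem_ker]
    have h1 : α.hom (φ.hom b) = γ.hom (β.hom b) := by
      have := congrArg (fun g => g.hom b) hpo.w
      simpa using this
    rw [h1, (RingHom.mem_ker).mp hb, map_zero]
  have hKL : RingHom.ker α.hom ≤ Ideal.map φ.hom (RingHom.ker β.hom) := by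
    set L := Ideal.map φ.hom (RingHom.ker β.hom) with hL
    let T : CommRingCat.{u} := CommRingCat.of (A ⧸ L)
    let qA : A ⟶ T := CommRingCat.ofHom (Ideal.Quotient.mk L)
    have hker : RingHom.ker β.hom ≤ RingHom.ker ((Ideal.Quotient.mk L).comp φ.hom) := by
      intro b hb
      rw [RingHom.mem_ker, RingHom.comp_apply, Ideal.Quotient.eq_zero_iff_mem]
      exact Ideal.mem_map_of_mem _ hb
    let qB : B' ⟶ T := CommRingCat.ofHom (RingHom.liftOfSurjective β.hom hβ ⟨_, hker⟩)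
    have hw : φ ≫ qA = β ≫ qB := by
      ext b
      simp only [CommRingCat.hom_comp, RingHom.comp_apply, qA, qB, CommRingCat.hom_ofHom]
      rw [RingHom.liftOfSurjective_comp_apply]
      rfl
    intro a ha
    have h1 : α ≫ hpo.desc qA qB hw = qA := hpo.inl_desc _ _ _
    have h2 := congrArg (fun g => g.hom a) h1
    simp only [CommRingCat.hom_comp, RingHom.comp_apply] at h2
    rw [(RingHom.mem_ker).mp ha, map_zero] at h2
    exact Ideal.Quotient.eq_zero_iff_mem.mp h2.symm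
  have hKK : ∀ a b : A, a ∈ RingHom.ker α.hom → b ∈ RingHom.ker α.hom → a * b = 0 := by
    intro a b ha hb
    have : a * b ∈ (RingHom.ker α.hom) ^ 2 := by
      rw [sq]; exact Ideal.mul_mem_mul ha hb
    rw [hsq] at this
    exact (Submodule.mem_bot _).mp this
  have hdecomp : ∀ a : A, ∃ b : B, a - φ.hom b ∈ RingHom.ker α.hom := by
    intro a
    obtain ⟨b, hb⟩ := hαφ (α.hom a)
    refine ⟨b, ?_⟩
    rw [RingHom.mem_ker, map_sub]
    have : (φ ≫ α).hom b = α.hom (φ.hom b) := by simp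
    rw [← this, hb, sub_self]
  have hLrange : ∀ k ∈ Ideal.map φ.hom (RingHom.ker β.hom), ∃ y : B, φ.hom y = k := by
    intro k hk
    unfold Ideal.map at hk
    induction hk using Submodule.span_induction with
    | mem x hx => obtain ⟨b, -, rfl⟩ := hx; exact ⟨b, rfl⟩
    | zero => exact ⟨0, map_zero _⟩
    | add x y _ _ hx hy =>
      obtain ⟨x', rfl⟩ := hx; obtain ⟨y', rfl⟩ := hy; exact ⟨x' + y', map_add _ _ _⟩
    | smul a x hx ih =>
      obtain ⟨y, rfl⟩ := ih
      obtain ⟨b, hb⟩ := hdecomp a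
      refine ⟨b * y, ?_⟩
      have h0 : (a - φ.hom b) * φ.hom y = 0 := hKK _ _ hb (hLK hx)
      rw [map_mul, smul_eq_mul]
      linear_combination -h0
  intro a
  obtain ⟨b, hb⟩ := hdecomp a
  obtain ⟨y, hy⟩ := hLrange _ (hKL hb)
  exact ⟨b + y, by rw [map_add, hy]; ring⟩

/-- Affine case. -/
theorem affine_case {D C X Z : Scheme.{u}} [IsAffine C] [IsAffine X] [IsAffine Z]
    (i : D ⟶ C) (t : D ⟶ Z) (f : C ⟶ X) (ι : Z ⟶ X) (H : IsPullback i t f ι)
    [IsClosedImmersion i] [IsClosedImmersion ι] (hsq : i.ker ^ 2 = ⊥)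
    [IsClosedImmersion (i ≫ f)] : IsClosedImmersion f := by
  have hpo := isPushout_appTop_of_isPullback H
  have hι := (IsClosedImmersion.isAffine_surjective_of_isAffine ι).2
  have hif := (IsClosedImmersion.isAffine_surjective_of_isAffine (i ≫ f)).2
  have hsq' : (RingHom.ker i.appTop.hom) ^ 2 = ⊥ := by
    have h1 := congrArg (fun I => Scheme.IdealSheafData.ideal I ⟨⊤, isAffineOpen_top C⟩) hsq
    simp only [Scheme.IdealSheafData.ideal_pow, Pi.pow_apply, Scheme.IdealSheafData.ideal_bot,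
      Pi.bot_apply, Scheme.Hom.ker_apply] at h1
    exact h1
  have hsurj : Function.Surjective f.appTop.hom := by
    refine ring_surj hpo hι ?_ hsq'
    have : f.appTop ≫ i.appTop = (i ≫ f).appTop := by simp
    rw [this]; exact hif
  exact IsClosedImmersion.of_surjective_of_isAffine f hsurj

/-- Around any point of `C` there is an affine open of `X` with affine preimage. -/
theorem exists_affine_preimage {D C X : Scheme.{u}} (i : D ⟶ C) (f : C ⟶ X)
    (hisurj : Function.Surjective i) [IsClosedImmersion (i ≫ f)] (x : C) :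
    ∃ U : X.Opens, IsAffineOpen U ∧ f x ∈ U ∧ IsAffineOpen (f ⁻¹ᵁ U) := by
  obtain ⟨d, rfl⟩ := hisurj x
  obtain ⟨_, ⟨U, hU, rfl⟩, hyU, -⟩ :=
    X.isBasis_affineOpens.exists_subset_of_mem_open (Set.mem_univ (f (i d))) isOpen_univ
  obtain ⟨_, ⟨V, hV, rfl⟩, hxV, hVU⟩ :=
    C.isBasis_affineOpens.exists_subset_of_mem_open
      (show i d ∈ ((f ⁻¹ᵁ U : C.Opens) : Set C) from hyU) (f ⁻¹ᵁ U).isOpen
  have hVU' : V ≤ f ⁻¹ᵁ U := hVU
  have hjU : IsAffineOpen ((i ≫ f) ⁻¹ᵁ U) := hU.preimage (i ≫ f)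
  obtain ⟨g, hg1, hg2⟩ := hjU.exists_basicOpen_le (V := i ⁻¹ᵁ V) ⟨d, hxV⟩ hyU
  obtain ⟨b, hb⟩ := (i ≫ f).app_surjective U hU g
  refine ⟨X.basicOpen b, hU.basicOpen b, ?_, ?_⟩
  · have : d ∈ (i ≫ f) ⁻¹ᵁ X.basicOpen b := by
      rw [Scheme.preimage_basicOpen, hb]; exact hg2
    exact this
  · have hle : f ⁻¹ᵁ X.basicOpen b ≤ V := by
      intro c hc
      obtain ⟨d', rfl⟩ := hisurj c
      have : d' ∈ (i ≫ f) ⁻¹ᵁ X.basicOpen b := hc
      rw [Scheme.preimage_basicOpen, hb] at this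
      exact hg1 this
    have heq : f ⁻¹ᵁ X.basicOpen b =
        C.basicOpen (C.presheaf.map (homOfLE hVU').op (f.app U b)) := by
      rw [Scheme.basicOpen_res, ← Scheme.preimage_basicOpen]
      exact (inf_eq_right.mpr hle).symm
    rw [heq]
    exact hV.basicOpen _

theorem ker_sq_restrict {D C : Scheme.{u}} (i : D ⟶ C) [QuasiCompact i] (hsq : i.ker ^ 2 = ⊥)
    (W : C.Opens) : (i ∣_ W).ker ^ 2 = ⊥ := by
  apply Scheme.IdealSheafData.ext
  funext V
  have h1 := congrArg (fun I => Scheme.IdealSheafData.ideal I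
    ⟨W.ι ''ᵁ V, V.2.image_of_isOpenImmersion _⟩) hsq
  simp only [Scheme.IdealSheafData.ideal_pow, Pi.pow_apply, Scheme.IdealSheafData.ideal_bot,
    Pi.bot_apply] at h1 ⊢
  rw [Scheme.ker_morphismRestrict_ideal]
  exact h1

theorem surjective_of_ker_sq {D C : Scheme.{u}} (i : D ⟶ C) [IsClosedImmersion i]
    (hsq : i.ker ^ 2 = ⊥) : Function.Surjective i := by
  have h1 : (i.ker ^ 2).support = i.ker.support :=
    Scheme.IdealSheafData.support_pow _ 2 (by norm_num)
  rw [hsq, Scheme.IdealSheafData.support_bot] at h1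
  have h3 : (i.ker.support : Set C) = closure (Set.range i) := by
    rw [Scheme.Hom.support_ker]
  have h4 : closure (Set.range i) = Set.range i :=
    i.isClosedEmbedding.isClosed_range.closure_eq
  rw [← Set.range_eq_univ, ← h4, ← h3, ← h1]
  rfl

/-- The converse direction. -/
theorem isClosedImmersion_of_comp {D C X : Scheme.{u}} (i : D ⟶ C) (f : C ⟶ X)
    [IsClosedImmersion i] (hsq : i.ker ^ 2 = ⊥) [IsClosedImmersion (i ≫ f)]
    (h2 : (i ≫ f).ker.comap f = i.ker) : IsClosedImmersion f := by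
  have hisurj : Function.Surjective i := surjective_of_ker_sq i hsq
  have H : IsPullback i (i ≫ f).toImage f (i ≫ f).imageι :=
    isPullback_of_isClosedImmersion i (i ≫ f).imageι (i ≫ f).toImage f
      (by simp) (by rw [Scheme.IdealSheafData.ker_subschemeι]; exact h2)
  apply IsZariskiLocalAtTarget.of_forall_exists_morphismRestrict (P := @IsClosedImmersion)
  intro y
  by_cases hy : y ∈ Set.range f
  · obtain ⟨x, rfl⟩ := hy
    obtain ⟨U, hU, hxU, hfU⟩ := exists_affine_preimage i f hisurj x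
    refine ⟨U, hxU, ?_⟩
    have : IsAffine U.toScheme := hU
    have : IsAffine (f ⁻¹ᵁ U).toScheme := hfU
    have : IsAffine ((i ≫ f).imageι ⁻¹ᵁ U).toScheme := hU.preimage _
    have Hres := Scheme.Hom.isPullback_resLE H (US := U) (UT := (i ≫ f).imageι ⁻¹ᵁ U)
      (UX := f ⁻¹ᵁ U) le_rfl le_rfl (UY := i ⁻¹ᵁ (f ⁻¹ᵁ U)) (by
        rw [← Scheme.Hom.comp_preimage, ← Scheme.Hom.comp_preimage, Scheme.Hom.toImage_imageι,
          inf_idem])
    simp only [Scheme.Hom.resLE_eq_morphismRestrict] at Hres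
    have hsqr := ker_sq_restrict i hsq (f ⁻¹ᵁ U)
    have : IsClosedImmersion ((i ∣_ (f ⁻¹ᵁ U)) ≫ (f ∣_ U)) := by
      rw [← morphismRestrict_comp]
      exact IsZariskiLocalAtTarget.restrict (P := @IsClosedImmersion) inferInstance U
    exact affine_case _ _ _ _ Hres hsqr
  · have hcl : IsClosed (Set.range f) := by
      have : Set.range f = Set.range (i ≫ f) := by
        rw [Scheme.Hom.comp_base, TopCat.coe_comp, Set.range_comp, hisurj.range_eq, Set.image_univ]
      rw [this]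
      exact (i ≫ f).isClosedEmbedding.isClosed_range
    refine ⟨⟨(Set.range f)ᶜ, hcl.isOpen_compl⟩, hy, ?_⟩
    have : IsEmpty ↥((f ⁻¹ᵁ (⟨(Set.range f)ᶜ, hcl.isOpen_compl⟩ : X.Opens)).toScheme) :=
      ⟨fun c => c.2 ⟨c.1, rfl⟩⟩
    infer_instance

/-- The forward direction. -/
theorem comap_ker_eq {D C X : Scheme.{u}} (i : D ⟶ C) (f : C ⟶ X) [IsClosedImmersion i]
    [IsClosedImmersion f] : (i ≫ f).ker.comap f = i.ker := by
  haveI : Mono f := inferInstance
  rw [← Scheme.IdealSheafData.ker_fst_of_isClosedImmersion (i ≫ f) f]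
  have h1 : IsPullback (𝟙 D) i i (𝟙 C) := IsPullback.of_horiz_isIso ⟨by simp⟩
  have h2 : IsPullback (𝟙 C) (𝟙 C) f f := IsKernelPair.id_of_mono f
  have h3 := (h1.paste_vert h2).flip
  have h4 : h3.isoPullback.hom ≫ pullback.fst f (i ≫ f) = i ≫ 𝟙 C := h3.isoPullback_hom_fst
  have h5 : i = h3.isoPullback.hom ≫ pullback.fst f (i ≫ f) := by rw [h4, Category.comp_id]
  conv_rhs => rw [h5]
  rw [Scheme.Hom.ker_comp_of_isIso]

theorem main {D C X : Scheme.{u}} (i : D ⟶ C) (f : C ⟶ X)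
    [IsClosedImmersion i] (hsq : i.ker ^ 2 = ⊥) :
    IsClosedImmersion f ↔ (IsClosedImmersion (i ≫ f) ∧ (i ≫ f).ker.comap f = i.ker) := by
  constructor
  · intro hf
    exact ⟨inferInstance, comap_ker_eq i f⟩
  · rintro ⟨h1, h2⟩
    exact isClosedImmersion_of_comp i f hsq h2

end Groth.Agent.Lib.Helper9.Ribbon
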