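import Groth.Agent.Lib.Helper9.NDC
import Groth.Agent.Lib.Lead.RedNorm1

/-!
# `H¹` of the norm-one group of a central simple algebra (helper9)

Uses the generalised Hilbert 90 of `NDC` and the uniqueness of the reduced norm from the lead's
`RedNorm1`.
-/

set_option autoImplicit false
set_option linter.style.haveILetI false
set_option linter.unusedSectionVars false

universe u v w

open scoped TensorProduct

namespace Groth.Agent.Lib.Helper9.SL1H1

open Module Groth.Agent.Lib.Lead Groth.Agent.Lib.Helper24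

section Norm

variable {k : Type u} [Field k] {K : Type v} [Field K] [Algebra k K]
variable {A : Type w} [Ring A] [Algebra k A] [Algebra.IsCentral k A] [IsSimpleRing A]
  [FiniteDimensional k A]

theorem finrank_tensor {n : ℕ} (ψ : K ⊗[k] A ≃ₐ[K] Matrix (Fin n) (Fin n) K) :
    Module.finrank K (K ⊗[k] A) = n ^ 2 := by
  rw [LinearEquiv.finrank_eq ψ.toLinearEquiv, Module.finrank_matrix]
  simp [sq]

/-- The twisted splitting `x ↦ σ⁻¹(ψ(σ x))`. -/
noncomputable def twist {n : ℕ} (ψ : K ⊗[k] A ≃ₐ[K] Matrix (Fin n) (Fin n) K) (σ : K ≃ₐ[k] K) :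
    K ⊗[k] A →ₐ[K] Matrix (Fin n) (Fin n) K :=
  { toRingHom := ((σ.symm : K ≃ₐ[k] K) : K →+* K).mapMatrix.comp
      ((ψ : K ⊗[k] A →+* Matrix (Fin n) (Fin n) K).comp
        ((Algebra.TensorProduct.map (σ : K →ₐ[k] K) (AlgHom.id k A)) : K ⊗[k] A →+* K ⊗[k] A))
    commutes' := by
      intro c
      change ((σ.symm : K ≃ₐ[k] K) : K →+* K).mapMatrix
        (ψ (Algebra.TensorProduct.map (σ : K →ₐ[k] K) (AlgHom.id k A)
          (algebraMap K (K ⊗[k] A) c))) = _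
      rw [Algebra.TensorProduct.algebraMap_apply, Algebra.TensorProduct.map_tmul, map_one]
      have h1 : (σ : K →ₐ[k] K) (algebraMap K K c) ⊗ₜ[k] (1 : A) =
          algebraMap K (K ⊗[k] A) (σ c) := by
        rw [Algebra.TensorProduct.algebraMap_apply]
        rfl
      rw [h1, ψ.commutes]
      ext i j
      simp only [RingHom.mapMatrix_apply, Matrix.map_apply, Matrix.algebraMap_matrix_apply]
      split_ifs
      · simp
      · simp }

theorem twist_apply {n : ℕ} (ψ : K ⊗[k] A ≃ₐ[K] Matrix (Fin n) (Fin n) K) (σ : K ≃ₐ[k] K)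
    (x : K ⊗[k] A) :
    twist ψ σ x = ((σ.symm : K ≃ₐ[k] K) : K →+* K).mapMatrix (ψ (σ • x)) := by
  rw [CSAGal.smul_eq_map]
  rfl

/-- Galois equivariance of the reduced norm of `K ⊗ A`. -/
theorem redNorm_smul {n : ℕ} (ψ : K ⊗[k] A ≃ₐ[K] Matrix (Fin n) (Fin n) K)
    (NK : (K ⊗[k] A) →* K) (hNK : CSAGal.IsRedNorm K (K ⊗[k] A) NK) (σ : K ≃ₐ[k] K)
    (x : K ⊗[k] A) : NK (σ • x) = σ (NK x) := by
  haveI : Algebra.IsCentral K (K ⊗[k] A) := Split.isCentral_baseChange K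
  haveI : IsSimpleRing (K ⊗[k] A) := CSA.isSimpleRing_tensor
  have hfr := finrank_tensor ψ
  have h1 := RedNorm.algebraMap_redNorm hNK hfr (twist ψ σ) x
  have h2 := RedNorm.algebraMap_redNorm hNK hfr (ψ : K ⊗[k] A →ₐ[K] Matrix (Fin n) (Fin n) K)
    (σ • x)
  rw [twist_apply, ← RingHom.map_det] at h1
  change NK x = σ.symm _ at h1
  change NK (σ • x) = _ at h2
  rw [h2, h1]
  change _ = σ (σ.symm _)
  rw [AlgEquiv.apply_symm_apply]
  rfl

/-- Compatibility of the reduced norms of `A` and `K ⊗ A`. -/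
theorem redNorm_one_tmul {n : ℕ} (ψ : K ⊗[k] A ≃ₐ[K] Matrix (Fin n) (Fin n) K)
    (N : A →* k) (hN : CSAGal.IsRedNorm k A N)
    (NK : (K ⊗[k] A) →* K) (hNK : CSAGal.IsRedNorm K (K ⊗[k] A) NK) (y : A) :
    NK ((1 : K) ⊗ₜ[k] y) = algebraMap k K (N y) := by
  haveI : Algebra.IsCentral K (K ⊗[k] A) := Split.isCentral_baseChange K
  haveI : IsSimpleRing (K ⊗[k] A) := CSA.isSimpleRing_tensor
  have hfr := finrank_tensor ψ
  have hfrA := Split.finrank_of_splits_equiv ψ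
  have h1 := RedNorm.algebraMap_redNorm hN hfrA (Brauer.algHomOfSplit ψ) y
  have h2 := RedNorm.algebraMap_redNorm hNK hfr (ψ : K ⊗[k] A →ₐ[K] Matrix (Fin n) (Fin n) K)
    ((1 : K) ⊗ₜ[k] y)
  rw [RedNorm.algHomOfSplit_apply] at h1
  change NK _ = _ at h2
  rw [h2, h1]
  rfl

end Norm

section Main

attribute [local instance] CSAGal.tensorAction GpH1.unitsAction

variable {k : Type u} [Field k] {K : Type v} [Field K] [Algebra k K] [FiniteDimensional k K]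
  [IsGalois k K]
variable {A : Type w} [Ring A] [Algebra k A] [Algebra.IsCentral k A] [IsSimpleRing A]
  [FiniteDimensional k A]

theorem coe_smul_unit (σ : K ≃ₐ[k] K) (b : (K ⊗[k] A)ˣ) :
    ((σ • b : (K ⊗[k] A)ˣ) : K ⊗[k] A) = σ • (b : K ⊗[k] A) := rfl

theorem part1 {n : ℕ} (ψ : K ⊗[k] A ≃ₐ[K] Matrix (Fin n) (Fin n) K)
    (NK : (K ⊗[k] A) →* K) (hNK : CSAGal.IsRedNorm K (K ⊗[k] A) NK)
    (a : GpH1.OneCocycle (K ≃ₐ[k] K) (K ⊗[k] A)ˣ) (h1 : ∀ σ, NK (a σ : K ⊗[k] A) = 1) :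
    ∃ (c : kˣ) (b : (K ⊗[k] A)ˣ), NK (b : K ⊗[k] A) = algebraMap k K (c : k) ∧
      ∀ σ : K ≃ₐ[k] K, a σ = b⁻¹ * σ • b := by
  obtain ⟨b, hb⟩ := NDC.exists_unit_of_cocycle (k := k) (K := K) (A := A)
    (fun σ => a σ) (fun σ τ => by
      have := a.2 σ τ
      change a (σ * τ) = a σ * σ • a τ at this
      rw [this, Units.val_mul]
      rfl)
  have hb' : ∀ σ : K ≃ₐ[k] K, σ • (b : K ⊗[k] A) = (b : K ⊗[k] A) * (a σ : K ⊗[k] A) := hb
  have hfix : ∀ σ : K ≃ₐ[k] K, σ (NK (b : K ⊗[k] A)) = NK (b : K ⊗[k] A) := by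
    intro σ
    have h2 := redNorm_smul ψ NK hNK σ (b : K ⊗[k] A)
    rw [← h2]
    have h3 : NK (σ • (b : K ⊗[k] A)) = NK ((b : K ⊗[k] A) * (a σ : K ⊗[k] A)) :=
      congrArg NK (hb σ)
    refine h3.trans ?_
    rw [map_mul, h1 σ, mul_one]
  have hmem : NK (b : K ⊗[k] A) ∈ Set.range (algebraMap k K) := by
    rw [IsGalois.mem_range_algebraMap_iff_fixed]
    exact hfix
  obtain ⟨c₀, hc₀⟩ := hmem
  have hc₀ne : c₀ ≠ 0 := by
    rintro rfl
    rw [map_zero] at hc₀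
    have h4 : NK (b : K ⊗[k] A) * NK ((b⁻¹ : (K ⊗[k] A)ˣ) : K ⊗[k] A) = 1 := by
      rw [← map_mul, Units.mul_inv, map_one]
    rw [← hc₀, zero_mul] at h4
    exact zero_ne_one h4
  refine ⟨Units.mk0 c₀ hc₀ne, b, hc₀.symm, fun σ => ?_⟩
  apply Units.ext
  rw [Units.val_mul, coe_smul_unit, hb' σ, ← mul_assoc, Units.inv_mul, one_mul]

theorem part2 {n : ℕ} (ψ : K ⊗[k] A ≃ₐ[K] Matrix (Fin n) (Fin n) K)
    (N : A →* k) (hN : CSAGal.IsRedNorm k A N)
    (NK : (K ⊗[k] A) →* K) (hNK : CSAGal.IsRedNorm K (K ⊗[k] A) NK)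
    (c c' : kˣ) (b b' : (K ⊗[k] A)ˣ)
    (hb : NK (b : K ⊗[k] A) = algebraMap k K (c : k))
    (hb' : NK (b' : K ⊗[k] A) = algebraMap k K (c' : k)) :
    (∃ s : (K ⊗[k] A)ˣ, NK (s : K ⊗[k] A) = 1 ∧
        ∀ σ : K ≃ₐ[k] K, b'⁻¹ * σ • b' = s⁻¹ * (b⁻¹ * σ • b) * σ • s) ↔
      ∃ x : Aˣ, (c' : k) = N (x : A) * (c : k) := by
  constructor
  · rintro ⟨s, hs, hrel⟩
    -- t = b s b'⁻¹ is invariant
    have hinv : ∀ σ : K ≃ₐ[k] K, σ • (b * s * b'⁻¹) = b * s * b'⁻¹ := by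
      intro σ
      have h1 : σ • b * σ • s = b * s * (b'⁻¹ * σ • b') := by
        rw [hrel σ]; group
      rw [smul_mul', smul_mul', smul_inv', h1]
      group
    have hinvB : ∀ σ : K ≃ₐ[k] K,
        σ • ((b * s * b'⁻¹ : (K ⊗[k] A)ˣ) : K ⊗[k] A) = ((b * s * b'⁻¹ : (K ⊗[k] A)ˣ) : K ⊗[k] A) := by
      intro σ
      rw [← coe_smul_unit, hinv σ]
    have hinvB' : ∀ σ : K ≃ₐ[k] K,
        σ • (((b * s * b'⁻¹)⁻¹ : (K ⊗[k] A)ˣ) : K ⊗[k] A) =
          (((b * s * b'⁻¹)⁻¹ : (K ⊗[k] A)ˣ) : K ⊗[k] A) := by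
      intro σ
      rw [← coe_smul_unit, smul_inv', hinv σ]
    obtain ⟨y, hy⟩ := exists_eq_one_tmul_of_fixed (k := k) (K := K) (W := A) _ hinvB
    obtain ⟨y', hy'⟩ := exists_eq_one_tmul_of_fixed (k := k) (K := K) (W := A) _ hinvB'
    have hyy' : y * y' = 1 := by
      apply one_tmul_injective (k := k) (K := K) (W := A)
      change (1 : K) ⊗ₜ[k] (y * y') = (1 : K) ⊗ₜ[k] (1 : A)
      have : ((1 : K) ⊗ₜ[k] y) * ((1 : K) ⊗ₜ[k] y') = (1 : K) ⊗ₜ[k] (y * y') := by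
        rw [Algebra.TensorProduct.tmul_mul_tmul, one_mul]
      rw [← this, hy, hy', Units.mul_inv]
      rfl
    have hy'y : y' * y = 1 := by
      apply one_tmul_injective (k := k) (K := K) (W := A)
      change (1 : K) ⊗ₜ[k] (y' * y) = (1 : K) ⊗ₜ[k] (1 : A)
      have : ((1 : K) ⊗ₜ[k] y') * ((1 : K) ⊗ₜ[k] y) = (1 : K) ⊗ₜ[k] (y' * y) := by
        rw [Algebra.TensorProduct.tmul_mul_tmul, one_mul]
      rw [← this, hy, hy', Units.inv_mul]
      rfl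
    -- norms
    have hNt : NK ((1 : K) ⊗ₜ[k] y) * NK (b' : K ⊗[k] A) = NK (b : K ⊗[k] A) * NK (s : K ⊗[k] A) := by
      rw [← map_mul, ← map_mul, hy, ← Units.val_mul, ← Units.val_mul]
      congr 2
      group
    rw [redNorm_one_tmul ψ N hN NK hNK, hb, hb', hs, mul_one, ← map_mul] at hNt
    have hNy : N y * (c' : k) = (c : k) := (algebraMap k K).injective hNt
    refine ⟨⟨y', y, hy'y, hyy'⟩, ?_⟩
    change (c' : k) = N y' * (c : k)
    rw [← hNy, ← mul_assoc, ← map_mul, hy'y, map_one, one_mul]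
  · rintro ⟨x, hx⟩
    let xB : (K ⊗[k] A)ˣ :=
      Units.map ((Algebra.TensorProduct.includeRight : A →ₐ[k] K ⊗[k] A) : A →* K ⊗[k] A) x
    have hxB : (xB : K ⊗[k] A) = (1 : K) ⊗ₜ[k] (x : A) := rfl
    have hxfix : ∀ σ : K ≃ₐ[k] K, σ • xB = xB := by
      intro σ
      apply Units.ext
      rw [coe_smul_unit, hxB]
      exact NDC.gsmul_one_tmul σ (x : A)
    refine ⟨b⁻¹ * xB⁻¹ * b', ?_, ?_⟩
    · have h1 : (xB : K ⊗[k] A) * ((b : K ⊗[k] A) * ((b⁻¹ * xB⁻¹ * b' : (K ⊗[k] A)ˣ) : K ⊗[k] A)) =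
          (b' : K ⊗[k] A) := by
        rw [← Units.val_mul, ← Units.val_mul]
        congr 1
        group
      have h2 := congrArg NK h1
      rw [map_mul, map_mul, hxB, redNorm_one_tmul ψ N hN NK hNK, hb, hb', hx, map_mul] at h2
      have hne : algebraMap k K (N (x : A)) * algebraMap k K (c : k) ≠ 0 := by
        rw [← map_mul, ← hx]
        exact (map_ne_zero (algebraMap k K)).mpr c'.ne_zero
      have h3 : algebraMap k K (N (x : A)) * algebraMap k K (c : k) *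
          NK ((b⁻¹ * xB⁻¹ * b' : (K ⊗[k] A)ˣ) : K ⊗[k] A) =
          algebraMap k K (N (x : A)) * algebraMap k K (c : k) * 1 := by
        rw [mul_one, mul_assoc]
        exact h2
      exact mul_left_cancel₀ hne h3
    · intro σ
      rw [smul_mul', smul_mul', smul_inv', smul_inv', hxfix σ]
      group

end Main

end Groth.Agent.Lib.Helper9.SL1H1
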