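import Mathlib
import Groth.Prelude.Def_W4c6secantcecoversSchSt

set_option autoImplicit false

namespace Groth.Agent.Lib.Helper9.SchejaStorch

open TensorProduct W4c6secantcecovers

universe u v

variable (R : Type u) [CommRing R] (r : ℕ)

theorem ιMulti_eq_zero_of_lt {n : ℕ} (hn : r < n) (g : Fin n → (Fin r → R)) :
    ExteriorAlgebra.ιMulti R n g = 0 := by
  have h : ExteriorAlgebra.ιMulti R n (M := Fin r → R) = 0 := by
    refine (Pi.basisFun R (Fin r)).ext_alternating (fun v hv => ?_)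
    exfalso
    have := Fintype.card_le_of_injective v hv
    simp at this
    omega
  rw [h]; rfl

theorem ιMulti_mul_ιMulti (a : ℕ) :
    ∀ (e : Fin a → (Fin r → R)) (b : ℕ) (f : Fin b → (Fin r → R)),
    ∃ (n : ℕ) (g : Fin n → (Fin r → R)), n = a + b ∧
      ExteriorAlgebra.ιMulti R a e * ExteriorAlgebra.ιMulti R b f =
        ExteriorAlgebra.ιMulti R n g := by
  induction a with
  | zero => intro e b f; exact ⟨b, f, by omega, by simp⟩
  | succ a ih =>
    intro e b f
    obtain ⟨n, g, hn, hg⟩ := ih (Matrix.vecTail e) b f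
    refine ⟨n + 1, Matrix.vecCons (e 0) g, by omega, ?_⟩
    rw [ExteriorAlgebra.ιMulti_succ_apply, mul_assoc, hg, ExteriorAlgebra.ιMulti_succ_apply]
    simp

theorem contr_mul (d : Module.Dual R (Fin r → R)) (a : ℕ) :
    ∀ (e : Fin a → (Fin r → R)) (x : ExteriorAlgebra R (Fin r → R)),
    CliffordAlgebra.contractLeft (Q := (0 : QuadraticForm R (Fin r → R))) d
        (ExteriorAlgebra.ιMulti R a e * x) =
      CliffordAlgebra.contractLeft (Q := (0 : QuadraticForm R (Fin r → R))) d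
        (ExteriorAlgebra.ιMulti R a e) * x
      + (-1 : R) ^ a • (ExteriorAlgebra.ιMulti R a e *
        CliffordAlgebra.contractLeft (Q := (0 : QuadraticForm R (Fin r → R))) d x) := by
  induction a with
  | zero => intro e x; simp [CliffordAlgebra.contractLeft_one]
  | succ a ih =>
    intro e x
    rw [ExteriorAlgebra.ιMulti_succ_apply]
    have h1 : CliffordAlgebra.contractLeft (Q := (0 : QuadraticForm R (Fin r → R))) d
        (ExteriorAlgebra.ι R (e 0) * (ExteriorAlgebra.ιMulti R a (Matrix.vecTail e) * x)) = _ :=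
      CliffordAlgebra.contractLeft_ι_mul (Q := (0 : QuadraticForm R (Fin r → R))) (d := d)
      (e 0) (ExteriorAlgebra.ιMulti R a (Matrix.vecTail e) * x)
    have h2 : CliffordAlgebra.contractLeft (Q := (0 : QuadraticForm R (Fin r → R))) d
        (ExteriorAlgebra.ι R (e 0) * ExteriorAlgebra.ιMulti R a (Matrix.vecTail e)) = _ :=
      CliffordAlgebra.contractLeft_ι_mul (Q := (0 : QuadraticForm R (Fin r → R))) (d := d)
      (e 0) (ExteriorAlgebra.ιMulti R a (Matrix.vecTail e))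
    rw [ih] at h1
    rw [mul_assoc (ExteriorAlgebra.ι R (e 0)) _ x, h1, h2]
    change _ = _ + (-1 : R) ^ (a + 1) • (ExteriorAlgebra.ι R (e 0) *
      ExteriorAlgebra.ιMulti R a (Matrix.vecTail e) *
        CliffordAlgebra.contractLeft (Q := (0 : QuadraticForm R (Fin r → R))) d x)
    simp only [pow_succ, mul_add, sub_mul, smul_mul_assoc, mul_smul_comm, mul_assoc]
    module

variable (N : Type v) [AddCommGroup N] [Module R N]

theorem ssPair_tmul (β : N →ₗ[R] N →ₗ[R] R) (k : ℕ)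
    (w w' : ExteriorAlgebra R (Fin r → R)) (s t : MvPolynomial (Fin r) R) (n m : N) :
    ssPair R r N β k ((w ⊗ₜ[R] s) ⊗ₜ[R] n) ((w' ⊗ₜ[R] t) ⊗ₜ[R] m) =
      (-1 : R) ^ (k.choose 2) • (β n m • ((w * w') ⊗ₜ[R] (s * t))) := by
  simp [ssPair, ssPairAux, TensorProduct.curry_apply, Algebra.TensorProduct.tmul_mul_tmul]

theorem ssDelta_tmul (φ : Fin r → (N →ₗ[R] N))
    (w : ExteriorAlgebra R (Fin r → R)) (s : MvPolynomial (Fin r) R) (n : N) :
    ssDelta R r N φ ((w ⊗ₜ[R] s) ⊗ₜ[R] n) =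
      ∑ j : Fin r, (((ssContr R r j w) ⊗ₜ[R] (MvPolynomial.X j * s)) ⊗ₜ[R] n +
        (-1 : R) • (((ssContr R r j w) ⊗ₜ[R] s) ⊗ₜ[R] (φ j n))) := by
  simp [ssDelta, ssDKoszul, ssDAct, LinearMap.sum_apply]

theorem main
    (φ : Fin r → (N →ₗ[R] N)) (β : N →ₗ[R] N →ₗ[R] R)
    (hβ : ∀ (j : Fin r) (n m : N), β (φ j n) m = β n (φ j m))
    (k : ℕ) (hk : k < r)
    (e : Fin (k + 1) → (Fin r → R)) (f : Fin (r - k) → (Fin r → R))
    (s t : MvPolynomial (Fin r) R) (n m : N) :
    ssPair R r N β k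
        (ssDelta R r N φ ((ExteriorAlgebra.ιMulti R (k + 1) e ⊗ₜ[R] s) ⊗ₜ[R] n))
        ((ExteriorAlgebra.ιMulti R (r - k) f ⊗ₜ[R] t) ⊗ₜ[R] m) =
      ssPair R r N β (k + 1)
        ((ExteriorAlgebra.ιMulti R (k + 1) e ⊗ₜ[R] s) ⊗ₜ[R] n)
        (ssDelta R r N φ ((ExteriorAlgebra.ιMulti R (r - k) f ⊗ₜ[R] t) ⊗ₜ[R] m)) := by
  have h0 : ExteriorAlgebra.ιMulti R (k + 1) e * ExteriorAlgebra.ιMulti R (r - k) f = 0 := by
    obtain ⟨n', g, hn', hg⟩ := ιMulti_mul_ιMulti R r (k + 1) e (r - k) f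
    rw [hg]
    exact ιMulti_eq_zero_of_lt R r (by omega) g
  have hkey : ∀ j : Fin r,
      ssContr R r j (ExteriorAlgebra.ιMulti R (k + 1) e) * ExteriorAlgebra.ιMulti R (r - k) f =
        (-1 : R) ^ k • (ExteriorAlgebra.ιMulti R (k + 1) e *
          ssContr R r j (ExteriorAlgebra.ιMulti R (r - k) f)) := by
    intro j
    have h1 := contr_mul R r (LinearMap.proj (R := R) (φ := fun _ : Fin r => R) j) (k + 1) e
      (ExteriorAlgebra.ιMulti R (r - k) f)
    rw [h0, map_zero] at h1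
    have h2 : ssContr R r j (ExteriorAlgebra.ιMulti R (k + 1) e) *
        ExteriorAlgebra.ιMulti R (r - k) f =
        - ((-1 : R) ^ (k + 1) • (ExteriorAlgebra.ιMulti R (k + 1) e *
          ssContr R r j (ExteriorAlgebra.ιMulti R (r - k) f))) := by
      exact eq_neg_of_add_eq_zero_left h1.symm
    rw [h2, pow_succ]
    module
  generalize ExteriorAlgebra.ιMulti R (k + 1) e = ω at *
  generalize ExteriorAlgebra.ιMulti R (r - k) f = η at *
  rw [ssDelta_tmul, ssDelta_tmul]
  simp only [map_sum, map_add, map_smul, LinearMap.sum_apply, LinearMap.add_apply,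
    LinearMap.smul_apply, ssPair_tmul]
  apply Finset.sum_congr rfl
  intro j _
  rw [hkey j, hβ j n m]
  have hc : (k + 1).choose 2 = k.choose 2 + k := by
    rw [Nat.choose_succ_succ' k 1, Nat.choose_one_right, add_comm]
  have hX : MvPolynomial.X j * s * t = s * (MvPolynomial.X j * t) := by ring
  rw [hc, pow_add, hX]
  simp only [← TensorProduct.smul_tmul']
  module

end Groth.Agent.Lib.Helper9.SchejaStorch
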