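import Mathlib
import Groth.Agent.Lib.Helper9.PerfStalk
import Groth.Agent.Lib.Helper9.PerfLci
import Groth.Agent.Lib.Helper9.StalkUnit

/-!
# Morphisms of tor dimension `≤ d` as a local property (helper9)

`TDLERingHom d φ`: the ring map `φ : R → S` makes `S` an `R`-module of tor dimension `≤ d`.  It is a local property of
ring maps, the induced morphism property `tdleMor d` passes to the stalk maps, and therefore implies the stalkwise
`DerSch.HasTorDimLE f d`.  Koszul-regular immersions of codimension `d` have it.
-/

set_option autoImplicit false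
set_option linter.style.haveILetI false
universe u
open CategoryTheory CategoryTheory.Limits AlgebraicGeometry TensorProduct
open Groth.Agent.Lib.Helper18.DR

attribute [local instance] HasDerivedCategory.standard

namespace Groth.Agent.Lib.Helper9.PCM

/-- the ring-hom property "tor dimension `≤ d`" -/
def TDLERingHom (d : ℕ) {R S : Type u} [CommRing R] [CommRing S] (f : R →+* S) : Prop :=
  @DRing.HasTorDimLE R _ d S _ f.toAlgebra.toModule

lemma tdleRingHom_algebraMap {d : ℕ} {R S : Type u} [CommRing R] [CommRing S] [inst : Algebra R S] :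
    TDLERingHom d (algebraMap R S) ↔ DRing.HasTorDimLE R d S := by
  have : (algebraMap R S).toAlgebra = inst := Algebra.algebra_ext _ _ (fun _ => rfl)
  unfold TDLERingHom
  rw [this]

theorem tdle_comp {R S T : Type u} [CommRing R] [CommRing S] [CommRing T] (f : R →+* S)
    (g : S →+* T) {d e : ℕ} (hf : TDLERingHom d f) (hg : TDLERingHom e g) :
    TDLERingHom (d + e) (g.comp f) := by
  letI := f.toAlgebra
  letI := g.toAlgebra
  letI := (g.comp f).toAlgebra
  haveI : IsScalarTower R S T := IsScalarTower.of_algebraMap_eq (fun _ => rfl)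
  exact hasTorDimLE_trans d e hf hg

theorem tdle_holdsForLocalizationAway (d : ℕ) :
    RingHom.HoldsForLocalizationAway (@TDLERingHom d) := by
  intro R S _ _ _ r _
  rw [tdleRingHom_algebraMap]
  haveI : Module.Flat R S := IsLocalization.flat S (Submonoid.powers r)
  exact hasTorDimLE_mono (Nat.zero_le d) (hasTorDimLE_zero_of_flat S)

theorem tdle_sourceLoc (d : ℕ) :
    RingHom.StableUnderCompositionWithLocalizationAwaySource (@TDLERingHom d) := by
  intro R S T _ _ _ _ r _ f hf
  have h0 : TDLERingHom 0 (algebraMap R S) := tdle_holdsForLocalizationAway 0 S r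
  have := tdle_comp _ _ h0 hf
  rwa [zero_add] at this

theorem tdle_targetLoc (d : ℕ) :
    RingHom.StableUnderCompositionWithLocalizationAwayTarget (@TDLERingHom d) := by
  intro R S T _ _ _ _ s _ f hf
  have h0 : TDLERingHom 0 (algebraMap S T) := tdle_holdsForLocalizationAway 0 T s
  exact tdle_comp _ _ hf h0

theorem tdle_localizationAwayPreserves (d : ℕ) :
    RingHom.LocalizationAwayPreserves (@TDLERingHom d) := by
  intro R S _ _ f r R' S' _ _ _ _ _ _ hf
  letI := f.toAlgebra
  letI : Algebra R' S' := (IsLocalization.Away.map R' S' f r).toAlgebra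
  letI : Algebra R S' := ((algebraMap S S').comp f).toAlgebra
  haveI : IsScalarTower R S S' := IsScalarTower.of_algebraMap_eq (fun _ => rfl)
  haveI : IsScalarTower R R' S' :=
    IsScalarTower.of_algebraMap_eq (fun x => (away_map_algebraMap R' S' f r x).symm)
  haveI : IsLocalization (Algebra.algebraMapSubmonoid S (Submonoid.powers r)) S' := by
    have e : Algebra.algebraMapSubmonoid S (Submonoid.powers r) = Submonoid.powers (f r) :=
      Submonoid.map_powers _ _
    rw [e]; infer_instance
  haveI : Algebra.IsPushout R R' S S' :=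
    (Algebra.isPushout_of_isLocalization (Submonoid.powers r) R' S S').symm
  haveI : Module.Flat R R' := IsLocalization.flat R' (Submonoid.powers r)
  exact hasTorDimLE_of_linearEquiv (Algebra.IsPushout.equiv R R' S S').toLinearEquiv d
    (hasTorDimLE_tensorProduct d hf)

theorem tdle_ofLocalizationSpanTarget (d : ℕ) :
    RingHom.OfLocalizationSpanTarget (@TDLERingHom d) := by
  rw [RingHom.ofLocalizationSpanTarget_iff_finite]
  intro R S _ _ f s hs H
  letI := f.toAlgebra
  have H' : ∀ r : s, DRing.HasTorDimLE R d (Localization.Away (r : S)) := by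
    intro r
    have := H r
    rw [show (algebraMap S (Localization.Away (r : S))).comp f =
      algebraMap R (Localization.Away (r : S)) from
      (IsScalarTower.algebraMap_eq R S _).symm] at this
    exact tdleRingHom_algebraMap.1 this
  have hr : Set.range (fun r : s => (r : S)) = (s : Set S) := by
    ext x
    simp
  exact hasTorDimLE_of_away d (fun r : s => (r : S)) (by rw [hr]; exact hs) H'

theorem tdle_isLocal (d : ℕ) : RingHom.PropertyIsLocal (@TDLERingHom d) :=
  ⟨tdle_localizationAwayPreserves d, tdle_ofLocalizationSpanTarget d,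
    (tdle_ofLocalizationSpanTarget d).ofLocalizationSpan (tdle_sourceLoc d),
    tdle_targetLoc d⟩

/-- tor dimension `≤ d` passes to the local maps -/
theorem tdle_localRingHom {A B : Type u} [CommRing A] [CommRing B] (d : ℕ) (φ : A →+* B)
    (h : TDLERingHom d φ) (q : Ideal B) [q.IsPrime] (I : Ideal A) [I.IsPrime]
    (hI : I = q.comap φ) : TDLERingHom d (Localization.localRingHom I q φ hI) := by
  letI := φ.toAlgebra
  letI : Algebra (Localization.AtPrime I) (Localization.AtPrime q) :=
    (Localization.localRingHom I q φ hI).toAlgebra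
  haveI : IsScalarTower A (Localization.AtPrime I) (Localization.AtPrime q) :=
    IsScalarTower.of_algebraMap_eq (fun a => by
      rw [IsScalarTower.algebraMap_apply A B (Localization.AtPrime q)]
      exact (Localization.localRingHom_to_map _ _ _ _ a).symm)
  haveI : Module.Flat B (Localization.AtPrime q) := IsLocalization.flat _ q.primeCompl
  haveI : Module.Flat A (Localization.AtPrime I) := IsLocalization.flat _ I.primeCompl
  have h1 : DRing.HasTorDimLE A (d + 0) (Localization.AtPrime q) :=
    hasTorDimLE_trans d 0 h (hasTorDimLE_zero_of_flat _)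
  have h2 : DRing.HasTorDimLE (Localization.AtPrime I) (d + 0)
      (Localization.AtPrime I ⊗[A] Localization.AtPrime q) := hasTorDimLE_tensorProduct (d + 0) h1
  haveI : IsLocalizedModule I.primeCompl
      (LinearMap.id : Localization.AtPrime q →ₗ[A] Localization.AtPrime q) :=
    isLocalizedModule_id I.primeCompl (Localization.AtPrime q) (Localization.AtPrime I)
  exact hasTorDimLE_of_linearEquiv
    (IsLocalizedModule.isBaseChange I.primeCompl (Localization.AtPrime I)
      (LinearMap.id : Localization.AtPrime q →ₗ[A] Localization.AtPrime q)).equiv (d + 0) h2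

/-- morphisms which are, affine locally, of tor dimension `≤ d` -/
def tdleMor (d : ℕ) : MorphismProperty Scheme.{u} := affineLocally (@TDLERingHom d)

instance tdleMor_hasRingHomProperty (d : ℕ) : HasRingHomProperty (tdleMor.{u} d) (@TDLERingHom d) where
  isLocal_ringHomProperty := tdle_isLocal d
  eq_affineLocally' := rfl

theorem tdle_stalkMap {X Y : Scheme.{u}} (f : X ⟶ Y) (d : ℕ) (hf : tdleMor d f) (x : X) :
    TDLERingHom d (f.stalkMap x).hom :=
  HasRingHomProperty.stalkMap (P := tdleMor d)
    (fun f hf J _ => tdle_localRingHom d f hf J (J.comap f) rfl) hf x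

/-- affine-local tor dimension `≤ d` implies the stalkwise `DerSch.HasTorDimLE` -/
theorem hasTorDimLE_of_tdleMor {X Y : Scheme.{u}} (f : X ⟶ Y) (d : ℕ) (hf : tdleMor d f) :
    DerSch.HasTorDimLE f d :=
  (Groth.Agent.Lib.Helper9.StalkUnit.hasTorDimLE_iff f d).2 (fun x => tdle_stalkMap f d hf x)

theorem tdleRingHom_of_koszulRegular {A B : Type u} [CommRing A] [CommRing B] (f : A →+* B)
    (hf : Function.Surjective f) (l : List A) (hl : LCI.IsKoszulRegularSeq A l)
    (hker : RingHom.ker f = Ideal.ofList l) : TDLERingHom l.length f := by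
  letI := f.toAlgebra
  have hf' : Function.Surjective (algebraMap A B) := hf
  have hk : (Ideal.ofList l : Submodule A A) = LinearMap.ker (Algebra.linearMap A B) := by
    rw [← hker]
    ext x
    rw [RingHom.mem_ker, LinearMap.mem_ker]
    rfl
  let e : (A ⧸ Ideal.ofList l) ≃ₗ[A] B :=
    (Submodule.quotEquivOfEq _ _ hk) ≪≫ₗ
      (LinearMap.quotKerEquivOfSurjective (Algebra.linearMap A B) hf')
  have h1 := ((perfModLE_of_koszulRegular l hl).of_linearEquiv e).2
  exact (hasTorDimLE_iff_hasTorAmplitudeIn_single A B l.length).1.2 h1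

open Groth.Agent.Lib.Helper1 in
/-- a Koszul-regular immersion of codimension `d` has tor dimension `≤ d` -/
theorem tdleMor_of_koszulRegularImmersionOfCodim {Z X : Scheme.{u}} (i : Z ⟶ X) (d : ℕ)
    (hi : RegImm.IsRegularImmersionOfCodim .koszul d i) : tdleMor d i := by
  haveI := hi.1
  rw [HasRingHomProperty.iff_exists_appLE (P := tdleMor d) (tdle_sourceLoc d)]
  intro z
  obtain ⟨⟨U, hU⟩, hzU, hcl, rs, hlen, hrs, hker⟩ := hi.2 z
  haveI : IsClosedImmersion (i ∣_ U) := hcl
  obtain ⟨hiU, hsU⟩ := ConormMap.good_of_le_coborderRange i hU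
    (UTKoszul.le_coborderRange_of_isClosedImmersion_restrict i U)
  refine ⟨⟨U, hU⟩, ⟨i ⁻¹ᵁ U, hiU⟩, hzU, le_rfl, ?_⟩
  have e : i.appLE U (i ⁻¹ᵁ U) le_rfl = i.app U := Scheme.Hom.appLE_eq_app i
  show TDLERingHom d (i.appLE U (i ⁻¹ᵁ U) le_rfl).hom
  rw [e, ← hlen]
  exact tdleRingHom_of_koszulRegular _ hsU rs hrs hker

end Groth.Agent.Lib.Helper9.PCM
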