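import Mathlib
import Groth.Agent.Lib.Helper2.Stk.TildeBC
import Groth.Agent.Lib.Helper18.DRTorD
import Groth.Agent.Lib.Helper9.NPCComp
import Groth.Agent.Lib.Helper9.TDLE

/-!
# Tor-independent base change for tor dimension and pseudo-coherence (helper9)

* `hasTorDimLE_of_maximal`, `tdle_ofLocalizationPrime`, `tdleMor_iff`: tor dimension `≤ d` of a morphism can be
  checked on the stalks.
* `nonempty_LBaseChange_Sg_iso`: let `P` be a flat `R`-algebra, `M` a `P`-module flat over `R`, `C` an `R`-algebra
  and `P' = C ⊗_R P`.  Then `M[0] ⊗^L_P P' ≅ (P' ⊗_P M)[0]`.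
* `hasTorDimLE_ti`, `NPCAlg.ti`: tor dimension `≤ d` and `m`-pseudo-coherence of `B → A` (`B`, `A` flat over `R`)
  pass to `C ⊗_R B → C ⊗_R A`.
-/

set_option autoImplicit false
set_option linter.style.haveILetI false
universe u
open CategoryTheory CategoryTheory.Limits CategoryTheory.Pretriangulated DerivedCategory
open TensorProduct AlgebraicGeometry
open Groth.Agent.Lib.Helper18.DR Groth.Agent.Lib.Helper14.TorKer

attribute [local instance] HasDerivedCategory.standard

namespace Groth.Agent.Lib.Helper9.PCM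

/-! ### locality of tor dimension at the maximal ideals of the target -/

section locmax

variable {A B : Type u} [CommRing A] [CommRing B] [Algebra A B]

lemma lTensor_exact_of_maximal
    {X Y Z : Type u} [AddCommGroup X] [Module A X] [AddCommGroup Y] [Module A Y]
    [AddCommGroup Z] [Module A Z] (f : X →ₗ[A] Y) (g : Y →ₗ[A] Z)
    (h : ∀ (J : Ideal B) [J.IsMaximal], Function.Exact (f.lTensor (Localization.AtPrime J))
      (g.lTensor (Localization.AtPrime J))) :
    Function.Exact (f.lTensor B) (g.lTensor B) := by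
  have key : Function.Exact (AlgebraTensorModule.lTensor B B f)
      (AlgebraTensorModule.lTensor B B g) := by
    refine exact_of_isLocalized_maximal
      (fun (J : Ideal B) (_ : J.IsMaximal) => Localization.AtPrime J ⊗[A] X)
      (fun J _ => AlgebraTensorModule.rTensor A X (Algebra.linearMap B (Localization.AtPrime J)))
      (fun (J : Ideal B) (_ : J.IsMaximal) => Localization.AtPrime J ⊗[A] Y)
      (fun J _ => AlgebraTensorModule.rTensor A Y (Algebra.linearMap B (Localization.AtPrime J)))
      (fun (J : Ideal B) (_ : J.IsMaximal) => Localization.AtPrime J ⊗[A] Z)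
      (fun J _ => AlgebraTensorModule.rTensor A Z (Algebra.linearMap B (Localization.AtPrime J)))
      _ _ ?_
    intro J hJ
    rw [IsLocalizedModule.map_lTensor, IsLocalizedModule.map_lTensor]
    exact h J
  exact key

lemma rTensor_exact_of_maximal
    {X Y Z : Type u} [AddCommGroup X] [Module A X] [AddCommGroup Y] [Module A Y]
    [AddCommGroup Z] [Module A Z] (f : X →ₗ[A] Y) (g : Y →ₗ[A] Z)
    (h : ∀ (J : Ideal B) [J.IsMaximal], Function.Exact (f.rTensor (Localization.AtPrime J))
      (g.rTensor (Localization.AtPrime J))) :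
    Function.Exact (f.rTensor B) (g.rTensor B) := by
  have h1 : ∀ (J : Ideal B) [J.IsMaximal], Function.Exact (f.lTensor (Localization.AtPrime J))
      (g.lTensor (Localization.AtPrime J)) := fun J _ =>
    exact_of_ladder' (TensorProduct.comm A (Localization.AtPrime J) X).toAddEquiv
      (TensorProduct.comm A (Localization.AtPrime J) Y).toAddEquiv
      (TensorProduct.comm A (Localization.AtPrime J) Z).toAddEquiv
      (fun x => by
        induction x using TensorProduct.induction_on with
        | zero => simp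
        | add x y hx hy => simp only [map_add, hx, hy]
        | tmul x m => simp)
      (fun x => by
        induction x using TensorProduct.induction_on with
        | zero => simp
        | add x y hx hy => simp only [map_add, hx, hy]
        | tmul x m => simp) (h J)
  have h2 := lTensor_exact_of_maximal f g h1
  exact exact_of_ladder' (TensorProduct.comm A X B).toAddEquiv
    (TensorProduct.comm A Y B).toAddEquiv (TensorProduct.comm A Z B).toAddEquiv
    (fun x => comm_rTensor B f x) (fun x => comm_rTensor B g x) h2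

theorem hasTorDimLE_of_maximal (d : ℕ)
    (h : ∀ (J : Ideal B) [J.IsMaximal], DRing.HasTorDimLE A d (Localization.AtPrime J)) :
    DRing.HasTorDimLE A d B := by
  intro N _ _ p hp
  obtain ⟨n, rfl⟩ : ∃ n, p = n + 1 := ⟨p - 1, by omega⟩
  let Q := ProjectiveResolution.of (ModuleCat.of A N)
  change TorZ A (n + 1) B N
  rw [torZ_iff_isZero Q, isZero_T_iff]
  have h1 : ∀ (J : Ideal B) [J.IsMaximal], Function.Exact
      ((Q.complex.d (n + 2) (n + 1)).hom.rTensor (Localization.AtPrime J))
      ((Q.complex.d (n + 1) n).hom.rTensor (Localization.AtPrime J)) := by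
    intro J _
    have h2 : TorZ A (n + 1) (Localization.AtPrime J) N := h J N (n + 1) hp
    rw [torZ_iff_isZero Q, isZero_T_iff] at h2
    exact h2
  exact rTensor_exact_of_maximal _ _ h1

end locmax

theorem tdle_ofLocalizationPrime (d : ℕ) : RingHom.OfLocalizationPrime (@TDLERingHom d) := by
  intro R S _ _ f H
  letI := f.toAlgebra
  change DRing.HasTorDimLE R d S
  refine hasTorDimLE_of_maximal d (fun J hJ => ?_)
  have hJ' := H J inferInstance
  letI : Algebra (Localization.AtPrime (J.comap f)) (Localization.AtPrime J) :=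
    (Localization.localRingHom (J.comap f) J f rfl).toAlgebra
  haveI : IsScalarTower R (Localization.AtPrime (J.comap f)) (Localization.AtPrime J) :=
    IsScalarTower.of_algebraMap_eq (fun a => by
      rw [IsScalarTower.algebraMap_apply R S (Localization.AtPrime J)]
      exact (Localization.localRingHom_to_map _ _ _ _ a).symm)
  haveI : Module.Flat R (Localization.AtPrime (J.comap f)) :=
    IsLocalization.flat _ (J.comap f).primeCompl
  have hJ'' : DRing.HasTorDimLE (Localization.AtPrime (J.comap f)) d (Localization.AtPrime J) := hJ'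
  have h1 := hasTorDimLE_trans 0 d (hasTorDimLE_zero_of_flat (A := R) (Localization.AtPrime (J.comap f))) hJ''
  rwa [zero_add] at h1

/-- tor dimension `≤ d`: the affine-local and the stalkwise forms agree -/
theorem tdleMor_iff {X Y : Scheme.{u}} (f : X ⟶ Y) (d : ℕ) : tdleMor d f ↔ DerSch.HasTorDimLE f d :=
  ⟨hasTorDimLE_of_tdleMor f d, fun h =>
    HasRingHomProperty.of_stalkMap (P := tdleMor d) (tdle_ofLocalizationPrime d)
      (fun x => (Groth.Agent.Lib.Helper9.StalkUnit.hasTorDimLE_iff f d).1 h x)⟩

theorem tdleMor_comp {X Y Z : Scheme.{u}} (f : X ⟶ Y) (g : Y ⟶ Z) {d e : ℕ} (hf : tdleMor d f)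
    (hg : tdleMor e g) : tdleMor (e + d) (f ≫ g) := by
  rw [HasRingHomProperty.iff_exists_appLE (P := tdleMor (e + d)) (tdle_sourceLoc _)]
  intro x
  obtain ⟨W, hW, hxW⟩ : ∃ W : Z.Opens, IsAffineOpen W ∧ g (f x) ∈ W := by
    obtain ⟨W, hW, hxW, -⟩ := TopologicalSpace.Opens.isBasis_iff_nbhd.mp Z.isBasis_affineOpens
      (TopologicalSpace.Opens.mem_top (g (f x)))
    exact ⟨W, hW, hxW⟩
  obtain ⟨V, hV, hxV, hVW⟩ : ∃ V : Y.Opens, IsAffineOpen V ∧ f x ∈ V ∧ V ≤ g ⁻¹ᵁ W := by
    obtain ⟨V, hV, hxV, hVW⟩ := TopologicalSpace.Opens.isBasis_iff_nbhd.mp Y.isBasis_affineOpens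
      (show f x ∈ g ⁻¹ᵁ W from hxW)
    exact ⟨V, hV, hxV, hVW⟩
  obtain ⟨U, hU, hxU, hUV⟩ : ∃ U : X.Opens, IsAffineOpen U ∧ x ∈ U ∧ U ≤ f ⁻¹ᵁ V := by
    obtain ⟨U, hU, hxU, hUV⟩ := TopologicalSpace.Opens.isBasis_iff_nbhd.mp X.isBasis_affineOpens
      (show x ∈ f ⁻¹ᵁ V from hxV)
    exact ⟨U, hU, hxU, hUV⟩
  have hUW : U ≤ (f ≫ g) ⁻¹ᵁ W :=
    hUV.trans ((TopologicalSpace.Opens.map f.base).map (homOfLE hVW)).le
  refine ⟨⟨W, hW⟩, ⟨U, hU⟩, hxU, hUW, ?_⟩
  have h1 : TDLERingHom e (g.appLE W V hVW).hom :=
    HasRingHomProperty.appLE (tdleMor e) g hg ⟨W, hW⟩ ⟨V, hV⟩ hVW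
  have h2 : TDLERingHom d (f.appLE V U hUV).hom :=
    HasRingHomProperty.appLE (tdleMor d) f hf ⟨V, hV⟩ ⟨U, hU⟩ hUV
  have e' : (f ≫ g).appLE W U hUW = g.appLE W V hVW ≫ f.appLE V U hUV :=
    (Scheme.Hom.appLE_comp_appLE f g W V U hVW hUV).symm
  show TDLERingHom (e + d) ((f ≫ g).appLE W U hUW).hom
  rw [e']
  exact tdle_comp _ _ h1 h2

/-! ### the core: derived base change of a module flat over the base -/

section core

variable {R P C P' : Type u} [CommRing R] [CommRing P] [CommRing C] [CommRing P']
  [Algebra R P] [Algebra R C] [Algebra C P'] [Algebra P P'] [Algebra R P']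
  [IsScalarTower R P P'] [IsScalarTower R C P'] [Algebra.IsPushout R C P P']

variable (R P) in
/-- restriction of scalars `P`-modules to `R`-modules -/
noncomputable abbrev tiρ : ModuleCat.{u} P ⥤ ModuleCat.{u} R :=
  ModuleCat.restrictScalars.{u} (algebraMap R P)

lemma isScalarTower_tiρ (M : ModuleCat.{u} P) : IsScalarTower R P ((tiρ R P).obj M) :=
  ⟨fun a b x => by
    change (a • b) • (show M from x) = (algebraMap R P a) • (b • (show M from x))
    rw [Algebra.smul_def, mul_smul]⟩

lemma flat_tiρ [Module.Flat R P] (M : ModuleCat.{u} P) [Module.Flat P M] :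
    Module.Flat R ((tiρ R P).obj M) := by
  haveI := isScalarTower_tiρ (R := R) M
  haveI : Module.Flat P ((tiρ R P).obj M) := inferInstanceAs (Module.Flat P M)
  exact Module.Flat.trans R P _

include R C in
/-- **Tor-independent base change of a module**: if `P` and the `P`-module `M` are flat over `R` and
`P' = C ⊗_R P`, then `M[0] ⊗^L_P P' ≅ (P' ⊗_P M)[0]`. -/
theorem nonempty_LBaseChange_Sg_iso [Module.Flat R P] (M : ModuleCat.{u} P)
    (hM : Module.Flat R ((tiρ R P).obj M)) [DRing.HasLBaseChange (algebraMap P P')] :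
    Nonempty ((DRing.LBaseChange (algebraMap P P')).obj (Sg 0 M) ≅
      Sg 0 ((extM (A := P) (B := P')).obj M)) := by
  obtain ⟨F, hFb, hFfree, ⟨eF⟩⟩ := exists_free_resolution (Sg 0 M) 0
  have hFproj : ∀ i, Module.Projective P (F.X i) := fun i => by
    haveI := hFfree i; exact Module.Projective.of_free
  haveI : F.IsKProjective := isKProjective_of_vanishesAbove F 0 hFb hFproj
  let S0 : DRing.Cx P := (HomologicalComplex.single (ModuleCat.{u} P) (ComplexShape.up ℤ) 0).obj M
  have hS0 : ∀ i : ℤ, i ≠ 0 → IsZero (S0.X i) := fun i hi =>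
    HomologicalComplex.isZero_single_obj_X (ComplexShape.up ℤ) 0 M i hi
  have hS0b : DRing.VanishesAbove S0 0 := fun i hi => hS0 i (by omega)
  let eF' : DRing.toD F ≅ DRing.toD S0 := eF
  obtain ⟨f, hf⟩ := exists_map_eq F S0 eF'.hom
  have hiso : IsIso (DerivedCategory.Q.map f) := by rw [hf]; infer_instance
  -- restrict to `R`
  have hρiso : IsIso (DerivedCategory.Q.map
      (((tiρ R P).mapHomologicalComplex (ComplexShape.up ℤ)).map f)) := by
    rw [DerivedCategory.isIso_Q_map_iff_quasiIso] at hiso ⊢
    haveI := hiso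
    infer_instance
  have hG1 : DRing.VanishesAbove (((tiρ R P).mapHomologicalComplex (ComplexShape.up ℤ)).obj F)
      (0 + 1) := VanishesAbove.mono (vanishesAbove_mapHC (tiρ R P) F 0 hFb) (by omega)
  have hE0 : DRing.VanishesAbove (((tiρ R P).mapHomologicalComplex (ComplexShape.up ℤ)).obj S0) 0 :=
    vanishesAbove_mapHC (tiρ R P) S0 0 hS0b
  have hGflat : DRing.TermwiseFlat
      (((tiρ R P).mapHomologicalComplex (ComplexShape.up ℤ)).obj F) := fun i => by
    haveI : Module.Flat P (F.X i) := by haveI := hFfree i; infer_instance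
    exact flat_tiρ (R := R) (F.X i)
  have hEflat : DRing.TermwiseFlat
      (((tiρ R P).mapHomologicalComplex (ComplexShape.up ℤ)).obj S0) := fun i => by
    by_cases hi : i = 0
    · subst hi
      haveI := hM
      exact Module.Flat.of_linearEquiv
        ((tiρ R P).mapIso (HomologicalComplex.singleObjXSelf (ComplexShape.up ℤ) 0 M)).toLinearEquiv
    · haveI : Subsingleton ((((tiρ R P).mapHomologicalComplex (ComplexShape.up ℤ)).obj S0).X i) :=
        ModuleCat.subsingleton_of_isZero ((tiρ R P).map_isZero (hS0 i hi))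
      infer_instance
  have h5 := (tensorLike_extM (A := R) (B := C)).isIso_Q_map _ _
    (((tiρ R P).mapHomologicalComplex (ComplexShape.up ℤ)).map f) 0 hG1 hE0 hGflat hEflat hρiso
  -- transport along the base change isomorphism
  let νc := NatIso.mapHomologicalComplex (Fbc.bcNatIso R P C P') (ComplexShape.up ℤ)
  have hnat := νc.hom.naturality f
  have h6 : IsIso (DerivedCategory.Q.map
      (((extM (A := P) (B := P') ⋙
        ModuleCat.restrictScalars.{u} (algebraMap C P')).mapHomologicalComplex
          (ComplexShape.up ℤ)).map f)) := by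
    have e : ((extM (A := P) (B := P') ⋙
        ModuleCat.restrictScalars.{u} (algebraMap C P')).mapHomologicalComplex
          (ComplexShape.up ℤ)).map f =
        νc.inv.app F ≫ ((tiρ R P ⋙ extM (A := R) (B := C)).mapHomologicalComplex
          (ComplexShape.up ℤ)).map f ≫ νc.hom.app S0 := by
      rw [hnat, Iso.inv_hom_id_app_assoc]
    rw [e, Functor.map_comp, Functor.map_comp]
    haveI : IsIso (DerivedCategory.Q.map
        (((tiρ R P ⋙ extM (A := R) (B := C)).mapHomologicalComplex
          (ComplexShape.up ℤ)).map f)) := h5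
    infer_instance
  have h7 : IsIso (DerivedCategory.Q.map
      (((extM (A := P) (B := P')).mapHomologicalComplex (ComplexShape.up ℤ)).map f)) := by
    rw [DerivedCategory.isIso_Q_map_iff_quasiIso] at h6 ⊢
    exact (HomologicalComplex.quasiIso_map_iff_of_preservesHomology
      (((extM (A := P) (B := P')).mapHomologicalComplex (ComplexShape.up ℤ)).map f)
      (ModuleCat.restrictScalars.{u} (algebraMap C P'))).1 h6
  let e1 : (DRing.LBaseChange (algebraMap P P')).obj (Sg 0 M) ≅
      DRing.toD (((extM (A := P) (B := P')).mapHomologicalComplex (ComplexShape.up ℤ)).obj F) :=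
    (DRing.LBaseChange (algebraMap P P')).mapIso eF.symm ≪≫ LBaseChangeIso (algebraMap P P') F
  let e2 := asIso (DerivedCategory.Q.map
      (((extM (A := P) (B := P')).mapHomologicalComplex (ComplexShape.up ℤ)).map f))
  let e3 : ((extM (A := P) (B := P')).mapHomologicalComplex (ComplexShape.up ℤ)).obj S0 ≅
      (HomologicalComplex.single (ModuleCat.{u} P') (ComplexShape.up ℤ) 0).obj
        ((extM (A := P) (B := P')).obj M) :=
    (HomologicalComplex.singleMapHomologicalComplex (extM (A := P) (B := P'))
      (ComplexShape.up ℤ) 0).app M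
  let e4 : DRing.toD ((HomologicalComplex.single (ModuleCat.{u} P') (ComplexShape.up ℤ) 0).obj
      ((extM (A := P) (B := P')).obj M)) ≅ Sg 0 ((extM (A := P) (B := P')).obj M) := Iso.refl _
  exact ⟨e1 ≪≫ e2 ≪≫ DerivedCategory.Q.mapIso e3 ≪≫ e4⟩

end core

/-! ### tor dimension under tor-independent base change -/

section tower

variable {R B A : Type u} [CommRing R] [CommRing B] [CommRing A] [Algebra R B] [Algebra B A]
  [Algebra R A] [IsScalarTower R B A]

lemma flat_tiρ_of_tower [Module.Flat R A] : Module.Flat R ((tiρ R B).obj (ModuleCat.of B A)) := by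
  let l : ((tiρ R B).obj (ModuleCat.of B A)) ≃ₗ[R] A :=
    { toFun := fun c => c
      invFun := fun c => c
      map_add' := fun _ _ => rfl
      map_smul' := fun a c => algebraMap_smul B a (show A from c)
      left_inv := fun _ => rfl
      right_inv := fun _ => rfl }
  exact Module.Flat.of_linearEquiv l

end tower

section titd

variable {R B C B' A A' : Type u} [CommRing R] [CommRing B] [CommRing C] [CommRing B']
  [CommRing A] [CommRing A'] [Algebra R B] [Algebra R C] [Algebra R B'] [Algebra B B']
  [Algebra C B'] [IsScalarTower R B B'] [IsScalarTower R C B'] [Algebra.IsPushout R C B B']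
  [Algebra B A] [Algebra R A] [IsScalarTower R B A] [Algebra B A'] [Algebra A A']
  [Algebra B' A'] [IsScalarTower B A A'] [IsScalarTower B B' A'] [Algebra.IsPushout B A B' A']

include R C in
/-- if `B` and `A` are flat over `R` and `B → A` has tor dimension `≤ d`, so has `C ⊗_R B → C ⊗_R A` -/
theorem hasTorDimLE_ti [Module.Flat R B] [Module.Flat R A] (d : ℕ) (h : DRing.HasTorDimLE B d A) :
    DRing.HasTorDimLE B' d A' := by
  haveI : DRing.HasLBaseChange (algebraMap B B') :=
    (Groth.Agent.Lib.Helper2.Stk.adapted_baseChangeKh (algebraMap B B')).hasLeftDerivedFunctor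
  have h1 := (hasTorDimLE_iff_hasTorAmplitudeIn_single B A d).1.1 h
  have h2 := hasTorAmplitudeIn_LBaseChange (algebraMap B B') _ _ _ h1
  obtain ⟨e⟩ := nonempty_LBaseChange_Sg_iso (R := R) (C := C) (P := B) (P' := B')
    (ModuleCat.of B A) flat_tiρ_of_tower
  haveI : Algebra.IsPushout B B' A A' := Algebra.IsPushout.symm inferInstance
  let l : ((extM (A := B) (B := B')).obj (ModuleCat.of B A)) ≃ₗ[B'] A' :=
    (extMEquiv (B := B') (ModuleCat.of B A)).trans
      (Algebra.IsPushout.equiv B B' A A').toLinearEquiv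
  rw [(hasTorDimLE_iff_hasTorAmplitudeIn_single B' A' d).1]
  exact hasTorAmplitudeIn_of_iso
    (e ≪≫ (singleFunctor (ModuleCat.{u} B') 0).mapIso l.toModuleIso) h2

end titd

/-! ### pseudo-coherence under tor-independent base change -/

section tipc

attribute [local instance] Algebra.TensorProduct.rightAlgebra MvPolynomial.algebraMvPolynomial

variable {m : ℤ} {R B C B' A : Type u} [CommRing R] [CommRing B] [CommRing C] [CommRing B']
  [CommRing A] [Algebra R B] [Algebra R C] [Algebra R B'] [Algebra B B'] [Algebra C B']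
  [IsScalarTower R B B'] [IsScalarTower R C B']

omit [Algebra R C] [Algebra C B'] [IsScalarTower R C B'] in
lemma isScalarTower_mvPolynomial_of_tower (n : ℕ) :
    IsScalarTower R (MvPolynomial (Fin n) B) (MvPolynomial (Fin n) B') :=
  IsScalarTower.of_algebraMap_eq (fun r => by
    rw [MvPolynomial.algebraMap_apply, MvPolynomial.algebraMap_apply, MvPolynomial.algebraMap_def,
      MvPolynomial.map_C, ← IsScalarTower.algebraMap_apply R B B'])

lemma isPushout_mvPolynomial_of_isPushout [Algebra.IsPushout R C B B'] (n : ℕ) :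
    haveI := isScalarTower_mvPolynomial_of_tower (R := R) (B := B) (B' := B') n
    Algebra.IsPushout R C (MvPolynomial (Fin n) B) (MvPolynomial (Fin n) B') := by
  haveI := isScalarTower_mvPolynomial_of_tower (R := R) (B := B) (B' := B') n
  haveI : Algebra.IsPushout R B C B' := Algebra.IsPushout.symm inferInstance
  have h : Algebra.IsPushout R (MvPolynomial (Fin n) B) C (MvPolynomial (Fin n) B') :=
    (Algebra.IsPushout.comp_iff R B C B' (T := MvPolynomial (Fin n) B)
      (T' := MvPolynomial (Fin n) B')).2 inferInstance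
  exact h.symm

variable [Algebra.IsPushout R C B B'] [Algebra B A] [Algebra R A] [IsScalarTower R B A]

include R C in
/-- tor-independent base change of an `m`-pseudo-coherent algebra -/
theorem NPCAlg.tensorProduct_ti [Module.Flat R B] [Module.Flat R A] (h : NPCAlg m B A) :
    NPCAlg m B' (B' ⊗[B] A) := by
  obtain ⟨n, ψ, hψ, hv⟩ := h
  refine ⟨n, psiBC B B' A n ψ, psiBC_surjective B B' A n ψ hψ, ?_⟩
  letI algPA : Algebra (MvPolynomial (Fin n) B) A := ψ.toRingHom.toAlgebra
  letI algP'A' : Algebra (MvPolynomial (Fin n) B') (B' ⊗[B] A) :=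
    (psiBC B B' A n ψ).toRingHom.toAlgebra
  letI algPA' : Algebra (MvPolynomial (Fin n) B) (B' ⊗[B] A) :=
    ((algebraMap A (B' ⊗[B] A)).comp (algebraMap (MvPolynomial (Fin n) B) A)).toAlgebra
  haveI t1 : IsScalarTower (MvPolynomial (Fin n) B) A (B' ⊗[B] A) :=
    IsScalarTower.of_algebraMap_eq (fun _ => rfl)
  haveI t2 : IsScalarTower (MvPolynomial (Fin n) B) (MvPolynomial (Fin n) B') (B' ⊗[B] A) :=
    IsScalarTower.of_algebraMap_eq (fun p => (psiBC_map B B' A n ψ p).symm)
  haveI t3 : IsScalarTower B (MvPolynomial (Fin n) B) A :=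
    IsScalarTower.of_algebraMap_eq (fun r => (ψ.commutes r).symm)
  haveI t4 : IsScalarTower B' (MvPolynomial (Fin n) B') (B' ⊗[B] A) :=
    IsScalarTower.of_algebraMap_eq (fun r => ((psiBC B B' A n ψ).commutes r).symm)
  haveI t5 : IsScalarTower B (MvPolynomial (Fin n) B') (B' ⊗[B] A) :=
    IsScalarTower.of_algebraMap_eq (fun r => by
      rw [IsScalarTower.algebraMap_apply B B' (B' ⊗[B] A),
        IsScalarTower.algebraMap_apply B B' (MvPolynomial (Fin n) B'),
        ← IsScalarTower.algebraMap_apply B' (MvPolynomial (Fin n) B') (B' ⊗[B] A)])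
  have hpo : Algebra.IsPushout (MvPolynomial (Fin n) B) A (MvPolynomial (Fin n) B') (B' ⊗[B] A) :=
    (Algebra.IsPushout.comp_iff B (MvPolynomial (Fin n) B) B' (MvPolynomial (Fin n) B')
      (T := A) (T' := B' ⊗[B] A)).1 inferInstance
  haveI hpo' : Algebra.IsPushout (MvPolynomial (Fin n) B) (MvPolynomial (Fin n) B') A
      (B' ⊗[B] A) := hpo.symm
  haveI tRPP' : IsScalarTower R (MvPolynomial (Fin n) B) (MvPolynomial (Fin n) B') :=
    isScalarTower_mvPolynomial_of_tower n
  haveI poP : Algebra.IsPushout R C (MvPolynomial (Fin n) B) (MvPolynomial (Fin n) B') :=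
    isPushout_mvPolynomial_of_isPushout n
  haveI flatP : Module.Flat R (MvPolynomial (Fin n) B) := Module.Flat.trans R B _
  haveI : DRing.HasLBaseChange
      (algebraMap (MvPolynomial (Fin n) B) (MvPolynomial (Fin n) B')) :=
    (Groth.Agent.Lib.Helper2.Stk.adapted_baseChangeKh _).hasLeftDerivedFunctor
  let M : ModuleCat.{u} (MvPolynomial (Fin n) B) :=
    (ModuleCat.restrictScalars.{u} (algebraMap (MvPolynomial (Fin n) B) A)).obj (ModuleCat.of A A)
  have hMflat : Module.Flat R ((tiρ R (MvPolynomial (Fin n) B)).obj M) := by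
    haveI t6 : IsScalarTower R (MvPolynomial (Fin n) B) A :=
      IsScalarTower.of_algebraMap_eq (fun r => by
        rw [IsScalarTower.algebraMap_apply R B (MvPolynomial (Fin n) B),
          ← IsScalarTower.algebraMap_apply B (MvPolynomial (Fin n) B) A,
          ← IsScalarTower.algebraMap_apply R B A])
    let l : ((tiρ R (MvPolynomial (Fin n) B)).obj M) ≃ₗ[R] A :=
      { toFun := fun c => c
        invFun := fun c => c
        map_add' := fun _ _ => rfl
        map_smul' := fun r c => algebraMap_smul (MvPolynomial (Fin n) B) r (show A from c)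
        left_inv := fun _ => rfl
        right_inv := fun _ => rfl }
    exact Module.Flat.of_linearEquiv l
  have h1 : DRing.IsPseudoCoherent (MvPolynomial (Fin n) B) m (Sg 0 M) :=
    isPseudoCoherent_of_iso
      (restrictDSgIso (algebraMap (MvPolynomial (Fin n) B) A) 0 (ModuleCat.of A A)) hv
  have h2 := isPseudoCoherent_LBaseChange
    (algebraMap (MvPolynomial (Fin n) B) (MvPolynomial (Fin n) B')) (Sg 0 M) m h1
  obtain ⟨e⟩ := nonempty_LBaseChange_Sg_iso (R := R) (C := C) (P := MvPolynomial (Fin n) B)
    (P' := MvPolynomial (Fin n) B') M hMflat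
  have h3 := isPseudoCoherent_of_iso e h2
  let selfIso : (extM (A := A) (B := B' ⊗[B] A)).obj (ModuleCat.of A A) ≅
      ModuleCat.of (B' ⊗[B] A) (B' ⊗[B] A) :=
    ((extMEquiv (B := B' ⊗[B] A) (ModuleCat.of A A)).trans
      (TensorProduct.AlgebraTensorModule.rid A (B' ⊗[B] A) (B' ⊗[B] A))).toModuleIso
  let μ : (extM (A := MvPolynomial (Fin n) B) (B := MvPolynomial (Fin n) B')).obj M ≅
      (ModuleCat.restrictScalars.{u} (algebraMap (MvPolynomial (Fin n) B') (B' ⊗[B] A))).obj
        (ModuleCat.of (B' ⊗[B] A) (B' ⊗[B] A)) :=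
    (Fbc.bcNatIso (MvPolynomial (Fin n) B) A (MvPolynomial (Fin n) B') (B' ⊗[B] A)).app
        (ModuleCat.of A A) ≪≫
      (ModuleCat.restrictScalars.{u}
        (algebraMap (MvPolynomial (Fin n) B') (B' ⊗[B] A))).mapIso selfIso
  have h4 := isPseudoCoherent_of_iso
    ((singleFunctor (ModuleCat.{u} (MvPolynomial (Fin n) B')) 0).mapIso μ) h3
  exact isPseudoCoherent_of_iso
    (restrictDSgIso (algebraMap (MvPolynomial (Fin n) B') (B' ⊗[B] A)) 0
      (ModuleCat.of (B' ⊗[B] A) (B' ⊗[B] A))).symm h4

include R C in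
/-- tor-independent base change of an `m`-pseudo-coherent algebra, pushout form -/
theorem NPCAlg.ti {A' : Type u} [CommRing A'] [Algebra B A'] [Algebra A A'] [Algebra B' A']
    [IsScalarTower B A A'] [IsScalarTower B B' A'] [Algebra.IsPushout B A B' A']
    [Module.Flat R B] [Module.Flat R A] (h : NPCAlg m B A) : NPCAlg m B' A' := by
  haveI : Algebra.IsPushout B B' A A' := Algebra.IsPushout.symm inferInstance
  exact (NPCAlg.tensorProduct_ti (R := R) (C := C) h).of_algEquiv
    (Algebra.IsPushout.equiv B B' A A')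

end tipc

end Groth.Agent.Lib.Helper9.PCM
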