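import Mathlib
import Groth.Agent.Lib.Helper1.SecSch
import Groth.Agent.Lib.Helper9.TIBase

/-!
# Sections of smooth morphisms of relative dimension `n` (helper9)

Relative-dimension versions of helper1's `SecReg.exists_regular_of_section` and
`SecSch.exists_chart_of_section` (the proofs are theirs, with the relative dimension carried along):
a section of a smooth morphism of relative dimension `n` is locally cut out by a regular sequence of
length `n`; hence it has tor dimension `≤ n`.
-/

set_option autoImplicit false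
set_option linter.style.haveILetI false
universe u
open CategoryTheory CategoryTheory.Limits AlgebraicGeometry TopologicalSpace Opposite
open Groth.Agent.Lib.Helper1 Groth.Agent.Lib.Helper1.SecSch

namespace Groth.Agent.Lib.Helper9.SecDim

section alg

open MvPolynomial TensorProduct Groth.Agent.Lib.Helper1.SecReg

set_option maxHeartbeats 800000 in
/-- a section of a standard smooth algebra is, near the section, cut out by a regular sequence -/
theorem exists_regular_of_section_dim {A S : Type u} [CommRing A] [CommRing S] [Algebra A S]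
    (n : ℕ) [Algebra.IsStandardSmoothOfRelativeDimension n A S] (ε : S →ₐ[A] A) :
    ∃ (s : S) (l : List S), l.length = n ∧ ε s = 1 ∧
      ∀ (S' : Type u) [CommRing S'] [Algebra S S'] [Module.Flat S S'],
        IsUnit (algebraMap S S' s) →
        RingTheory.Sequence.IsWeaklyRegular S' (l.map (algebraMap S S')) ∧
        (RingHom.ker ε.toRingHom).map (algebraMap S S') =
          Ideal.ofList (l.map (algebraMap S S')) := by
  classical
  obtain ⟨g, hgC, hg⟩ := RingHom.IsStandardSmoothOfRelativeDimension.exists_etale_mvPolynomial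
    (f := algebraMap A S) (n := n)
    ((RingHom.isStandardSmoothOfRelativeDimension_algebraMap n).mpr inferInstance)
  let T := MvPolynomial (Fin n) A
  let a : Fin n → A := fun i => ε (g (X i))
  let τ : T ≃ₐ[A] T := AlgEquiv.ofAlgHom (aeval fun i => X i + C (-a i))
    (aeval fun i => X i + C (a i)) (translate_comp A n _ _ (fun i => neg_add_cancel (a i)))
    (translate_comp A n _ _ (fun i => add_neg_cancel (a i)))
  let g₂ : T →+* S := g.comp (τ : T →+* T)
  have hg₂ : g₂.Etale := RingHom.Etale.stableUnderComposition _ _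
    (RingHom.Etale.of_bijective τ.bijective) hg
  letI algTS : Algebra T S := g₂.toAlgebra
  have hgCb : ∀ b : A, g (C b) = algebraMap A S b := fun b => congr($hgC b)
  haveI tow : IsScalarTower A T S := IsScalarTower.of_algebraMap_eq fun b => by
    change algebraMap A S b = g (τ (C b))
    have : τ (C b) = C b := aeval_C _ b
    rw [this, hgCb]
  haveI : Algebra.Etale T S := RingHom.etale_algebraMap.mp hg₂
  have hX : ∀ i : Fin n, algebraMap T S (X i) = g (X i) - algebraMap A S (a i) := by
    intro i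
    change g (τ (X i)) = _
    have : τ (X i) = X i + C (-a i) := aeval_X _ i
    rw [this, map_add, hgCb, map_neg, sub_eq_add_neg]
  have hε : ∀ i : Fin n, ε (algebraMap T S (X i)) = 0 := by
    intro i
    rw [hX, map_sub, ε.commutes]
    exact sub_self _
  obtain ⟨s, hs1, hs2⟩ := core n ε hε
  refine ⟨s, List.ofFn fun i : Fin n => algebraMap T S (X i), List.length_ofFn, hs1, ?_⟩
  intro S' _ _ _ hunit
  letI algTS' : Algebra T S' := ((algebraMap S S').comp (algebraMap T S)).toAlgebra
  haveI tow' : IsScalarTower T S S' := IsScalarTower.of_algebraMap_eq fun _ => rfl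
  haveI : Module.Flat T S := Algebra.Smooth.flat _ _
  haveI : Module.Flat T S' := Module.Flat.trans T S S'
  have hl : (List.ofFn fun i : Fin n => algebraMap T S (X i)).map (algebraMap S S') =
      (List.ofFn fun i : Fin n => (X i : T)).map (algebraMap T S') := by
    rw [List.map_ofFn, List.map_ofFn]
    rfl
  refine ⟨?_, ?_⟩
  · rw [hl]
    exact (isWeaklyRegular_X A n).of_flat
  · have hIS : Ideal.ofList ((List.ofFn fun i : Fin n => algebraMap T S (X i)).map
        (algebraMap S S')) = ((Ideal.ofList (List.ofFn fun i : Fin n => (X i : T))).map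
          (algebraMap T S)).map (algebraMap S S') := by
      have h0 : (List.ofFn fun i : Fin n => algebraMap T S (X i)) =
          (List.ofFn fun i : Fin n => (X i : T)).map (algebraMap T S) := by
        rw [List.map_ofFn]; rfl
      rw [RegComp.ofList_map, h0, RegComp.ofList_map]
    rw [hIS]
    apply le_antisymm
    · rw [Ideal.map_le_iff_le_comap]
      intro x hx
      rw [Ideal.mem_comap]
      have h1 := Ideal.mem_map_of_mem (algebraMap S S') (hs2 x hx)
      rw [map_mul] at h1
      exact (Ideal.unit_mul_mem_iff_mem _ hunit).mp h1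
    · apply Ideal.map_mono
      rw [Ideal.map_le_iff_le_comap, ofList_ofFn, Ideal.span_le]
      rintro _ ⟨i, rfl⟩
      exact hε i


end alg

section StdSmooth

variable {P Y : Scheme.{u}} (π : P ⟶ Y) (n : ℕ) [SmoothOfRelativeDimension n π]

theorem exists_stdSmoothDim_basicOpen {VY : Y.Opens} (hVY : IsAffineOpen VY) {D₁ : P.Opens}
    (hD₁ : IsAffineOpen D₁) (e : D₁ ≤ π ⁻¹ᵁ VY) (p : P) (hp : p ∈ D₁) :
    ∃ x : Γ(P, D₁), p ∈ P.basicOpen x ∧
      (π.appLE VY (P.basicOpen x)
        ((P.basicOpen_le x).trans e)).hom.IsStandardSmoothOfRelativeDimension n := by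
  have hloc : RingHom.Locally (RingHom.IsStandardSmoothOfRelativeDimension n)
      (π.appLE VY D₁ e).hom :=
    HasRingHomProperty.appLE (P := @SmoothOfRelativeDimension n) π inferInstance
      ⟨VY, hVY⟩ ⟨D₁, hD₁⟩ e
  obtain ⟨s, hs, hstd⟩ := hloc
  have hcov := (hD₁.iSup_basicOpen_eq_self_iff (s := s)).mpr hs
  have hp' : p ∈ ⨆ f : s, P.basicOpen f.1 := by rw [hcov]; exact hp
  obtain ⟨⟨x, hxs⟩, hpx⟩ := TopologicalSpace.Opens.mem_iSup.mp hp'
  refine ⟨x, hpx, ?_⟩
  letI alg₂ : Algebra Γ(P, D₁) Γ(P, P.basicOpen x) :=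
    (P.presheaf.map (homOfLE (P.basicOpen_le x)).op).hom.toAlgebra
  haveI : IsLocalization.Away x Γ(P, P.basicOpen x) := hD₁.isLocalization_basicOpen x
  let eq₁ : Localization.Away x ≃ₐ[Γ(P, D₁)] Γ(P, P.basicOpen x) :=
    IsLocalization.algEquiv (Submonoid.powers x) _ _
  have h1 := (RingHom.isStandardSmoothOfRelativeDimension_respectsIso (n := n)).1 _
    eq₁.toRingEquiv (hstd x hxs)
  have h2 : eq₁.toRingEquiv.toRingHom.comp
      ((algebraMap Γ(P, D₁) (Localization.Away x)).comp (π.appLE VY D₁ e).hom) =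
      (π.appLE VY (P.basicOpen x) ((P.basicOpen_le x).trans e)).hom := by
    ext r
    have h3 := Scheme.Hom.appLE_map π e (homOfLE (P.basicOpen_le x)).op
    have h4 : eq₁ (algebraMap Γ(P, D₁) (Localization.Away x) ((π.appLE VY D₁ e).hom r)) =
        algebraMap Γ(P, D₁) Γ(P, P.basicOpen x) ((π.appLE VY D₁ e).hom r) := eq₁.commutes _
    exact h4.trans (congr($h3 r))
  rw [h2] at h1
  exact h1

end StdSmooth

section Main

variable {P X : Scheme.{u}} (p : P ⟶ X) (n : ℕ) [SmoothOfRelativeDimension n p] (σ : X ⟶ P)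

set_option maxHeartbeats 1600000 in
include p in
theorem exists_chart_of_section_dim (hσ : σ ≫ p = 𝟙 X) (x : X) :
    ∃ D : P.Opens, IsAffineOpen D ∧ σ x ∈ D ∧ IsAffineOpen (σ ⁻¹ᵁ D) ∧
      Function.Surjective (σ.app D) ∧
      ∃ rs : List Γ(P, D), RingTheory.Sequence.IsWeaklyRegular Γ(P, D) rs ∧
        RingHom.ker (σ.app D).hom = Ideal.ofList rs ∧ rs.length = n := by
  classical
  have hpσ : ∀ z : X, p (σ z) = z := fun z => congrArg (fun g => g.base z) hσ
  -- (a)
  obtain ⟨_, ⟨U : X.Opens, hU, rfl⟩, hxU, -⟩ := X.isBasis_affineOpens.exists_subset_of_mem_open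
    (Set.mem_univ x) isOpen_univ
  have hU : IsAffineOpen U := hU
  -- (b)
  have hy : σ x ∈ p ⁻¹ᵁ U := by
    change p (σ x) ∈ U
    rw [hpσ]; exact hxU
  obtain ⟨_, ⟨W₁ : P.Opens, hW₁, rfl⟩, hyW₁, hW₁le⟩ :=
    P.isBasis_affineOpens.exists_subset_of_mem_open hy (p ⁻¹ᵁ U).2
  have hW₁ : IsAffineOpen W₁ := hW₁
  obtain ⟨w, hyw, hstd⟩ := exists_stdSmoothDim_basicOpen p n hU hW₁ hW₁le (σ x) hyW₁
  have hW : IsAffineOpen (P.basicOpen w) := hW₁.basicOpen w
  have hWle : P.basicOpen w ≤ p ⁻¹ᵁ U := (P.basicOpen_le w).trans hW₁le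
  -- (c)
  obtain ⟨a, hale, hxa⟩ := hU.exists_basicOpen_le (V := U ⊓ σ ⁻¹ᵁ (P.basicOpen w))
    ⟨x, ⟨hxU, hyw⟩⟩ hxU
  have hU' : IsAffineOpen (X.basicOpen a) := hU.basicOpen a
  -- (d)
  have hW' : IsAffineOpen (P.basicOpen ((p.appLE U (P.basicOpen w) hWle).hom a)) :=
    hW.basicOpen _
  have hW'eq : P.basicOpen ((p.appLE U (P.basicOpen w) hWle).hom a) =
      P.basicOpen w ⊓ p ⁻¹ᵁ (X.basicOpen a) := by
    rw [Scheme.preimage_basicOpen, Scheme.Hom.appLE]
    exact Scheme.basicOpen_res P _ _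
  have hW'le : P.basicOpen ((p.appLE U (P.basicOpen w) hWle).hom a) ≤ p ⁻¹ᵁ (X.basicOpen a) := by
    rw [hW'eq]; exact inf_le_right
  have hW'W : P.basicOpen ((p.appLE U (P.basicOpen w) hWle).hom a) ≤ P.basicOpen w := by
    rw [hW'eq]; exact inf_le_left
  have hU'le : X.basicOpen a ≤ σ ⁻¹ᵁ (P.basicOpen ((p.appLE U (P.basicOpen w) hWle).hom a)) := by
    intro z hz
    change σ z ∈ P.basicOpen ((p.appLE U (P.basicOpen w) hWle).hom a)
    rw [hW'eq]
    refine ⟨(hale hz).2, ?_⟩
    change p (σ z) ∈ X.basicOpen a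
    rw [hpσ]; exact hz
  have hEq : σ ⁻¹ᵁ (P.basicOpen ((p.appLE U (P.basicOpen w) hWle).hom a)) = X.basicOpen a := by
    apply le_antisymm _ hU'le
    intro z hz
    have h1 : p (σ z) ∈ X.basicOpen a := hW'le hz
    rwa [hpσ] at h1
  -- the localised ring map is standard smooth
  letI algAS : Algebra Γ(X, U) Γ(P, P.basicOpen w) :=
    (p.appLE U (P.basicOpen w) hWle).hom.toAlgebra
  haveI hstd' : Algebra.IsStandardSmoothOfRelativeDimension n Γ(X, U) Γ(P, P.basicOpen w) := hstd
  letI algAA' : Algebra Γ(X, U) Γ(X, X.basicOpen a) :=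
    (X.presheaf.map (homOfLE (X.basicOpen_le a)).op).hom.toAlgebra
  haveI locA : IsLocalization.Away a Γ(X, X.basicOpen a) := hU.isLocalization_basicOpen a
  letI algSS' : Algebra Γ(P, P.basicOpen w)
      Γ(P, P.basicOpen ((p.appLE U (P.basicOpen w) hWle).hom a)) :=
    (P.presheaf.map (homOfLE (P.basicOpen_le _)).op).hom.toAlgebra
  haveI locS : IsLocalization.Away ((p.appLE U (P.basicOpen w) hWle).hom a)
      Γ(P, P.basicOpen ((p.appLE U (P.basicOpen w) hWle).hom a)) :=
    hW.isLocalization_basicOpen _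
  have hloc : (IsLocalization.Away.map Γ(X, X.basicOpen a)
      Γ(P, P.basicOpen ((p.appLE U (P.basicOpen w) hWle).hom a))
      (p.appLE U (P.basicOpen w) hWle).hom a).IsStandardSmoothOfRelativeDimension n :=
    (RingHom.isStandardSmoothOfRelativeDimension_localizationPreserves n).away _ a _ _
      ((RingHom.isStandardSmoothOfRelativeDimension_algebraMap n).mpr hstd')
  have hmap : IsLocalization.Away.map Γ(X, X.basicOpen a)
      Γ(P, P.basicOpen ((p.appLE U (P.basicOpen w) hWle).hom a))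
      (p.appLE U (P.basicOpen w) hWle).hom a =
      (p.appLE (X.basicOpen a) (P.basicOpen ((p.appLE U (P.basicOpen w) hWle).hom a)) hW'le).hom := by
    apply IsLocalization.ringHom_ext (Submonoid.powers a)
    rw [IsLocalization.Away.map, IsLocalization.map_comp]
    ext r
    have h1 := Scheme.Hom.appLE_map p hWle (homOfLE hW'W).op
    have h2 := Scheme.Hom.map_appLE p hW'le (homOfLE (X.basicOpen_le a)).op
    exact (congr($h1 r)).trans (congr($h2 r)).symm
  rw [hmap] at hloc
  -- (e) the section on rings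
  letI algA'S' : Algebra Γ(X, X.basicOpen a)
      Γ(P, P.basicOpen ((p.appLE U (P.basicOpen w) hWle).hom a)) :=
    (p.appLE (X.basicOpen a) (P.basicOpen ((p.appLE U (P.basicOpen w) hWle).hom a)) hW'le).hom.toAlgebra
  haveI hstd'' : Algebra.IsStandardSmoothOfRelativeDimension n Γ(X, X.basicOpen a)
      Γ(P, P.basicOpen ((p.appLE U (P.basicOpen w) hWle).hom a)) := hloc
  have hsec : p.appLE (X.basicOpen a) (P.basicOpen ((p.appLE U (P.basicOpen w) hWle).hom a)) hW'le ≫
      σ.appLE (P.basicOpen ((p.appLE U (P.basicOpen w) hWle).hom a)) (X.basicOpen a) hU'le = 𝟙 _ := by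
    rw [Scheme.Hom.appLE_comp_appLE]
    have h1 : (σ ≫ p).appLE (X.basicOpen a) (X.basicOpen a) (hU'le.trans (σ.preimage_mono hW'le)) =
        (𝟙 X : X ⟶ X).appLE (X.basicOpen a) (X.basicOpen a) le_rfl :=
      ConormSES.appLE_congr' hσ _ _ _ _
    rw [h1]
    exact id_appLE _ _
  let ε : Γ(P, P.basicOpen ((p.appLE U (P.basicOpen w) hWle).hom a)) →ₐ[Γ(X, X.basicOpen a)]
      Γ(X, X.basicOpen a) :=
    { toRingHom := (σ.appLE (P.basicOpen ((p.appLE U (P.basicOpen w) hWle).hom a))
        (X.basicOpen a) hU'le).hom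
      commutes' := fun r => congr($hsec r) }
  obtain ⟨s, l, hlen, hs1, H⟩ := exists_regular_of_section_dim n ε
  -- (g) the chart
  have hD : IsAffineOpen (P.basicOpen s) := hW'.basicOpen s
  letI algS'D : Algebra Γ(P, P.basicOpen ((p.appLE U (P.basicOpen w) hWle).hom a))
      Γ(P, P.basicOpen s) := (P.presheaf.map (homOfLE (P.basicOpen_le s)).op).hom.toAlgebra
  haveI locD : IsLocalization.Away s Γ(P, P.basicOpen s) := hW'.isLocalization_basicOpen s
  haveI flatD : Module.Flat Γ(P, P.basicOpen ((p.appLE U (P.basicOpen w) hWle).hom a))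
      Γ(P, P.basicOpen s) := IsLocalization.flat _ (Submonoid.powers s)
  have hunit : IsUnit (algebraMap Γ(P, P.basicOpen ((p.appLE U (P.basicOpen w) hWle).hom a))
      Γ(P, P.basicOpen s) s) := IsLocalization.Away.algebraMap_isUnit s
  obtain ⟨hreg, hker⟩ := H Γ(P, P.basicOpen s) hunit
  -- (i) goodness at W'
  have hσW' : IsAffineOpen (σ ⁻¹ᵁ (P.basicOpen ((p.appLE U (P.basicOpen w) hWle).hom a))) := by
    rw [hEq]; exact hU'
  have hεs : Function.Surjective (σ.appLE (P.basicOpen ((p.appLE U (P.basicOpen w) hWle).hom a))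
      (X.basicOpen a) hU'le) := fun r =>
    ⟨(p.appLE (X.basicOpen a) (P.basicOpen ((p.appLE U (P.basicOpen w) hWle).hom a)) hW'le).hom r,
      congr($hsec r)⟩
  have hsW' : Function.Surjective (σ.app (P.basicOpen ((p.appLE U (P.basicOpen w) hWle).hom a))) :=
    app_surjective_of_appLE σ hEq hU'le hεs
  obtain ⟨hσD, hsD, hkerD⟩ := UTKoszul.good_basicOpen σ hW' hσW' hsW' s
  have hkerW' : RingHom.ker (σ.app (P.basicOpen ((p.appLE U (P.basicOpen w) hWle).hom a))).hom =
      RingHom.ker ε.toRingHom := ker_app_eq_ker_appLE σ hEq hU'le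
  refine ⟨P.basicOpen s, hD, ?_, hσD, hsD, _, hreg, ?_, ?_⟩
  · -- σ x ∈ D
    change x ∈ σ ⁻¹ᵁ (P.basicOpen s)
    rw [Scheme.preimage_basicOpen]
    have h1 : (X.presheaf.map (homOfLE hU'le).op).hom
        ((σ.app (P.basicOpen ((p.appLE U (P.basicOpen w) hWle).hom a))).hom s) = 1 := hs1
    have h2 := Scheme.basicOpen_res X
      ((σ.app (P.basicOpen ((p.appLE U (P.basicOpen w) hWle).hom a))).hom s) (homOfLE hU'le).op
    rw [h1, Scheme.basicOpen_of_isUnit X isUnit_one] at h2
    have h3 : x ∈ X.basicOpen a ⊓ X.basicOpen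
        ((σ.app (P.basicOpen ((p.appLE U (P.basicOpen w) hWle).hom a))).hom s) := by
      rw [← h2]; exact hxa
    exact h3.2
  · rw [hkerD, hkerW']
    exact hker
  · rw [List.length_map]
    exact hlen


open Groth.Agent.Lib.Helper9.PCM in
include p in
/-- a section of a smooth morphism of relative dimension `n` has tor dimension `≤ n` -/
theorem tdleMor_of_section (hσ : σ ≫ p = 𝟙 X) : tdleMor n σ := by
  rw [HasRingHomProperty.iff_exists_appLE (P := tdleMor n) (tdle_sourceLoc n)]
  intro x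
  obtain ⟨D, hD, hxD, hσD, hsD, rs, hreg, hker, hlen⟩ := exists_chart_of_section_dim p n σ hσ x
  refine ⟨⟨D, hD⟩, ⟨σ ⁻¹ᵁ D, hσD⟩, hxD, le_rfl, ?_⟩
  have e : σ.appLE D (σ ⁻¹ᵁ D) le_rfl = σ.app D := Scheme.Hom.appLE_eq_app σ
  show TDLERingHom n (σ.appLE D (σ ⁻¹ᵁ D) le_rfl).hom
  rw [e, ← hlen]
  exact tdleRingHom_of_koszulRegular _ hsD rs
    (SecReg.isKoszulRegularSeq_of_isWeaklyRegular rs hreg) hker

end Main

open Groth.Agent.Lib.Helper9.PCM in
/-- `X ⟶ Y` over `S` with `Y` smooth of relative dimension `n` and `X` flat over `S` has tor dimension `≤ n` -/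
theorem tdleMor_of_smooth_of_flat {S X Y : Scheme.{u}} (p : X ⟶ S) (q : Y ⟶ S) (f : X ⟶ Y)
    (hf : f ≫ q = p) (n : ℕ) [SmoothOfRelativeDimension n q] [Flat p] : tdleMor n f := by
  haveI := smoothOfRelativeDimension_isStableUnderBaseChange n
  haveI : SmoothOfRelativeDimension n (pullback.fst p q) :=
    MorphismProperty.of_isPullback (P := @SmoothOfRelativeDimension n)
      (IsPullback.of_hasPullback p q).flip inferInstance
  haveI : Flat (pullback.snd p q) :=
    MorphismProperty.of_isPullback (P := @Flat) (IsPullback.of_hasPullback p q) inferInstance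
  let σ : X ⟶ pullback p q := pullback.lift (𝟙 X) f (by rw [Category.id_comp, hf])
  have hσ : σ ≫ pullback.fst p q = 𝟙 X := pullback.lift_fst _ _ _
  have h1 : tdleMor n σ := tdleMor_of_section (pullback.fst p q) n σ hσ
  have h2 : tdleMor 0 (pullback.snd p q) :=
    (tdleMor_iff _ 0).2 ((Groth.Agent.Lib.Helper9.StalkUnit.hasTorDimLE_zero_iff_flat _).2
      inferInstance)
  have h3 := tdleMor_comp σ (pullback.snd p q) h1 h2
  have e : σ ≫ pullback.snd p q = f := pullback.lift_snd _ _ _
  rw [e, zero_add] at h3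
  exact h3

end Groth.Agent.Lib.Helper9.SecDim
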