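import Mathlib
import Groth.Prelude.Def_SekSuwa2

/-!
# `θ_λ` is injective on morphisms from flat schemes (helper9)
-/

set_option autoImplicit false
universe u
open CategoryTheory AlgebraicGeometry
open SekSuwa

namespace Groth.Agent.Lib.Helper9.SekSuwaInj

/-- The image of a nonzerodivisor of the base is regular on the global sections of a flat scheme. -/
theorem regular_of_flat {R : CommRingCat.{u}} {X : Scheme.{u}} (f : X ⟶ Spec R) [Flat f]
    (r : Γ(Spec R, ⊤)) (hr : r ∈ nonZeroDivisors Γ(Spec R, ⊤)) (s : Γ(X, ⊤))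
    (hs : f.appTop.hom r * s = 0) : s = 0 := by
  refine TopCat.Presheaf.section_ext X.sheaf ⊤ s 0 fun x hx => ?_
  obtain ⟨U, hU, hxU, -⟩ := exists_isAffineOpen_mem_and_subset (X := X) (U := ⊤) (x := x) (by simp)
  have e : U ≤ f ⁻¹ᵁ ⊤ := le_top
  have hflat : (f.appLE ⊤ U e).hom.Flat :=
    HasRingHomProperty.appLE @Flat f inferInstance ⟨⊤, isAffineOpen_top _⟩ ⟨U, hU⟩ e
  have hsU : X.presheaf.map (homOfLE (le_top : U ≤ ⊤)).op s = 0 := by
    algebraize [(f.appLE ⊤ U e).hom]
    have hreg : IsSMulRegular Γ(X, U) r := Module.Flat.isSMulRegular_of_nonZeroDivisors hr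
    apply hreg
    simp only [smul_zero]
    show (f.appLE ⊤ U e).hom r * _ = 0
    have h1 : (f.appLE ⊤ U e).hom r =
        X.presheaf.map (homOfLE (le_top : U ≤ ⊤)).op (f.appTop.hom r) := by
      rw [Scheme.Hom.appLE]
      rfl
    rw [h1, ← map_mul, hs, map_zero]
  have h2 := X.presheaf.germ_res_apply (homOfLE (le_top : U ≤ ⊤)) x hxU s
  rw [map_zero]
  exact h2.symm.trans (by rw [hsU, map_zero]; rfl)

theorem main (R : Type u) [CommRing R] [IsDomain R]
    (p : ℕ) [Fact p.Prime] (lam : R) (h : SekSuwa.DivCond lam p)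
    (G : Over (Spec (CommRingCat.of R))) [Flat G.hom]
    (f g : G ⟶ SekSuwa.GK R lam p h)
    (hfg : f ≫ SekSuwa.alphaN R lam p h = g ≫ SekSuwa.alphaN R lam p h) : f = g := by
  apply Over.OverMorphism.ext
  haveI : IsAffine (GK R lam p h).left :=
    inferInstanceAs (IsAffine (Spec (CommRingCat.of (AK R lam p h))))
  apply ext_of_isAffine
  let σ : R →+* Γ(G.left, ⊤) := ((Scheme.ΓSpecIso (.of R)).inv ≫ G.hom.appTop).hom
  letI : Algebra R Γ(G.left, ⊤) := σ.toAlgebra
  have hcomm : ∀ (a : G ⟶ GK R lam p h) (r : R),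
      ((Scheme.ΓSpecIso (.of (AK R lam p h))).inv ≫ a.left.appTop).hom
        (algebraMap R (AK R lam p h) r) = σ r := by
    intro a r
    have hw : a.left ≫ Spec.map (CommRingCat.ofHom (algebraMap R (AK R lam p h))) = G.hom :=
      Over.w a
    have hnat := Scheme.ΓSpecIso_inv_naturality
      (CommRingCat.ofHom (algebraMap R (AK R lam p h)))
    have h1 : (Scheme.ΓSpecIso (.of (AK R lam p h))).inv.hom (algebraMap R (AK R lam p h) r) =
        (Spec.map (CommRingCat.ofHom (algebraMap R (AK R lam p h)))).appTop.hom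
          ((Scheme.ΓSpecIso (.of R)).inv.hom r) := congrArg (fun φ => φ.hom r) hnat
    show a.left.appTop.hom ((Scheme.ΓSpecIso (.of (AK R lam p h))).inv.hom
      (algebraMap R (AK R lam p h) r)) = G.hom.appTop.hom ((Scheme.ΓSpecIso (.of R)).inv.hom r)
    rw [h1, ← hw]
    exact (congrArg (fun φ : Γ(Spec (CommRingCat.of R), ⊤) ⟶ Γ(G.left, ⊤) =>
        φ.hom ((Scheme.ΓSpecIso (.of R)).inv.hom r))
      (Scheme.Hom.comp_appTop a.left
        (Spec.map (CommRingCat.ofHom (algebraMap R (AK R lam p h)))))).symm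
  let F : (a : G ⟶ GK R lam p h) → (AK R lam p h →ₐ[R] Γ(G.left, ⊤)) := fun a =>
    { ((Scheme.ΓSpecIso (.of (AK R lam p h))).inv ≫ a.left.appTop).hom with
      commutes' := hcomm a }
  have hFdef : ∀ (a : G ⟶ GK R lam p h) (x : AK R lam p h),
      F a x = a.left.appTop.hom ((Scheme.ΓSpecIso (.of (AK R lam p h))).inv.hom x) :=
    fun a x => rfl
  -- the hypothesis evaluated at the generator
  have hu : F f (1 + lam • AK.t) = F g (1 + lam • AK.t) := by
    have hleft := congrArg (fun φ => φ.left) hfg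
    simp only [Over.comp_left] at hleft
    rw [show (alphaN R lam p h).left =
      Spec.map (CommRingCat.ofHom ((alphaNHom R lam p h : _ →ₐc[R] _) :
        MonoidAlgebra R (Multiplicative (ZMod p)) →+* AK R lam p h)) from rfl] at hleft
    have hnat := Scheme.ΓSpecIso_inv_naturality
      (CommRingCat.ofHom ((alphaNHom R lam p h : _ →ₐc[R] _) :
        MonoidAlgebra R (Multiplicative (ZMod p)) →+* AK R lam p h))
    have h1 := congrArg (fun φ => φ.hom
      (MonoidAlgebra.single (Multiplicative.ofAdd (1 : ZMod p)) (1 : R))) hnat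
    simp only [CommRingCat.hom_comp, RingHom.comp_apply, CommRingCat.hom_ofHom] at h1
    have h2 : (alphaNHom R lam p h : MonoidAlgebra R (Multiplicative (ZMod p)) →+* AK R lam p h)
        (MonoidAlgebra.single (Multiplicative.ofAdd (1 : ZMod p)) (1 : R)) = 1 + lam • AK.t :=
      alphaNHom_single_one R lam p h
    rw [h2] at h1
    rw [hFdef, hFdef, h1]
    have h3 := congrArg (fun φ => φ.appTop.hom ((Scheme.ΓSpecIso _).inv.hom
      (MonoidAlgebra.single (Multiplicative.ofAdd (1 : ZMod p)) (1 : R)))) hleft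
    exact h3
  have hlam : (Scheme.ΓSpecIso (.of R)).inv.hom lam ∈
      nonZeroDivisors Γ(Spec (CommRingCat.of R), ⊤) := by
    rw [mem_nonZeroDivisors_iff_right]
    intro z hz
    have h1 := congrArg (Scheme.ΓSpecIso (.of R)).hom.hom hz
    rw [map_mul, map_zero] at h1
    have h2 : (Scheme.ΓSpecIso (.of R)).hom.hom ((Scheme.ΓSpecIso (.of R)).inv.hom lam) = lam := by
      simp
    rw [h2] at h1
    have h3 := (mem_nonZeroDivisors_iff_right.mp h.nzd) _ h1
    have h4 := congrArg (Scheme.ΓSpecIso (.of R)).inv.hom h3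
    simpa using h4
  have key : F f = F g := by
    have ht : F f AK.t = F g AK.t := by
      rw [map_add, map_add, map_one, map_one, map_smul, map_smul] at hu
      have h1 : lam • (F f AK.t - F g AK.t) = 0 := by
        rw [smul_sub, sub_eq_zero]
        exact add_left_cancel hu
      have h2 := regular_of_flat G.hom _ hlam (F f AK.t - F g AK.t) (by
        rw [Algebra.smul_def] at h1
        exact h1)
      exact sub_eq_zero.mp h2
    apply AK.algHom_ext ht
    have huinv : (1 + lam • (AK.t : AK R lam p h)) * AK.inv = 1 := by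
      rw [← AK.mkHom_u]
      show AK.mkHom R lam p h A.u * AK.mkHom R lam p h A.inv = 1
      rw [← map_mul, A.u_mul_inv, map_one]
    have h1 : F f (1 + lam • AK.t) * F f AK.inv = 1 := by rw [← map_mul, huinv, map_one]
    have h2 : F g (1 + lam • AK.t) * F g AK.inv = 1 := by rw [← map_mul, huinv, map_one]
    calc F f AK.inv = F f AK.inv * (F g (1 + lam • AK.t) * F g AK.inv) := by rw [h2, mul_one]
      _ = (F f (1 + lam • AK.t) * F f AK.inv) * F g AK.inv := by rw [← hu]; ring
      _ = F g AK.inv := by rw [h1, one_mul]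
  have hfin : (Scheme.ΓSpecIso (.of (AK R lam p h))).inv ≫ f.left.appTop =
      (Scheme.ΓSpecIso (.of (AK R lam p h))).inv ≫ g.left.appTop := by
    ext x
    exact DFunLike.congr_fun key x
  exact (Iso.cancel_iso_inv_left _ _ _).mp hfin

end Groth.Agent.Lib.Helper9.SekSuwaInj
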