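import Mathlib
import Groth.Prelude.Def_Fitting
import Groth.Agent.Lib.Helper18.FittLib5
import Groth.Agent.S0543

/-!
# Dimension of the completion of a finite module over a semi-local Noetherian ring (helper9)

Supports are computed with the zeroth Fitting ideal (which commutes with base change), and the
dimension of `Â ⧸ JÂ` is compared with that of `A ⧸ J` through the height formula.
-/

set_option autoImplicit false
universe u v

namespace Groth.Agent.Lib.Helper9.SemiLocalDim

open Groth.Agent.Lib.Helper18.FittLib TensorProduct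

section Support
variable {R : Type u} [CommRing R] {M : Type v} [AddCommGroup M] [Module R M]

lemma fitt_zero_le_prime_iff [Module.Finite R M] (p : Ideal R) [p.IsPrime] :
    Fitt.ideal R M 0 ≤ p ↔ Module.annihilator R M ≤ p := by
  constructor
  · intro h
    by_contra hann
    obtain ⟨s, hs, hsp⟩ := SetLike.not_le_iff_exists.1 hann
    refine (not_fitt_le_prime_iff (R := R) (M := M) 0 p).2 ⟨s, hsp, Fin.elim0, fun y => ?_⟩ h
    rw [Module.mem_annihilator.1 hs y]
    exact zero_mem _
  · intro h
    by_contra hfit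
    obtain ⟨s, hsp, m, hm⟩ := (not_fitt_le_prime_iff (R := R) (M := M) 0 p).1 hfit
    apply hsp
    apply h
    rw [Module.mem_annihilator]
    intro y
    have := hm y
    rw [Set.range_eq_empty, Submodule.span_empty, Submodule.mem_bot] at this
    exact this

lemma support_eq_zeroLocus_fitt [Module.Finite R M] :
    Module.support R M = PrimeSpectrum.zeroLocus (Fitt.ideal R M 0 : Set R) := by
  ext p
  rw [Module.mem_support_iff_of_finite, PrimeSpectrum.mem_zeroLocus, SetLike.coe_subset_coe,
    fitt_zero_le_prime_iff]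

lemma support_baseChange_eq (S : Type u) [CommRing S] [Algebra R S] [Module.Finite R M] :
    Module.support S (S ⊗[R] M) =
      PrimeSpectrum.zeroLocus (((Fitt.ideal R M 0).map (algebraMap R S) : Ideal S) : Set S) := by
  rw [support_eq_zeroLocus_fitt, fitt_baseChange S 0]

end Support

section Compl
variable (A : Type u) [CommRing A] [IsNoetherianRing A] (I : Ideal A)

lemma map_comap_maximal (hI : ∀ (p : Ideal A), p.IsPrime → I ≤ p → p.IsMaximal)
    (𝔐 : Ideal (AdicCompletion I A)) (h𝔐 : 𝔐.IsMaximal) :
    (𝔐.comap (algebraMap A (AdicCompletion I A))).map (algebraMap A (AdicCompletion I A)) = 𝔐 := by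
  have fg : I.FG := IsNoetherian.noetherian I
  haveI := AdicCompletion.isAdicComplete_self I fg
  have h1 : I.map (algebraMap A (AdicCompletion I A)) ≤ 𝔐 :=
    (IsAdicComplete.le_jacobson_bot _).trans (sInf_le ⟨bot_le, h𝔐⟩)
  have h2 : I ≤ 𝔐.comap (algebraMap A (AdicCompletion I A)) := Ideal.map_le_iff_le_comap.1 h1
  haveI := h𝔐.isPrime
  have hmax : (𝔐.comap (algebraMap A (AdicCompletion I A))).IsMaximal :=
    hI _ (Ideal.comap_isPrime _ _) h2
  haveI := hmax
  have hmax' := AdicCompletion.isMaximal_map_of_le I _ h2 fg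
  exact hmax'.eq_of_le h𝔐.ne_top Ideal.map_comap_le

theorem dim_quot_le (hI : ∀ (p : Ideal A), p.IsPrime → I ≤ p → p.IsMaximal) (J : Ideal A) :
    ringKrullDim (AdicCompletion I A ⧸ J.map (algebraMap A (AdicCompletion I A)))
      ≤ ringKrullDim (A ⧸ J) := by
  haveI : IsNoetherianRing (AdicCompletion I A) := Groth.Agent.S0543.result A I
  rw [ringKrullDim_le_iff_height_le]
  intro P hP
  obtain ⟨𝔫, h𝔫, hP𝔫⟩ := Ideal.exists_le_maximal P hP.ne_top
  haveI := h𝔫.isPrime
  refine (WithBot.coe_le_coe.2 (Ideal.height_mono hP𝔫)).trans ?_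
  haveI : (𝔫.comap (algebraMap (A ⧸ J)
      (AdicCompletion I A ⧸ J.map (algebraMap A (AdicCompletion I A))))).IsPrime :=
    Ideal.comap_isPrime _ _
  haveI : 𝔫.LiesOver (𝔫.comap (algebraMap (A ⧸ J)
      (AdicCompletion I A ⧸ J.map (algebraMap A (AdicCompletion I A))))) := ⟨rfl⟩
  have hform := Ideal.height_le_height_add_of_liesOver (𝔫.comap (algebraMap (A ⧸ J)
      (AdicCompletion I A ⧸ J.map (algebraMap A (AdicCompletion I A))))) 𝔫
  have hclaim : (𝔫.comap (algebraMap (A ⧸ J)
      (AdicCompletion I A ⧸ J.map (algebraMap A (AdicCompletion I A))))).map (algebraMap (A ⧸ J)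
      (AdicCompletion I A ⧸ J.map (algebraMap A (AdicCompletion I A)))) = 𝔫 := by
    refine le_antisymm Ideal.map_comap_le ?_
    have hsurj : Function.Surjective
        (Ideal.Quotient.mk (J.map (algebraMap A (AdicCompletion I A)))) :=
      Ideal.Quotient.mk_surjective
    haveI h𝔐 : (𝔫.comap (Ideal.Quotient.mk (J.map (algebraMap A (AdicCompletion I A))))).IsMaximal :=
      Ideal.comap_isMaximal_of_surjective _ hsurj
    have hmap := map_comap_maximal A I hI _ h𝔐
    have h3 : 𝔫 = ((𝔫.comap (Ideal.Quotient.mk (J.map (algebraMap A (AdicCompletion I A))))).comap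
        (algebraMap A (AdicCompletion I A))).map
          ((Ideal.Quotient.mk (J.map (algebraMap A (AdicCompletion I A)))).comp
            (algebraMap A (AdicCompletion I A))) := by
      rw [← Ideal.map_map, hmap, Ideal.map_comap_of_surjective _ hsurj]
    have h4 : (Ideal.Quotient.mk (J.map (algebraMap A (AdicCompletion I A)))).comp
        (algebraMap A (AdicCompletion I A)) = (algebraMap (A ⧸ J)
          (AdicCompletion I A ⧸ J.map (algebraMap A (AdicCompletion I A)))).comp
            (Ideal.Quotient.mk J) := rfl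
    conv_lhs => rw [h3, h4, ← Ideal.map_map]
    refine Ideal.map_mono ?_
    rw [Ideal.map_le_iff_le_comap]
    intro a ha
    exact ha
  have h2 : (𝔫.map (Ideal.Quotient.mk ((𝔫.comap (algebraMap (A ⧸ J)
      (AdicCompletion I A ⧸ J.map (algebraMap A (AdicCompletion I A))))).map (algebraMap (A ⧸ J)
      (AdicCompletion I A ⧸ J.map (algebraMap A (AdicCompletion I A))))))).height = 0 := by
    rw [hclaim, Ideal.map_quotient_self]
    haveI : Nontrivial ((AdicCompletion I A ⧸ J.map (algebraMap A (AdicCompletion I A))) ⧸ 𝔫) :=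
      Ideal.Quotient.nontrivial_iff.mpr h𝔫.ne_top
    exact Ideal.height_bot
  rw [h2, add_zero] at hform
  exact (WithBot.coe_le_coe.2 hform).trans
    (Ideal.height_le_ringKrullDim_of_ne_top (Ideal.IsPrime.ne_top inferInstance))

theorem faithfullyFlat (hI : I ≤ Ring.jacobson A) :
    Module.FaithfullyFlat A (AdicCompletion I A) := by
  have fg : I.FG := IsNoetherian.noetherian I
  refine { toFlat := inferInstance, submodule_ne_top := ?_ }
  intro m hm htop
  have hle : I ≤ m := hI.trans (by rw [← Ideal.jacobson_bot]; exact sInf_le ⟨bot_le, hm⟩)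
  have hmax := AdicCompletion.isMaximal_map_of_le I m hle fg
  apply hmax.ne_top
  rw [Ideal.smul_top_eq_map] at htop
  exact (Submodule.restrictScalars_eq_top_iff _ _ _).1 htop

theorem dim_quot_ge (hI : I ≤ Ring.jacobson A) (J : Ideal A) :
    ringKrullDim (A ⧸ J)
      ≤ ringKrullDim (AdicCompletion I A ⧸ J.map (algebraMap A (AdicCompletion I A))) := by
  haveI := faithfullyFlat A I hI
  rw [ringKrullDim_quotient, ringKrullDim_quotient]
  unfold Order.krullDim
  refine iSup_le fun l => ?_
  obtain ⟨l', hl'⟩ : ∃ l' : LTSeries (PrimeSpectrum A), l' = l.map Subtype.val (fun _ _ h => h) :=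
    ⟨_, rfl⟩
  obtain ⟨Q, hQ⟩ := PrimeSpectrum.comap_surjective_of_faithfullyFlat (A := A)
    (B := AdicCompletion I A) l'.last
  haveI : Q.asIdeal.LiesOver l'.last.asIdeal := ⟨by rw [← hQ]; rfl⟩
  obtain ⟨L, hlen, -, hmap⟩ := Ideal.exists_ltSeries_of_hasGoingDown l' Q.asIdeal
  subst hl'
  have hmem : ∀ i, L i ∈ PrimeSpectrum.zeroLocus
      (((J.map (algebraMap A (AdicCompletion I A)) : Ideal (AdicCompletion I A))) :
        Set (AdicCompletion I A)) := by
    intro i
    have h1 : PrimeSpectrum.comap (algebraMap A (AdicCompletion I A)) (L i)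
        ∈ (l.map Subtype.val (fun _ _ h => h)).toList := by
      rw [← hmap]
      exact List.mem_map_of_mem (RelSeries.mem_toList.2 ⟨i, rfl⟩)
    obtain ⟨j, hj⟩ := RelSeries.mem_toList.1 h1
    have h2 : (l j).1 ∈ PrimeSpectrum.zeroLocus (J : Set A) := (l j).2
    have h3 : (l.map Subtype.val (fun _ _ h => h)) j = (l j).1 := rfl
    rw [PrimeSpectrum.mem_zeroLocus, SetLike.coe_subset_coe] at h2 ⊢
    rw [Ideal.map_le_iff_le_comap]
    have h4 : (L i).asIdeal.comap (algebraMap A (AdicCompletion I A)) = (l j).1.asIdeal := by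
      rw [← h3, hj]; rfl
    rw [h4]
    exact h2
  have hlen' : (l.map Subtype.val (fun _ _ h => h)).length = l.length := rfl
  calc ((l.length : ℕ) : WithBot ℕ∞)
      = ((LTSeries.mk L.length (fun i => (⟨L i, hmem i⟩ : ↥(PrimeSpectrum.zeroLocus
          (((J.map (algebraMap A (AdicCompletion I A)) : Ideal (AdicCompletion I A))) :
            Set (AdicCompletion I A))))) (fun i j h => L.strictMono h)).length : ℕ) := by
        rw [← hlen', ← hlen]; rfl
    _ ≤ _ := le_iSup (fun p : LTSeries ↥(PrimeSpectrum.zeroLocus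
          (((J.map (algebraMap A (AdicCompletion I A)) : Ideal (AdicCompletion I A))) :
            Set (AdicCompletion I A))) => ((p.length : ℕ) : WithBot ℕ∞)) _

theorem supportDim_completion (hI1 : I ≤ Ring.jacobson A)
    (hI2 : ∀ (p : Ideal A), p.IsPrime → I ≤ p → p.IsMaximal)
    (M : Type u) [AddCommGroup M] [Module A M] [Module.Finite A M] :
    Module.supportDim (AdicCompletion I A) (AdicCompletion I M) = Module.supportDim A M := by
  haveI : IsNoetherianRing (AdicCompletion I A) := Groth.Agent.S0543.result A I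
  rw [← Module.supportDim_eq_of_equiv (AdicCompletion.ofTensorProductEquivOfFiniteNoetherian I M)]
  have h1 : Module.supportDim A M = ringKrullDim (A ⧸ Fitt.ideal A M 0) := by
    unfold Module.supportDim
    rw [support_eq_zeroLocus_fitt, ringKrullDim_quotient]
  have h2 : Module.supportDim (AdicCompletion I A) (AdicCompletion I A ⊗[A] M)
      = ringKrullDim (AdicCompletion I A ⧸
          (Fitt.ideal A M 0).map (algebraMap A (AdicCompletion I A))) := by
    unfold Module.supportDim
    rw [support_baseChange_eq, ringKrullDim_quotient]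
  rw [h1, h2]
  exact le_antisymm (dim_quot_le A I hI2 _) (dim_quot_ge A I hI1 _)

lemma isMaximal_of_jacobson_le [Finite (MaximalSpectrum A)] (p : Ideal A) (hp : p.IsPrime)
    (h : Ring.jacobson A ≤ p) : p.IsMaximal := by
  classical
  haveI := Fintype.ofFinite (MaximalSpectrum A)
  have h1 : (Finset.univ : Finset (MaximalSpectrum A)).inf (fun m => m.asIdeal)
      ≤ Ring.jacobson A := by
    rw [← Ideal.jacobson_bot]
    refine le_sInf ?_
    rintro J ⟨-, hJ⟩
    exact Finset.inf_le (f := fun m : MaximalSpectrum A => m.asIdeal)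
      (Finset.mem_univ (⟨J, hJ⟩ : MaximalSpectrum A))
  obtain ⟨m, -, hm⟩ := (Ideal.IsPrime.inf_le' hp).1 (h1.trans h)
  have : m.asIdeal = p := m.isMaximal.eq_of_le hp.ne_top hm
  rw [← this]
  exact m.isMaximal

end Compl

end Groth.Agent.Lib.Helper9.SemiLocalDim
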