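import Mathlib

/-!
# Serre's lemma: closed subgroups of `GL₂(ℤ_p)` (helper9)

A homomorphism `ϕ : 𝔊 → GL₂(ℤ_p)` with compact image which is onto `GL₂(𝔽_p)` and whose image
contains for every `n ≥ 1` an element `1 + pⁿ X` with `X ≡ diag(a, 0)`, `a` a unit, is onto.
-/

set_option autoImplicit false
set_option linter.style.haveILetI false
set_option linter.unusedSectionVars false
set_option linter.unusedVariables false

namespace Groth.Agent.Lib.Helper9.SerreGL2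

open Matrix

noncomputable section

variable {p : ℕ} [hp : Fact p.Prime]

/-- `2 × 2` matrices over `ℤ_p`. -/
abbrev Mat (p : ℕ) [Fact p.Prime] := Matrix (Fin 2) (Fin 2) ℤ_[p]

/-- congruence of matrices mod `p ^ N` -/
def Cong (N : ℕ) (X Y : Mat p) : Prop := ∃ Z : Mat p, X = Y + (p : ℤ_[p]) ^ N • Z

theorem Cong.refl (N : ℕ) (X : Mat p) : Cong N X X := ⟨0, by simp⟩

theorem Cong.of_eq {N : ℕ} {X Y : Mat p} (h : X = Y) : Cong N X Y := h ▸ Cong.refl N X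

theorem Cong.symm {N : ℕ} {X Y : Mat p} (h : Cong N X Y) : Cong N Y X := by
  obtain ⟨Z, rfl⟩ := h
  exact ⟨-Z, by simp⟩

theorem Cong.trans {N : ℕ} {X Y W : Mat p} (h : Cong N X Y) (h' : Cong N Y W) : Cong N X W := by
  obtain ⟨Z, rfl⟩ := h
  obtain ⟨Z', rfl⟩ := h'
  exact ⟨Z' + Z, by rw [smul_add, add_assoc]⟩

theorem Cong.mul_right {N : ℕ} {X Y : Mat p} (h : Cong N X Y) (W : Mat p) :
    Cong N (X * W) (Y * W) := by
  obtain ⟨Z, rfl⟩ := h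
  exact ⟨Z * W, by rw [add_mul, Matrix.smul_mul]⟩

theorem Cong.mul_left {N : ℕ} {X Y : Mat p} (h : Cong N X Y) (W : Mat p) :
    Cong N (W * X) (W * Y) := by
  obtain ⟨Z, rfl⟩ := h
  exact ⟨W * Z, by rw [mul_add, Matrix.mul_smul]⟩

theorem Cong.mul {N : ℕ} {X Y X' Y' : Mat p} (h : Cong N X Y) (h' : Cong N X' Y') :
    Cong N (X * X') (Y * Y') :=
  (h.mul_right X').trans (h'.mul_left Y)

theorem Cong.add_smul (N : ℕ) (Y Z : Mat p) : Cong N (Y + (p : ℤ_[p]) ^ N • Z) Y := ⟨Z, rfl⟩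

theorem toZMod_eq_iff (x y : ℤ_[p]) :
    PadicInt.toZMod x = PadicInt.toZMod y ↔ ∃ z : ℤ_[p], x - y = (p : ℤ_[p]) * z := by
  have : PadicInt.toZMod x = PadicInt.toZMod y ↔
      x - y ∈ RingHom.ker (PadicInt.toZMod (p := p)) := by
    rw [RingHom.mem_ker, map_sub, sub_eq_zero]
  rw [this, PadicInt.ker_toZMod, PadicInt.maximalIdeal_eq_span_p, Ideal.mem_span_singleton]
  rfl

theorem cong_one_of_toZMod {X Y : Mat p}
    (h : ∀ i j, PadicInt.toZMod (X i j) = PadicInt.toZMod (Y i j)) : Cong 1 X Y := by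
  have h1 : ∀ i j, ∃ z : ℤ_[p], X i j - Y i j = (p : ℤ_[p]) * z := fun i j =>
    (toZMod_eq_iff _ _).1 (h i j)
  choose z hz using h1
  refine ⟨Matrix.of z, ?_⟩
  ext i j
  simp only [Matrix.add_apply, Matrix.smul_apply, Matrix.of_apply, pow_one, smul_eq_mul]
  rw [← hz i j]; ring

theorem toZMod_p : PadicInt.toZMod ((p : ℕ) : ℤ_[p]) = 0 := by
  rw [map_natCast, ZMod.natCast_self]

theorem isUnit_of_toZMod_ne_zero {x : ℤ_[p]} (h : PadicInt.toZMod x ≠ 0) : IsUnit x := by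
  rw [← IsLocalRing.notMem_maximalIdeal, ← PadicInt.ker_toZMod, RingHom.mem_ker]
  exact h

section Group

variable {𝔊 : Type*} [Group 𝔊] (ϕ : 𝔊 →* GL (Fin 2) ℤ_[p])

/-- the matrix of `ϕ g` -/
def Φ (g : 𝔊) : Mat p := ((ϕ g : GL (Fin 2) ℤ_[p]) : Matrix (Fin 2) (Fin 2) ℤ_[p])

theorem Φ_mul (g h : 𝔊) : Φ ϕ (g * h) = Φ ϕ g * Φ ϕ h := by simp [Φ]

theorem Φ_one : Φ ϕ 1 = 1 := by simp [Φ]

theorem Φ_inv_mul (g : 𝔊) : Φ ϕ g⁻¹ * Φ ϕ g = 1 := by rw [← Φ_mul, inv_mul_cancel, Φ_one]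

theorem Φ_mul_inv (g : 𝔊) : Φ ϕ g * Φ ϕ g⁻¹ = 1 := by rw [← Φ_mul, mul_inv_cancel, Φ_one]

variable (hi : Function.Surjective
  ((Matrix.GeneralLinearGroup.map (n := Fin 2) (PadicInt.toZMod (p := p))).comp ϕ))

include hi in
theorem exists_cong_one (G : GL (Fin 2) ℤ_[p]) :
    ∃ h : 𝔊, Cong 1 (Φ ϕ h) (G : Mat p) ∧
      Cong 1 (Φ ϕ h⁻¹) ((G⁻¹ : GL (Fin 2) ℤ_[p]) : Mat p) := by
  obtain ⟨h, hh⟩ := hi (Matrix.GeneralLinearGroup.map (PadicInt.toZMod (p := p)) G)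
  have hh1 : Matrix.GeneralLinearGroup.map (PadicInt.toZMod (p := p)) (ϕ h) =
      Matrix.GeneralLinearGroup.map (PadicInt.toZMod (p := p)) G := hh
  have hh2 : Matrix.GeneralLinearGroup.map (PadicInt.toZMod (p := p)) (ϕ h⁻¹) =
      Matrix.GeneralLinearGroup.map (PadicInt.toZMod (p := p)) G⁻¹ := by
    rw [map_inv, map_inv, map_inv, hh1]
  refine ⟨h, cong_one_of_toZMod fun i j => ?_, cong_one_of_toZMod fun i j => ?_⟩
  · have e1 := Matrix.GeneralLinearGroup.map_apply (PadicInt.toZMod (p := p)) i j (ϕ h)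
    have e2 := Matrix.GeneralLinearGroup.map_apply (PadicInt.toZMod (p := p)) i j G
    rw [hh1] at e1
    exact e1.symm.trans e2
  · have e1 := Matrix.GeneralLinearGroup.map_apply (PadicInt.toZMod (p := p)) i j (ϕ h⁻¹)
    have e2 := Matrix.GeneralLinearGroup.map_apply (PadicInt.toZMod (p := p)) i j G⁻¹
    rw [hh2] at e1
    exact e1.symm.trans e2

/-- the set of `X` such that some `ϕ g ≡ 1 + pⁿ X` mod `p ^ (n+1)` -/
def S (n : ℕ) : Set (Mat p) :=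
  {X | ∃ g : 𝔊, Cong (n + 1) (Φ ϕ g) (1 + (p : ℤ_[p]) ^ n • X)}

theorem S_zero (n : ℕ) : (0 : Mat p) ∈ S ϕ n := ⟨1, Cong.of_eq (by simp [Φ_one])⟩

theorem S_add {k : ℕ} {X Y : Mat p} (hX : X ∈ S ϕ (k + 1)) (hY : Y ∈ S ϕ (k + 1)) :
    X + Y ∈ S ϕ (k + 1) := by
  obtain ⟨g, hg⟩ := hX
  obtain ⟨g', hg'⟩ := hY
  refine ⟨g * g', ?_⟩
  rw [Φ_mul]
  refine (hg.mul hg').trans ⟨(p : ℤ_[p]) ^ k • (X * Y), ?_⟩
  simp only [add_mul, mul_add, Matrix.smul_mul, Matrix.mul_smul, one_mul, mul_one, smul_add,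
    smul_smul]
  have h1 : (p : ℤ_[p]) ^ (k + 1) * (p : ℤ_[p]) ^ (k + 1) =
      (p : ℤ_[p]) ^ (k + 1 + 1) * (p : ℤ_[p]) ^ k := by ring
  rw [h1]
  abel

theorem S_nsmul {k : ℕ} {X : Mat p} (hX : X ∈ S ϕ (k + 1)) (m : ℕ) : m • X ∈ S ϕ (k + 1) := by
  induction m with
  | zero => rw [zero_smul]; exact S_zero ϕ _
  | succ m ih => rw [succ_nsmul]; exact S_add ϕ ih hX

theorem S_congr {n : ℕ} {X X' : Mat p} (hX : X ∈ S ϕ n) (h : Cong 1 X' X) : X' ∈ S ϕ n := by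
  obtain ⟨g, hg⟩ := hX
  obtain ⟨W, rfl⟩ := h
  refine ⟨g, hg.trans (Cong.symm ⟨W, ?_⟩)⟩
  rw [smul_add, smul_smul, pow_one, ← pow_succ, add_assoc]

theorem S_conj {n : ℕ} {X : Mat p} (hX : X ∈ S ϕ n) (h : 𝔊) :
    Φ ϕ h * X * Φ ϕ h⁻¹ ∈ S ϕ n := by
  obtain ⟨g, hg⟩ := hX
  refine ⟨h * g * h⁻¹, ?_⟩
  rw [Φ_mul, Φ_mul]
  refine ((hg.mul_left (Φ ϕ h)).mul_right (Φ ϕ h⁻¹)).trans (Cong.of_eq ?_)
  rw [mul_add, add_mul, mul_one, Φ_mul_inv, Matrix.mul_smul, Matrix.smul_mul]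

include hi in
theorem S_conj_GL {n : ℕ} {X : Mat p} (hX : X ∈ S ϕ n) (G : GL (Fin 2) ℤ_[p]) :
    (G : Mat p) * X * ((G⁻¹ : GL (Fin 2) ℤ_[p]) : Mat p) ∈ S ϕ n := by
  obtain ⟨h, h1, h2⟩ := exists_cong_one ϕ hi G
  refine S_congr ϕ (S_conj ϕ hX h) ?_
  exact (((h1.mul_right X).mul h2)).symm

/-- elementary matrices -/
def E11 : Mat p := !![1, 0; 0, 0]
/-- elementary matrices -/
def E12 : Mat p := !![0, 1; 0, 0]
/-- elementary matrices -/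
def E21 : Mat p := !![0, 0; 1, 0]
/-- elementary matrices -/
def E22 : Mat p := !![0, 0; 0, 1]

/-- the swap matrix -/
def wG : GL (Fin 2) ℤ_[p] :=
  ⟨!![0, 1; 1, 0], !![0, 1; 1, 0], by
    ext i j; fin_cases i <;> fin_cases j <;> simp [Matrix.mul_apply, Fin.sum_univ_two], by
    ext i j; fin_cases i <;> fin_cases j <;> simp [Matrix.mul_apply, Fin.sum_univ_two]⟩

/-- upper unipotent -/
def uG : GL (Fin 2) ℤ_[p] :=
  ⟨!![1, 1; 0, 1], !![1, -1; 0, 1], by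
    ext i j; fin_cases i <;> fin_cases j <;> simp [Matrix.mul_apply, Fin.sum_univ_two], by
    ext i j; fin_cases i <;> fin_cases j <;> simp [Matrix.mul_apply, Fin.sum_univ_two]⟩

/-- lower unipotent -/
def lG : GL (Fin 2) ℤ_[p] :=
  ⟨!![1, 0; 1, 1], !![1, 0; -1, 1], by
    ext i j; fin_cases i <;> fin_cases j <;> simp [Matrix.mul_apply, Fin.sum_univ_two], by
    ext i j; fin_cases i <;> fin_cases j <;> simp [Matrix.mul_apply, Fin.sum_univ_two]⟩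

include hi in
theorem S_eq_univ {k : ℕ} (a : ℤ_[p]) (ha : ¬ ((p : ℤ_[p]) ∣ a))
    (h0 : (!![a, 0; 0, 0] : Mat p) ∈ S ϕ (k + 1)) (X : Mat p) : X ∈ S ϕ (k + 1) := by
  have ha' : PadicInt.toZMod a ≠ 0 := by
    intro h
    apply ha
    have := (toZMod_eq_iff a 0).1 (by rw [h, map_zero])
    obtain ⟨z, hz⟩ := this
    exact ⟨z, by rw [← hz, sub_zero]⟩
  have hk : ∀ x : ZMod p, ∃ m : ℕ, (m : ZMod p) = x := fun x => ⟨x.val, ZMod.natCast_zmod_val _⟩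
  -- E11
  have h11 : (E11 : Mat p) ∈ S ϕ (k + 1) := by
    obtain ⟨m, hm⟩ := hk (PadicInt.toZMod a)⁻¹
    refine S_congr ϕ (S_nsmul ϕ h0 m) (cong_one_of_toZMod fun i j => ?_)
    fin_cases i <;> fin_cases j <;>
      simp [E11, Matrix.smul_apply, nsmul_eq_mul, hm, inv_mul_cancel₀ ha']
  have h22 : (E22 : Mat p) ∈ S ϕ (k + 1) := by
    have := S_conj_GL ϕ hi h11 wG
    convert this using 1
    ext i j; fin_cases i <;> fin_cases j <;>
      simp [E22, E11, wG, Matrix.mul_apply, Fin.sum_univ_two]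
  have h12' : (!![1, -1; 0, 0] : Mat p) ∈ S ϕ (k + 1) := by
    have := S_conj_GL ϕ hi h11 uG
    convert this using 1
    ext i j; fin_cases i <;> fin_cases j <;>
      simp [E11, uG, Matrix.mul_apply, Fin.sum_univ_two]
  have h21' : (!![1, 0; 1, 0] : Mat p) ∈ S ϕ (k + 1) := by
    have := S_conj_GL ϕ hi h11 lG
    convert this using 1
    ext i j; fin_cases i <;> fin_cases j <;>
      simp [E11, lG, Matrix.mul_apply, Fin.sum_univ_two]
  have h12 : (E12 : Mat p) ∈ S ϕ (k + 1) := by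
    refine S_congr ϕ (S_add ϕ (S_nsmul ϕ h12' (p - 1)) h11) (cong_one_of_toZMod fun i j => ?_)
    have hp1 : ((p - 1 : ℕ) : ZMod p) = -1 := by
      rw [Nat.cast_sub hp.out.one_le, ZMod.natCast_self, Nat.cast_one, zero_sub]
    fin_cases i <;> fin_cases j <;>
      simp [E12, E11, Matrix.smul_apply, nsmul_eq_mul, hp1]
  have h21 : (E21 : Mat p) ∈ S ϕ (k + 1) := by
    refine S_congr ϕ (S_add ϕ h21' (S_nsmul ϕ h11 (p - 1))) (cong_one_of_toZMod fun i j => ?_)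
    have hp1 : ((p - 1 : ℕ) : ZMod p) = -1 := by
      rw [Nat.cast_sub hp.out.one_le, ZMod.natCast_self, Nat.cast_one, zero_sub]
    fin_cases i <;> fin_cases j <;>
      simp [E21, E11, Matrix.smul_apply, nsmul_eq_mul, hp1]
  obtain ⟨m00, h00⟩ := hk (PadicInt.toZMod (X 0 0))
  obtain ⟨m01, h01⟩ := hk (PadicInt.toZMod (X 0 1))
  obtain ⟨m10, h10⟩ := hk (PadicInt.toZMod (X 1 0))
  obtain ⟨m11, h11'⟩ := hk (PadicInt.toZMod (X 1 1))
  refine S_congr ϕ (S_add ϕ (S_add ϕ (S_add ϕ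
    (S_nsmul ϕ h11 m00) (S_nsmul ϕ h12 m01))
    (S_nsmul ϕ h21 m10)) (S_nsmul ϕ h22 m11))
    (cong_one_of_toZMod fun i j => ?_)
  fin_cases i <;> fin_cases j <;>
    simp [E11, E12, E21, E22, Matrix.smul_apply, nsmul_eq_mul, h00, h01, h10, h11']

variable (hii : ∀ n : ℕ, 1 ≤ n → ∃ (g : 𝔊) (a b c d : ℤ_[p]), ¬ ((p : ℤ_[p]) ∣ a) ∧
          ((ϕ g : GL (Fin 2) ℤ_[p]) : Matrix (Fin 2) (Fin 2) ℤ_[p]) =
            !![1 + (p : ℤ_[p]) ^ n * a, (p : ℤ_[p]) ^ (n + 1) * b;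
               (p : ℤ_[p]) ^ (n + 1) * c, 1 + (p : ℤ_[p]) ^ (n + 1) * d])

include hi hii in
theorem S_univ (k : ℕ) (X : Mat p) : X ∈ S ϕ (k + 1) := by
  obtain ⟨g, a, b, c, d, ha, hg⟩ := hii (k + 1) (Nat.le_add_left 1 k)
  refine S_eq_univ ϕ hi a ha ⟨g, !![0, b; c, d], ?_⟩ X
  show Φ ϕ g = _
  rw [Φ, hg]
  ext i j; fin_cases i <;> fin_cases j <;> simp [Matrix.one_fin_two] <;> ring

include hi hii in
theorem exists_cong (γ : GL (Fin 2) ℤ_[p]) (N : ℕ) :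
    ∃ g : 𝔊, Cong (N + 1) (Φ ϕ g) (γ : Mat p) := by
  induction N with
  | zero =>
    obtain ⟨h, h1, -⟩ := exists_cong_one ϕ hi γ
    exact ⟨h, h1⟩
  | succ N ih =>
    obtain ⟨g, Z, hg⟩ := ih
    obtain ⟨g', Z', hg'⟩ := S_univ ϕ hi hii N (-(Z * Φ ϕ g⁻¹))
    refine ⟨g' * g, Z' * Φ ϕ g, ?_⟩
    rw [Φ_mul, hg']
    have h1 : (γ : Mat p) = Φ ϕ g - (p : ℤ_[p]) ^ (N + 1) • Z := by rw [hg]; abel
    rw [h1]
    simp only [add_mul, one_mul, Matrix.smul_mul, neg_mul, smul_neg]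
    rw [mul_assoc, Φ_inv_mul, mul_one]
    abel

end Group

section Top

variable {𝔊 : Type*} [Group 𝔊] [TopologicalSpace 𝔊] [CompactSpace 𝔊]
  (ϕ : 𝔊 →* GL (Fin 2) ℤ_[p])
  (hϕ : Continuous fun g => ((ϕ g : GL (Fin 2) ℤ_[p]) : Matrix (Fin 2) (Fin 2) ℤ_[p]))

include hϕ in
theorem surjective_of_approx
    (happ : ∀ (γ : GL (Fin 2) ℤ_[p]) (N : ℕ), ∃ g : 𝔊, Cong (N + 1) (Φ ϕ g) (γ : Mat p)) :
    Function.Surjective ϕ := by
  intro γ
  choose g hg using happ γ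
  have hclosed : IsClosed (Set.range fun g => Φ ϕ g) := (isCompact_range hϕ).isClosed
  have hlim : Filter.Tendsto (fun N => Φ ϕ (g N)) Filter.atTop (nhds (γ : Mat p)) := by
    refine tendsto_pi_nhds.2 fun i => tendsto_pi_nhds.2 fun j => ?_
    rw [tendsto_iff_norm_sub_tendsto_zero]
    have hbound : ∀ N, ‖Φ ϕ (g N) i j - (γ : Mat p) i j‖ ≤ ((p : ℝ)⁻¹) ^ (N + 1) := by
      intro N
      obtain ⟨Z, hZ⟩ := hg N
      rw [hZ]
      simp only [Matrix.add_apply, Matrix.smul_apply, smul_eq_mul, add_sub_cancel_left]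
      rw [norm_mul, norm_pow, PadicInt.norm_p]
      calc ((p : ℝ)⁻¹) ^ (N + 1) * ‖Z i j‖ ≤ ((p : ℝ)⁻¹) ^ (N + 1) * 1 := by
            apply mul_le_mul_of_nonneg_left (PadicInt.norm_le_one _)
            positivity
        _ = _ := mul_one _
    have hp1 : ((p : ℝ)⁻¹) < 1 := by
      apply inv_lt_one_of_one_lt₀
      exact_mod_cast hp.out.one_lt
    have hp0 : (0 : ℝ) ≤ (p : ℝ)⁻¹ := by positivity
    have ht : Filter.Tendsto (fun N : ℕ => ((p : ℝ)⁻¹) ^ (N + 1)) Filter.atTop (nhds 0) :=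
      (tendsto_pow_atTop_nhds_zero_of_lt_one hp0 hp1).comp (Filter.tendsto_add_atTop_nat 1)
    exact squeeze_zero (fun N => norm_nonneg _) hbound ht
  obtain ⟨g₀, hg₀⟩ := hclosed.mem_of_tendsto hlim (Filter.Eventually.of_forall fun N => ⟨g N, rfl⟩)
  exact ⟨g₀, Units.ext hg₀⟩

end Top

section Forward

/-- lifting along `GL₂(ℤ_p) → GL₂(𝔽_p)` -/
theorem map_surjective :
    Function.Surjective (Matrix.GeneralLinearGroup.map (n := Fin 2) (PadicInt.toZMod (p := p))) := by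
  intro Abar
  let A : Mat p := Matrix.of fun i j =>
    (((Abar : Matrix (Fin 2) (Fin 2) (ZMod p)) i j).val : ℤ_[p])
  have hA : A.map (PadicInt.toZMod (p := p)) = (Abar : Matrix (Fin 2) (Fin 2) (ZMod p)) := by
    ext i j
    simp [A, ZMod.natCast_zmod_val]
  have hdet : IsUnit A.det := by
    apply isUnit_of_toZMod_ne_zero
    rw [RingHom.map_det, RingHom.mapMatrix_apply, hA]
    exact ((Matrix.isUnit_iff_isUnit_det _).1 (Units.isUnit Abar)).ne_zero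
  refine ⟨Matrix.GeneralLinearGroup.mk'' A hdet, ?_⟩
  apply Units.ext
  ext i j
  rw [Matrix.GeneralLinearGroup.map_apply]
  exact congrFun (congrFun hA i) j

theorem exists_diag (n : ℕ) (hn : 1 ≤ n) :
    ∃ G : GL (Fin 2) ℤ_[p], (G : Mat p) = !![1 + (p : ℤ_[p]) ^ n, 0; 0, 1] := by
  have hdet : IsUnit (!![1 + (p : ℤ_[p]) ^ n, 0; 0, 1] : Mat p).det := by
    apply isUnit_of_toZMod_ne_zero
    rw [Matrix.det_fin_two_of]
    simp only [mul_one, mul_zero, sub_zero, map_add, map_one, map_pow, toZMod_p]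
    rw [zero_pow (by omega), add_zero]
    exact one_ne_zero
  exact ⟨Matrix.GeneralLinearGroup.mk'' _ hdet, rfl⟩

end Forward

theorem main (𝔊 : Type*) [Group 𝔊] [TopologicalSpace 𝔊] [CompactSpace 𝔊]
    (ϕ : 𝔊 →* GL (Fin 2) ℤ_[p])
    (hϕ : Continuous fun g => ((ϕ g : GL (Fin 2) ℤ_[p]) : Matrix (Fin 2) (Fin 2) ℤ_[p])) :
    Function.Surjective ϕ ↔
      (Function.Surjective
        ((Matrix.GeneralLinearGroup.map (n := Fin 2) (PadicInt.toZMod (p := p))).comp ϕ) ∧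
        ∀ n : ℕ, 1 ≤ n → ∃ (g : 𝔊) (a b c d : ℤ_[p]), ¬ ((p : ℤ_[p]) ∣ a) ∧
          ((ϕ g : GL (Fin 2) ℤ_[p]) : Matrix (Fin 2) (Fin 2) ℤ_[p]) =
            !![1 + (p : ℤ_[p]) ^ n * a, (p : ℤ_[p]) ^ (n + 1) * b;
               (p : ℤ_[p]) ^ (n + 1) * c, 1 + (p : ℤ_[p]) ^ (n + 1) * d]) := by
  constructor
  · intro hs
    refine ⟨?_, ?_⟩
    · rw [MonoidHom.coe_comp]
      exact map_surjective.comp hs
    · intro n hn
      obtain ⟨G, hG⟩ := exists_diag (p := p) n hn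
      obtain ⟨g, hg⟩ := hs G
      refine ⟨g, 1, 0, 0, 0, ?_, ?_⟩
      · intro h
        have : IsUnit ((p : ℕ) : ℤ_[p]) := isUnit_of_dvd_one h
        exact PadicInt.p_nonunit this
      · rw [hg, hG]
        simp
  · rintro ⟨hi, hii⟩
    exact surjective_of_approx ϕ hϕ (fun γ N => exists_cong ϕ hi hii γ N)

end

end Groth.Agent.Lib.Helper9.SerreGL2
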