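import Mathlib
import Groth.Prelude.Def_W4c1hilbpnTgt
import Groth.Agent.Lib.Helper20.MonoIdeal
import Groth.Agent.Lib.Helper29.TgtPow
import Groth.Agent.Lib.Helper9.MonoSoc2

/-! Slice sums of strongly stable ideals in three variables (helper9). -/

set_option autoImplicit false
universe u
open MvPolynomial W4c1hilbpn
open Groth.Agent.Lib.Helper20.MonoIdeal
open Groth.Agent.Lib.Helper9.MonoSoc (eq_e3 e3_le_iff)
open Groth.Agent.Lib.Helper9.MonoSoc2 (stab01 stab02 stab12)

namespace Groth.Agent.Lib.Helper9.SliceSum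

/-! ### combinatorics -/

section Comb

theorem choose_two_succ (s : ℕ) : Nat.choose (s + 2) 2 = Nat.choose (s + 1) 2 + (s + 1) := by
  rw [Nat.choose_succ_succ (s + 1) 1, Nat.choose_one_right]
  ring

/-- the triangle `{(b, c) | b + c < s}` -/
def tri (s : ℕ) : Finset (ℕ × ℕ) := (Finset.range s).biUnion (fun m => Finset.HasAntidiagonal.antidiagonal m)

theorem mem_tri (s : ℕ) (p : ℕ × ℕ) : p ∈ tri s ↔ p.1 + p.2 < s := by
  simp only [tri, Finset.mem_biUnion, Finset.mem_range, Finset.HasAntidiagonal.mem_antidiagonal]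
  constructor
  · rintro ⟨m, hm, h⟩
    omega
  · intro h
    exact ⟨p.1 + p.2, h, rfl⟩

theorem card_tri (s : ℕ) : (tri s).card = Nat.choose (s + 1) 2 := by
  rw [tri, Finset.card_biUnion]
  · simp only [Finset.Nat.card_antidiagonal]
    induction s with
    | zero => simp
    | succ s ih =>
      rw [Finset.sum_range_succ, ih, choose_two_succ]
  · intro m _ m' _ hmm'
    rw [Function.onFun, Finset.disjoint_left]
    intro p hp hp'
    rw [Finset.HasAntidiagonal.mem_antidiagonal] at hp hp'
    exact hmm' (hp.symm.trans hp')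

/-- a family of staircases with the strongly stable exchange rules -/
structure Stair where
  P : ℕ → ℕ → ℕ → Prop
  N : ℕ → Finset (ℕ × ℕ)
  hN : ∀ i p, p ∈ N i ↔ P i p.1 p.2
  dc : ∀ i b c i' b' c', P i b c → i' ≤ i → b' ≤ b → c' ≤ c → P i' b' c'
  sy : ∀ i b c, P (i + 1) b c → P i (b + 1) c
  sz : ∀ i b c, P (i + 1) b c → P i b (c + 1)
  yz : ∀ i b c, P i (b + 1) c → P i b (c + 1)

theorem card_le_of_height (S : Stair) (i h : ℕ) (hh : ¬ S.P i 0 h) :
    (S.N i).card ≤ Nat.choose (h + 1) 2 := by
  rw [← card_tri]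
  apply Finset.card_le_card
  intro p hp
  rw [mem_tri]
  rw [S.hN] at hp
  have key : ∀ b c, S.P i b c → S.P i 0 (b + c) := by
    intro b
    induction b with
    | zero =>
      intro c h
      rwa [Nat.zero_add]
    | succ b ih =>
      intro c h
      have := ih (c + 1) (S.yz i b c h)
      rwa [show b + (c + 1) = b + 1 + c by ring] at this
  by_contra hlt
  push Not at hlt
  exact hh (S.dc i 0 (p.1 + p.2) i 0 h (key _ _ hp) le_rfl le_rfl hlt)

theorem card_step (S : Stair) (i h : ℕ) (hpos : ∀ c < h, S.P (i + 1) 0 c) (h1 : 1 ≤ h) :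
    (S.N (i + 1)).card + h + 1 ≤ (S.N i).card := by
  classical
  let f1 : ℕ × ℕ ↪ ℕ × ℕ := ⟨fun p => (p.1 + 1, p.2), by
    intro p q hpq
    simp only [Prod.mk.injEq, add_left_inj] at hpq
    exact Prod.ext hpq.1 hpq.2⟩
  let f2 : ℕ ↪ ℕ × ℕ := ⟨fun c => (0, c), by
    intro a b hab
    simpa using hab⟩
  have hsub : (S.N (i + 1)).map f1 ∪ (Finset.range (h + 1)).map f2 ⊆ S.N i := by
    intro p hp
    rw [Finset.mem_union, Finset.mem_map, Finset.mem_map] at hp
    rw [S.hN]
    rcases hp with ⟨q, hq, rfl⟩ | ⟨c, hc, rfl⟩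
    · rw [S.hN] at hq
      exact S.sy i q.1 q.2 hq
    · rw [Finset.mem_range] at hc
      show S.P i 0 c
      rcases Nat.lt_or_ge c h with hlt | hge
      · exact S.dc (i + 1) 0 c i 0 c (hpos c hlt) (Nat.le_succ i) le_rfl le_rfl
      · have hc' : c = (h - 1) + 1 := by omega
        rw [hc']
        exact S.sz i 0 (h - 1) (hpos (h - 1) (by omega))
  have hdisj : Disjoint ((S.N (i + 1)).map f1) ((Finset.range (h + 1)).map f2) := by
    rw [Finset.disjoint_left]
    intro p hp hp'
    rw [Finset.mem_map] at hp hp'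
    obtain ⟨q, _, rfl⟩ := hp
    obtain ⟨c, _, hc⟩ := hp'
    have := congrArg Prod.fst hc
    simp [f1, f2] at this
  calc (S.N (i + 1)).card + h + 1
      = ((S.N (i + 1)).map f1).card + ((Finset.range (h + 1)).map f2).card := by
        rw [Finset.card_map, Finset.card_map, Finset.card_range]
        ring
    _ = ((S.N (i + 1)).map f1 ∪ (Finset.range (h + 1)).map f2).card :=
        (Finset.card_union_of_disjoint hdisj).symm
    _ ≤ (S.N i).card := Finset.card_le_card hsub

theorem step (S : Stair) (i s : ℕ) (h : Nat.choose (s + 1) 2 + 1 ≤ (S.N (i + 1)).card) :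
    Nat.choose (s + 2) 2 + 1 ≤ (S.N i).card := by
  classical
  have hne : (S.N (i + 1)).Nonempty := Finset.card_pos.mp (by omega)
  obtain ⟨p0, hp0⟩ := hne
  have h00 : S.P (i + 1) 0 0 :=
    S.dc _ _ _ _ _ _ ((S.hN _ _).mp hp0) le_rfl (Nat.zero_le _) (Nat.zero_le _)
  have hex : ∃ c, ¬ S.P (i + 1) 0 c := by
    refine ⟨(S.N (i + 1)).sup Prod.snd + 1, fun hP => ?_⟩
    have hmem : ((0 : ℕ), (S.N (i + 1)).sup Prod.snd + 1) ∈ S.N (i + 1) := (S.hN _ _).mpr hP
    have := Finset.le_sup (f := Prod.snd) hmem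
    exact Nat.not_succ_le_self _ this
  have hspec : ¬ S.P (i + 1) 0 (Nat.find hex) := Nat.find_spec hex
  have hmin : ∀ c < Nat.find hex, S.P (i + 1) 0 c := fun c hc => not_not.mp (Nat.find_min hex hc)
  have h1 : 1 ≤ Nat.find hex := by
    by_contra hlt
    have h0 : Nat.find hex = 0 := by omega
    rw [h0] at hspec
    exact hspec h00
  have hT1 := card_le_of_height S (i + 1) (Nat.find hex) hspec
  have hs : s < Nat.find hex := by
    by_contra hle
    push Not at hle
    have : Nat.choose (Nat.find hex + 1) 2 ≤ Nat.choose (s + 1) 2 :=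
      Nat.choose_le_choose 2 (by omega)
    omega
  have hT2 := card_step S i (Nat.find hex) hmin h1
  have := choose_two_succ s
  omega

/-- the slice colengths of `m^r` -/
def tt (r i : ℕ) : ℕ := Nat.choose (r - i + 1) 2

theorem sum_tt (r : ℕ) : ∑ i ∈ Finset.range r, tt r i = Nat.choose (r + 2) 3 := by
  induction r with
  | zero => simp
  | succ r ih =>
    rw [Finset.sum_range_succ']
    have : ∀ i ∈ Finset.range r, tt (r + 1) (i + 1) = tt r i := by
      intro i _
      unfold tt
      rw [Nat.add_sub_add_right]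
    rw [Finset.sum_congr rfl this, ih]
    unfold tt
    rw [Nat.sub_zero, Nat.choose_succ_succ (r + 2) 2]
    ring

theorem main_ineq (n : ℕ → ℕ) (r : ℕ)
    (hstep : ∀ i s, Nat.choose (s + 1) 2 + 1 ≤ n (i + 1) → Nat.choose (s + 2) 2 + 1 ≤ n i)
    (htot : ∑ i ∈ Finset.range r, n i ≤ Nat.choose (r + 2) 3) (j : ℕ) (hj : j ≤ r) :
    ∑ i ∈ Finset.Ico j r, n i ≤ ∑ i ∈ Finset.Ico j r, tt r i := by
  by_contra hlt
  push Not at hlt
  obtain ⟨i₀, hi₀, hlt₀⟩ := Finset.exists_lt_of_sum_lt hlt
  rw [Finset.mem_Ico] at hi₀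
  have hdown : ∀ m i, i + m = i₀ → tt r i + 1 ≤ n i := by
    intro m
    induction m with
    | zero =>
      intro i hi
      rw [add_zero] at hi
      subst hi
      exact hlt₀
    | succ m ih =>
      intro i hi
      have h1 := ih (i + 1) (by omega)
      have e1 : tt r (i + 1) = Nat.choose ((r - (i + 1)) + 1) 2 := rfl
      have e2 : tt r i = Nat.choose ((r - (i + 1)) + 2) 2 := by
        unfold tt
        congr 1
        omega
      rw [e2]
      rw [e1] at h1
      exact hstep i _ h1
  have hhead : ∑ i ∈ Finset.range j, tt r i ≤ ∑ i ∈ Finset.range j, n i := by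
    refine Finset.sum_le_sum fun i hi => ?_
    rw [Finset.mem_range] at hi
    have := hdown (i₀ - i) i (by omega)
    omega
  have e1 := Finset.sum_range_add_sum_Ico n hj
  have e2 := Finset.sum_range_add_sum_Ico (tt r) hj
  have e3 := sum_tt r
  omega

theorem eq_of_tail_eq (n : ℕ → ℕ) (r : ℕ)
    (heq : ∀ j, j < r → ∑ i ∈ Finset.Ico j r, n i = ∑ i ∈ Finset.Ico j r, tt r i) :
    ∀ i, i < r → n i = tt r i := by
  intro i hi
  have h1 := heq i hi
  rw [Finset.sum_eq_sum_Ico_succ_bot hi, Finset.sum_eq_sum_Ico_succ_bot hi] at h1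
  rcases Nat.lt_or_ge (i + 1) r with h2 | h2
  · have := heq (i + 1) h2
    omega
  · have : Finset.Ico (i + 1) r = ∅ := Finset.Ico_eq_empty (by omega)
    rw [this] at h1
    simpa using h1

theorem N_eq_tri (S : Stair) (r : ℕ) (hcard : ∀ i, i < r → (S.N i).card = tt r i)
    (hr : S.N r = ∅) : ∀ m i, i + m = r → S.N i = tri (r - i) := by
  intro m
  induction m with
  | zero =>
    intro i hi
    rw [add_zero] at hi
    subst hi
    rw [hr, Nat.sub_self]
    rfl
  | succ m ih =>
    intro i hi
    have hi' : i < r := by omega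
    have h1 := ih (i + 1) (by omega)
    have hs : r - i = (r - (i + 1)) + 1 := by omega
    symm
    apply Finset.eq_of_subset_of_card_le
    · intro p hp
      rw [mem_tri, hs] at hp
      rw [S.hN]
      obtain ⟨b, c⟩ := p
      simp only at hp ⊢
      cases b with
      | succ b =>
        have hmem : (b, c) ∈ S.N (i + 1) := by
          rw [h1, mem_tri]
          simp only
          omega
        exact S.sy i b c ((S.hN _ _).mp hmem)
      | zero =>
        rcases Nat.lt_or_ge c (r - (i + 1)) with hlt | hge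
        · have hmem : (0, c) ∈ S.N (i + 1) := by
            rw [h1, mem_tri]
            simp only
            omega
          exact S.dc (i + 1) 0 c i 0 c ((S.hN _ _).mp hmem) (Nat.le_succ i) le_rfl le_rfl
        · have hc : c = r - (i + 1) := by omega
          rcases Nat.eq_zero_or_pos (r - (i + 1)) with h0 | hpos
          · have hcard' := hcard i hi'
            have hpos' : 0 < (S.N i).card := by
              rw [hcard']
              unfold tt
              exact Nat.choose_pos (by omega)
            obtain ⟨p0, hp0⟩ := Finset.card_pos.mp hpos'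
            rw [hc, h0]
            exact S.dc _ _ _ _ _ _ ((S.hN _ _).mp hp0) le_rfl (Nat.zero_le _) (Nat.zero_le _)
          · have hmem : (0, r - (i + 1) - 1) ∈ S.N (i + 1) := by
              rw [h1, mem_tri]
              simp only
              omega
            have := S.sz i 0 (r - (i + 1) - 1) ((S.hN _ _).mp hmem)
            rw [hc]
            rwa [show r - (i + 1) - 1 + 1 = r - (i + 1) by omega] at this
    · rw [hcard i hi', card_tri]
      exact le_of_eq rfl

end Comb

/-! ### monomial ideals -/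

section Card

variable {σ : Type*} {k : Type u} [Field k]

theorem finrank_eq_card (J : Ideal (MvPolynomial σ k)) (hJ : IsMonomial J) :
    Module.finrank k (MvPolynomial σ k ⧸ J) = Nat.card {β : σ →₀ ℕ // β ∉ exps J} := by
  classical
  have hli := linearIndependent_mk_monomial J hJ
  have hspan : ⊤ ≤ Submodule.span k (Set.range (fun β : {β : σ →₀ ℕ // β ∉ exps J} =>
      Ideal.Quotient.mk J (monomial β.1 (1 : k)))) := by
    rintro x -
    obtain ⟨p, rfl⟩ := Ideal.Quotient.mk_surjective x
    rw [← support_sum_monomial_coeff p, map_sum]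
    refine Submodule.sum_mem _ fun β _ => ?_
    by_cases h : β ∈ exps J
    · have h0 : Ideal.Quotient.mk J (monomial β (coeff β p)) = 0 := by
        rw [Ideal.Quotient.eq_zero_iff_mem]
        have : monomial β (coeff β p) = C (coeff β p) * monomial β (1 : k) := by
          rw [C_mul_monomial, mul_one]
        rw [this]
        exact J.mul_mem_left _ h
      rw [h0]
      exact zero_mem _
    · have h0 : Ideal.Quotient.mk J (monomial β (coeff β p)) =
          coeff β p • Ideal.Quotient.mk J (monomial β (1 : k)) := by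
        have h1 : monomial β (coeff β p) = coeff β p • monomial β (1 : k) := by
          rw [smul_monomial, smul_eq_mul, mul_one]
        rw [h1]
        exact map_smul (Ideal.Quotient.mkₐ k J) _ _
      rw [h0]
      exact Submodule.smul_mem _ _ (Submodule.subset_span ⟨⟨β, h⟩, rfl⟩)
  exact Module.finrank_eq_nat_card_basis (Module.Basis.mk hli hspan)

end Card

section Glue

variable {k : Type u} [Field k] (I : Ideal (MvPolynomial (Fin 3) k))

theorem e3_inj {a b c a' b' c' : ℕ} (h : e3 a b c = e3 a' b' c') : a = a' ∧ b = b' ∧ c = c' := by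
  have h0 := DFunLike.congr_fun h 0
  have h1 := DFunLike.congr_fun h 1
  have h2 := DFunLike.congr_fun h 2
  rw [e3_zero, e3_zero] at h0
  rw [e3_one, e3_one] at h1
  rw [e3_two, e3_two] at h2
  exact ⟨h0, h1, h2⟩

theorem finite_compl (hI : IsMonomial I) [Module.Finite k (MvPolynomial (Fin 3) k ⧸ I)] :
    Set.Finite {γ : Fin 3 →₀ ℕ | γ ∉ exps I} := by
  have h : Finite {β : Fin 3 →₀ ℕ // β ∉ exps I} := finite_compl_exps I hI
  exact Set.finite_coe_iff.mp h

theorem finite_slice (hI : IsMonomial I) [Module.Finite k (MvPolynomial (Fin 3) k ⧸ I)] (i : ℕ) :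
    Set.Finite {p : ℕ × ℕ | e3 i p.1 p.2 ∉ exps I} := by
  have hinj : Function.Injective (fun p : ℕ × ℕ => e3 i p.1 p.2) := by
    intro p q hpq
    obtain ⟨-, h1, h2⟩ := e3_inj hpq
    exact Prod.ext h1 h2
  exact Set.Finite.preimage hinj.injOn (finite_compl I hI)

/-- the staircase of a strongly stable ideal -/
noncomputable def stairOf (hI : IsStronglyStable I)
    [Module.Finite k (MvPolynomial (Fin 3) k ⧸ I)] : Stair where
  P i b c := e3 i b c ∉ exps I
  N i := (finite_slice I hI.1 i).toFinset
  hN i p := by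
    rw [Set.Finite.mem_toFinset]
    rfl
  dc i b c i' b' c' h hi hb hc := fun hmem => h (exps_of_le hmem (by
    rw [e3_le_iff, e3_zero, e3_one, e3_two]
    exact ⟨hi, hb, hc⟩))
  sy i b c h := fun hmem => h (stab01 I hI.2 i b c hmem)
  sz i b c h := fun hmem => h (stab02 I hI.2 i b c hmem)
  yz i b c h := fun hmem => h (stab12 I hI.2 i b c hmem)

theorem finrank_slice (hI : IsStronglyStable I)
    [Module.Finite k (MvPolynomial (Fin 3) k ⧸ I)] (i : ℕ) :
    Module.finrank k (MvPolynomial (Fin 2) k ⧸ sliceX I i) = ((stairOf I hI).N i).card := by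
  classical
  have hmono : IsMonomial (sliceX I i) := (sliceX_stronglyStable I hI i).1.1
  rw [finrank_eq_card _ hmono]
  have hmemN : ∀ p : ℕ × ℕ, p ∈ (stairOf I hI).N i ↔ e3 i p.1 p.2 ∉ exps I :=
    fun p => (stairOf I hI).hN i p
  let f : {β : Fin 2 →₀ ℕ // β ∉ exps (sliceX I i)} → ↥((stairOf I hI).N i) := fun β =>
    ⟨(β.1 0, β.1 1), by
      rw [hmemN]
      have := β.2
      rwa [mem_exps_sliceX_iff hI.1] at this⟩
  have hf : Function.Bijective f := by
    constructor
    · intro β β' h
      have h' := congrArg Subtype.val h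
      simp only [f, Prod.mk.injEq] at h'
      apply Subtype.ext
      ext t
      fin_cases t
      · exact h'.1
      · exact h'.2
    · rintro ⟨⟨b, c⟩, hp⟩
      rw [hmemN] at hp
      refine ⟨⟨Finsupp.equivFunOnFinite.symm ![b, c], ?_⟩, ?_⟩
      · rw [mem_exps_sliceX_iff hI.1]
        simpa using hp
      · apply Subtype.ext
        simp [f]
  rw [Nat.card_eq_of_bijective f hf, Nat.card_eq_fintype_card, Fintype.card_coe]

theorem sum_slices_le (hI : IsStronglyStable I)
    [Module.Finite k (MvPolynomial (Fin 3) k ⧸ I)] (r : ℕ) :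
    ∑ i ∈ Finset.range r, ((stairOf I hI).N i).card ≤
      Module.finrank k (MvPolynomial (Fin 3) k ⧸ I) ∧
    (∑ i ∈ Finset.range r, ((stairOf I hI).N i).card =
      Module.finrank k (MvPolynomial (Fin 3) k ⧸ I) →
      ∀ γ : Fin 3 →₀ ℕ, γ ∉ exps I → γ 0 < r) := by
  classical
  have hmemN : ∀ i (p : ℕ × ℕ), p ∈ (stairOf I hI).N i ↔ e3 i p.1 p.2 ∉ exps I :=
    fun i p => (stairOf I hI).hN i p
  let g : ℕ → (ℕ × ℕ ↪ (Fin 3 →₀ ℕ)) := fun i => ⟨fun p => e3 i p.1 p.2, by
    intro p q hpq
    obtain ⟨-, h1, h2⟩ := e3_inj hpq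
    exact Prod.ext h1 h2⟩
  let U : Finset (Fin 3 →₀ ℕ) :=
    (Finset.range r).biUnion (fun i => ((stairOf I hI).N i).map (g i))
  have hUcard : U.card = ∑ i ∈ Finset.range r, ((stairOf I hI).N i).card := by
    rw [Finset.card_biUnion]
    · exact Finset.sum_congr rfl fun i _ => Finset.card_map _
    · intro i _ i' _ hii'
      rw [Function.onFun, Finset.disjoint_left]
      intro γ hγ hγ'
      rw [Finset.mem_map] at hγ hγ'
      obtain ⟨p, _, rfl⟩ := hγ
      obtain ⟨q, _, hq⟩ := hγ'
      exact hii' (e3_inj hq).1.symm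
  have hUsub : U ⊆ (finite_compl I hI.1).toFinset := by
    intro γ hγ
    rw [Finset.mem_biUnion] at hγ
    obtain ⟨i, _, hγ⟩ := hγ
    rw [Finset.mem_map] at hγ
    obtain ⟨p, hp, rfl⟩ := hγ
    rw [Set.Finite.mem_toFinset]
    exact (hmemN i p).mp hp
  have hTcard : (finite_compl I hI.1).toFinset.card =
      Module.finrank k (MvPolynomial (Fin 3) k ⧸ I) := by
    rw [finrank_eq_card I hI.1, ← Set.ncard_eq_toFinset_card _ (finite_compl I hI.1)]
    rfl
  refine ⟨?_, ?_⟩
  · rw [← hUcard, ← hTcard]
    exact Finset.card_le_card hUsub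
  · intro heq γ hγ
    have hUT : U = (finite_compl I hI.1).toFinset :=
      Finset.eq_of_subset_of_card_le hUsub (by rw [hUcard, hTcard, heq])
    have hγU : γ ∈ U := by
      rw [hUT, Set.Finite.mem_toFinset]
      exact hγ
    rw [Finset.mem_biUnion] at hγU
    obtain ⟨i, hi, hγi⟩ := hγU
    rw [Finset.mem_map] at hγi
    obtain ⟨p, _, rfl⟩ := hγi
    show e3 i p.1 p.2 0 < r
    rw [e3_zero]
    exact Finset.mem_range.mp hi

theorem main (r : ℕ) (hI : IsStronglyStable I) [Module.Finite k (MvPolynomial (Fin 3) k ⧸ I)]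
    (hd : Module.finrank k (MvPolynomial (Fin 3) k ⧸ I) ≤ Nat.choose (r + 2) 3) :
    (∀ j, j ≤ r → ∑ i ∈ Finset.Ico j r, Module.finrank k (MvPolynomial (Fin 2) k ⧸ sliceX I i) ≤
        ∑ i ∈ Finset.Ico j r, Nat.choose (r - i + 1) 2) ∧
    ((∀ j, j < r → ∑ i ∈ Finset.Ico j r,
        Module.finrank k (MvPolynomial (Fin 2) k ⧸ sliceX I i) =
        ∑ i ∈ Finset.Ico j r, Nat.choose (r - i + 1) 2) →
      I = (Ideal.span (Set.range (MvPolynomial.X : Fin 3 → MvPolynomial (Fin 3) k))) ^ r) := by
  classical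
  obtain ⟨S, hS⟩ : ∃ S, S = stairOf I hI := ⟨_, rfl⟩
  have hfr : ∀ i, Module.finrank k (MvPolynomial (Fin 2) k ⧸ sliceX I i) = (S.N i).card := by
    intro i
    rw [hS]
    exact finrank_slice I hI i
  have hsum := sum_slices_le I hI r
  rw [← hS] at hsum
  have htot : ∑ i ∈ Finset.range r, (S.N i).card ≤ Nat.choose (r + 2) 3 := hsum.1.trans hd
  have hstep : ∀ i s, Nat.choose (s + 1) 2 + 1 ≤ (S.N (i + 1)).card →
      Nat.choose (s + 2) 2 + 1 ≤ (S.N i).card := fun i s h => step S i s h
  refine ⟨?_, ?_⟩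
  · intro j hj
    rw [Finset.sum_congr rfl fun i _ => hfr i]
    exact main_ineq (fun i => (S.N i).card) r hstep htot j hj
  · intro heq
    have heq' : ∀ j, j < r → ∑ i ∈ Finset.Ico j r, (S.N i).card =
        ∑ i ∈ Finset.Ico j r, tt r i := by
      intro j hj
      rw [← Finset.sum_congr rfl fun i _ => hfr i]
      exact heq j hj
    have hcard := eq_of_tail_eq (fun i => (S.N i).card) r heq'
    have hsumeq : ∑ i ∈ Finset.range r, (S.N i).card = Nat.choose (r + 2) 3 := by
      rw [Finset.sum_congr rfl fun i hi => hcard i (Finset.mem_range.mp hi)]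
      exact sum_tt r
    have hfin : ∑ i ∈ Finset.range r, (S.N i).card =
        Module.finrank k (MvPolynomial (Fin 3) k ⧸ I) :=
      le_antisymm hsum.1 (by rw [hsumeq]; exact hd)
    have hlt := hsum.2 hfin
    have hmemN : ∀ i (p : ℕ × ℕ), p ∈ S.N i ↔ e3 i p.1 p.2 ∉ exps I := by
      intro i p
      rw [hS]
      exact (stairOf I hI).hN i p
    have hNr : S.N r = ∅ := by
      rw [Finset.eq_empty_iff_forall_notMem]
      intro p hp
      have := hlt _ ((hmemN r p).mp hp)
      rw [e3_zero] at this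
      exact lt_irrefl _ this
    have hN := N_eq_tri S r hcard hNr
    have hexps : ∀ β : Fin 3 →₀ ℕ, β ∈ exps I ↔ r ≤ β.degree := by
      intro β
      have hβ : β = e3 (β 0) (β 1) (β 2) := eq_e3 _ _ _ β rfl rfl rfl
      have hdeg : β.degree = β 0 + β 1 + β 2 := by
        rw [Finsupp.degree_eq_sum, Fin.sum_univ_three]
      constructor
      · intro hmem
        by_contra hlt'
        push Not at hlt'
        have hi : β 0 < r := by omega
        have hmem' : (β 1, β 2) ∈ S.N (β 0) := by
          rw [hN (r - β 0) (β 0) (by omega), mem_tri]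
          simp only
          omega
        rw [hmemN] at hmem'
        simp only at hmem'
        rw [← hβ] at hmem'
        exact hmem' hmem
      · intro hle
        by_contra hmem
        have hi : β 0 < r := hlt β hmem
        have hmem' : (β 1, β 2) ∈ S.N (β 0) := by
          rw [hmemN]
          simp only
          rw [← hβ]
          exact hmem
        rw [hN (r - β 0) (β 0) (by omega), mem_tri] at hmem'
        simp only at hmem'
        omega
    ext p
    rw [mem_iff_support hI.1, mem_iff_support (Groth.Agent.Lib.Helper29.TgtPow.isMono (k := k) (n := 3) r)]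
    refine forall₂_congr fun β _ => ?_
    rw [hexps, Groth.Agent.Lib.Helper29.TgtPow.exps_iff]

end Glue

end Groth.Agent.Lib.Helper9.SliceSum
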