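import Mathlib
import Groth.Agent.Lib.Helper9.SmQA
import Groth.Agent.Lib.Helper9.QDescD
import Groth.Agent.Lib.Helper14.QuasiRegReg

/-!
# `H_1`-regular and quasi-regular sequences pass to the quotient by the first element (helper9)
-/

set_option autoImplicit false
set_option linter.style.haveILetI false
universe u

namespace Groth.Agent.Lib.Helper9.SmQ

open Groth.Agent.Lib.Helper1 Groth.Agent.Lib.Helper9.QDesc Groth.Agent.Lib.Helper22

section H1Quot

variable {R : Type u} [CommRing R] (y : R)

set_option quotPrecheck false in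
local notation "πy" => Ideal.Quotient.mk (Ideal.span (singleton y))

theorem isH1Regular_quot {c : ℕ} (g : Fin c → R)
    (hf : CAlgX.IsH1Regular (Fin.cons y g : Fin (c + 1) → R)) :
    CAlgX.IsH1Regular (fun i : Fin c => πy (g i)) := by
  intro ab hab
  choose a ha using fun i => Ideal.Quotient.mk_surjective (I := Ideal.span {y}) (ab i)
  have hy0 : πy y = 0 := Ideal.Quotient.eq_zero_iff_mem.mpr (Ideal.mem_span_singleton_self y)
  have h1 : πy (∑ i, a i * g i) = 0 := by
    rw [map_sum, ← hab]
    apply Finset.sum_congr rfl
    intro i _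
    rw [map_mul, ha]
  rw [Ideal.Quotient.eq_zero_iff_mem, Ideal.mem_span_singleton'] at h1
  obtain ⟨b, hb⟩ := h1
  let a' : Fin (c + 1) → R := Fin.cons (-b) a
  have hrel : ∑ i, a' i * (Fin.cons y g : Fin (c + 1) → R) i = 0 := by
    rw [Fin.sum_univ_succ]
    simp only [a', Fin.cons_zero, Fin.cons_succ]
    rw [← hb]
    ring
  have hmem := hf a' hrel
  let T : Submodule (R ⧸ Ideal.span {y}) (Fin c → R ⧸ Ideal.span {y}) :=
    Submodule.span _ {v | ∃ i j : Fin c, v = Pi.single i (πy (g j)) - Pi.single j (πy (g i))}
  have key : ∀ v ∈ Submodule.span R {v : Fin (c + 1) → R | ∃ i j : Fin (c + 1),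
      v = Pi.single i ((Fin.cons y g : Fin (c + 1) → R) j) -
        Pi.single j ((Fin.cons y g : Fin (c + 1) → R) i)},
      (fun k : Fin c => πy (v k.succ)) ∈ T := by
    intro v hv
    refine Submodule.span_induction
      (p := fun v _ => (fun k : Fin c => πy (v k.succ)) ∈ T) ?_ ?_ ?_ ?_ hv
    · intro v hv
      obtain ⟨i, j, rfl⟩ := hv
      rcases Fin.eq_zero_or_eq_succ i with rfl | ⟨i', rfl⟩
      · rcases Fin.eq_zero_or_eq_succ j with rfl | ⟨j', rfl⟩
        · have h0 : (fun k : Fin c => πy ((Pi.single (0 : Fin (c + 1))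
              ((Fin.cons y g : Fin (c + 1) → R) 0) -
              Pi.single (0 : Fin (c + 1)) ((Fin.cons y g : Fin (c + 1) → R) 0) :
                Fin (c + 1) → R) k.succ)) = 0 := by
            funext k
            simp
          rw [h0]
          exact T.zero_mem
        · have h0 : (fun k : Fin c => πy ((Pi.single (0 : Fin (c + 1))
              ((Fin.cons y g : Fin (c + 1) → R) j'.succ) -
              Pi.single j'.succ ((Fin.cons y g : Fin (c + 1) → R) 0) :
                Fin (c + 1) → R) k.succ)) = 0 := by
            funext k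
            by_cases hk : k = j'
            · subst hk
              simp [Fin.succ_ne_zero, hy0]
            · simp [Fin.succ_ne_zero, hk]
          rw [h0]
          exact T.zero_mem
      · rcases Fin.eq_zero_or_eq_succ j with rfl | ⟨j', rfl⟩
        · have h0 : (fun k : Fin c => πy ((Pi.single i'.succ
              ((Fin.cons y g : Fin (c + 1) → R) 0) -
              Pi.single (0 : Fin (c + 1)) ((Fin.cons y g : Fin (c + 1) → R) i'.succ) :
                Fin (c + 1) → R) k.succ)) = 0 := by
            funext k
            by_cases hk : k = i'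
            · subst hk
              simp [Fin.succ_ne_zero, hy0]
            · simp [Fin.succ_ne_zero, hk]
          rw [h0]
          exact T.zero_mem
        · have h0 : (fun k : Fin c => πy ((Pi.single i'.succ
              ((Fin.cons y g : Fin (c + 1) → R) j'.succ) -
              Pi.single j'.succ ((Fin.cons y g : Fin (c + 1) → R) i'.succ) :
                Fin (c + 1) → R) k.succ)) =
              Pi.single i' (πy (g j')) - Pi.single j' (πy (g i')) := by
            funext k
            simp only [Pi.sub_apply, Pi.single_apply, Fin.succ_inj, Fin.cons_succ, map_sub]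
            rw [apply_ite πy, apply_ite πy, map_zero]
          rw [h0]
          exact Submodule.subset_span ⟨i', j', rfl⟩
    · have h0 : (fun k : Fin c => πy ((0 : Fin (c + 1) → R) k.succ)) = 0 := by
        funext k
        simp
      rw [h0]
      exact T.zero_mem
    · intro u v _ _ hu hv
      have h0 : (fun k : Fin c => πy ((u + v) k.succ)) =
          (fun k : Fin c => πy (u k.succ)) + (fun k : Fin c => πy (v k.succ)) := by
        funext k
        simp
      rw [h0]
      exact T.add_mem hu hv
    · intro r v _ hv
      have h0 : (fun k : Fin c => πy ((r • v) k.succ)) =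
          (πy r) • (fun k : Fin c => πy (v k.succ)) := by
        funext k
        simp
      rw [h0]
      exact T.smul_mem _ hv
  have h2 := key a' hmem
  have hfin : (fun k : Fin c => πy (a' k.succ)) = ab := by
    funext k
    simp only [a', Fin.cons_succ]
    exact ha k
  rw [hfin] at h2
  exact h2

end H1Quot

theorem h1_quot {R : Type u} [CommRing R] (y : R) (l : List R) (h : QH R (y :: l)) :
    QH (R ⧸ Ideal.span {y}) (l.map (Ideal.Quotient.mk (Ideal.span {y}))) := by
  have hget : ((y :: l).get : Fin (l.length + 1) → R) = (Fin.cons y l.get : Fin (l.length + 1) → R) := by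
    funext i
    rcases Fin.eq_zero_or_eq_succ i with rfl | ⟨j, rfl⟩
    · rfl
    · rfl
  have h1 : CAlgX.IsH1Regular (Fin.cons y l.get : Fin (l.length + 1) → R) := by
    rw [← hget]
    exact h
  have h3 := isH1Regular_quot y l.get h1
  show CAlgX.IsH1Regular (l.map (Ideal.Quotient.mk (Ideal.span {y}))).get
  rw [RegFlatBC.get_map]
  exact RegFlatBC.isH1Regular_cast (List.length_map _) _ h3

theorem quasi_quot_fn {R : Type u} [CommRing R] {c : ℕ} (y : R) (g : Fin c → R)
    (f : Fin (c + 1) → R) (h0 : f 0 = y) (hs : ∀ i, f i.succ = g i)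
    (hq : CAlgX.IsQuasiRegular f) :
    CAlgX.IsQuasiRegular (fun i : Fin c => Ideal.Quotient.mk (Ideal.span {y}) (g i)) := by
  subst h0
  have hg : g = fun i => f i.succ := funext (fun i => (hs i).symm)
  subst hg
  exact Groth.Agent.Lib.Helper14.QuasiRegReg.qr_abar f hq

theorem quasi_quot {R : Type u} [CommRing R] (y : R) (l : List R) (h : QQ R (y :: l)) :
    QQ (R ⧸ Ideal.span {y}) (l.map (Ideal.Quotient.mk (Ideal.span {y}))) := by
  have h' : CAlgX.IsQuasiRegular (c := l.length + 1) (y :: l).get := h
  have h3 : CAlgX.IsQuasiRegular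
      (fun i : Fin l.length => Ideal.Quotient.mk (Ideal.span {y}) (l.get i)) :=
    quasi_quot_fn y l.get (y :: l).get rfl (fun _ => rfl) h'
  change CAlgX.IsQuasiRegular (l.map (Ideal.Quotient.mk (Ideal.span {y}))).get
  rw [RegFlatBC.get_map]
  exact RegFlatBC.isQuasiRegular_cast (List.length_map _)
    (fun i : Fin l.length => Ideal.Quotient.mk (Ideal.span {y}) (l.get i)) h3

theorem quotAx_quasi : QuotAx.{u} QQ := fun y l h => quasi_quot y l h

theorem quotAx_h1 : QuotAx.{u} QH := fun y l h => h1_quot y l h

theorem quotAx_seq (k : RegImm.Kind) (hk : k = RegImm.Kind.h1 ∨ k = RegImm.Kind.quasi) :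
    QuotAx.{u} (Qk k) := by
  rcases hk with rfl | rfl
  · exact quotAx_h1
  · exact quotAx_quasi

end Groth.Agent.Lib.Helper9.SmQ
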