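import Mathlib
import Groth.Agent.Lib.Helper9.SmQD

/-!
# Regular ideals under a smooth algebra: the ring-level statement (helper9)

`A → B` smooth, `B → C` and `A → C` surjective: if the kernel of `B → C` is locally generated by
sequences of kind `Q`, so is the kernel of `A → C`.
-/

set_option autoImplicit false
set_option linter.style.haveILetI false
universe u

namespace Groth.Agent.Lib.Helper9.SmQ

open Groth.Agent.Lib.Helper1 Groth.Agent.Lib.Helper1.KDesc Groth.Agent.Lib.Helper9.QDesc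

attribute [local instance] MvPolynomial.algebraMvPolynomial

section Chart

variable {Q : ∀ (R : Type u) [CommRing R], List R → Prop}

set_option maxHeartbeats 1600000 in
/-- the local claim at a prime -/
theorem locLen_of_smooth_chart (hQ : GoodQ Q) (hquot : QuotAx Q) {A B C : Type u} [CommRing A]
    [CommRing B] [CommRing C] [Algebra A B] (π : B →+* C) (hπ : Function.Surjective π)
    (hρ : Function.Surjective (π.comp (algebraMap A B)))
    (f : B) (n : ℕ) [Algebra (MvPolynomial (Fin n) A) (Localization.Away f)]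
    [IsScalarTower A (MvPolynomial (Fin n) A) (Localization.Away f)]
    [Algebra.IsStandardEtale (MvPolynomial (Fin n) A) (Localization.Away f)]
    (𝔭 : Ideal A) [𝔭.IsPrime] (𝔮 : Ideal B) [𝔮.IsPrime] (𝔫 : Ideal C) [𝔫.IsPrime]
    (h𝔮 : 𝔮 = 𝔫.comap π) (h𝔭 : 𝔭 = 𝔮.comap (algebraMap A B)) (hf : f ∉ 𝔮) (r : ℕ)
    (hLL : LocLen Q (RingHom.ker π) 𝔮 r) :
    LocLen Q (RingHom.ker (π.comp (algebraMap A B))) 𝔭 (r - n) := by
  classical
  obtain ⟨l, hlen, hl, hJl⟩ := hLL
  have h𝔭𝔫 : 𝔭 = 𝔫.comap (π.comp (algebraMap A B)) := by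
    rw [h𝔭, h𝔮, Ideal.comap_comap]
  let A₁ := Localization.AtPrime 𝔭
  let S := Localization.AtPrime 𝔮
  let C₀ := Localization.AtPrime 𝔫
  let P := MvPolynomial (Fin n) A
  let Bf := Localization.Away f
  let αAS : A₁ →+* S := Localization.localRingHom 𝔭 𝔮 (algebraMap A B) h𝔭
  letI algA₁S : Algebra A₁ S := αAS.toAlgebra
  have hαAS : ∀ x : A, algebraMap A₁ S (algebraMap A A₁ x) = algebraMap B S (algebraMap A B x) :=
    fun x => Localization.localRingHom_to_map 𝔭 𝔮 (algebraMap A B) h𝔭 x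
  let ρS : S →+* C₀ := Localization.localRingHom 𝔮 𝔫 π h𝔮
  have hρcomp : ρS.comp (algebraMap A₁ S) =
      Localization.localRingHom 𝔭 𝔫 (π.comp (algebraMap A B)) h𝔭𝔫 :=
    (Localization.localRingHom_comp 𝔭 𝔮 𝔫 (algebraMap A B) h𝔭 π h𝔮).symm
  have hsurj : Function.Surjective (ρS.comp (algebraMap A₁ S)) := by
    rw [hρcomp]
    exact localRingHom_surjective 𝔭 𝔫 (π.comp (algebraMap A B)) h𝔭𝔫 hρ
  have hkerS : RingHom.ker ρS = Ideal.ofList l := by
    rw [← hJl]
    exact ker_localRingHom 𝔮 𝔫 π h𝔮 hπ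
  -- `B_f → S`
  have hfu : IsUnit (algebraMap B S f) :=
    IsLocalization.map_units (M := 𝔮.primeCompl) S ⟨f, hf⟩
  let β : Bf →+* S := IsLocalization.Away.lift f hfu
  have hβ : ∀ b, β (algebraMap B Bf b) = algebraMap B S b :=
    fun b => IsLocalization.Away.lift_eq f hfu b
  letI algBfS : Algebra Bf S := β.toAlgebra
  haveI : IsScalarTower B Bf S := IsScalarTower.of_algebraMap_eq (fun b => (hβ b).symm)
  let ψ₀ : P →+* S := β.comp (algebraMap P Bf)
  letI algPS : Algebra P S := ψ₀.toAlgebra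
  haveI : IsScalarTower P Bf S := IsScalarTower.of_algebraMap_eq (fun _ => rfl)
  haveI : Module.Flat B S := IsLocalization.flat S 𝔮.primeCompl
  haveI : Module.Flat Bf S :=
    (Module.flat_iff_of_isLocalization Bf (Submonoid.powers f) S).mpr inferInstance
  haveI : Algebra.Etale P Bf := inferInstance
  haveI : Module.Flat P Bf := inferInstance
  haveI : Module.Flat P S := Module.Flat.trans P Bf S
  haveI : Algebra.FormallyUnramified B S :=
    Algebra.FormallyUnramified.of_isLocalization 𝔮.primeCompl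
  haveI : Algebra.FormallyUnramified Bf S :=
    Algebra.FormallyUnramified.of_restrictScalars B Bf S
  haveI : Algebra.FormallyUnramified P Bf := inferInstance
  haveI : Algebra.FormallyUnramified P S := Algebra.FormallyUnramified.comp P Bf S
  -- the polynomial ring over the local ring
  let P₁ := MvPolynomial (Fin n) A₁
  let ψ₁ : P₁ →+* S :=
    MvPolynomial.eval₂Hom (algebraMap A₁ S) (fun k => ψ₀ (MvPolynomial.X k))
  letI algP₁S : Algebra P₁ S := ψ₁.toAlgebra
  haveI : IsScalarTower A₁ P₁ S := IsScalarTower.of_algebraMap_eq (fun c => by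
    change algebraMap A₁ S c = ψ₁ (MvPolynomial.C c)
    exact (MvPolynomial.eval₂Hom_C _ _ c).symm)
  have htow : ∀ p : P, ψ₁ (MvPolynomial.map (algebraMap A A₁) p) = ψ₀ p := by
    intro p
    have h0 : ψ₁.comp (MvPolynomial.map (algebraMap A A₁)) = ψ₀ := by
      apply MvPolynomial.ringHom_ext
      · intro c
        change ψ₁ (MvPolynomial.map (algebraMap A A₁) (MvPolynomial.C c)) =
          β (algebraMap P Bf (MvPolynomial.C c))
        rw [MvPolynomial.map_C]
        have h1 : ψ₁ (MvPolynomial.C (algebraMap A A₁ c)) = algebraMap A₁ S (algebraMap A A₁ c) :=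
          MvPolynomial.eval₂Hom_C _ _ _
        rw [h1, hαAS, ← MvPolynomial.algebraMap_eq, ← IsScalarTower.algebraMap_apply A P Bf,
          IsScalarTower.algebraMap_apply A B Bf, hβ]
      · intro k
        change ψ₁ (MvPolynomial.map (algebraMap A A₁) (MvPolynomial.X k)) =
          ψ₀ (MvPolynomial.X k)
        rw [MvPolynomial.map_X]
        exact MvPolynomial.eval₂Hom_X' _ _ k
    exact RingHom.congr_fun h0 p
  haveI : IsScalarTower P P₁ S := IsScalarTower.of_algebraMap_eq (fun p => (htow p).symm)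
  haveI : IsLocalization (𝔭.primeCompl.map (MvPolynomial.C (σ := Fin n))) P₁ :=
    MvPolynomial.isLocalization 𝔭.primeCompl A₁
  haveI : Module.Flat P₁ S :=
    (Module.flat_iff_of_isLocalization P₁ (𝔭.primeCompl.map (MvPolynomial.C (σ := Fin n))) S).mpr
      inferInstance
  haveI : Algebra.FormallyUnramified P₁ S := Algebra.FormallyUnramified.of_restrictScalars P P₁ S
  obtain ⟨l₀, hl₀len, hl₀Q, hl₀I⟩ :=
    local_main hQ hquot (A₁ := A₁) (S := S) (C₀ := C₀) n ρS hsurj l hl hkerS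
  refine ⟨l₀, by omega, hl₀Q, ?_⟩
  rw [← hl₀I, hρcomp]
  exact (ker_localRingHom 𝔭 𝔫 (π.comp (algebraMap A B)) h𝔭𝔫 hρ).symm

end Chart

section Main

variable {Q : ∀ (R : Type u) [CommRing R], List R → Prop}

set_option maxHeartbeats 800000 in
/-- key ring-level statement for a general kind -/
theorem isQIdeal_ker_of_smooth (hQ : GoodQ Q) (hquot : QuotAx Q) (A B C : Type u) [CommRing A]
    [CommRing B] [CommRing C] [Algebra A B] [Algebra B C] [Algebra A C] [IsScalarTower A B C]
    [Algebra.Smooth A B] (hBC : Function.Surjective (algebraMap B C))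
    (hJ : IsQIdeal Q (RingHom.ker (algebraMap B C)))
    (hAC : Function.Surjective (algebraMap A C)) :
    IsQIdeal Q (RingHom.ker (algebraMap A C)) := by
  have hρeq : (algebraMap B C).comp (algebraMap A B) = algebraMap A C :=
    (IsScalarTower.algebraMap_eq A B C).symm
  have hJfg : (RingHom.ker (algebraMap B C)).FG := fg_of_isQIdeal hQ _ hJ
  haveI : Algebra.FinitePresentation A B := inferInstance
  haveI hCfp : Algebra.FinitePresentation A C :=
    Algebra.FinitePresentation.of_surjective (f := IsScalarTower.toAlgHom A B C) hBC hJfg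
  have hIfg : (RingHom.ker (algebraMap A C)).FG := by
    have := Algebra.FinitePresentation.ker_fG_of_surjective (Algebra.ofId A C) hAC
    exact this
  intro p hIp
  let 𝔫 : Ideal C := p.asIdeal.map (algebraMap A C)
  haveI h𝔫 : 𝔫.IsPrime := Ideal.map_isPrime_of_surjective hAC hIp
  let 𝔮 : Ideal B := 𝔫.comap (algebraMap B C)
  haveI h𝔮prime : 𝔮.IsPrime := Ideal.comap_isPrime _ _
  have hJ𝔮 : RingHom.ker (algebraMap B C) ≤ 𝔮 := Ideal.ker_le_comap _
  -- smooth structure
  haveI : Algebra.FormallySmooth B (Localization.AtPrime 𝔮) :=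
    Algebra.FormallySmooth.of_isLocalization 𝔮.primeCompl
  haveI : Algebra.IsSmoothAt A 𝔮 := Algebra.FormallySmooth.comp A B (Localization.AtPrime 𝔮)
  obtain ⟨f, hf𝔮, n, alg, tow, hse⟩ :=
    Algebra.IsSmoothAt.exists_isStandardEtale_mvPolynomial (R := A) (S := B) (p := 𝔮)
  obtain ⟨g, hg𝔮, r, hN⟩ := hJ ⟨𝔮, h𝔮prime⟩ hJ𝔮
  obtain ⟨G'', hG''⟩ := hAC (algebraMap B C (f * g))
  have hG''p : G'' ∉ p.asIdeal := by
    intro hmem
    have h1 : algebraMap B C (f * g) ∈ 𝔫 := by
      rw [← hG'']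
      exact Ideal.mem_map_of_mem _ hmem
    have h2 : f * g ∈ 𝔮 := h1
    rcases Ideal.IsPrime.mem_or_mem h𝔮prime h2 with h | h
    · exact hf𝔮 h
    · exact hg𝔮 h
  have key : ∀ (p' : Ideal A) [p'.IsPrime], RingHom.ker (algebraMap A C) ≤ p' → G'' ∉ p' →
      LocLen Q (RingHom.ker (algebraMap A C)) p' (r - n) := by
    intro p' _ hIp' hG''p'
    let 𝔫' : Ideal C := p'.map (algebraMap A C)
    haveI h𝔫' : 𝔫'.IsPrime := Ideal.map_isPrime_of_surjective hAC hIp'
    let 𝔮' : Ideal B := 𝔫'.comap (algebraMap B C)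
    haveI h𝔮'prime : 𝔮'.IsPrime := Ideal.comap_isPrime _ _
    have h𝔫'comap : 𝔫'.comap (algebraMap A C) = p' := by
      rw [Ideal.comap_map_of_surjective _ hAC]
      exact sup_eq_left.mpr hIp'
    have hp'𝔮' : p' = 𝔮'.comap (algebraMap A B) := by
      rw [Ideal.comap_comap, hρeq, h𝔫'comap]
    have hfg𝔮' : f * g ∉ 𝔮' := by
      intro hmem
      have h1 : algebraMap B C (f * g) ∈ 𝔫' := hmem
      rw [← hG''] at h1
      have h2 : G'' ∈ 𝔫'.comap (algebraMap A C) := h1
      rw [h𝔫'comap] at h2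
      exact hG''p' h2
    have hf𝔮' : f ∉ 𝔮' := fun h => hfg𝔮' (Ideal.mul_mem_right _ _ h)
    have hg𝔮' : g ∉ 𝔮' := fun h => hfg𝔮' (Ideal.mul_mem_left _ _ h)
    have hLL : LocLen Q (RingHom.ker (algebraMap B C)) 𝔮' r := IsQNear.locLen hQ hN 𝔮' hg𝔮'
    have h := locLen_of_smooth_chart hQ hquot (algebraMap B C) hBC (by rw [hρeq]; exact hAC) f n
      p' 𝔮' 𝔫' rfl hp'𝔮' hf𝔮' r hLL
    rw [hρeq] at h
    exact h
  obtain ⟨G, hG, hGN⟩ := exists_isQNear_of_locLen hQ (RingHom.ker (algebraMap A C)) hIfg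
    p.asIdeal hIp G'' hG''p (r - n) key
  exact ⟨G, hG, r - n, hGN⟩

end Main

end Groth.Agent.Lib.Helper9.SmQ
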