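import Mathlib
import Groth.Agent.Lib.Helper9.SmQE
import Groth.Agent.Lib.Helper9.SmQB
import Groth.Agent.Lib.Helper1.SmDesc

/-!
# `H_1`-regular and quasi-regular immersions into a smooth scheme descend to the base (helper9)

Scheme-level glue, following helper1's `SmDesc` with the generic ring-level statement of `SmQE`.
-/

set_option autoImplicit false
set_option linter.style.haveILetI false
universe u
open CategoryTheory CategoryTheory.Limits AlgebraicGeometry TopologicalSpace Opposite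
open Groth.Agent.Lib.Helper1

namespace Groth.Agent.Lib.Helper9.SmQ

open Groth.Agent.Lib.Helper9.QDesc

section Main

variable {X V' V : Scheme.{u}} (j : X ⟶ V') (p : V' ⟶ V)

set_option maxHeartbeats 1600000 in
/-- if `j` is an `H_1`-regular (quasi-regular) immersion and `p` is smooth, with `j ≫ p` an
immersion, then `j ≫ p` is an `H_1`-regular (quasi-regular) immersion -/
theorem isRegularImmersion_comp_smooth (k : RegImm.Kind)
    (hk : k = RegImm.Kind.h1 ∨ k = RegImm.Kind.quasi) [Smooth p] [IsImmersion (j ≫ p)]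
    (hj : RegImm.IsRegularImmersion k j) :
    RegImm.IsRegularImmersion k (j ≫ p) := by
  have hQ := goodQ_seq.{u} k hk
  have hquot : QuotAx.{u} (Qk k) := quotAx_seq k hk
  haveI := hj.1
  refine ⟨inferInstance, fun x => ?_⟩
  -- a. chart for `j`
  obtain ⟨⟨U'₀, hU'₀m⟩, hxU'₀, hcl₀, rs, hrs, hker⟩ := hj.2 x
  have hU'₀ : IsAffineOpen U'₀ := hU'₀m
  haveI := hcl₀
  -- b. affine nbhd in `V`
  obtain ⟨_, ⟨VY₀ : V.Opens, hVY₀, rfl⟩, hxVY₀, hVY₀le⟩ :=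
    V.isBasis_affineOpens.exists_subset_of_mem_open
      (ConormMap.mem_coborderRange (j ≫ p) x) (j ≫ p).coborderRange.2
  -- c. basic open of `U'₀` inside `p⁻¹ VY₀`
  have hxp : j x ∈ U'₀ ⊓ p ⁻¹ᵁ VY₀ := ⟨hxU'₀, hxVY₀⟩
  obtain ⟨h, hhle, hxh⟩ := hU'₀.exists_basicOpen_le (V := U'₀ ⊓ p ⁻¹ᵁ VY₀) ⟨j x, hxp⟩ hxU'₀
  have hU₀ : IsAffineOpen (V'.basicOpen h) := hU'₀.basicOpen h
  have hU₀p : V'.basicOpen h ≤ p ⁻¹ᵁ VY₀ := hhle.trans inf_le_right
  -- d. chart on `U₀`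
  obtain ⟨hjU₀, hsU₀, l₀, -, hl₀, hker₀⟩ := seq_basicOpen j k hQ hU'₀ rs hrs hker h
  haveI hclU₀ : IsClosedImmersion (j ∣_ V'.basicOpen h) :=
    RegComp.isClosedImmersion_restrict_of_le j (V'.basicOpen_le h)
  -- e. goodness of `j ≫ p` on `VY₀`
  obtain ⟨hW, hsurj⟩ := ConormMap.good_of_le_coborderRange (j ≫ p) hVY₀ hVY₀le
  have hxW : x ∈ (j ≫ p) ⁻¹ᵁ VY₀ := hxVY₀
  -- f. the element `a'`
  obtain ⟨a, ha1, ha2⟩ := hW.exists_basicOpen_le (V := j ⁻¹ᵁ (V'.basicOpen h)) ⟨x, hxh⟩ hxW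
  obtain ⟨a', rfl⟩ := hsurj a
  have hpre : (j ≫ p) ⁻¹ᵁ (V.basicOpen a') = X.basicOpen ((j ≫ p).app VY₀ a') :=
    Scheme.preimage_basicOpen _ _
  -- g. the pair
  set b := (p.appLE VY₀ (V'.basicOpen h) hU₀p).hom a' with hb
  have hUeq : V'.basicOpen b = V'.basicOpen h ⊓ p ⁻¹ᵁ (V.basicOpen a') := by
    rw [hb, Scheme.Hom.appLE]
    change V'.basicOpen (V'.presheaf.map (homOfLE hU₀p).op (p.app VY₀ a')) = _
    rw [Scheme.basicOpen_res, Scheme.preimage_basicOpen]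
  have hVY : IsAffineOpen (V.basicOpen a') := hVY₀.basicOpen a'
  have hU : IsAffineOpen (V'.basicOpen b) := hU₀.basicOpen b
  have hUp : V'.basicOpen b ≤ p ⁻¹ᵁ (V.basicOpen a') := by rw [hUeq]; exact inf_le_right
  have hVYle : V.basicOpen a' ≤ (j ≫ p).coborderRange := (V.basicOpen_le a').trans hVY₀le
  have hxVY : (j ≫ p) x ∈ V.basicOpen a' := by
    have : x ∈ (j ≫ p) ⁻¹ᵁ (V.basicOpen a') := by rw [hpre]; exact ha2
    exact this
  -- h. chart on `U`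
  obtain ⟨hjU, hsU, l, -, hl, hkerU⟩ := seq_basicOpen j k hQ hU₀ l₀ hl₀ hker₀ b
  -- i. equality of preimages
  have hEq : (j ≫ p) ⁻¹ᵁ (V.basicOpen a') = j ⁻¹ᵁ (V'.basicOpen b) := by
    apply le_antisymm
    · intro z' hz'
      have h1 : z' ∈ X.basicOpen ((j ≫ p).app VY₀ a') := by rw [← hpre]; exact hz'
      have h2 : j z' ∈ V'.basicOpen h := ha1 h1
      change j z' ∈ V'.basicOpen b
      rw [hUeq]
      exact ⟨h2, hz'⟩
    · intro z' hz'
      exact hUp hz'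
  -- goodness of `j ≫ p` on `VY`
  obtain ⟨hWY, hsurjY⟩ := ConormMap.good_of_le_coborderRange (j ≫ p) hVY hVYle
  -- j. the rings
  let φAB : Γ(V, V.basicOpen a') →+* Γ(V', V'.basicOpen b) :=
    (p.appLE (V.basicOpen a') (V'.basicOpen b) hUp).hom
  let φBC : Γ(V', V'.basicOpen b) →+* Γ(X, j ⁻¹ᵁ (V'.basicOpen b)) := (j.app (V'.basicOpen b)).hom
  letI algAB : Algebra Γ(V, V.basicOpen a') Γ(V', V'.basicOpen b) := φAB.toAlgebra
  letI algBC : Algebra Γ(V', V'.basicOpen b) Γ(X, j ⁻¹ᵁ (V'.basicOpen b)) := φBC.toAlgebra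
  letI algAC : Algebra Γ(V, V.basicOpen a') Γ(X, j ⁻¹ᵁ (V'.basicOpen b)) :=
    (φBC.comp φAB).toAlgebra
  haveI tow : IsScalarTower Γ(V, V.basicOpen a') Γ(V', V'.basicOpen b)
      Γ(X, j ⁻¹ᵁ (V'.basicOpen b)) := IsScalarTower.of_algebraMap_eq fun _ => rfl
  haveI hsm : Algebra.Smooth Γ(V, V.basicOpen a') Γ(V', V'.basicOpen b) :=
    p.smooth_appLE hVY hU hUp
  have hBCs : Function.Surjective (algebraMap Γ(V', V'.basicOpen b)
      Γ(X, j ⁻¹ᵁ (V'.basicOpen b))) := hsU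
  have hJ : IsQIdeal (Qk k) (RingHom.ker (algebraMap Γ(V', V'.basicOpen b)
      Γ(X, j ⁻¹ᵁ (V'.basicOpen b)))) := by
    have : RingHom.ker (algebraMap Γ(V', V'.basicOpen b) Γ(X, j ⁻¹ᵁ (V'.basicOpen b))) =
        Ideal.ofList l := hkerU
    rw [this]
    exact isQIdeal_ofList hQ l hl
  -- the composite is `appLE` of `j ≫ p`
  have hle' : j ⁻¹ᵁ (V'.basicOpen b) ≤ (j ≫ p) ⁻¹ᵁ (V.basicOpen a') := hEq.ge
  have hcompAC : (p.appLE (V.basicOpen a') (V'.basicOpen b) hUp) ≫ j.app (V'.basicOpen b) =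
      (j ≫ p).appLE (V.basicOpen a') (j ⁻¹ᵁ (V'.basicOpen b)) hle' := by
    have h1 := Scheme.Hom.appLE_comp_appLE j p (V.basicOpen a') (V'.basicOpen b)
      (j ⁻¹ᵁ (V'.basicOpen b)) hUp le_rfl
    rw [Conorm.appLE_refl] at h1
    exact h1
  have hACs : Function.Surjective (algebraMap Γ(V, V.basicOpen a')
      Γ(X, j ⁻¹ᵁ (V'.basicOpen b))) := by
    have h1 : Function.Surjective ((j ≫ p).appLE (V.basicOpen a') (j ⁻¹ᵁ (V'.basicOpen b)) hle') :=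
      SecSch.appLE_surjective_of_eq (j ≫ p) rfl hEq.symm hle' hsurjY
    rw [← hcompAC] at h1
    exact h1
  have hK := isQIdeal_ker_of_smooth hQ hquot Γ(V, V.basicOpen a')
    Γ(V', V'.basicOpen b) Γ(X, j ⁻¹ᵁ (V'.basicOpen b)) hBCs hJ hACs
  have hkerAC : RingHom.ker (algebraMap Γ(V, V.basicOpen a') Γ(X, j ⁻¹ᵁ (V'.basicOpen b))) =
      RingHom.ker ((j ≫ p).app (V.basicOpen a')).hom := by
    rw [SecSch.ker_app_eq_ker_appLE (j ≫ p) hEq hle', ← hcompAC]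
    rfl
  rw [hkerAC] at hK
  exact isRegularImmersionAt_of_isQIdeal (j ≫ p) k hQ hVY hWY hsurjY hK x hxVY

end Main

end Groth.Agent.Lib.Helper9.SmQ
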