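import Mathlib
import Groth.Prelude
import Groth.Agent.S13112
import Groth.Agent.Lib.Helper4.SemiNormA
import Groth.Agent.Lib.Helper28.SemiNormH
import Groth.Agent.Lib.Helper1.SemiNormH8
import Groth.Agent.Lib.Helper5.SemiNormH3
import Groth.Agent.Lib.Helper5.SemiNormH5
import Groth.Agent.Lib.Helper24.ResEval
set_option backward.isDefEq.respectTransparency.types false
set_option autoImplicit false
universe u
open CategoryTheory CategoryTheory.Limits AlgebraicGeometry TopologicalSpace
open scoped TensorProduct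

/-!
# Descent of sections along proper surjective morphisms onto a seminormal scheme (helper9)
-/

namespace Groth.Agent.Lib.Helper9.SnDesc


theorem main {k : Type u} [Field k] {X Y : Scheme.{u}} (sX : X ⟶ Spec (CommRingCat.of k))
    [LocallyOfFiniteType sX] [QuasiCompact sX] (hX : HTop.IsSeminormal X)
    (π : Y ⟶ X) [IsProper π] [Surjective π] [IsReduced Y]
    (s : Γ(Y, ⊤)) (hs : (pullback.fst π π).appTop s = (pullback.snd π π).appTop s) :
    ∃! t : Γ(X, ⊤), π.appTop t = s := by
  have : IsReduced X := Groth.Agent.Lib.Helper4.SemiNormA.isReduced_of_isSeminormal hX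
  obtain ⟨hfp, hqs⟩ := Groth.Agent.Lib.Helper28.SemiNormH.isProper_imageι_comp_and_surjective_toImage π s
  have hqf : (AffineSpace.homOfVector π (fun _ : PUnit.{u+1} => s)).toImage ≫
      ((AffineSpace.homOfVector π (fun _ : PUnit.{u+1} => s)).imageι ≫
        (𝔸(PUnit.{u+1}; X) ↘ X)) = π := by
    rw [← Category.assoc, Scheme.Hom.toImage_imageι, AffineSpace.homOfVector_over]
  have : UniversallyInjective ((AffineSpace.homOfVector π (fun _ : PUnit.{u+1} => s)).imageι ≫
      (𝔸(PUnit.{u+1}; X) ↘ X)) :=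
    Groth.Agent.Lib.Helper5.SemiNormH5.universallyInjective_of_fst_comp_eq_snd_comp π _ _ hqf (Groth.Agent.Lib.Helper28.SemiNormH.fst_comp_toImage_eq π s hs)
  have hlift : ∀ t : X, ∃ l : Spec (X.residueField t) ⟶
      (AffineSpace.homOfVector π (fun _ : PUnit.{u+1} => s)).image,
      l ≫ ((AffineSpace.homOfVector π (fun _ : PUnit.{u+1} => s)).imageι ≫
        (𝔸(PUnit.{u+1}; X) ↘ X)) = X.fromSpecResidueField t ≫ 𝟙 X := by
    intro t
    obtain ⟨y, rfl⟩ := π.surjective t
    obtain ⟨c, hc⟩ := Groth.Agent.Lib.Helper24.ResEval.exists_evaluation_eq π s hs y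
    obtain ⟨l, hl⟩ := Groth.Agent.Lib.Helper1.SemiNormH8.exists_lift_image π s y c hc
    exact ⟨l, by rw [Category.comp_id]; exact hl⟩
  obtain ⟨h, hh⟩ := Groth.Agent.S13112.result sX
    (((AffineSpace.homOfVector π (fun _ : PUnit.{u+1} => s)).imageι ≫
      (𝔸(PUnit.{u+1}; X) ↘ X)) ≫ sX) sX hX
    ((AffineSpace.homOfVector π (fun _ : PUnit.{u+1} => s)).imageι ≫
      (𝔸(PUnit.{u+1}; X) ↘ X)) rfl (𝟙 X) hlift
  have hπh : π ≫ h = (AffineSpace.homOfVector π (fun _ : PUnit.{u+1} => s)).toImage :=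
    Groth.Agent.Lib.Helper5.SemiNormH3.eq_of_comp_eq_of_universallyInjective
      ((AffineSpace.homOfVector π (fun _ : PUnit.{u+1} => s)).imageι ≫
        (𝔸(PUnit.{u+1}; X) ↘ X)) _ _
      (by rw [Category.assoc, hh, Category.comp_id, hqf])
  have hkey : π.appTop (h.appTop
      ((AffineSpace.homOfVector π (fun _ : PUnit.{u+1} => s)).imageι.appTop
        (AffineSpace.coord X PUnit.unit))) = s := by
    have e1 : (π ≫ h ≫ (AffineSpace.homOfVector π (fun _ : PUnit.{u+1} => s)).imageι) =
        AffineSpace.homOfVector π (fun _ : PUnit.{u+1} => s) := by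
      rw [← Category.assoc, hπh, Scheme.Hom.toImage_imageι]
    have e2 := congrArg (fun g => g.appTop (AffineSpace.coord X PUnit.unit)) e1
    simp only [Scheme.Hom.comp_appTop, CommRingCat.comp_apply] at e2
    rw [e2]
    exact AffineSpace.homOfVector_appTop_coord _ _ _
  refine ⟨_, hkey, ?_⟩
  intro t' ht'
  apply Groth.Agent.Lib.Helper4.SemiNormA.appTop_injective_of_surjective π
  rw [ht', hkey]

end Groth.Agent.Lib.Helper9.SnDesc
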