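import Mathlib
import Groth.Prelude
import Groth.Agent.S13110
import Groth.Agent.Lib.Helper11.SNScheme
import Groth.Agent.Lib.Helper4.SemiNormA
import Groth.Agent.Lib.Helper28.SemiNormH
import Groth.Agent.Lib.Helper1.SemiNormH8
import Groth.Agent.Lib.Helper5.SemiNormH3
import Groth.Agent.Lib.Helper26.SNormG4
import Groth.Agent.Lib.Helper26.SNormG3
import Groth.Agent.Lib.Helper4.SemiNormB
import Groth.Agent.Lib.Helper4.SemiNormC
import Groth.Agent.Lib.Helper20.SN13109
import Groth.Agent.Lib.Helper17.SemiNormG56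
import Groth.Agent.Lib.Helper22.CompleteDVRUp
set_option backward.isDefEq.respectTransparency.types false
set_option autoImplicit false
universe u
open CategoryTheory CategoryTheory.Limits AlgebraicGeometry TopologicalSpace W4c1hilbchowinc

/-!
# Pointwise functions on a seminormal scheme descend along proper surjective maps (helper9)
-/

namespace Groth.Agent.Lib.Helper9.SnPt


/-- A pointwise function on a seminormal scheme whose pullback along a proper surjective morphism
from a reduced scheme is algebraic, is algebraic. -/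
theorem descend_ptfun {X Y : Scheme.{u}} (hX : HTop.IsSeminormal X) (π : Y ⟶ X) [IsProper π]
    [Surjective π] [IsReduced Y] (s : Γ(Y, ⊤)) (f : PtFun X)
    (hsf : PtFun.ofSection Y s = f.pullback π) : ∃ t : Γ(X, ⊤), PtFun.ofSection X t = f := by
  obtain ⟨hfp, hqs⟩ :=
    Groth.Agent.Lib.Helper28.SemiNormH.isProper_imageι_comp_and_surjective_toImage π s
  have hqf : (AffineSpace.homOfVector π (fun _ : PUnit.{u+1} => s)).toImage ≫
      ((AffineSpace.homOfVector π (fun _ : PUnit.{u+1} => s)).imageι ≫
        (𝔸(PUnit.{u+1}; X) ↘ X)) = π := by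
    rw [← Category.assoc, Scheme.Hom.toImage_imageι, AffineSpace.homOfVector_over]
  have hUI : UniversallyInjective ((AffineSpace.homOfVector π (fun _ : PUnit.{u+1} => s)).imageι ≫
      (𝔸(PUnit.{u+1}; X) ↘ X)) :=
    Groth.Agent.Lib.Helper17.SemiNormG56.universallyInjective_of_ptwise π _ _ hqf
      (fun z => Groth.Agent.Lib.Helper17.SemiNormG56.fromSpecResidueField_fst_comp_toImage_eq π s f hsf z)
  have hsurj : Surjective ((AffineSpace.homOfVector π (fun _ : PUnit.{u+1} => s)).imageι ≫
      (𝔸(PUnit.{u+1}; X) ↘ X)) := by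
    have : Surjective ((AffineSpace.homOfVector π (fun _ : PUnit.{u+1} => s)).toImage ≫
      ((AffineSpace.homOfVector π (fun _ : PUnit.{u+1} => s)).imageι ≫
        (𝔸(PUnit.{u+1}; X) ↘ X))) := by rw [hqf]; infer_instance
    exact Surjective.of_comp (AffineSpace.homOfVector π (fun _ : PUnit.{u+1} => s)).toImage _
  have hUH : FlatMor.IsUnivHomeo ((AffineSpace.homOfVector π (fun _ : PUnit.{u+1} => s)).imageι ≫
      (𝔸(PUnit.{u+1}; X) ↘ X)) :=
    (Groth.Agent.Lib.Helper11.UHRing.isUnivHomeo_iff _).mpr ⟨inferInstance, hUI, hsurj⟩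
  have hlift : Groth.Agent.Lib.Helper11.SNScheme.LiftsFieldPoints
      ((AffineSpace.homOfVector π (fun _ : PUnit.{u+1} => s)).imageι ≫
        (𝔸(PUnit.{u+1}; X) ↘ X)) := by
    apply Groth.Agent.Lib.Helper4.SemiNormC.liftsFieldPoints_of_forall_residueField_lift
    intro t
    obtain ⟨y, rfl⟩ := π.surjective t
    exact Groth.Agent.Lib.Helper1.SemiNormH8.exists_lift_image π s y (f (π y))
      (congrFun hsf y).symm
  obtain ⟨h, hh, -⟩ := Groth.Agent.Lib.Helper11.SNScheme.existsUnique_lift_sn hX _ hUH hlift (𝟙 X)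
  have hπh : π ≫ h = (AffineSpace.homOfVector π (fun _ : PUnit.{u+1} => s)).toImage :=
    Groth.Agent.Lib.Helper5.SemiNormH3.eq_of_comp_eq_of_universallyInjective
      ((AffineSpace.homOfVector π (fun _ : PUnit.{u+1} => s)).imageι ≫
        (𝔸(PUnit.{u+1}; X) ↘ X)) _ _
      (by rw [Category.assoc, hh, Category.comp_id, hqf])
  have hkey : π.appTop (h.appTop
      ((AffineSpace.homOfVector π (fun _ : PUnit.{u+1} => s)).imageι.appTop
        (AffineSpace.coord X PUnit.unit))) = s := by
    have e1 : (π ≫ h ≫ (AffineSpace.homOfVector π (fun _ : PUnit.{u+1} => s)).imageι) =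
        AffineSpace.homOfVector π (fun _ : PUnit.{u+1} => s) := by
      rw [← Category.assoc, hπh, Scheme.Hom.toImage_imageι]
    have e2 := congrArg (fun g => g.appTop (AffineSpace.coord X PUnit.unit)) e1
    simp only [Scheme.Hom.comp_appTop, CommRingCat.comp_apply] at e2
    rw [e2]
    exact AffineSpace.homOfVector_appTop_coord _ _ _
  refine ⟨h.appTop
      ((AffineSpace.homOfVector π (fun _ : PUnit.{u+1} => s)).imageι.appTop
        (AffineSpace.coord X PUnit.unit)), Groth.Agent.Lib.Helper20.SN13109.ofSection_eq_of_pullback_eq π _ f ?_⟩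
  rw [hkey]
  exact hsf

theorem main (A : Type u) [CommRing A] [IsNoetherianRing A] (hA : HTop.IsSeminormalRing A)
    (hfin : Module.Finite A (integralClosure A (FractionRing A)))
    (f : PtFun (Spec (CommRingCat.of A))) (hf : f.VariesAlongCompleteDVR) :
    ∃! a : Γ(Spec (CommRingCat.of A), ⊤), PtFun.ofSection (Spec (CommRingCat.of A)) a = f := by
  haveI : IsReduced A := Groth.Agent.Lib.Helper4.SemiNormA.isReduced_of_isSeminormalRing hA
  obtain ⟨hred, hnoeth, hic, hinj⟩ := Groth.Agent.Lib.Helper26.SNormG3.integralClosure_fractionRing_facts A hfin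
  haveI := hred
  haveI := hnoeth
  haveI := hic
  haveI := hfin
  obtain ⟨hπfin, hπsurj⟩ := Groth.Agent.Lib.Helper26.SNormG4.isFinite_surjective_SpecMap_of_finite_injective
    (A := A) (B := integralClosure A (FractionRing A)) hinj
  haveI := hπfin
  haveI := hπsurj
  have hvar : (f.pullback (Spec.map (CommRingCat.ofHom
      (algebraMap A (integralClosure A (FractionRing A)))))).VariesAlongDVR :=
    Groth.Agent.Lib.Helper20.SN13109.variesAlongDVR_pullback _ f (Groth.Agent.Lib.Helper22.CompleteDVRUp.variesAlongDVR_of_variesAlongCompleteDVR f hf)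
  obtain ⟨s, hs, -⟩ := Groth.Agent.S13110.result (integralClosure A (FractionRing A)) _ hvar
  obtain ⟨t, ht⟩ := descend_ptfun (Groth.Agent.Lib.Helper4.SemiNormB.isSeminormal_Spec A hA)
    (Spec.map (CommRingCat.ofHom (algebraMap A (integralClosure A (FractionRing A))))) s f hs
  refine ⟨t, ht, ?_⟩
  intro t' ht'
  exact Groth.Agent.Lib.Helper4.SemiNormB.ofSection_injective (ht'.trans ht.symm)

end Groth.Agent.Lib.Helper9.SnPt
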