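import Mathlib

/-!
# Spreading out from `B_p` to `B_b` (helper9): ring-level lemmas
-/

set_option autoImplicit false
universe u

namespace Groth.Agent.Lib.Helper9.SpreadA

open MvPolynomial

attribute [local instance] MvPolynomial.algebraMvPolynomial

variable {B : Type u} [CommRing B] (p : Ideal B) [p.IsPrime]

/-- canonical map `B_b → B_p` -/
noncomputable def rho (b : B) (hb : b ∉ p) : Localization.Away b →+* Localization.AtPrime p :=
  IsLocalization.Away.lift b (g := algebraMap B (Localization.AtPrime p))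
    (IsLocalization.map_units (Localization.AtPrime p) (⟨b, hb⟩ : p.primeCompl))

theorem rho_algebraMap (b : B) (hb : b ∉ p) (x : B) :
    rho p b hb (algebraMap B _ x) = algebraMap B _ x :=
  IsLocalization.Away.lift_eq _ _ _

theorem rho_comp (b : B) (hb : b ∉ p) :
    (rho p b hb).comp (algebraMap B (Localization.Away b)) = algebraMap B _ :=
  RingHom.ext (rho_algebraMap p b hb)

theorem isUnit_of_dvd (b b' : B) (h : b ∣ b') :
    IsUnit (algebraMap B (Localization.Away b') b) :=
  isUnit_of_dvd_unit (map_dvd _ h) (IsLocalization.Away.algebraMap_isUnit b')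

/-- transition map `B_b → B_b'` for `b ∣ b'` -/
noncomputable def tau (b b' : B) (h : b ∣ b') : Localization.Away b →+* Localization.Away b' :=
  IsLocalization.Away.lift b (g := algebraMap B (Localization.Away b')) (isUnit_of_dvd b b' h)

theorem tau_algebraMap (b b' : B) (h : b ∣ b') (x : B) :
    tau b b' h (algebraMap B _ x) = algebraMap B _ x :=
  IsLocalization.Away.lift_eq _ _ _

theorem tau_comp (b b' : B) (h : b ∣ b') :
    (tau b b' h).comp (algebraMap B (Localization.Away b)) = algebraMap B _ :=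
  RingHom.ext (tau_algebraMap b b' h)

theorem rho_comp_tau (b b' : B) (h : b ∣ b') (hb : b ∉ p) (hb' : b' ∉ p) :
    (rho p b' hb').comp (tau b b' h) = rho p b hb := by
  apply IsLocalization.ringHom_ext (Submonoid.powers b)
  rw [RingHom.comp_assoc, tau_comp, rho_comp, rho_comp]

theorem rho_tau (b b' : B) (h : b ∣ b') (hb : b ∉ p) (hb' : b' ∉ p) (x : Localization.Away b) :
    rho p b' hb' (tau b b' h x) = rho p b hb x :=
  RingHom.congr_fun (rho_comp_tau p b b' h hb hb') x

/-- lifting a finite family of polynomials over `B_p` to some `B_b`, with `b` a multiple of `b₀` -/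
theorem lift_polys {σ : Type*} {ι : Type*} [Fintype ι] (b₀ : B) (hb₀ : b₀ ∉ p)
    (F : ι → MvPolynomial σ (Localization.AtPrime p)) :
    ∃ (b : B) (hb : b ∉ p) (_ : b₀ ∣ b) (F' : ι → MvPolynomial σ (Localization.Away b)),
      ∀ j, MvPolynomial.map (rho p b hb) (F' j) = F j := by
  classical
  have h1 : ∀ j, ∃ (G : MvPolynomial σ B) (m : B), m ∈ p.primeCompl ∧
      F j * C (algebraMap B _ m) = MvPolynomial.map (algebraMap B _) G := by
    intro j
    obtain ⟨⟨G, ⟨_, m, hm, rfl⟩⟩, hG⟩ :=
      IsLocalization.surj (Submonoid.map (C : B →+* MvPolynomial σ B) p.primeCompl) (F j)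
    refine ⟨G, m, hm, ?_⟩
    simp only [MvPolynomial.algebraMap_def, MvPolynomial.map_C] at hG
    exact hG
  choose G m hm hG using h1
  obtain ⟨b, hbdef⟩ : ∃ b, b = b₀ * ∏ j, m j := ⟨_, rfl⟩
  have hb : b ∉ p := by
    rw [hbdef]
    have h2 : ∏ j, m j ∈ p.primeCompl := Submonoid.prod_mem _ (fun j _ => hm j)
    exact p.primeCompl.mul_mem (show b₀ ∈ p.primeCompl from hb₀) h2
  have hu : ∀ j, IsUnit (algebraMap B (Localization.Away b) (m j)) := by
    intro j
    apply isUnit_of_dvd
    rw [hbdef]
    exact Dvd.dvd.mul_left (Finset.dvd_prod_of_mem _ (Finset.mem_univ j)) _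
  refine ⟨b, hb, ⟨_, hbdef⟩, fun j => C ((↑((hu j).unit⁻¹) : Localization.Away b)) * MvPolynomial.map (algebraMap B _) (G j), ?_⟩
  intro j
  rw [map_mul, MvPolynomial.map_C, MvPolynomial.map_map, rho_comp, ← hG j, mul_comm, mul_assoc,
    ← C_mul, ← rho_algebraMap p b hb (m j), ← map_mul]
  have : algebraMap B (Localization.Away b) (m j) * ↑(hu j).unit⁻¹ = 1 := by
    exact (hu j).mul_val_inv
  rw [this, map_one, C_1, mul_one]

/-- killing a finite family of polynomials over `B_b` vanishing over `B_p` -/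
theorem kill_polys {σ : Type*} {ι : Type*} [Fintype ι] (b : B) (hb : b ∉ p)
    (E : ι → MvPolynomial σ (Localization.Away b))
    (hE : ∀ j, MvPolynomial.map (rho p b hb) (E j) = 0) :
    ∃ (b' : B) (_ : b' ∉ p) (h : b ∣ b'), ∀ j, MvPolynomial.map (tau b b' h) (E j) = 0 := by
  classical
  have h1 : ∀ j, ∃ (G : MvPolynomial σ B) (n : ℕ) (c : B), c ∈ p.primeCompl ∧
      E j * C (algebraMap B _ (b ^ n)) = MvPolynomial.map (algebraMap B _) G ∧ C c * G = 0 := by
    intro j
    obtain ⟨⟨G, ⟨_, _, ⟨n, rfl⟩, rfl⟩⟩, hG⟩ :=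
      IsLocalization.surj (Submonoid.map (C : B →+* MvPolynomial σ B) (Submonoid.powers b)) (E j)
    have hG' : E j * C (algebraMap B _ (b ^ n)) = MvPolynomial.map (algebraMap B _) G := by
      simp only [MvPolynomial.algebraMap_def, MvPolynomial.map_C] at hG
      exact hG
    have h2 : MvPolynomial.map (algebraMap B (Localization.AtPrime p)) G = 0 := by
      rw [← rho_comp p b hb, ← MvPolynomial.map_map, ← hG', map_mul, hE j, zero_mul]
    have h3 : algebraMap (MvPolynomial σ B) (MvPolynomial σ (Localization.AtPrime p)) G = 0 := by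
      rw [MvPolynomial.algebraMap_def]; exact h2
    obtain ⟨⟨_, c, hc, rfl⟩, hc2⟩ :=
      (IsLocalization.map_eq_zero_iff (Submonoid.map (C : B →+* MvPolynomial σ B) p.primeCompl)
        (MvPolynomial σ (Localization.AtPrime p)) G).mp h3
    exact ⟨G, n, c, hc, hG', hc2⟩
  choose G n c hc hG hcG using h1
  obtain ⟨b', hb'def⟩ : ∃ b', b' = b * ∏ j, c j := ⟨_, rfl⟩
  have hb' : b' ∉ p := by
    rw [hb'def]
    have h2 : ∏ j, c j ∈ p.primeCompl := Submonoid.prod_mem _ (fun j _ => hc j)
    exact p.primeCompl.mul_mem (show b ∈ p.primeCompl from hb) h2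
  have hdiv : b ∣ b' := ⟨_, hb'def⟩
  refine ⟨b', hb', hdiv, fun j => ?_⟩
  have hcu : IsUnit (algebraMap B (Localization.Away b') (c j)) := by
    apply isUnit_of_dvd
    rw [hb'def]
    exact Dvd.dvd.mul_left (Finset.dvd_prod_of_mem _ (Finset.mem_univ j)) _
  have hbu : IsUnit (algebraMap B (Localization.Away b') (b ^ n j)) := by
    rw [map_pow]; exact (isUnit_of_dvd b b' hdiv).pow _
  have h4 : MvPolynomial.map (algebraMap B (Localization.Away b')) (G j) = 0 := by
    have h5 := congrArg (MvPolynomial.map (algebraMap B (Localization.Away b'))) (hcG j)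
    rw [map_mul, MvPolynomial.map_C, map_zero] at h5
    have h6 : IsUnit (C (σ := σ) (algebraMap B (Localization.Away b') (c j))) := hcu.map C
    exact (h6.mul_right_eq_zero).mp h5
  have h7 := congrArg (MvPolynomial.map (tau b b' hdiv)) (hG j)
  rw [map_mul, MvPolynomial.map_C, tau_algebraMap, MvPolynomial.map_map, tau_comp, h4] at h7
  have h8 : IsUnit (C (σ := σ) (algebraMap B (Localization.Away b') (b ^ n j))) := hbu.map C
  exact (h8.mul_left_eq_zero).mp h7

/-- denominators of a polynomial over `B_p` -/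
theorem poly_denom {σ : Type*} (F : MvPolynomial σ (Localization.AtPrime p)) :
    ∃ (G : MvPolynomial σ B) (m : B), m ∈ p.primeCompl ∧
      F * C (algebraMap B _ m) = MvPolynomial.map (algebraMap B _) G := by
  obtain ⟨⟨G, ⟨_, m, hm, rfl⟩⟩, hG⟩ :=
    IsLocalization.surj (Submonoid.map (C : B →+* MvPolynomial σ B) p.primeCompl) F
  refine ⟨G, m, hm, ?_⟩
  simp only [MvPolynomial.algebraMap_def, MvPolynomial.map_C] at hG
  exact hG

end Groth.Agent.Lib.Helper9.SpreadA
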