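import Mathlib

/-!
# Descent of matrix data along a localization-like map (helper9)
-/

set_option autoImplicit false
universe u w w'

namespace Groth.Agent.Lib.Helper9.SpreadM

open Matrix

variable {B : Type u} [CommRing B] (M : Submonoid B)

theorem common_denom {T₀ Tp : Type w} [CommRing T₀] [CommRing Tp] [Algebra B T₀] [Algebra B Tp]
    (Ψ : T₀ →+* Tp) (hΨB : ∀ b, Ψ (algebraMap B T₀ b) = algebraMap B Tp b)
    (hsurj : ∀ y : Tp, ∃ (m : B) (x : T₀), m ∈ M ∧ algebraMap B Tp m * y = Ψ x)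
    {ι : Type*} [Fintype ι] (y : ι → Tp) :
    ∃ (m : B) (x : ι → T₀), m ∈ M ∧ ∀ j, algebraMap B Tp m * y j = Ψ (x j) := by
  classical
  choose m' x' hm' hx' using fun j => hsurj (y j)
  refine ⟨∏ j, m' j, fun j => algebraMap B T₀ (∏ k ∈ Finset.univ.erase j, m' k) * x' j,
    Submonoid.prod_mem _ (fun j _ => hm' j), fun j => ?_⟩
  rw [map_mul, hΨB, ← hx' j, ← mul_assoc, ← map_mul,
    Finset.prod_erase_mul _ _ (Finset.mem_univ j)]

theorem common_kill {T₀ Tp : Type w} [CommRing T₀] [CommRing Tp] [Algebra B T₀]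
    (Ψ : T₀ →+* Tp)
    (hinj : ∀ x : T₀, Ψ x = 0 → ∃ c : B, c ∈ M ∧ algebraMap B T₀ c * x = 0)
    {ι : Type*} [Fintype ι] (x : ι → T₀) (hx : ∀ j, Ψ (x j) = 0) :
    ∃ c : B, c ∈ M ∧ ∀ j, algebraMap B T₀ c * x j = 0 := by
  classical
  choose c' hc' hcx using fun j => hinj (x j) (hx j)
  refine ⟨∏ j, c' j, Submonoid.prod_mem _ (fun j _ => hc' j), fun j => ?_⟩
  rw [← Finset.prod_erase_mul _ _ (Finset.mem_univ j), map_mul, mul_assoc, hcx j, mul_zero]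

theorem descend {n : ℕ} {T₀ Tp : Type w} [CommRing T₀] [CommRing Tp] [Algebra B T₀] [Algebra B Tp]
    (Ψ : T₀ →+* Tp) (hΨB : ∀ b, Ψ (algebraMap B T₀ b) = algebraMap B Tp b)
    (hsurj : ∀ y : Tp, ∃ (m : B) (x : T₀), m ∈ M ∧ algebraMap B Tp m * y = Ψ x)
    (hinj : ∀ x : T₀, Ψ x = 0 → ∃ c : B, c ∈ M ∧ algebraMap B T₀ c * x = 0)
    (σ₀ : T₀ →+* T₀) (σp : Tp →+* Tp) (hσ : ∀ x, σp (Ψ x) = Ψ (σ₀ x))
    (hσpB : ∀ b : B, σp (algebraMap B Tp b) = algebraMap B Tp b)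
    (h₀ h₀' : Matrix (Fin n) (Fin n) T₀)
    (v : Matrix (Fin n) (Fin n) Tp) (hv : IsUnit v)
    (heq : (v.map σp)ᵀ * h₀.map Ψ * v = h₀'.map Ψ) :
    ∃ c : B, c ∈ M ∧ ∀ (T' : Type w') [CommRing T'] [Algebra B T'] (Θ : T₀ →+* T')
      (σ' : T' →+* T'),
      (∀ b, Θ (algebraMap B T₀ b) = algebraMap B T' b) →
      (∀ x, σ' (Θ x) = Θ (σ₀ x)) → (∀ b : B, σ' (algebraMap B T' b) = algebraMap B T' b) →
      IsUnit (algebraMap B T' c) →
      ∃ v' : Matrix (Fin n) (Fin n) T', IsUnit v' ∧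
        (v'.map σ')ᵀ * h₀.map Θ * v' = h₀'.map Θ := by
  classical
  obtain ⟨u, rfl⟩ := hv
  obtain ⟨m, x, hm, hx⟩ := common_denom M Ψ hΨB hsurj
    (ι := (Fin n × Fin n) ⊕ (Fin n × Fin n))
    (fun j => Sum.elim (fun ab => (u : Matrix (Fin n) (Fin n) Tp) ab.1 ab.2)
      (fun ab => (↑u⁻¹ : Matrix (Fin n) (Fin n) Tp) ab.1 ab.2) j)
  obtain ⟨V, hVdef⟩ : ∃ V : Matrix (Fin n) (Fin n) T₀, V = Matrix.of fun a b => x (Sum.inl (a, b)) :=
    ⟨_, rfl⟩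
  obtain ⟨W, hWdef⟩ : ∃ W : Matrix (Fin n) (Fin n) T₀, W = Matrix.of fun a b => x (Sum.inr (a, b)) :=
    ⟨_, rfl⟩
  obtain ⟨μp, hμp⟩ : ∃ μp, μp = algebraMap B Tp m := ⟨_, rfl⟩
  obtain ⟨μ₀, hμ₀⟩ : ∃ μ₀, μ₀ = algebraMap B T₀ m := ⟨_, rfl⟩
  have hΨμ : Ψ μ₀ = μp := by rw [hμ₀, hμp, hΨB]
  have hV : V.map Ψ = μp • (u : Matrix (Fin n) (Fin n) Tp) := by
    ext a b
    have := hx (Sum.inl (a, b))
    simp only [Sum.elim_inl] at this
    simp only [Matrix.map_apply, Matrix.smul_apply, hVdef, Matrix.of_apply, smul_eq_mul, hμp]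
    exact this.symm
  have hW : W.map Ψ = μp • (↑u⁻¹ : Matrix (Fin n) (Fin n) Tp) := by
    ext a b
    have := hx (Sum.inr (a, b))
    simp only [Sum.elim_inr] at this
    simp only [Matrix.map_apply, Matrix.smul_apply, hWdef, Matrix.of_apply, smul_eq_mul, hμp]
    exact this.symm
  obtain ⟨D₁, hD₁def⟩ : ∃ D₁ : Matrix (Fin n) (Fin n) T₀,
      D₁ = V * W - (μ₀ ^ 2) • (1 : Matrix (Fin n) (Fin n) T₀) := ⟨_, rfl⟩
  obtain ⟨D₂, hD₂def⟩ : ∃ D₂ : Matrix (Fin n) (Fin n) T₀,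
      D₂ = (V.map σ₀)ᵀ * h₀ * V - (μ₀ ^ 2) • h₀' := ⟨_, rfl⟩
  have hσμ : σp μp = μp := by rw [hμp, hσpB]
  have hD₁ : D₁.map Ψ = 0 := by
    rw [hD₁def, Matrix.map_sub _ (map_sub Ψ), Matrix.map_mul, hV, hW,
      Matrix.map_smul' _ _ _ (map_mul Ψ), Matrix.map_one _ (map_zero Ψ) (map_one Ψ), map_pow, hΨμ,
      Matrix.smul_mul, Matrix.mul_smul, smul_smul, Units.mul_inv, pow_two, sub_self]
  have hD₂ : D₂.map Ψ = 0 := by
    have e1 : ((V.map σ₀)ᵀ).map Ψ = μp • ((u : Matrix (Fin n) (Fin n) Tp).map σp)ᵀ := by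
      ext a b
      have h1 := congrFun (congrFun hV b) a
      simp only [Matrix.map_apply, Matrix.smul_apply, smul_eq_mul] at h1
      simp only [Matrix.map_apply, Matrix.transpose_apply, Matrix.smul_apply, smul_eq_mul]
      rw [← hσ, h1, map_mul, hσμ]
    rw [hD₂def, Matrix.map_sub _ (map_sub Ψ), Matrix.map_mul, Matrix.map_mul, e1, hV,
      Matrix.map_smul' _ _ _ (map_mul Ψ), map_pow, hΨμ,
      Matrix.smul_mul, Matrix.smul_mul, Matrix.mul_smul, smul_smul, heq, pow_two, sub_self]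
  obtain ⟨c, hc, hkill⟩ := common_kill M Ψ hinj
    (ι := (Fin n × Fin n) ⊕ (Fin n × Fin n))
    (fun j => Sum.elim (fun ab => D₁ ab.1 ab.2) (fun ab => D₂ ab.1 ab.2) j)
    (by
      rintro (⟨a, b⟩ | ⟨a, b⟩)
      · have := congrFun (congrFun hD₁ a) b
        simpa using this
      · have := congrFun (congrFun hD₂ a) b
        simpa using this)
  refine ⟨m * c, M.mul_mem hm hc, ?_⟩
  intro T' _ _ Θ σ' hΘB hσ' hσ'B hunit
  rw [map_mul] at hunit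
  have hμu : IsUnit (algebraMap B T' m) := isUnit_of_mul_isUnit_left hunit
  have hcu : IsUnit (algebraMap B T' c) := isUnit_of_mul_isUnit_right hunit
  obtain ⟨μ, hμ⟩ : ∃ μ, μ = algebraMap B T' m := ⟨_, rfl⟩
  rw [← hμ] at hμu
  have hΘμ : Θ μ₀ = μ := by rw [hμ₀, hμ, hΘB]
  obtain ⟨ν, hν⟩ : ∃ ν : T', ν * μ = 1 := ⟨↑hμu.unit⁻¹, hμu.val_inv_mul⟩
  have hσμ' : σ' μ = μ := by rw [hμ, hσ'B]
  have hσν : σ' ν = ν := by
    have h1 : σ' ν * μ = 1 := by rw [← hσμ', ← map_mul, hν, map_one]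
    calc σ' ν = σ' ν * (μ * ν) := by rw [mul_comm μ ν, hν, mul_one]
      _ = (σ' ν * μ) * ν := by ring
      _ = ν := by rw [h1, one_mul]
  have hΘD₁ : D₁.map Θ = 0 := by
    ext a b
    have h1 := hkill (Sum.inl (a, b))
    simp only [Sum.elim_inl] at h1
    have h2 := congrArg Θ h1
    rw [map_mul, hΘB, map_zero] at h2
    simp only [Matrix.map_apply, Matrix.zero_apply]
    exact (hcu.mul_right_eq_zero).mp h2
  have hΘD₂ : D₂.map Θ = 0 := by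
    ext a b
    have h1 := hkill (Sum.inr (a, b))
    simp only [Sum.elim_inr] at h1
    have h2 := congrArg Θ h1
    rw [map_mul, hΘB, map_zero] at h2
    simp only [Matrix.map_apply, Matrix.zero_apply]
    exact (hcu.mul_right_eq_zero).mp h2
  have hVW : V.map Θ * W.map Θ = (μ ^ 2) • (1 : Matrix (Fin n) (Fin n) T') := by
    rw [hD₁def, Matrix.map_sub _ (map_sub Θ), Matrix.map_mul,
      Matrix.map_smul' _ _ _ (map_mul Θ), Matrix.map_one _ (map_zero Θ) (map_one Θ), map_pow, hΘμ,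
      sub_eq_zero] at hΘD₁
    exact hΘD₁
  have hherm : ((V.map Θ).map σ')ᵀ * h₀.map Θ * V.map Θ = (μ ^ 2) • h₀'.map Θ := by
    have e1 : ((V.map σ₀)ᵀ).map Θ = ((V.map Θ).map σ')ᵀ := by
      ext a b
      simp only [Matrix.map_apply, Matrix.transpose_apply]
      rw [hσ']
    rw [hD₂def, Matrix.map_sub _ (map_sub Θ), Matrix.map_mul, Matrix.map_mul, e1,
      Matrix.map_smul' _ _ _ (map_mul Θ), map_pow, hΘμ, sub_eq_zero] at hΘD₂
    exact hΘD₂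
  have hν2 : ν * ν * μ ^ 2 = 1 := by
    calc ν * ν * μ ^ 2 = (ν * μ) * (ν * μ) := by ring
      _ = 1 := by rw [hν, one_mul]
  refine ⟨ν • V.map Θ, ?_, ?_⟩
  · have h1 : (ν • V.map Θ) * (ν • W.map Θ) = 1 := by
      rw [Matrix.smul_mul, Matrix.mul_smul, smul_smul, hVW, smul_smul, hν2, one_smul]
    rw [Matrix.isUnit_iff_isUnit_det]
    have h2 := congrArg Matrix.det h1
    rw [Matrix.det_mul, Matrix.det_one] at h2
    exact IsUnit.of_mul_eq_one _ h2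
  · rw [Matrix.map_smul' _ _ _ (map_mul σ'), hσν, Matrix.transpose_smul, Matrix.smul_mul,
      Matrix.smul_mul, Matrix.mul_smul, smul_smul, hherm, smul_smul, hν2, one_smul]

end Groth.Agent.Lib.Helper9.SpreadM
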