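import Mathlib
import Groth.Agent.Lib.Helper9.SpreadA

/-!
# Spreading out: the quadratic algebras `R[X_k]/(X_k^2 - s_k)` (helper9)
-/

set_option autoImplicit false
universe u

namespace Groth.Agent.Lib.Helper9.SpreadQ

open MvPolynomial Groth.Agent.Lib.Helper9.SpreadA

noncomputable abbrev QI (R : Type u) [CommRing R] (l : ℕ) (s : Fin l → R) :
    Ideal (MvPolynomial (Fin l) R) :=
  Ideal.span (Set.range fun k : Fin l => X k ^ 2 - C (s k))

noncomputable abbrev Q (R : Type u) [CommRing R] (l : ℕ) (s : Fin l → R) :=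
  MvPolynomial (Fin l) R ⧸ QI R l s

noncomputable def Qmap {R R' : Type u} [CommRing R] [CommRing R'] (φ : R →+* R') {l : ℕ}
    (s : Fin l → R) (s' : Fin l → R') (hs : ∀ k, φ (s k) = s' k) : Q R l s →+* Q R' l s' :=
  Ideal.quotientMap (QI R' l s') (MvPolynomial.map φ) (by
    rw [Ideal.span_le]
    rintro _ ⟨k, rfl⟩
    show MvPolynomial.map φ _ ∈ QI R' l s'
    simp only [map_sub, map_pow, MvPolynomial.map_X, MvPolynomial.map_C, hs]
    exact Ideal.subset_span ⟨k, rfl⟩)

theorem Qmap_mk {R R' : Type u} [CommRing R] [CommRing R'] (φ : R →+* R') {l : ℕ}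
    (s : Fin l → R) (s' : Fin l → R') (hs : ∀ k, φ (s k) = s' k) (F : MvPolynomial (Fin l) R) :
    Qmap φ s s' hs (Ideal.Quotient.mk _ F) = Ideal.Quotient.mk _ (MvPolynomial.map φ F) :=
  Ideal.quotientMap_mk

theorem stage1 {B : Type u} [CommRing B] (p : Ideal B) [p.IsPrime] {l r : ℕ}
    (s : Fin l → (Localization.AtPrime p)ˣ)
    (f : Fin r → Q (Localization.AtPrime p) l (fun k => (s k : Localization.AtPrime p)))
    (hspan : Ideal.span (Set.range f) = ⊤) :
    ∃ (b : B) (hb : b ∉ p) (s' : Fin l → (Localization.Away b)ˣ)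
      (hs : ∀ k, rho p b hb (s' k : Localization.Away b) = (s k : Localization.AtPrime p))
      (f' : Fin r → Q (Localization.Away b) l (fun k => (s' k : Localization.Away b))),
      (∀ i, Qmap (rho p b hb) _ _ hs (f' i) = f i) ∧ Ideal.span (Set.range f') = ⊤ := by
  classical
  have hF : ∀ i, ∃ F : MvPolynomial (Fin l) (Localization.AtPrime p),
      Ideal.Quotient.mk (QI (Localization.AtPrime p) l (fun k => (s k : Localization.AtPrime p))) F = f i :=
    fun i => Ideal.Quotient.mk_surjective _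
  choose F hF using hF
  have h1 : (1 : Q (Localization.AtPrime p) l (fun k => (s k : Localization.AtPrime p))) ∈
      Ideal.span (Set.range f) := by rw [hspan]; trivial
  obtain ⟨g, hg⟩ := (Ideal.mem_span_range_iff_exists_fun).mp h1
  have hG : ∀ i, ∃ G : MvPolynomial (Fin l) (Localization.AtPrime p),
      Ideal.Quotient.mk (QI (Localization.AtPrime p) l (fun k => (s k : Localization.AtPrime p))) G = g i :=
    fun i => Ideal.Quotient.mk_surjective _
  choose G hG using hG
  have h2 : (∑ i, G i * F i) - 1 ∈ QI (Localization.AtPrime p) l (fun k => (s k : Localization.AtPrime p)) := by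
    rw [← Ideal.Quotient.eq_zero_iff_mem, map_sub, map_sum, map_one]
    simp only [map_mul, hG, hF]
    rw [hg, sub_self]
  obtain ⟨H, hH⟩ := (Ideal.mem_span_range_iff_exists_fun).mp h2
  have h1p : (1 : B) ∉ p := (Ideal.ne_top_iff_one p).mp (Ideal.IsPrime.ne_top inferInstance)
  obtain ⟨b₁, hb₁, -, Φ, hΦ⟩ := lift_polys p 1 h1p
    (ι := Fin r ⊕ Fin r ⊕ Fin l ⊕ Fin l ⊕ Fin l)
    (Sum.elim F (Sum.elim G (Sum.elim H (Sum.elim (fun k => C (s k : Localization.AtPrime p))
      (fun k => C (((s k)⁻¹ : (Localization.AtPrime p)ˣ) : Localization.AtPrime p))))))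
  obtain ⟨F1, hF1⟩ : ∃ F1 : Fin r → MvPolynomial (Fin l) (Localization.Away b₁),
      F1 = fun i => Φ (Sum.inl i) := ⟨_, rfl⟩
  obtain ⟨G1, hG1⟩ : ∃ G1 : Fin r → MvPolynomial (Fin l) (Localization.Away b₁),
      G1 = fun i => Φ (Sum.inr (Sum.inl i)) := ⟨_, rfl⟩
  obtain ⟨H1, hH1⟩ : ∃ H1 : Fin l → MvPolynomial (Fin l) (Localization.Away b₁),
      H1 = fun k => Φ (Sum.inr (Sum.inr (Sum.inl k))) := ⟨_, rfl⟩
  obtain ⟨s1, hs1⟩ : ∃ s1 : Fin l → Localization.Away b₁,
      s1 = fun k => constantCoeff (Φ (Sum.inr (Sum.inr (Sum.inr (Sum.inl k))))) := ⟨_, rfl⟩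
  obtain ⟨t1, ht1⟩ : ∃ t1 : Fin l → Localization.Away b₁,
      t1 = fun k => constantCoeff (Φ (Sum.inr (Sum.inr (Sum.inr (Sum.inr k))))) := ⟨_, rfl⟩
  have eF : ∀ i, MvPolynomial.map (rho p b₁ hb₁) (F1 i) = F i := by
    intro i; rw [hF1]; exact hΦ (Sum.inl i)
  have eG : ∀ i, MvPolynomial.map (rho p b₁ hb₁) (G1 i) = G i := by
    intro i; rw [hG1]; exact hΦ (Sum.inr (Sum.inl i))
  have eH : ∀ k, MvPolynomial.map (rho p b₁ hb₁) (H1 k) = H k := by
    intro k; rw [hH1]; exact hΦ (Sum.inr (Sum.inr (Sum.inl k)))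
  have es : ∀ k, rho p b₁ hb₁ (s1 k) = (s k : Localization.AtPrime p) := by
    intro k
    rw [hs1]
    have := hΦ (Sum.inr (Sum.inr (Sum.inr (Sum.inl k))))
    simp only [Sum.elim_inr, Sum.elim_inl] at this
    show rho p b₁ hb₁ (constantCoeff _) = _
    rw [← MvPolynomial.constantCoeff_map, this, constantCoeff_C]
  have et : ∀ k, rho p b₁ hb₁ (t1 k) = (((s k)⁻¹ : (Localization.AtPrime p)ˣ) : Localization.AtPrime p) := by
    intro k
    rw [ht1]
    have := hΦ (Sum.inr (Sum.inr (Sum.inr (Sum.inr k))))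
    simp only [Sum.elim_inr] at this
    show rho p b₁ hb₁ (constantCoeff _) = _
    rw [← MvPolynomial.constantCoeff_map, this, constantCoeff_C]
  -- defects
  obtain ⟨E, hE⟩ : ∃ E : Unit ⊕ Fin l → MvPolynomial (Fin l) (Localization.Away b₁),
      E = Sum.elim (fun _ => (∑ i, G1 i * F1 i) - 1 - ∑ k, H1 k * (X k ^ 2 - C (s1 k)))
        (fun k => C (s1 k * t1 k - 1)) := ⟨_, rfl⟩
  have hE0 : ∀ j, MvPolynomial.map (rho p b₁ hb₁) (E j) = 0 := by
    rintro (_ | k)
    · rw [hE]
      simp only [Sum.elim_inl, map_sub, map_sum, map_mul, map_one, map_pow, MvPolynomial.map_X,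
        MvPolynomial.map_C, eF, eG, eH, es]
      rw [hH, sub_self]
    · rw [hE]
      simp only [Sum.elim_inr, MvPolynomial.map_C, map_sub, map_mul, map_one, es, et]
      rw [← C_mul, Units.mul_inv, C_1, sub_self]
  obtain ⟨b', hb', hdiv, hkill⟩ := kill_polys p b₁ hb₁ E hE0
  have hst : ∀ k, tau b₁ b' hdiv (s1 k) * tau b₁ b' hdiv (t1 k) = 1 := by
    intro k
    have h3 := hkill (Sum.inr k)
    rw [hE] at h3
    simp only [Sum.elim_inr, MvPolynomial.map_C] at h3
    have h4 := (MvPolynomial.C_eq_zero (σ := Fin l)).mp h3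
    rw [map_sub, map_mul, map_one, sub_eq_zero] at h4
    exact h4
  refine ⟨b', hb', fun k => Units.mkOfMulEqOne _ _ (hst k), fun k => ?_,
    fun i => Ideal.Quotient.mk _ (MvPolynomial.map (tau b₁ b' hdiv) (F1 i)), ?_, ?_⟩
  · show rho p b' hb' (tau b₁ b' hdiv (s1 k)) = _
    rw [rho_tau p b₁ b' hdiv hb₁ hb', es]
  · intro i
    rw [Qmap_mk, MvPolynomial.map_map, rho_comp_tau p b₁ b' hdiv hb₁ hb', eF, hF]
  · rw [Ideal.eq_top_iff_one, Ideal.mem_span_range_iff_exists_fun]
    refine ⟨fun i => Ideal.Quotient.mk _ (MvPolynomial.map (tau b₁ b' hdiv) (G1 i)), ?_⟩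
    have h3 := hkill (Sum.inl ())
    rw [hE] at h3
    simp only [Sum.elim_inl, map_sub, map_sum, map_mul, map_one, map_pow, MvPolynomial.map_X,
      MvPolynomial.map_C] at h3
    have h4 := congrArg (Ideal.Quotient.mk (QI (Localization.Away b') l
      (fun k => ((Units.mkOfMulEqOne _ _ (hst k) : (Localization.Away b')ˣ) : Localization.Away b')))) h3
    rw [map_sub, map_sub, map_sum, map_sum, map_one, map_zero] at h4
    have h5 : ∀ k, Ideal.Quotient.mk (QI (Localization.Away b') l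
        (fun k => ((Units.mkOfMulEqOne _ _ (hst k) : (Localization.Away b')ˣ) : Localization.Away b')))
        ((MvPolynomial.map (tau b₁ b' hdiv) (H1 k)) * (X k ^ 2 - C (tau b₁ b' hdiv (s1 k)))) = 0 := by
      intro k
      rw [map_mul]
      have : Ideal.Quotient.mk (QI (Localization.Away b') l
        (fun k => ((Units.mkOfMulEqOne _ _ (hst k) : (Localization.Away b')ˣ) : Localization.Away b')))
          (X k ^ 2 - C (tau b₁ b' hdiv (s1 k))) = 0 := by
        rw [Ideal.Quotient.eq_zero_iff_mem]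
        exact Ideal.subset_span ⟨k, rfl⟩
      rw [this, mul_zero]
    rw [Finset.sum_congr rfl (fun k _ => h5 k), Finset.sum_const_zero, sub_zero, sub_eq_zero] at h4
    rw [← h4]
    exact Finset.sum_congr rfl (fun i _ => (map_mul _ _ _).symm)

end Groth.Agent.Lib.Helper9.SpreadQ
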