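import Mathlib
import Groth.Agent.Lib.Helper9.SpreadA
import Groth.Agent.Lib.Helper9.SpreadQ
import Groth.Agent.Lib.Helper9.SpreadM

/-!
# Spreading out: the localized model `M⁻¹ (Q₀)_{f₀}` as a localization of `Q_p` (helper9)
-/

set_option autoImplicit false
universe u v

namespace Groth.Agent.Lib.Helper9.SpreadC

open MvPolynomial Groth.Agent.Lib.Helper9.SpreadA Groth.Agent.Lib.Helper9.SpreadQ
open scoped TensorProduct

section Model

variable {B : Type u} [CommRing B] (p : Ideal B) [p.IsPrime]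
  {l : ℕ} (s : Fin l → (Localization.AtPrime p)ˣ)
  (b₀ : B) (hb₀ : b₀ ∉ p) (s₀ : Fin l → (Localization.Away b₀)ˣ)
  (hs : ∀ k, rho p b₀ hb₀ (s₀ k : Localization.Away b₀) = (s k : Localization.AtPrime p))
  (f₀ : Q (Localization.Away b₀) l (fun k => (s₀ k : Localization.Away b₀)))

/-- the model `M⁻¹ (Q₀)_{f₀}` -/
abbrev Cp : Type u :=
  Localization (Algebra.algebraMapSubmonoid (Localization.Away f₀) p.primeCompl)

theorem isUnit_B_Cp (y : p.primeCompl) : IsUnit (algebraMap B (Cp p b₀ s₀ f₀) y) := by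
  rw [IsScalarTower.algebraMap_apply B (Localization.Away f₀) (Cp p b₀ s₀ f₀)]
  exact IsLocalization.map_units (Cp p b₀ s₀ f₀)
    (⟨algebraMap B (Localization.Away f₀) y, Algebra.mem_algebraMapSubmonoid_of_mem y⟩ :
      Algebra.algebraMapSubmonoid (Localization.Away f₀) p.primeCompl)

noncomputable def iota : Localization.AtPrime p →+* Cp p b₀ s₀ f₀ :=
  IsLocalization.lift (M := p.primeCompl) (g := algebraMap B (Cp p b₀ s₀ f₀))
    (isUnit_B_Cp p b₀ s₀ f₀)

theorem iota_algebraMap (x : B) :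
    iota p b₀ s₀ f₀ (algebraMap B _ x) = algebraMap B (Cp p b₀ s₀ f₀) x :=
  IsLocalization.lift_eq _ _

theorem iota_rho (x : Localization.Away b₀) :
    iota p b₀ s₀ f₀ (rho p b₀ hb₀ x) = algebraMap (Localization.Away b₀) (Cp p b₀ s₀ f₀) x := by
  have : (iota p b₀ s₀ f₀).comp (rho p b₀ hb₀) =
      algebraMap (Localization.Away b₀) (Cp p b₀ s₀ f₀) := by
    apply IsLocalization.ringHom_ext (Submonoid.powers b₀)
    ext x
    simp only [RingHom.comp_apply, rho_algebraMap, iota_algebraMap]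
    exact IsScalarTower.algebraMap_apply B (Localization.Away b₀) (Cp p b₀ s₀ f₀) x
  exact RingHom.congr_fun this x

/-- images of the variables in the model -/
noncomputable def xbar (k : Fin l) : Cp p b₀ s₀ f₀ :=
  algebraMap (Q (Localization.Away b₀) l (fun k => (s₀ k : Localization.Away b₀))) (Cp p b₀ s₀ f₀)
    (Ideal.Quotient.mk _ (X k))

theorem mk_C_eq (R : Type u) [CommRing R] (t : Fin l → R) (x : R) :
    (Ideal.Quotient.mk (QI R l t) (C x) : Q R l t) = algebraMap R (Q R l t) x := by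
  rw [← MvPolynomial.algebraMap_eq, Ideal.Quotient.mk_algebraMap]

include hs in
theorem xbar_sq (k : Fin l) :
    xbar p b₀ s₀ f₀ k ^ 2 = iota p b₀ s₀ f₀ (s k : Localization.AtPrime p) := by
  unfold xbar
  rw [← map_pow, ← map_pow, ← hs k, iota_rho p b₀ hb₀ s₀ f₀]
  have h1 : (Ideal.Quotient.mk (QI (Localization.Away b₀) l (fun k => (s₀ k : Localization.Away b₀)))
      (X k ^ 2) : Q (Localization.Away b₀) l (fun k => (s₀ k : Localization.Away b₀))) =
      Ideal.Quotient.mk _ (C (s₀ k : Localization.Away b₀)) := by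
    rw [Ideal.Quotient.eq]
    exact Ideal.subset_span ⟨k, rfl⟩
  rw [h1, mk_C_eq]
  exact (IsScalarTower.algebraMap_apply (Localization.Away b₀)
    (Q (Localization.Away b₀) l (fun k => (s₀ k : Localization.Away b₀))) (Cp p b₀ s₀ f₀) _).symm

/-- the structure map `Q_p → M⁻¹ (Q₀)_{f₀}` -/
noncomputable def phi :
    Q (Localization.AtPrime p) l (fun k => (s k : Localization.AtPrime p)) →+* Cp p b₀ s₀ f₀ :=
  Ideal.Quotient.lift (QI (Localization.AtPrime p) l (fun k => (s k : Localization.AtPrime p)))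
    (eval₂Hom (iota p b₀ s₀ f₀) (xbar p b₀ s₀ f₀)) (by
      have : QI (Localization.AtPrime p) l (fun k => (s k : Localization.AtPrime p)) ≤
          RingHom.ker (eval₂Hom (iota p b₀ s₀ f₀) (xbar p b₀ s₀ f₀)) := by
        rw [Ideal.span_le]
        rintro _ ⟨k, rfl⟩
        show eval₂Hom (iota p b₀ s₀ f₀) (xbar p b₀ s₀ f₀) _ = 0
        simp only [map_sub, map_pow, eval₂Hom_X', eval₂Hom_C]
        rw [xbar_sq p s b₀ hb₀ s₀ hs f₀ k, sub_self]
      exact fun a ha => this ha)

theorem phi_mk (F : MvPolynomial (Fin l) (Localization.AtPrime p)) :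
    phi p s b₀ hb₀ s₀ hs f₀ (Ideal.Quotient.mk _ F) =
      eval₂Hom (iota p b₀ s₀ f₀) (xbar p b₀ s₀ f₀) F :=
  Ideal.Quotient.lift_mk _ _ _

/-- the comparison map `Q₀ → Q_p` -/
noncomputable abbrev gamma :
    Q (Localization.Away b₀) l (fun k => (s₀ k : Localization.Away b₀)) →+*
      Q (Localization.AtPrime p) l (fun k => (s k : Localization.AtPrime p)) :=
  Qmap (rho p b₀ hb₀) _ _ hs

theorem phi_gamma (q₀ : Q (Localization.Away b₀) l (fun k => (s₀ k : Localization.Away b₀))) :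
    phi p s b₀ hb₀ s₀ hs f₀ (gamma p s b₀ hb₀ s₀ hs q₀) =
      algebraMap (Q (Localization.Away b₀) l (fun k => (s₀ k : Localization.Away b₀)))
        (Cp p b₀ s₀ f₀) q₀ := by
  have : (phi p s b₀ hb₀ s₀ hs f₀).comp (gamma p s b₀ hb₀ s₀ hs) =
      algebraMap (Q (Localization.Away b₀) l (fun k => (s₀ k : Localization.Away b₀)))
        (Cp p b₀ s₀ f₀) := by
    apply Ideal.Quotient.ringHom_ext
    apply MvPolynomial.ringHom_ext
    · intro x
      simp only [RingHom.comp_apply]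
      rw [Qmap_mk, MvPolynomial.map_C, phi_mk, eval₂Hom_C, iota_rho, mk_C_eq]
      exact IsScalarTower.algebraMap_apply (Localization.Away b₀)
        (Q (Localization.Away b₀) l (fun k => (s₀ k : Localization.Away b₀))) (Cp p b₀ s₀ f₀) _
    · intro k
      simp only [RingHom.comp_apply]
      rw [Qmap_mk, MvPolynomial.map_X, phi_mk, eval₂Hom_X']
      rfl
  exact RingHom.congr_fun this q₀

theorem phi_algebraMap (x : B) :
    phi p s b₀ hb₀ s₀ hs f₀ (algebraMap B _ x) = algebraMap B (Cp p b₀ s₀ f₀) x := by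
  rw [IsScalarTower.algebraMap_apply B (Localization.AtPrime p)
    (Q (Localization.AtPrime p) l (fun k => (s k : Localization.AtPrime p))), ← mk_C_eq, phi_mk,
    eval₂Hom_C, iota_algebraMap]

theorem gamma_algebraMap (x : B) :
    gamma p s b₀ hb₀ s₀ hs (algebraMap B _ x) = algebraMap B _ x := by
  rw [IsScalarTower.algebraMap_apply B (Localization.Away b₀)
    (Q (Localization.Away b₀) l (fun k => (s₀ k : Localization.Away b₀))), ← mk_C_eq, Qmap_mk,
    MvPolynomial.map_C, rho_algebraMap, mk_C_eq]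
  exact (IsScalarTower.algebraMap_apply B (Localization.AtPrime p)
    (Q (Localization.AtPrime p) l (fun k => (s k : Localization.AtPrime p))) x).symm

theorem isUnit_B_Qp (m : B) (hm : m ∈ p.primeCompl) :
    IsUnit (algebraMap B (Q (Localization.AtPrime p) l (fun k => (s k : Localization.AtPrime p))) m) := by
  rw [IsScalarTower.algebraMap_apply B (Localization.AtPrime p)
    (Q (Localization.AtPrime p) l (fun k => (s k : Localization.AtPrime p)))]
  exact (IsLocalization.map_units (Localization.AtPrime p) (⟨m, hm⟩ : p.primeCompl)).map _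

theorem gamma_denom (q : Q (Localization.AtPrime p) l (fun k => (s k : Localization.AtPrime p))) :
    ∃ (m : B) (q₀ : Q (Localization.Away b₀) l (fun k => (s₀ k : Localization.Away b₀))),
      m ∈ p.primeCompl ∧ q * algebraMap B _ m = gamma p s b₀ hb₀ s₀ hs q₀ := by
  obtain ⟨F, rfl⟩ := Ideal.Quotient.mk_surjective q
  obtain ⟨G, m, hm, hG⟩ := poly_denom p F
  refine ⟨m, Ideal.Quotient.mk _ (MvPolynomial.map (algebraMap B (Localization.Away b₀)) G), hm, ?_⟩
  rw [Qmap_mk, MvPolynomial.map_map, rho_comp, ← hG, map_mul, mk_C_eq]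
  congr 1

theorem phi_f_isUnit :
    IsUnit (phi p s b₀ hb₀ s₀ hs f₀ (gamma p s b₀ hb₀ s₀ hs f₀)) := by
  rw [phi_gamma, IsScalarTower.algebraMap_apply
    (Q (Localization.Away b₀) l (fun k => (s₀ k : Localization.Away b₀)))
    (Localization.Away f₀) (Cp p b₀ s₀ f₀)]
  exact (IsLocalization.Away.algebraMap_isUnit f₀).map _

theorem phi_surj (z : Cp p b₀ s₀ f₀) :
    ∃ (q : Q (Localization.AtPrime p) l (fun k => (s k : Localization.AtPrime p))) (N : ℕ),
      z * phi p s b₀ hb₀ s₀ hs f₀ ((gamma p s b₀ hb₀ s₀ hs f₀) ^ N) =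
        phi p s b₀ hb₀ s₀ hs f₀ q := by
  obtain ⟨⟨z₁, ⟨c, hc⟩⟩, hz⟩ := IsLocalization.surj
    (Algebra.algebraMapSubmonoid (Localization.Away f₀) p.primeCompl) z
  obtain ⟨m, hm, rfl⟩ := hc
  obtain ⟨N, q₀, hq₀⟩ := IsLocalization.Away.surj f₀ z₁
  have hmu := isUnit_B_Qp p s m hm
  obtain ⟨ν, hν⟩ : ∃ ν : Q (Localization.AtPrime p) l (fun k => (s k : Localization.AtPrime p)),
      ν * algebraMap B _ m = 1 := ⟨↑hmu.unit⁻¹, hmu.val_inv_mul⟩
  refine ⟨ν * gamma p s b₀ hb₀ s₀ hs q₀, N, ?_⟩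
  have hu : IsUnit (algebraMap B (Cp p b₀ s₀ f₀) m) := isUnit_B_Cp p b₀ s₀ f₀ ⟨m, hm⟩
  apply hu.mul_left_injective
  show z * phi p s b₀ hb₀ s₀ hs f₀ ((gamma p s b₀ hb₀ s₀ hs f₀) ^ N) *
      algebraMap B (Cp p b₀ s₀ f₀) m =
    phi p s b₀ hb₀ s₀ hs f₀ (ν * gamma p s b₀ hb₀ s₀ hs q₀) * algebraMap B (Cp p b₀ s₀ f₀) m
  have e1 : phi p s b₀ hb₀ s₀ hs f₀ (ν * gamma p s b₀ hb₀ s₀ hs q₀) *
      algebraMap B (Cp p b₀ s₀ f₀) m =
      algebraMap (Q (Localization.Away b₀) l (fun k => (s₀ k : Localization.Away b₀)))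
        (Cp p b₀ s₀ f₀) q₀ := by
    rw [← phi_algebraMap p s b₀ hb₀ s₀ hs f₀ m, ← map_mul, mul_right_comm, hν, one_mul, phi_gamma]
  rw [e1, map_pow, phi_gamma]
  simp only [Subtype.coe_mk] at hz
  rw [IsScalarTower.algebraMap_apply B (Localization.Away f₀) (Cp p b₀ s₀ f₀) m,
    IsScalarTower.algebraMap_apply
      (Q (Localization.Away b₀) l (fun k => (s₀ k : Localization.Away b₀)))
      (Localization.Away f₀) (Cp p b₀ s₀ f₀),
    IsScalarTower.algebraMap_apply
      (Q (Localization.Away b₀) l (fun k => (s₀ k : Localization.Away b₀)))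
      (Localization.Away f₀) (Cp p b₀ s₀ f₀) q₀, ← hq₀, map_mul, ← hz, map_pow]
  ring

theorem phi_ker (q : Q (Localization.AtPrime p) l (fun k => (s k : Localization.AtPrime p)))
    (hq : phi p s b₀ hb₀ s₀ hs f₀ q = 0) :
    ∃ N : ℕ, (gamma p s b₀ hb₀ s₀ hs f₀) ^ N * q = 0 := by
  obtain ⟨m, q₀, hm, hq₀⟩ := gamma_denom p s b₀ hb₀ s₀ hs q
  have h1 : algebraMap (Q (Localization.Away b₀) l (fun k => (s₀ k : Localization.Away b₀)))
      (Cp p b₀ s₀ f₀) q₀ = 0 := by
    rw [← phi_gamma p s b₀ hb₀ s₀ hs f₀, ← hq₀, map_mul, hq, zero_mul]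
  rw [IsScalarTower.algebraMap_apply
      (Q (Localization.Away b₀) l (fun k => (s₀ k : Localization.Away b₀)))
      (Localization.Away f₀) (Cp p b₀ s₀ f₀)] at h1
  obtain ⟨⟨_, m', hm', rfl⟩, h2⟩ := (IsLocalization.map_eq_zero_iff
    (Algebra.algebraMapSubmonoid (Localization.Away f₀) p.primeCompl) (Cp p b₀ s₀ f₀) _).mp h1
  simp only at h2
  rw [IsScalarTower.algebraMap_apply B
      (Q (Localization.Away b₀) l (fun k => (s₀ k : Localization.Away b₀)))
      (Localization.Away f₀), ← map_mul] at h2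
  obtain ⟨⟨_, N, rfl⟩, h3⟩ := (IsLocalization.map_eq_zero_iff
    (Submonoid.powers f₀) (Localization.Away f₀) _).mp h2
  simp only at h3
  refine ⟨N, ?_⟩
  have h4 := congrArg (gamma p s b₀ hb₀ s₀ hs) h3
  rw [map_mul, map_mul, map_pow, gamma_algebraMap, ← hq₀, map_zero] at h4
  have hu1 := isUnit_B_Qp p s m hm
  have hu2 := isUnit_B_Qp p s m' hm'
  have h5 : ((gamma p s b₀ hb₀ s₀ hs f₀) ^ N * q) *
      (algebraMap B _ m' * algebraMap B _ m) = 0 := by
    rw [← h4]; ring
  exact ((hu2.mul hu1).mul_left_eq_zero).mp h5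

theorem isLoc : @IsLocalization
    (Q (Localization.AtPrime p) l (fun k => (s k : Localization.AtPrime p))) _
    (Submonoid.powers (gamma p s b₀ hb₀ s₀ hs f₀)) (Cp p b₀ s₀ f₀) _
    (phi p s b₀ hb₀ s₀ hs f₀).toAlgebra := by
  letI : Algebra (Q (Localization.AtPrime p) l (fun k => (s k : Localization.AtPrime p)))
    (Cp p b₀ s₀ f₀) := (phi p s b₀ hb₀ s₀ hs f₀).toAlgebra
  refine { map_units := ?_, surj := ?_, exists_of_eq := ?_ }
  · rintro ⟨_, N, rfl⟩
    show IsUnit (phi p s b₀ hb₀ s₀ hs f₀ ((gamma p s b₀ hb₀ s₀ hs f₀) ^ N))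
    rw [map_pow]
    exact (phi_f_isUnit p s b₀ hb₀ s₀ hs f₀).pow N
  · intro z
    obtain ⟨q, N, h⟩ := phi_surj p s b₀ hb₀ s₀ hs f₀ z
    exact ⟨(q, ⟨_, N, rfl⟩), h⟩
  · intro x y hxy
    have h1 : phi p s b₀ hb₀ s₀ hs f₀ (x - y) = 0 := by
      rw [map_sub, sub_eq_zero]; exact hxy
    obtain ⟨N, hN⟩ := phi_ker p s b₀ hb₀ s₀ hs f₀ _ h1
    refine ⟨⟨_, N, rfl⟩, ?_⟩
    rw [mul_sub, sub_eq_zero] at hN
    exact hN

end Model

section Tensor

variable {B : Type u} {A : Type v} [CommRing B] [CommRing A] [Algebra B A] (lam : A ≃ₐ[B] A)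
  (n : ℕ) (h h' : Matrix (Fin n) (Fin n) A)

/-- the hermitian congruence statement over a `B`-algebra `C` -/
def HasCongr (C : Type u) [CommRing C] [Algebra B C] : Prop :=
  ∃ v : Matrix (Fin n) (Fin n) (C ⊗[B] A), IsUnit v ∧
    (v.map (Algebra.TensorProduct.congr (AlgEquiv.refl : C ≃ₐ[C] C) lam)).transpose *
      h.map (Algebra.TensorProduct.includeRight : A →ₐ[B] C ⊗[B] A) * v =
      h'.map (Algebra.TensorProduct.includeRight : A →ₐ[B] C ⊗[B] A)

/-- the involution on `C ⊗ A` as a ring hom -/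
noncomputable def sigma (C : Type u) [CommRing C] [Algebra B C] : (C ⊗[B] A) →+* (C ⊗[B] A) :=
  ((Algebra.TensorProduct.congr (AlgEquiv.refl : C ≃ₐ[C] C) lam :
    (C ⊗[B] A) ≃ₐ[C] (C ⊗[B] A)) : (C ⊗[B] A) →+* (C ⊗[B] A))

theorem sigma_tmul (C : Type u) [CommRing C] [Algebra B C] (c : C) (a : A) :
    sigma lam C (c ⊗ₜ[B] a) = c ⊗ₜ[B] lam a := by
  unfold sigma
  simp

theorem sigma_algebraMap (C : Type u) [CommRing C] [Algebra B C] (b : B) :
    sigma lam C (algebraMap B (C ⊗[B] A) b) = algebraMap B (C ⊗[B] A) b := by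
  rw [Algebra.TensorProduct.algebraMap_apply, sigma_tmul, map_one]

/-- the base change map -/
noncomputable def Theta {C C' : Type u} [CommRing C] [CommRing C'] [Algebra B C] [Algebra B C']
    (θ : C →ₐ[B] C') : (C ⊗[B] A) →+* (C' ⊗[B] A) :=
  (Algebra.TensorProduct.map θ (AlgHom.id B A)).toRingHom

theorem Theta_tmul {C C' : Type u} [CommRing C] [CommRing C'] [Algebra B C] [Algebra B C']
    (θ : C →ₐ[B] C') (c : C) (a : A) : Theta (A := A) θ (c ⊗ₜ[B] a) = θ c ⊗ₜ[B] a := by
  unfold Theta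
  simp

theorem Theta_algebraMap {C C' : Type u} [CommRing C] [CommRing C'] [Algebra B C] [Algebra B C']
    (θ : C →ₐ[B] C') (b : B) :
    Theta (A := A) θ (algebraMap B (C ⊗[B] A) b) = algebraMap B (C' ⊗[B] A) b :=
  (Algebra.TensorProduct.map θ (AlgHom.id B A)).commutes b

theorem sigma_Theta {C C' : Type u} [CommRing C] [CommRing C'] [Algebra B C] [Algebra B C']
    (θ : C →ₐ[B] C') (x : C ⊗[B] A) :
    sigma lam C' (Theta θ x) = Theta θ (sigma lam C x) := by
  induction x using TensorProduct.induction_on with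
  | zero => simp
  | tmul c a => rw [Theta_tmul, sigma_tmul, sigma_tmul, Theta_tmul]
  | add x y hx hy => rw [map_add, map_add, map_add, map_add, hx, hy]

theorem map_includeRight {C C' : Type u} [CommRing C] [CommRing C'] [Algebra B C] [Algebra B C']
    (θ : C →ₐ[B] C') (g : Matrix (Fin n) (Fin n) A) :
    (g.map (Algebra.TensorProduct.includeRight : A →ₐ[B] C ⊗[B] A)).map (Theta θ) =
      g.map (Algebra.TensorProduct.includeRight : A →ₐ[B] C' ⊗[B] A) := by
  ext a b
  simp only [Matrix.map_apply, Algebra.TensorProduct.includeRight_apply]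
  rw [Theta_tmul, map_one]

end Tensor

section PerIndex

variable {B : Type u} {A : Type v} [CommRing B] [CommRing A] [Algebra B A] (lam : A ≃ₐ[B] A)
  (n : ℕ) (h h' : Matrix (Fin n) (Fin n) A)
  (p : Ideal B) [p.IsPrime]
  {l : ℕ} (s : Fin l → (Localization.AtPrime p)ˣ)
  (b₀ : B) (hb₀ : b₀ ∉ p) (s₀ : Fin l → (Localization.Away b₀)ˣ)
  (hs : ∀ k, rho p b₀ hb₀ (s₀ k : Localization.Away b₀) = (s k : Localization.AtPrime p))
  (f₀ : Q (Localization.Away b₀) l (fun k => (s₀ k : Localization.Away b₀)))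

theorem Qmap_algebraMap {b' : B} (hdiv : b₀ ∣ b') (t : Fin l → Localization.Away b')
    (ht : ∀ k, tau b₀ b' hdiv (s₀ k : Localization.Away b₀) = t k) (x : B) :
    Qmap (tau b₀ b' hdiv) (fun k => (s₀ k : Localization.Away b₀)) t ht (algebraMap B _ x) =
      algebraMap B _ x := by
  rw [IsScalarTower.algebraMap_apply B (Localization.Away b₀)
    (Q (Localization.Away b₀) l (fun k => (s₀ k : Localization.Away b₀))), ← mk_C_eq, Qmap_mk,
    MvPolynomial.map_C, tau_algebraMap, mk_C_eq]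
  exact (IsScalarTower.algebraMap_apply B (Localization.Away b') (Q (Localization.Away b') l t) x).symm

/-- the comparison map `(Q₀)_{f₀} → C` for a localization `C` of `Q_{b'}` at the image of `f₀` -/
noncomputable def thetaHom {b' : B} (hdiv : b₀ ∣ b') (t : Fin l → Localization.Away b')
    (ht : ∀ k, tau b₀ b' hdiv (s₀ k : Localization.Away b₀) = t k)
    (C : Type u) [CommRing C] [Algebra B C] [Algebra (Q (Localization.Away b') l t) C]
    [IsScalarTower B (Q (Localization.Away b') l t) C]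
    [IsLocalization.Away (Qmap (tau b₀ b' hdiv) _ t ht f₀) C] :
    Localization.Away f₀ →ₐ[B] C :=
  { IsLocalization.Away.lift f₀
      (g := (algebraMap (Q (Localization.Away b') l t) C).comp (Qmap (tau b₀ b' hdiv) _ t ht))
      (IsLocalization.Away.algebraMap_isUnit (Qmap (tau b₀ b' hdiv) _ t ht f₀)) with
    commutes' := by
      intro x
      show IsLocalization.Away.lift f₀ _ (algebraMap B (Localization.Away f₀) x) = algebraMap B C x
      rw [IsScalarTower.algebraMap_apply B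
        (Q (Localization.Away b₀) l (fun k => (s₀ k : Localization.Away b₀)))
        (Localization.Away f₀), IsLocalization.Away.lift_eq, RingHom.comp_apply,
        Qmap_algebraMap b₀ s₀ hdiv t ht]
      exact (IsScalarTower.algebraMap_apply B (Q (Localization.Away b') l t) C x).symm }

theorem isUnit_B_C {b' : B} (t : Fin l → Localization.Away b')
    (C : Type u) [CommRing C] [Algebra B C] [Algebra (Q (Localization.Away b') l t) C]
    [IsScalarTower B (Q (Localization.Away b') l t) C] (c : B) (hc : c ∣ b') :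
    IsUnit (algebraMap B C c) := by
  rw [IsScalarTower.algebraMap_apply B (Q (Localization.Away b') l t) C,
    IsScalarTower.algebraMap_apply B (Localization.Away b') (Q (Localization.Away b') l t)]
  exact ((isUnit_of_dvd c b' hc).map _).map _

set_option synthInstance.maxHeartbeats 400000 in
set_option maxHeartbeats 1000000 in
theorem per_index
    (hC : ∀ (C : Type u) [CommRing C] [Algebra B C]
      [Algebra (Q (Localization.AtPrime p) l (fun k => (s k : Localization.AtPrime p))) C]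
      [IsScalarTower B (Q (Localization.AtPrime p) l (fun k => (s k : Localization.AtPrime p))) C]
      [IsLocalization.Away (gamma p s b₀ hb₀ s₀ hs f₀) C], HasCongr lam n h h' C) :
    ∃ c : B, c ∉ p ∧ ∀ (b' : B) (hdiv : b₀ ∣ b') (_ : c ∣ b') (t : Fin l → Localization.Away b')
      (ht : ∀ k, tau b₀ b' hdiv (s₀ k : Localization.Away b₀) = t k)
      (C : Type u) [CommRing C] [Algebra B C] [Algebra (Q (Localization.Away b') l t) C]
      [IsScalarTower B (Q (Localization.Away b') l t) C]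
      [IsLocalization.Away (Qmap (tau b₀ b' hdiv) _ t ht f₀) C], HasCongr lam n h h' C := by
  classical
  letI algQ : Algebra (Q (Localization.AtPrime p) l (fun k => (s k : Localization.AtPrime p)))
    (Cp p b₀ s₀ f₀) := (phi p s b₀ hb₀ s₀ hs f₀).toAlgebra
  haveI tower : @IsScalarTower B
      (Q (Localization.AtPrime p) l (fun k => (s k : Localization.AtPrime p))) (Cp p b₀ s₀ f₀)
      _ algQ.toSMul _ :=
    @IsScalarTower.of_algebraMap_eq B
      (Q (Localization.AtPrime p) l (fun k => (s k : Localization.AtPrime p))) (Cp p b₀ s₀ f₀)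
      _ _ _ _ algQ _ (fun x => (phi_algebraMap p s b₀ hb₀ s₀ hs f₀ x).symm)
  haveI loc : IsLocalization.Away (gamma p s b₀ hb₀ s₀ hs f₀) (Cp p b₀ s₀ f₀) :=
    isLoc p s b₀ hb₀ s₀ hs f₀
  obtain ⟨v, hv, heq⟩ := @hC (Cp p b₀ s₀ f₀) _ _ algQ tower loc
  -- the localization map on tensor products
  obtain ⟨g, hg⟩ : ∃ g : Localization.Away f₀ →ₗ[B] Cp p b₀ s₀ f₀,
      g = (IsScalarTower.toAlgHom B (Localization.Away f₀) (Cp p b₀ s₀ f₀)).toLinearMap := ⟨_, rfl⟩
  haveI hgl : IsLocalizedModule p.primeCompl g := by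
    rw [hg]; exact isLocalizedModule_iff_isLocalization.mpr inferInstance
  haveI hψ : IsLocalizedModule p.primeCompl (TensorProduct.AlgebraTensorModule.rTensor B A g) :=
    inferInstance
  obtain ⟨θ₀, hθ₀⟩ : ∃ θ₀ : Localization.Away f₀ →ₐ[B] Cp p b₀ s₀ f₀,
      θ₀ = IsScalarTower.toAlgHom B (Localization.Away f₀) (Cp p b₀ s₀ f₀) := ⟨_, rfl⟩
  have hΨψ : ∀ x, Theta (A := A) θ₀ x = TensorProduct.AlgebraTensorModule.rTensor B A g x := by
    intro x
    induction x using TensorProduct.induction_on with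
    | zero => simp
    | tmul c a =>
      rw [Theta_tmul, TensorProduct.AlgebraTensorModule.rTensor_tmul, hg, hθ₀]
      rfl
    | add x y hx hy => rw [map_add, map_add, hx, hy]
  have hsurj : ∀ y : Cp p b₀ s₀ f₀ ⊗[B] A, ∃ (m : B) (x : Localization.Away f₀ ⊗[B] A),
      m ∈ p.primeCompl ∧ algebraMap B _ m * y = Theta (A := A) θ₀ x := by
    intro y
    obtain ⟨⟨x, m⟩, hx⟩ := IsLocalizedModule.surj p.primeCompl
      (TensorProduct.AlgebraTensorModule.rTensor B A g) y
    refine ⟨m, x, m.2, ?_⟩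
    rw [hΨψ, ← hx, ← Algebra.smul_def]
    rfl
  have hinj : ∀ x : Localization.Away f₀ ⊗[B] A, Theta (A := A) θ₀ x = 0 →
      ∃ c : B, c ∈ p.primeCompl ∧ algebraMap B _ c * x = 0 := by
    intro x hx
    rw [hΨψ] at hx
    have hx' : TensorProduct.AlgebraTensorModule.rTensor B A g x =
        TensorProduct.AlgebraTensorModule.rTensor B A g 0 := by rw [hx, map_zero]
    obtain ⟨c, hc⟩ := IsLocalizedModule.exists_of_eq (S := p.primeCompl) hx'
    refine ⟨c, c.2, ?_⟩
    rw [smul_zero] at hc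
    rw [← Algebra.smul_def]
    exact hc
  have heq' : (v.map (sigma lam (Cp p b₀ s₀ f₀))).transpose *
      (h.map (Algebra.TensorProduct.includeRight : A →ₐ[B] Localization.Away f₀ ⊗[B] A)).map
        (Theta θ₀) * v =
      (h'.map (Algebra.TensorProduct.includeRight : A →ₐ[B] Localization.Away f₀ ⊗[B] A)).map
        (Theta θ₀) := by
    rw [map_includeRight, map_includeRight]
    exact heq
  obtain ⟨c, hc, hdesc⟩ := SpreadM.descend p.primeCompl (Theta (A := A) θ₀)
    (Theta_algebraMap θ₀) hsurj hinj (sigma lam (Localization.Away f₀))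
    (sigma lam (Cp p b₀ s₀ f₀)) (sigma_Theta lam θ₀) (sigma_algebraMap lam _)
    (h.map (Algebra.TensorProduct.includeRight : A →ₐ[B] Localization.Away f₀ ⊗[B] A))
    (h'.map (Algebra.TensorProduct.includeRight : A →ₐ[B] Localization.Away f₀ ⊗[B] A))
    v hv heq'
  refine ⟨c, hc, ?_⟩
  intro b' hdiv hcb t ht C _ _ _ _ _
  obtain ⟨v', hv', heqv⟩ := hdesc (C ⊗[B] A) (Theta (A := A) (thetaHom b₀ s₀ f₀ hdiv t ht C))
    (sigma lam C) (Theta_algebraMap _) (sigma_Theta lam _) (sigma_algebraMap lam C) (by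
      rw [Algebra.TensorProduct.algebraMap_apply]
      exact (isUnit_B_C t C c hcb).map (Algebra.TensorProduct.includeLeft : C →ₐ[B] C ⊗[B] A))
  refine ⟨v', hv', ?_⟩
  rw [map_includeRight, map_includeRight] at heqv
  exact heqv

end PerIndex

end Groth.Agent.Lib.Helper9.SpreadC
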