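import Mathlib
import Groth.Agent.Lib.Helper9.SpreadC

/-!
# Spreading out hermitian congruence data from `B_p` to `B_b` (helper9)
-/

set_option autoImplicit false
universe u v

namespace Groth.Agent.Lib.Helper9.SpreadMain

open MvPolynomial Groth.Agent.Lib.Helper9.SpreadA Groth.Agent.Lib.Helper9.SpreadQ
  Groth.Agent.Lib.Helper9.SpreadC
open scoped TensorProduct

variable {B : Type u} {A : Type v} [CommRing B] [CommRing A] [Algebra B A] (lam : A ≃ₐ[B] A)
  (n : ℕ) (h h' : Matrix (Fin n) (Fin n) A) (p : Ideal B) [p.IsPrime]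

set_option synthInstance.maxHeartbeats 400000 in
set_option maxHeartbeats 1000000 in
theorem main
    (hdata : ∃ (l : ℕ) (s : Fin l → (Localization.AtPrime p)ˣ) (r : ℕ)
      (f : Fin r → Q (Localization.AtPrime p) l (fun k => (s k : Localization.AtPrime p))),
      Ideal.span (Set.range f) = ⊤ ∧
      ∀ (i : Fin r) (C : Type u) [CommRing C] [Algebra B C]
        [Algebra (Q (Localization.AtPrime p) l (fun k => (s k : Localization.AtPrime p))) C]
        [IsScalarTower B (Q (Localization.AtPrime p) l (fun k => (s k : Localization.AtPrime p))) C]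
        [IsLocalization.Away (f i) C], HasCongr lam n h h' C) :
    ∃ b : B, b ∉ p ∧
      ∃ (l : ℕ) (s : Fin l → (Localization.Away b)ˣ) (r : ℕ)
        (f : Fin r → Q (Localization.Away b) l (fun k => (s k : Localization.Away b))),
        Ideal.span (Set.range f) = ⊤ ∧
        ∀ (i : Fin r) (C : Type u) [CommRing C] [Algebra B C]
          [Algebra (Q (Localization.Away b) l (fun k => (s k : Localization.Away b))) C]
          [IsScalarTower B (Q (Localization.Away b) l (fun k => (s k : Localization.Away b))) C]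
          [IsLocalization.Away (f i) C], HasCongr lam n h h' C := by
  classical
  obtain ⟨l, s, r, f, hspan, hC⟩ := hdata
  obtain ⟨b₀, hb₀, s₀, hs, f₀, hf, hspan₀⟩ := stage1 p s f hspan
  have hper : ∀ i, ∃ c : B, c ∉ p ∧ ∀ (b' : B) (hdiv : b₀ ∣ b') (_ : c ∣ b')
      (t : Fin l → Localization.Away b')
      (ht : ∀ k, tau b₀ b' hdiv (s₀ k : Localization.Away b₀) = t k)
      (C : Type u) [CommRing C] [Algebra B C] [Algebra (Q (Localization.Away b') l t) C]
      [IsScalarTower B (Q (Localization.Away b') l t) C]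
      [IsLocalization.Away (Qmap (tau b₀ b' hdiv) _ t ht (f₀ i)) C], HasCongr lam n h h' C := by
    intro i
    apply per_index lam n h h' p s b₀ hb₀ s₀ hs (f₀ i)
    intro C _ _ _ _ hloc
    have hfi : gamma p s b₀ hb₀ s₀ hs (f₀ i) = f i := hf i
    rw [hfi] at hloc
    exact hC i C
  choose c hc hprop using hper
  obtain ⟨b, hbdef⟩ : ∃ b, b = b₀ * ∏ i, c i := ⟨_, rfl⟩
  have hb : b ∉ p := by
    rw [hbdef]
    have h2 : ∏ i, c i ∈ p.primeCompl := Submonoid.prod_mem _ (fun i _ => hc i)
    exact p.primeCompl.mul_mem (show b₀ ∈ p.primeCompl from hb₀) h2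
  have hdiv : b₀ ∣ b := ⟨_, hbdef⟩
  have hcdiv : ∀ i, c i ∣ b := by
    intro i
    rw [hbdef]
    exact Dvd.dvd.mul_left (Finset.dvd_prod_of_mem _ (Finset.mem_univ i)) _
  obtain ⟨sb, hsb⟩ : ∃ sb : Fin l → (Localization.Away b)ˣ,
      sb = fun k => Units.map (tau b₀ b hdiv).toMonoidHom (s₀ k) := ⟨_, rfl⟩
  have ht : ∀ k, tau b₀ b hdiv (s₀ k : Localization.Away b₀) = (sb k : Localization.Away b) := by
    intro k; rw [hsb]; rfl
  refine ⟨b, hb, l, sb, r,
    fun i => Qmap (tau b₀ b hdiv) (fun k => (s₀ k : Localization.Away b₀))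
      (fun k => (sb k : Localization.Away b)) ht (f₀ i), ?_, ?_⟩
  · rw [Ideal.eq_top_iff_one] at hspan₀ ⊢
    obtain ⟨g, hg⟩ := (Ideal.mem_span_range_iff_exists_fun).mp hspan₀
    rw [Ideal.mem_span_range_iff_exists_fun]
    refine ⟨fun i => Qmap (tau b₀ b hdiv) (fun k => (s₀ k : Localization.Away b₀))
      (fun k => (sb k : Localization.Away b)) ht (g i), ?_⟩
    have := congrArg (Qmap (tau b₀ b hdiv) (fun k => (s₀ k : Localization.Away b₀))
      (fun k => (sb k : Localization.Away b)) ht) hg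
    rw [map_sum, map_one] at this
    rw [← this]
    exact Finset.sum_congr rfl (fun i _ => (map_mul _ _ _).symm)
  · intro i C i1 i2 i3 i4 i5
    exact @hprop i b hdiv (hcdiv i) (fun k => (sb k : Localization.Away b)) ht C i1 i2 i3 i4 i5

end Groth.Agent.Lib.Helper9.SpreadMain
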