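import Mathlib
import Groth.Agent.Lib.Helper9.NDB

/-!
# Finitely generated projective modules over a strongly local ring (helper9, for S13847)

`A` is a ring with Jacobson radical `J`.  For a finitely generated projective `A`-module `P`:
* an endomorphism congruent to the identity modulo `J` is bijective;
* an isomorphism `P/JP ≃ Q/JQ` lifts to an isomorphism `P ≃ Q`;
* the Jacobson radical of `End_A(P)` is the kernel of `End_A(P) → End_A(P/JP)`.
-/

set_option autoImplicit false
set_option linter.style.haveILetI false
set_option linter.unusedSectionVars false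

universe u v v'

namespace Groth.Agent.Lib.Helper9.StrLoc

open Module
open Groth.Agent.Lib.Helper9.NDB

variable {A : Type u} [Ring A]
variable {P : Type v} {Q : Type v'} [AddCommGroup P] [Module A P] [AddCommGroup Q] [Module A Q]

/-- `J • ⊤`. -/
abbrev JT (A : Type u) [Ring A] (P : Type v) [AddCommGroup P] [Module A P] : Submodule A P :=
  Ring.jacobson A • (⊤ : Submodule A P)

/-- `P / JP`. -/
abbrev Bar (A : Type u) [Ring A] (P : Type v) [AddCommGroup P] [Module A P] : Type v :=
  P ⧸ JT A P

lemma map_JT_le (f : P →ₗ[A] Q) : Submodule.map f (JT A P) ≤ JT A Q := by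
  rw [JT, Submodule.map_smul'']
  exact Submodule.smul_mono le_rfl le_top

lemma JT_le_comap (f : P →ₗ[A] Q) : JT A P ≤ Submodule.comap f (JT A Q) :=
  Submodule.map_le_iff_le_comap.mp (map_JT_le f)

/-- An endomorphism `id + g` with `g(P) ⊆ JP` is surjective (`P` finitely generated). -/
lemma surjective_id_add [Module.Finite A P] (g : P →ₗ[A] P)
    (hg : LinearMap.range g ≤ JT A P) : Function.Surjective (LinearMap.id + g : P →ₗ[A] P) := by
  rw [← LinearMap.range_eq_top]
  apply eq_top_of_sup_jacobson_smul_eq_top
  rw [eq_top_iff]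
  intro x _
  have hx : x = (LinearMap.id + g : P →ₗ[A] P) x + (-(g x)) := by
    simp
  rw [hx]
  exact Submodule.add_mem_sup ⟨x, rfl⟩ (Submodule.neg_mem _ (hg ⟨x, rfl⟩))

/-- An endomorphism `id + g` with `g(P) ⊆ JP` is bijective (`P` finitely generated projective). -/
lemma bijective_id_add [Module.Finite A P] [Module.Projective A P] (g : P →ₗ[A] P)
    (hg : LinearMap.range g ≤ JT A P) : Function.Bijective (LinearMap.id + g : P →ₗ[A] P) := by
  have hsurj := surjective_id_add g hg
  obtain ⟨s, hs⟩ := Module.projective_lifting_property (LinearMap.id + g) LinearMap.id hsurj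
  have hs' : ∀ x, s x + g (s x) = x := fun x => by
    have := LinearMap.congr_fun hs x
    simpa using this
  have hs_eq : s = LinearMap.id + (-(g.comp s)) := by
    ext x
    have := hs' x
    simp only [LinearMap.add_apply, LinearMap.id_coe, id_eq, LinearMap.neg_apply,
      LinearMap.comp_apply]
    exact eq_add_neg_of_add_eq this
  have hs_surj : Function.Surjective s := by
    rw [hs_eq]
    apply surjective_id_add
    rintro _ ⟨x, rfl⟩
    simp only [LinearMap.neg_apply, LinearMap.comp_apply]
    exact Submodule.neg_mem _ (hg ⟨s x, rfl⟩)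
  refine ⟨?_, hsurj⟩
  intro x y hxy
  obtain ⟨x', rfl⟩ := hs_surj x
  obtain ⟨y', rfl⟩ := hs_surj y
  have h1 : (LinearMap.id + g : P →ₗ[A] P) (s x') = x' := by simpa using hs' x'
  have h2 : (LinearMap.id + g : P →ₗ[A] P) (s y') = y' := by simpa using hs' y'
  rw [h1, h2] at hxy
  rw [hxy]

/-- An isomorphism `P/JP ≃ Q/JQ` lifts to `P ≃ Q`. -/
theorem lift_iso [Module.Finite A P] [Module.Projective A P] [Module.Finite A Q]
    [Module.Projective A Q] (e : Bar A P ≃ₗ[A] Bar A Q) : Nonempty (P ≃ₗ[A] Q) := by
  obtain ⟨φ, hφ⟩ := Module.projective_lifting_property (JT A Q).mkQ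
    (e.toLinearMap.comp (JT A P).mkQ) (Submodule.mkQ_surjective _)
  obtain ⟨ψ, hψ⟩ := Module.projective_lifting_property (JT A P).mkQ
    (e.symm.toLinearMap.comp (JT A Q).mkQ) (Submodule.mkQ_surjective _)
  have hφ' : ∀ x, (JT A Q).mkQ (φ x) = e ((JT A P).mkQ x) := fun x => LinearMap.congr_fun hφ x
  have hψ' : ∀ y, (JT A P).mkQ (ψ y) = e.symm ((JT A Q).mkQ y) :=
    fun y => LinearMap.congr_fun hψ y
  have h1 : Function.Bijective (ψ.comp φ) := by
    have : ψ.comp φ = LinearMap.id + (ψ.comp φ - LinearMap.id) := by abel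
    rw [this]
    apply bijective_id_add
    rintro _ ⟨x, rfl⟩
    rw [← Submodule.ker_mkQ (JT A P), LinearMap.mem_ker]
    simp only [LinearMap.sub_apply, LinearMap.comp_apply, LinearMap.id_coe, id_eq, map_sub]
    rw [hψ', hφ', LinearEquiv.symm_apply_apply, sub_self]
  have h2 : Function.Bijective (φ.comp ψ) := by
    have : φ.comp ψ = LinearMap.id + (φ.comp ψ - LinearMap.id) := by abel
    rw [this]
    apply bijective_id_add
    rintro _ ⟨x, rfl⟩
    rw [← Submodule.ker_mkQ (JT A Q), LinearMap.mem_ker]
    simp only [LinearMap.sub_apply, LinearMap.comp_apply, LinearMap.id_coe, id_eq, map_sub]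
    rw [hφ', hψ', LinearEquiv.apply_symm_apply, sub_self]
  have hinj : Function.Injective φ := by
    have := h1.1
    rw [LinearMap.coe_comp] at this
    exact Function.Injective.of_comp this
  have hsurj : Function.Surjective φ := by
    have := h2.2
    rw [LinearMap.coe_comp] at this
    exact Function.Surjective.of_comp this
  exact ⟨LinearEquiv.ofBijective φ ⟨hinj, hsurj⟩⟩

/-! ### The reduction map on endomorphism rings -/

/-- `End_A(P) → End_A(P/JP)`. -/
noncomputable def barEnd (A : Type u) [Ring A] (P : Type v) [AddCommGroup P] [Module A P] :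
    Module.End A P →+* Module.End A (Bar A P) where
  toFun f := (JT A P).mapQ (JT A P) f (JT_le_comap f)
  map_one' := by
    apply Submodule.linearMap_qext
    ext x
    rfl
  map_mul' f g := by
    apply Submodule.linearMap_qext
    ext x
    rfl
  map_zero' := by
    apply Submodule.linearMap_qext
    ext x
    rfl
  map_add' f g := by
    apply Submodule.linearMap_qext
    ext x
    rfl

lemma barEnd_apply (f : Module.End A P) (x : P) :
    barEnd A P f ((JT A P).mkQ x) = (JT A P).mkQ (f x) := rfl

lemma barEnd_eq_zero_iff (f : Module.End A P) :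
    barEnd A P f = 0 ↔ LinearMap.range f ≤ JT A P := by
  constructor
  · rintro h _ ⟨x, rfl⟩
    have := LinearMap.congr_fun h ((JT A P).mkQ x)
    rw [barEnd_apply, LinearMap.zero_apply] at this
    rwa [← Submodule.ker_mkQ (JT A P), LinearMap.mem_ker]
  · intro h
    apply Submodule.linearMap_qext
    ext x
    have : f x ∈ JT A P := h ⟨x, rfl⟩
    rw [← Submodule.ker_mkQ (JT A P), LinearMap.mem_ker] at this
    change (JT A P).mkQ (f x) = 0
    exact this

lemma barEnd_surjective [Module.Projective A P] : Function.Surjective (barEnd A P) := by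
  intro p
  obtain ⟨f, hf⟩ := Module.projective_lifting_property (JT A P).mkQ
    (p.comp (JT A P).mkQ) (Submodule.mkQ_surjective _)
  refine ⟨f, ?_⟩
  apply Submodule.linearMap_qext
  ext x
  exact LinearMap.congr_fun hf x

/-- Elements of the kernel of `barEnd` lie in the Jacobson radical. -/
lemma mem_jacobson_of_barEnd_eq_zero [Module.Finite A P] [Module.Projective A P]
    (f : Module.End A P) (hf : barEnd A P f = 0) : f ∈ Ring.jacobson (Module.End A P) := by
  rw [← Ideal.jacobson_bot, Ideal.mem_jacobson_iff]
  intro y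
  have hyf : LinearMap.range (y * f) ≤ JT A P := by
    rw [← barEnd_eq_zero_iff, map_mul, hf, mul_zero]
  have hbij := bijective_id_add (y * f) hyf
  let E := LinearEquiv.ofBijective (LinearMap.id + y * f : P →ₗ[A] P) hbij
  refine ⟨E.symm.toLinearMap, ?_⟩
  rw [Ideal.mem_bot, sub_eq_zero]
  ext x
  have : E.symm ((LinearMap.id + y * f : P →ₗ[A] P) x) = x := E.symm_apply_apply x
  simp only [LinearMap.add_apply, LinearMap.id_coe, id_eq, map_add] at this
  simpa [Module.End.mul_apply, add_comm] using this

end Groth.Agent.Lib.Helper9.StrLoc
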