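import Mathlib
import Groth.Agent.Lib.Helper9.StrLocA

/-!
# `End_A(P) ≃+* End_A(Q)` implies `P ≃ Q` over a strongly local ring (helper9, for S13847)
-/

set_option autoImplicit false
set_option linter.style.haveILetI false
set_option linter.unusedSectionVars false

universe u v v' w

namespace Groth.Agent.Lib.Helper9.StrLoc

open Module

/-! ### Simple modules over a simple Artinian ring -/

theorem simple_iso (R : Type u) [Ring R] [IsSimpleRing R] [IsArtinianRing R]
    (S₁ : Type v) (S₂ : Type v') [AddCommGroup S₁] [Module R S₁] [AddCommGroup S₂] [Module R S₂]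
    [IsSimpleModule R S₁] [IsSimpleModule R S₂] : Nonempty (S₁ ≃ₗ[R] S₂) := by
  obtain ⟨I₁, ⟨e₁⟩⟩ := IsSemisimpleRing.exists_linearEquiv_ideal_of_isSimpleModule R S₁
  obtain ⟨I₂, ⟨e₂⟩⟩ := IsSemisimpleRing.exists_linearEquiv_ideal_of_isSimpleModule R S₂
  haveI : IsSimpleModule R I₁ := IsSimpleModule.congr e₁.symm
  haveI : IsSimpleModule R I₂ := IsSimpleModule.congr e₂.symm
  obtain ⟨e⟩ := IsSimpleRing.isIsotypic R R I₁ I₂
  exact ⟨e₁.trans (e.symm.trans e₂.symm)⟩

section A

variable (A : Type u) [Ring A] [IsSimpleRing (A ⧸ Ring.jacobson A)]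
  [IsArtinianRing (A ⧸ Ring.jacobson A)]

theorem simple_iso_A (S₁ : Type v) (S₂ : Type v') [AddCommGroup S₁] [Module A S₁]
    [AddCommGroup S₂] [Module A S₂] [IsSimpleModule A S₁] [IsSimpleModule A S₂]
    (h₁ : Module.IsTorsionBySet A S₁ (Ring.jacobson A))
    (h₂ : Module.IsTorsionBySet A S₂ (Ring.jacobson A)) : Nonempty (S₁ ≃ₗ[A] S₂) := by
  letI := h₁.module
  letI := h₂.module
  haveI : IsSimpleModule (A ⧸ Ring.jacobson A) S₁ :=
    (h₁.semilinearMap.isSimpleModule_iff_of_bijective Function.bijective_id).mp ‹_›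
  haveI : IsSimpleModule (A ⧸ Ring.jacobson A) S₂ :=
    (h₂.semilinearMap.isSimpleModule_iff_of_bijective Function.bijective_id).mp ‹_›
  obtain ⟨e⟩ := simple_iso (A ⧸ Ring.jacobson A) S₁ S₂
  haveI := h₁.isScalarTower (S := A)
  haveI := h₂.isScalarTower (S := A)
  exact ⟨e.restrictScalars A⟩

theorem isSemisimple_bar (P : Type v) [AddCommGroup P] [Module A P] :
    IsSemisimpleModule A (Bar A P) := by
  have h : Module.IsTorsionBySet A (Bar A P) (Ring.jacobson A) :=
    Module.isTorsionBySet_quotient_ideal_smul P (Ring.jacobson A)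
  rw [← h.isSemisimpleModule_iff]
  infer_instance

/-- A simple `A`-module killed by the radical. -/
theorem exists_simple :
    ∃ (S₀ : Type u) (_ : AddCommGroup S₀) (_ : Module A S₀), IsSimpleModule A S₀ ∧
      Module.IsTorsionBySet A S₀ (Ring.jacobson A) := by
  haveI : Nontrivial (A ⧸ Ring.jacobson A) := inferInstance
  haveI : Nontrivial A := by
    by_contra h
    rw [not_nontrivial_iff_subsingleton] at h
    have : Subsingleton (A ⧸ Ring.jacobson A) :=
      (Ideal.Quotient.mk_surjective (I := Ring.jacobson A)).subsingleton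
    exact not_subsingleton (A ⧸ Ring.jacobson A) this
  obtain ⟨m, hm⟩ := Ideal.exists_maximal A
  refine ⟨A ⧸ m, inferInstance, inferInstance,
    isSimpleModule_iff_quot_maximal.mpr ⟨m, hm, ⟨LinearEquiv.refl A _⟩⟩, ?_⟩
  intro x a
  obtain ⟨y, rfl⟩ := Submodule.Quotient.mk_surjective m x
  rw [← Submodule.Quotient.mk_smul, Submodule.Quotient.mk_eq_zero]
  exact Ring.jacobson_le_of_isMaximal m ((Ring.jacobson A).mul_mem_right y a.2)

/-- `P/JP` is a finite power of the simple module. -/
theorem exists_bar_equiv (P : Type v) [AddCommGroup P] [Module A P] [Module.Finite A P]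
    (S₀ : Type w) [AddCommGroup S₀] [Module A S₀] [IsSimpleModule A S₀]
    (hS₀ : Module.IsTorsionBySet A S₀ (Ring.jacobson A)) :
    ∃ n : ℕ, Nonempty (Bar A P ≃ₗ[A] (Fin n → S₀)) := by
  haveI := isSemisimple_bar A P
  have hiso : IsIsotypicOfType A (Bar A P) S₀ := by
    intro m _
    have hbar : Module.IsTorsionBySet A (Bar A P) (Ring.jacobson A) :=
      Module.isTorsionBySet_quotient_ideal_smul P (Ring.jacobson A)
    have hm : Module.IsTorsionBySet A m (Ring.jacobson A) := fun x a => Subtype.ext (@hbar x.1 a)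
    exact simple_iso_A A m S₀ hm hS₀
  exact hiso.linearEquiv_fun

end A

/-! ### Orthogonal idempotents modulo the radical -/

/-- `n` pairwise orthogonal idempotents modulo the Jacobson radical, none in the radical. -/
def OrthMod (E : Type*) [Ring E] (n : ℕ) : Prop :=
  ∃ e : Fin n → E, (∀ i, e i ∉ Ring.jacobson E) ∧ (∀ i, e i * e i - e i ∈ Ring.jacobson E) ∧
    ∀ i j, i ≠ j → e i * e j ∈ Ring.jacobson E

lemma mem_jacobson_ringEquiv {E E' : Type*} [Ring E] [Ring E'] (φ : E ≃+* E') (x : E) :
    φ x ∈ Ring.jacobson E' ↔ x ∈ Ring.jacobson E := by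
  constructor
  · intro hx
    haveI : RingHomSurjective (φ.symm : E' →+* E) := ⟨φ.symm.surjective⟩
    have := Ring.le_comap_jacobson (φ.symm : E' →+* E) hx
    simpa using this
  · intro hx
    haveI : RingHomSurjective (φ : E →+* E') := ⟨φ.surjective⟩
    exact Ring.le_comap_jacobson (φ : E →+* E') hx

lemma OrthMod.ringEquiv {E E' : Type*} [Ring E] [Ring E'] (φ : E ≃+* E') {n : ℕ}
    (h : OrthMod E n) : OrthMod E' n := by
  obtain ⟨e, h1, h2, h3⟩ := h
  refine ⟨fun i => φ (e i), fun i => ?_, fun i => ?_, fun i j hij => ?_⟩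
  · rw [mem_jacobson_ringEquiv]; exact h1 i
  · rw [← map_mul, ← map_sub, mem_jacobson_ringEquiv]; exact h2 i
  · rw [← map_mul, mem_jacobson_ringEquiv]; exact h3 i j hij

section Count

variable {A : Type u} [Ring A]
variable {P : Type v} [AddCommGroup P] [Module A P] [Module.Finite A P] [Module.Projective A P]

lemma mem_jacobson_iff_barEnd [IsSemisimpleModule A (Bar A P)] (f : Module.End A P) :
    f ∈ Ring.jacobson (Module.End A P) ↔ barEnd A P f = 0 := by
  constructor
  · intro hf
    haveI : RingHomSurjective (barEnd A P) := ⟨barEnd_surjective⟩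
    have h := Ring.le_comap_jacobson (barEnd A P) hf
    haveI : IsSemisimpleRing (Module.End A (Bar A P)) := IsSemisimpleRing.moduleEnd A (Bar A P)
    rw [Ideal.mem_comap, IsSemisimpleRing.jacobson_eq_bot, Ideal.mem_bot] at h
    exact h
  · exact mem_jacobson_of_barEnd_eq_zero f

variable {S₀ : Type w} [AddCommGroup S₀] [Module A S₀] [IsSimpleModule A S₀]

theorem orthMod_iff [IsSemisimpleModule A (Bar A P)] (a : ℕ)
    (ē : Bar A P ≃ₗ[A] (Fin a → S₀)) (n : ℕ) :
    OrthMod (Module.End A P) n ↔ n ≤ a := by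
  classical
  constructor
  · rintro ⟨e, h1, h2, h3⟩
    let p : Fin n → Module.End A (Bar A P) := fun i => barEnd A P (e i)
    have hp0 : ∀ i, p i ≠ 0 := fun i h => h1 i ((mem_jacobson_iff_barEnd _).mpr h)
    have hpp : ∀ i, p i * p i = p i := fun i => by
      have := (mem_jacobson_iff_barEnd _).mp (h2 i)
      rw [map_sub, map_mul, sub_eq_zero] at this
      exact this
    have hpq : ∀ i j, i ≠ j → p i * p j = 0 := fun i j hij => by
      have := (mem_jacobson_iff_barEnd _).mp (h3 i j hij)
      rw [map_mul] at this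
      exact this
    let Φ : Bar A P →ₗ[A] (Π i : Fin n, LinearMap.range (p i)) :=
      LinearMap.pi fun i => (p i).rangeRestrict
    have hΦ : Function.Surjective Φ := by
      intro w
      refine ⟨∑ i, (w i : Bar A P), ?_⟩
      funext j
      apply Subtype.ext
      change p j (∑ i, (w i : Bar A P)) = w j
      rw [map_sum, Finset.sum_eq_single j]
      · obtain ⟨u, hu⟩ := (w j).2
        rw [← hu, ← Module.End.mul_apply, hpp]
      · intro i _ hij
        obtain ⟨u, hu⟩ := (w i).2
        rw [← hu, ← Module.End.mul_apply, hpq j i (Ne.symm hij), LinearMap.zero_apply]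
      · intro h; exact absurd (Finset.mem_univ j) h
    have h1 : Module.length A (Π i : Fin n, LinearMap.range (p i)) ≤ Module.length A (Bar A P) :=
      Module.length_le_of_surjective Φ hΦ
    have h2 : Module.length A (Bar A P) = a := by
      rw [ē.length_eq, Module.length_pi_of_fintype]
      simp [Module.length_eq_one]
    have h3 : (n : ℕ∞) ≤ Module.length A (Π i : Fin n, LinearMap.range (p i)) := by
      rw [Module.length_pi_of_fintype]
      calc (n : ℕ∞) = ∑ _i : Fin n, (1 : ℕ∞) := by simp
        _ ≤ ∑ i : Fin n, Module.length A (LinearMap.range (p i)) := by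
          apply Finset.sum_le_sum
          intro i _
          haveI : Nontrivial (LinearMap.range (p i)) :=
            (Submodule.nontrivial_iff_ne_bot).mpr
              (fun h => hp0 i (LinearMap.range_eq_bot.mp h))
          exact Order.one_le_iff_pos.mpr Module.length_pos
    have h4 : (n : ℕ∞) ≤ a := h2 ▸ h3.trans h1
    exact_mod_cast h4
  · intro hn
    let ι : Fin n → Fin a := Fin.castLE hn
    have hι : Function.Injective ι := Fin.castLE_injective hn
    let p : Fin n → Module.End A (Bar A P) := fun i =>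
      ē.symm.toLinearMap ∘ₗ (LinearMap.single A (fun _ : Fin a => S₀) (ι i)) ∘ₗ
        (LinearMap.proj (ι i)) ∘ₗ ē.toLinearMap
    have hp_apply : ∀ i x, p i x = ē.symm (Pi.single (ι i) (ē x (ι i))) := fun i x => rfl
    have hchoose : ∀ i, ∃ f : Module.End A P, barEnd A P f = p i := fun i =>
      barEnd_surjective (p i)
    choose e he using hchoose
    refine ⟨e, fun i => ?_, fun i => ?_, fun i j hij => ?_⟩
    · rw [mem_jacobson_iff_barEnd, he]
      intro h
      haveI := IsSimpleModule.nontrivial A S₀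
      obtain ⟨s, hs⟩ := exists_ne (0 : S₀)
      have := LinearMap.congr_fun h (ē.symm (Pi.single (ι i) s))
      rw [hp_apply, LinearEquiv.apply_symm_apply, Pi.single_eq_same, LinearMap.zero_apply,
        LinearEquiv.map_eq_zero_iff] at this
      have := congrFun this (ι i)
      rw [Pi.single_eq_same, Pi.zero_apply] at this
      exact hs this
    · rw [mem_jacobson_iff_barEnd, map_sub, map_mul, he, sub_eq_zero]
      refine LinearMap.ext fun x => ?_
      rw [Module.End.mul_apply, hp_apply, hp_apply, LinearEquiv.apply_symm_apply,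
        Pi.single_eq_same]
    · rw [mem_jacobson_iff_barEnd, map_mul, he, he]
      refine LinearMap.ext fun x => ?_
      have hne : ι i ≠ ι j := fun h => hij (hι h)
      rw [Module.End.mul_apply, hp_apply, hp_apply, LinearEquiv.apply_symm_apply,
        Pi.single_eq_of_ne hne, Pi.single_zero, map_zero, LinearMap.zero_apply]

end Count

/-- **Main theorem**: over a strongly local ring, finitely generated projective modules with
isomorphic endomorphism rings are isomorphic. -/
theorem nonempty_linearEquiv_of_ringEquiv_end (A : Type u) [Ring A]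
    [IsSimpleRing (A ⧸ Ring.jacobson A)] [IsArtinianRing (A ⧸ Ring.jacobson A)]
    (P : Type v) (Q : Type v') [AddCommGroup P] [Module A P] [Module.Finite A P]
    [Module.Projective A P] [AddCommGroup Q] [Module A Q] [Module.Finite A Q]
    [Module.Projective A Q] (e : Module.End A P ≃+* Module.End A Q) : Nonempty (P ≃ₗ[A] Q) := by
  obtain ⟨S₀, _, _, hS, hS₀⟩ := exists_simple A
  haveI := isSemisimple_bar A P
  haveI := isSemisimple_bar A Q
  obtain ⟨a, ⟨eP⟩⟩ := exists_bar_equiv A P S₀ hS₀
  obtain ⟨b, ⟨eQ⟩⟩ := exists_bar_equiv A Q S₀ hS₀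
  have hab : a ≤ b :=
    (orthMod_iff b eQ a).mp (OrthMod.ringEquiv e ((orthMod_iff a eP a).mpr le_rfl))
  have hba : b ≤ a :=
    (orthMod_iff a eP b).mp (OrthMod.ringEquiv e.symm ((orthMod_iff b eQ b).mpr le_rfl))
  obtain rfl : a = b := le_antisymm hab hba
  exact lift_iso (eP.trans eQ.symm)

end Groth.Agent.Lib.Helper9.StrLoc
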