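import Mathlib
import Groth.Agent.Lib.Helper9.TIBase

/-!
# Tor-independent base change of morphisms, products of morphisms (helper9)

* `tiBaseChange_of_ringHom`: a local property of morphisms whose ring-hom property is stable under base change
  `B → A ⇝ C ⊗_R B → C ⊗_R A` (with `B`, `A` flat over `R`) is stable under base change of `f : X ⟶ T` along
  `T₁ ×_S T ⟶ T` when `T` and `X` are flat over `S`.
* `exists_prod_factorization`: `f₁ ×_S f₂ = (f₁ × id) ≫ (id × f₂)`.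
-/

set_option autoImplicit false
set_option linter.style.haveILetI false
universe u
open CategoryTheory CategoryTheory.Limits AlgebraicGeometry Opposite TopologicalSpace MorphismProperty
open Groth.Agent.Lib.Helper9.RelBridge

attribute [local instance] HasDerivedCategory.standard

namespace Groth.Agent.Lib.Helper9.PCM

section generic

variable {P : MorphismProperty Scheme.{u}}
  {Q : ∀ {R S : Type u} [CommRing R] [CommRing S], (R →+* S) → Prop}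

/-- base change along `T₁ ×_S T ⟶ T` for `T` and `X` flat over `S` -/
theorem tiBaseChange_of_ringHom [HasRingHomProperty P Q]
    (hbc : ∀ {R B C B' A A' : Type u} [CommRing R] [CommRing B] [CommRing C] [CommRing B']
      [CommRing A] [CommRing A'] [Algebra R B] [Algebra R C] [Algebra R B'] [Algebra B B']
      [Algebra C B'] [IsScalarTower R B B'] [IsScalarTower R C B'] [Algebra.IsPushout R C B B']
      [Algebra B A] [Algebra R A] [IsScalarTower R B A] [Algebra B A'] [Algebra A A']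
      [Algebra B' A'] [IsScalarTower B A A'] [IsScalarTower B B' A'] [Algebra.IsPushout B A B' A']
      [Module.Flat R B] [Module.Flat R A], Q (algebraMap B A) → Q (algebraMap B' A'))
    (hsrc : RingHom.StableUnderCompositionWithLocalizationAwaySource Q)
    {S T T₁ T' X X' : Scheme.{u}} (q : T ⟶ S) (q₁ : T₁ ⟶ S) (f : X ⟶ T) [Flat q] [Flat (f ≫ q)]
    {p₁ : T' ⟶ T₁} {g : T' ⟶ T} (hT : IsPullback p₁ g q₁ q)
    {g' : X' ⟶ X} {f' : X' ⟶ T'} (hc : IsPullback g' f' f g) (hf : P f) : P f' := by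
  rw [HasRingHomProperty.iff_exists_appLE (P := P) hsrc]
  intro x'
  obtain ⟨V₀, hV₀, hxV₀⟩ : ∃ V₀ : S.Opens, IsAffineOpen V₀ ∧ q (g (f' x')) ∈ V₀ := by
    obtain ⟨V, hV, hxV, -⟩ := Opens.isBasis_iff_nbhd.mp S.isBasis_affineOpens
      (Opens.mem_top (q (g (f' x'))))
    exact ⟨V, hV, hxV⟩
  obtain ⟨V, hV, hxV, hVV₀⟩ : ∃ V : T.Opens, IsAffineOpen V ∧ g (f' x') ∈ V ∧ V ≤ q ⁻¹ᵁ V₀ := by
    obtain ⟨V, hV, hxV, hVV₀⟩ := Opens.isBasis_iff_nbhd.mp T.isBasis_affineOpens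
      (show g (f' x') ∈ q ⁻¹ᵁ V₀ from hxV₀)
    exact ⟨V, hV, hxV, hVV₀⟩
  have hq₁ : q₁ (p₁ (f' x')) ∈ V₀ := by
    have e : q₁ (p₁ (f' x')) = q (g (f' x')) := by
      change (p₁ ≫ q₁) (f' x') = (g ≫ q) (f' x')
      rw [hT.w]
    rw [e]
    exact hxV₀
  obtain ⟨V₁, hV₁, hxV₁, hV₁V₀⟩ :
      ∃ V₁ : T₁.Opens, IsAffineOpen V₁ ∧ p₁ (f' x') ∈ V₁ ∧ V₁ ≤ q₁ ⁻¹ᵁ V₀ := by
    obtain ⟨V₁, hV₁, hxV₁, hV₁V₀⟩ := Opens.isBasis_iff_nbhd.mp T₁.isBasis_affineOpens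
      (show p₁ (f' x') ∈ q₁ ⁻¹ᵁ V₀ from hq₁)
    exact ⟨V₁, hV₁, hxV₁, hV₁V₀⟩
  set W : T'.Opens := p₁ ⁻¹ᵁ V₁ ⊓ g ⁻¹ᵁ V with hW
  have hWaff : IsAffineOpen W := by
    haveI : IsAffine V₀.toScheme := hV₀
    haveI : IsAffine V.toScheme := hV
    haveI : IsAffine V₁.toScheme := hV₁
    exact .of_isIso (Scheme.Hom.isPullback_resLE hT hVV₀ hV₁V₀ hW).isoPullback.hom
  have hisoT := isIso_pushoutSection_of_isAffineOpen hT hVV₀ hV₁V₀ hW hV₀ hV hV₁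
  have hpoT := (isIso_pushoutSection_iff hT hVV₀ hV₁V₀ hW).1 hisoT
  have hWV : W ≤ g ⁻¹ᵁ V := inf_le_right
  have hWV₁ : W ≤ p₁ ⁻¹ᵁ V₁ := inf_le_left
  have hxW : f' x' ∈ W := ⟨hxV₁, hxV⟩
  have hfx : f (g' x') ∈ V := by
    have e : f (g' x') = g (f' x') := by
      rw [← Scheme.Hom.comp_apply, ← Scheme.Hom.comp_apply, hc.w]
    rw [e]
    exact hxV
  obtain ⟨U, hU, hxU, hUV⟩ : ∃ U : X.Opens, IsAffineOpen U ∧ g' x' ∈ U ∧ U ≤ f ⁻¹ᵁ V := by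
    obtain ⟨U, hU, hxU, hUV⟩ := Opens.isBasis_iff_nbhd.mp X.isBasis_affineOpens
      (show g' x' ∈ f ⁻¹ᵁ V from hfx)
    exact ⟨U, hU, hxU, hUV⟩
  set U' : X'.Opens := g' ⁻¹ᵁ U ⊓ f' ⁻¹ᵁ W with hU'
  have hU'aff : IsAffineOpen U' := by
    haveI : IsAffine V.toScheme := hV
    haveI : IsAffine W.toScheme := hWaff
    haveI : IsAffine U.toScheme := hU
    exact .of_isIso (Scheme.Hom.isPullback_resLE hc hWV hUV hU').isoPullback.hom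
  have hiso := isIso_pushoutSection_of_isAffineOpen hc hWV hUV hU' hV hWaff hU
  have hpo := (isIso_pushoutSection_iff hc hWV hUV hU').1 hiso
  have hleU : U' ≤ g' ⁻¹ᵁ U := inf_le_left
  have hleW : U' ≤ f' ⁻¹ᵁ W := inf_le_right
  refine ⟨⟨W, hWaff⟩, ⟨U', hU'aff⟩, ⟨hxU, hxW⟩, hleW, ?_⟩
  have hQ : Q (f.appLE V U hUV).hom := HasRingHomProperty.appLE P f hf ⟨V, hV⟩ ⟨U, hU⟩ hUV
  letI algRB : Algebra Γ(S, V₀) Γ(T, V) := (q.appLE V₀ V hVV₀).hom.toAlgebra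
  letI algRC : Algebra Γ(S, V₀) Γ(T₁, V₁) := (q₁.appLE V₀ V₁ hV₁V₀).hom.toAlgebra
  letI algBB' : Algebra Γ(T, V) Γ(T', W) := (g.appLE V W hWV).hom.toAlgebra
  letI algCB' : Algebra Γ(T₁, V₁) Γ(T', W) := (p₁.appLE V₁ W hWV₁).hom.toAlgebra
  letI algRB' : Algebra Γ(S, V₀) Γ(T', W) :=
    ((algebraMap Γ(T, V) Γ(T', W)).comp (algebraMap Γ(S, V₀) Γ(T, V))).toAlgebra
  haveI tRBB' : IsScalarTower Γ(S, V₀) Γ(T, V) Γ(T', W) :=
    IsScalarTower.of_algebraMap_eq (fun _ => rfl)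
  haveI tRCB' : IsScalarTower Γ(S, V₀) Γ(T₁, V₁) Γ(T', W) :=
    IsScalarTower.of_algebraMap_eq (fun r => by
      have := congrArg (fun ψ => ψ.hom r) hpoT.w
      exact this.symm)
  haveI poT : Algebra.IsPushout Γ(S, V₀) Γ(T₁, V₁) Γ(T, V) Γ(T', W) :=
    CommRingCat.isPushout_iff_isPushout.1 hpoT
  letI algBA : Algebra Γ(T, V) Γ(X, U) := (f.appLE V U hUV).hom.toAlgebra
  letI algRA : Algebra Γ(S, V₀) Γ(X, U) :=
    ((algebraMap Γ(T, V) Γ(X, U)).comp (algebraMap Γ(S, V₀) Γ(T, V))).toAlgebra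
  haveI tRBA : IsScalarTower Γ(S, V₀) Γ(T, V) Γ(X, U) :=
    IsScalarTower.of_algebraMap_eq (fun _ => rfl)
  letI algAA' : Algebra Γ(X, U) Γ(X', U') := (g'.appLE U U' hleU).hom.toAlgebra
  letI algB'A' : Algebra Γ(T', W) Γ(X', U') := (f'.appLE W U' hleW).hom.toAlgebra
  letI algBA' : Algebra Γ(T, V) Γ(X', U') :=
    ((algebraMap Γ(X, U) Γ(X', U')).comp (algebraMap Γ(T, V) Γ(X, U))).toAlgebra
  haveI tBAA' : IsScalarTower Γ(T, V) Γ(X, U) Γ(X', U') :=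
    IsScalarTower.of_algebraMap_eq (fun _ => rfl)
  haveI tBB'A' : IsScalarTower Γ(T, V) Γ(T', W) Γ(X', U') :=
    IsScalarTower.of_algebraMap_eq (fun r => by
      have := congrArg (fun ψ => ψ.hom r) hpo.w
      exact this)
  haveI po : Algebra.IsPushout Γ(T, V) Γ(X, U) Γ(T', W) Γ(X', U') :=
    CommRingCat.isPushout_iff_isPushout.1 hpo
  haveI flatRB : Module.Flat Γ(S, V₀) Γ(T, V) :=
    HasRingHomProperty.appLE (P := @Flat) q inferInstance ⟨V₀, hV₀⟩ ⟨V, hV⟩ hVV₀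
  have hUV₀ : U ≤ (f ≫ q) ⁻¹ᵁ V₀ := hUV.trans ((Opens.map f.base).map (homOfLE hVV₀)).le
  haveI flatRA : Module.Flat Γ(S, V₀) Γ(X, U) := by
    have h := HasRingHomProperty.appLE (P := @Flat) (f ≫ q) inferInstance ⟨V₀, hV₀⟩ ⟨U, hU⟩ hUV₀
    have e : (f ≫ q).appLE V₀ U hUV₀ = q.appLE V₀ V hVV₀ ≫ f.appLE V U hUV :=
      (Scheme.Hom.appLE_comp_appLE f q V₀ V U hVV₀ hUV).symm
    rw [e] at h
    exact h
  exact hbc (R := Γ(S, V₀)) (B := Γ(T, V)) (C := Γ(T₁, V₁)) (B' := Γ(T', W)) (A := Γ(X, U))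
    (A' := Γ(X', U')) hQ

end generic

theorem tdleMor_stableUnderFlatBaseChange (d : ℕ) : StableUnderFlatBaseChange (tdleMor.{u} d) :=
  stableUnderFlatBaseChange_of_ringHom (fun {R S R' S'} _ _ _ _ _ _ _ _ _ _ _ _ _ h => by
    rw [tdleRingHom_algebraMap] at h ⊢
    haveI : Algebra.IsPushout R R' S S' := Algebra.IsPushout.symm inferInstance
    exact hasTorDimLE_of_linearEquiv (Algebra.IsPushout.equiv R R' S S').toLinearEquiv d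
      (hasTorDimLE_tensorProduct d h)) (tdle_sourceLoc d)

theorem tdleMor_flat_baseChange (d : ℕ) {X S X' S' : Scheme.{u}} {f : X ⟶ S} {f' : X' ⟶ S'}
    {g' : X' ⟶ X} {g : S' ⟶ S} [Flat g] (hc : IsPullback g' f' f g) (hf : tdleMor d f) :
    tdleMor d f' :=
  tdleMor_stableUnderFlatBaseChange d inferInstance hc hf

theorem tdleMor_tiBaseChange (d : ℕ) {S T T₁ T' X X' : Scheme.{u}} (q : T ⟶ S) (q₁ : T₁ ⟶ S)
    (f : X ⟶ T) [Flat q] [Flat (f ≫ q)] {p₁ : T' ⟶ T₁} {g : T' ⟶ T} (hT : IsPullback p₁ g q₁ q)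
    {g' : X' ⟶ X} {f' : X' ⟶ T'} (hc : IsPullback g' f' f g) (hf : tdleMor d f) : tdleMor d f' :=
  tiBaseChange_of_ringHom (P := tdleMor d)
    (fun {R _ C _ _ _} _ _ _ _ _ _ _ _ _ _ _ _ _ _ _ _ _ _ _ _ _ _ _ _ _ h =>
      tdleRingHom_algebraMap.2 (hasTorDimLE_ti (R := R) (C := C) d (tdleRingHom_algebraMap.1 h)))
    (tdle_sourceLoc d) q q₁ f hT hc hf

theorem npcMor_tiBaseChange (m : ℤ) {S T T₁ T' X X' : Scheme.{u}} (q : T ⟶ S) (q₁ : T₁ ⟶ S)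
    (f : X ⟶ T) [Flat q] [Flat (f ≫ q)] {p₁ : T' ⟶ T₁} {g : T' ⟶ T} (hT : IsPullback p₁ g q₁ q)
    {g' : X' ⟶ X} {f' : X' ⟶ T'} (hc : IsPullback g' f' f g) (hf : npcMor m f) : npcMor m f' :=
  tiBaseChange_of_ringHom (P := npcMor m)
    (fun {R _ C _ _ _} _ _ _ _ _ _ _ _ _ _ _ _ _ _ _ _ _ _ _ _ _ _ _ _ _ h =>
      npcHom_algebraMap.2 (NPCAlg.ti (R := R) (C := C) (npcHom_algebraMap.1 h)))
    (npcHom_sourceLoc m) q q₁ f hT hc hf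

/-- `f₁ ×_S f₂ = (f₁ × id) ≫ (id × f₂)`: the second factor is the base change of `f₂` along `Y₁ ×_S Y₂ ⟶ Y₂`, the
first is the base change of `f₁` along the flat morphism `Y₁ ×_S X₂ ⟶ Y₁`. -/
theorem exists_prod_factorization {S X₁ Y₁ X₂ Y₂ X Y : Scheme.{u}} (f₁ : X₁ ⟶ Y₁) (q₁ : Y₁ ⟶ S)
    (f₂ : X₂ ⟶ Y₂) (q₂ : Y₂ ⟶ S) [Flat (f₂ ≫ q₂)]
    (pX₁ : X ⟶ X₁) (pX₂ : X ⟶ X₂) (hX : IsPullback pX₁ pX₂ (f₁ ≫ q₁) (f₂ ≫ q₂))
    (pY₁ : Y ⟶ Y₁) (pY₂ : Y ⟶ Y₂) (hY : IsPullback pY₁ pY₂ q₁ q₂)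
    (f : X ⟶ Y) (hf₁ : f ≫ pY₁ = pX₁ ≫ f₁) (hf₂ : f ≫ pY₂ = pX₂ ≫ f₂) :
    ∃ (Z : Scheme.{u}) (g : X ⟶ Z) (zY : Z ⟶ Y) (zX₂ : Z ⟶ X₂) (zY₁ : Z ⟶ Y₁),
      g ≫ zY = f ∧ IsPullback zX₂ zY f₂ pY₂ ∧ Flat zY₁ ∧ IsPullback pX₁ g f₁ zY₁ := by
  have hZ : IsPullback (pullback.fst pY₂ f₂) (pullback.snd pY₂ f₂) pY₂ f₂ :=
    IsPullback.of_hasPullback pY₂ f₂
  have hg1 : hZ.lift f pX₂ hf₂ ≫ pullback.fst pY₂ f₂ = f := hZ.lift_fst _ _ _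
  have hg2 : hZ.lift f pX₂ hf₂ ≫ pullback.snd pY₂ f₂ = pX₂ := hZ.lift_snd _ _ _
  have hR : IsPullback (pullback.snd pY₂ f₂) (pullback.fst pY₂ f₂ ≫ pY₁) (f₂ ≫ q₂) q₁ :=
    hZ.flip.paste_vert hY.flip
  have hflat : Flat (pullback.fst pY₂ f₂ ≫ pY₁) :=
    MorphismProperty.of_isPullback (P := @Flat) hR inferInstance
  have hL : IsPullback (hZ.lift f pX₂ hf₂) pX₁ (pullback.fst pY₂ f₂ ≫ pY₁) f₁ := by
    refine IsPullback.of_right ?_ ?_ hR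
    · rw [hg2]
      exact hX.flip
    · rw [← Category.assoc, hg1, hf₁]
  exact ⟨pullback pY₂ f₂, hZ.lift f pX₂ hf₂, pullback.fst pY₂ f₂, pullback.snd pY₂ f₂,
    pullback.fst pY₂ f₂ ≫ pY₁, hg1, hZ.flip, hflat, hL.flip⟩

end Groth.Agent.Lib.Helper9.PCM
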