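import Mathlib
import Groth.Agent.Lib.Helper15.FiniteComplete

/-!
# Tamely, totally ramified extensions of complete DVRs with coefficient field (helper9)

`main`: a uniformizer `u` of `B` with `u ^ m ∈ A` generating the extension.
-/

set_option autoImplicit false
set_option linter.style.haveILetI false
set_option linter.unusedSectionVars false
set_option linter.unusedVariables false

namespace Groth.Agent.Lib.Helper9.TameRam

open IsLocalRing Polynomial

attribute [local instance] Ideal.Quotient.field

/-- completeness for cofinal ideals -/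
theorem isAdicComplete_of_le_of_pow_le {S M : Type*} [CommRing S] [AddCommGroup M] [Module S M]
    (I J : Ideal S) (hIJ : I ≤ J) (N : ℕ) (hN : J ^ N ≤ I) [IsAdicComplete I M] :
    IsAdicComplete J M := by
  have hN' : J ^ (N + 1) ≤ I := (Ideal.pow_le_pow_right (Nat.le_succ N)).trans hN
  have hJI : ∀ m, (J ^ ((N + 1) * m) • ⊤ : Submodule S M) ≤ I ^ m • ⊤ := by
    intro m
    apply Submodule.smul_mono_left
    rw [pow_mul]
    exact Ideal.pow_right_mono hN' m
  have hIJ' : ∀ m, (I ^ m • ⊤ : Submodule S M) ≤ J ^ m • ⊤ := fun m =>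
    Submodule.smul_mono_left (Ideal.pow_right_mono hIJ m)
  haveI : IsHausdorff J M := by
    refine ⟨fun x hx => ?_⟩
    apply IsHausdorff.haus (inferInstance : IsHausdorff I M) x
    intro m
    have := hx ((N + 1) * m)
    rw [SModEq.zero] at this ⊢
    exact hJI m this
  haveI : IsPrecomplete J M := by
    refine ⟨fun f hf => ?_⟩
    have hg : ∀ {m l}, m ≤ l →
        f ((N + 1) * m) ≡ f ((N + 1) * l) [SMOD (I ^ m • ⊤ : Submodule S M)] := by
      intro m l hml
      have := hf (Nat.mul_le_mul_left (N + 1) hml)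
      rw [SModEq.sub_mem] at this ⊢
      exact hJI m this
    obtain ⟨L, hL⟩ := IsPrecomplete.prec (inferInstance : IsPrecomplete I M)
      (f := fun m => f ((N + 1) * m)) hg
    refine ⟨L, fun m => ?_⟩
    have h1 : f m ≡ f ((N + 1) * m) [SMOD (J ^ m • ⊤ : Submodule S M)] :=
      hf (Nat.le_mul_of_pos_left m (Nat.succ_pos N))
    have h2 : f ((N + 1) * m) ≡ L [SMOD (J ^ m • ⊤ : Submodule S M)] := by
      have := hL m
      rw [SModEq.sub_mem] at this ⊢
      exact hIJ' m this
    exact h1.trans h2
  exact {}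

/-- `m`-th roots of one-units in a complete local ring in which `m` is invertible. -/
theorem exists_root_oneUnit {B : Type*} [CommRing B] [IsLocalRing B]
    [IsAdicComplete (maximalIdeal B) B] (m : ℕ) (hm : 0 < m)
    (hmB : IsUnit (m : B)) (ε : B) (h1 : ε - 1 ∈ maximalIdeal B) :
    ∃ v : B, IsUnit v ∧ v ^ m = ε := by
  have hH : HenselianRing B (maximalIdeal B) := inferInstance
  have hmon : (X ^ m - C ε : B[X]).Monic := monic_X_pow_sub_C _ hm.ne'
  have h0 : (X ^ m - C ε : B[X]).eval 1 ∈ maximalIdeal B := by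
    simp only [eval_sub, eval_pow, eval_X, one_pow, eval_C]
    have : (1 : B) - ε = -(ε - 1) := by ring
    rw [this]; exact neg_mem h1
  have hder : IsUnit (Ideal.Quotient.mk (maximalIdeal B)
      ((X ^ m - C ε : B[X]).derivative.eval 1)) := by
    have : (X ^ m - C ε : B[X]).derivative.eval 1 = (m : B) := by
      rw [derivative_sub, derivative_C, sub_zero, derivative_X_pow, eval_mul, eval_pow, eval_X,
        one_pow, mul_one, eval_C]
    rw [this]
    exact hmB.map _
  obtain ⟨a, ha, ha1⟩ := hH.is_henselian _ hmon 1 h0 hder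
  refine ⟨a, ?_, ?_⟩
  · rw [← IsLocalRing.notMem_maximalIdeal]
    intro h
    have h2 : (1 : B) ∈ maximalIdeal B := by
      have := sub_mem h ha1
      simpa using this
    exact (maximalIdeal.isMaximal B).ne_top ((Ideal.eq_top_iff_one _).2 h2)
  · have : a ^ m - ε = 0 := by simpa [IsRoot.def, eval_sub, eval_pow] using ha
    exact sub_eq_zero.1 this

theorem main (K A B : Type*) [Field K]
    [CommRing A] [IsDomain A] [IsDiscreteValuationRing A]
    [IsAdicComplete (maximalIdeal A) A]
    [Algebra K A] (hK : Function.Bijective ((residue A).comp (algebraMap K A)))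
    [CommRing B] [IsDedekindDomain B] [Algebra A B] [Module.Finite A B] [Module.IsTorsionFree A B]
    (M : Ideal B) [hMmaxI : M.IsMaximal] (hram : M.ramificationIdx A = Module.finrank A B)
    (hm : IsUnit ((Module.finrank A B : ℕ) : A)) :
    ∃ u : B, u ∈ M ∧ u ∉ M ^ 2 ∧ u ^ Module.finrank A B ∈ (algebraMap A B).range ∧
      (minpoly A u).natDegree = Module.finrank A B := by
  classical
  have hinj : Function.Injective (algebraMap A B) := FaithfulSMul.algebraMap_injective A B
  haveI : Algebra.IsIntegral A B := inferInstance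
  -- B not a field
  have hBnf : ¬ IsField B := fun hB =>
    IsDiscreteValuationRing.not_isField A (isField_of_isIntegral_of_isField hinj hB)
  have hM0 : M ≠ ⊥ := Ring.ne_bot_of_isMaximal_of_not_isField hMmaxI hBnf
  -- M lies over 𝔪
  have hMunder : M.under A = maximalIdeal A := by
    have : (M.under A).IsMaximal := Ideal.isMaximal_comap_of_isIntegral_of_isMaximal M
    exact IsLocalRing.eq_maximalIdeal this
  haveI hLO : M.LiesOver (maximalIdeal A) := ⟨hMunder.symm⟩
  haveI : Module.Flat A B := inferInstance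
  haveI : Fintype ((maximalIdeal A).primesOver B) := inferInstance
  have hsum := Ideal.sum_ramification_inertia_eq_finrank (maximalIdeal A) B
  let M' : (maximalIdeal A).primesOver B := ⟨M, ⟨hMmaxI.isPrime, hLO⟩⟩
  have hpos : ∀ q : (maximalIdeal A).primesOver B,
      0 < q.1.ramificationIdx A * q.1.inertiaDeg A := by
    intro q
    haveI := q.2.1
    exact Nat.mul_pos (Ideal.ramificationIdx_pos q.1 A) (Ideal.inertiaDeg_pos q.1 A)
  have hmpos : 0 < Module.finrank A B := Module.finrank_pos
  have hfpos : 0 < M.inertiaDeg A := Ideal.inertiaDeg_pos M A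
  have huniq : ∀ q : (maximalIdeal A).primesOver B, q = M' := by
    intro q
    by_contra hne
    have h2 : ∑ x ∈ ({M', q} : Finset ((maximalIdeal A).primesOver B)),
        (x.1.ramificationIdx A * x.1.inertiaDeg A) ≤ Module.finrank A B := by
      rw [← hsum]
      exact Finset.sum_le_sum_of_subset (Finset.subset_univ _)
    rw [Finset.sum_pair (Ne.symm hne)] at h2
    have h3 := hpos q
    have h4 : Module.finrank A B ≤ M.ramificationIdx A * M.inertiaDeg A := by
      rw [hram]; exact Nat.le_mul_of_pos_right _ hfpos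
    have h5 : M'.1 = M := rfl
    rw [h5] at h2
    omega
  have hf1 : M.inertiaDeg A = 1 := by
    have h2 : M.ramificationIdx A * M.inertiaDeg A ≤ Module.finrank A B := by
      rw [← hsum]
      exact Finset.single_le_sum (f := fun x : (maximalIdeal A).primesOver B =>
        x.1.ramificationIdx A * x.1.inertiaDeg A) (fun _ _ => Nat.zero_le _) (Finset.mem_univ M')
    rw [hram] at h2
    have h3 : Module.finrank A B * M.inertiaDeg A ≤ Module.finrank A B * 1 := by
      rw [mul_one]; exact h2
    have := Nat.le_of_mul_le_mul_left h3 hmpos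
    omega
  -- residue field surjectivity
  have hres : ∀ b : B, ∃ c : K, b - algebraMap A B (algebraMap K A c) ∈ M := by
    have h1 : Module.finrank (A ⧸ maximalIdeal A) (B ⧸ M) = 1 := by
      rw [← Ideal.inertiaDeg_eq_of_isMaximal (maximalIdeal A) M, hf1]
    have hsurj : Function.Surjective (algebraMap (A ⧸ maximalIdeal A) (B ⧸ M)) := by
      rw [Algebra.surjective_algebraMap_iff]
      exact (Subalgebra.bot_eq_top_of_finrank_eq_one h1).symm
    intro b
    obtain ⟨abar, ha⟩ := hsurj (Ideal.Quotient.mk M b)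
    obtain ⟨a, rfl⟩ := Ideal.Quotient.mk_surjective abar
    obtain ⟨c, hc⟩ := hK.2 (residue A a)
    refine ⟨c, ?_⟩
    have h2 : a - algebraMap K A c ∈ maximalIdeal A := by
      rw [← Ideal.Quotient.eq]
      exact hc.symm
    have h3 : algebraMap A B (a - algebraMap K A c) ∈ M := by
      have : a - algebraMap K A c ∈ M.under A := hMunder ▸ h2
      exact this
    have h4 : b - algebraMap A B a ∈ M := by
      rw [← Ideal.Quotient.eq, ← ha]
      rfl
    have : b - algebraMap A B (algebraMap K A c) =
        (b - algebraMap A B a) + algebraMap A B (a - algebraMap K A c) := by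
      rw [map_sub]; ring
    rw [this]; exact add_mem h4 h3
  -- B local
  haveI : IsLocalRing B := IsLocalRing.of_unique_max_ideal ⟨M, hMmaxI, fun N hN => by
    haveI : N.IsMaximal := hN
    have hNu : N.under A = maximalIdeal A :=
      IsLocalRing.eq_maximalIdeal (Ideal.isMaximal_comap_of_isIntegral_of_isMaximal N)
    have := huniq ⟨N, ⟨hN.isPrime, ⟨hNu.symm⟩⟩⟩
    exact congrArg Subtype.val this⟩
  have hMmax : maximalIdeal B = M := (IsLocalRing.eq_maximalIdeal hMmaxI).symm
  haveI : IsDiscreteValuationRing B :=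
    ((IsDiscreteValuationRing.TFAE B hBnf).out 0 2 :
      IsDiscreteValuationRing B ↔ IsDedekindDomain B).mpr inferInstance
  obtain ⟨π, hπ⟩ := IsDiscreteValuationRing.exists_irreducible B
  have hMπ : M = Ideal.span {π} := by
    rw [← hMmax]; exact (IsDiscreteValuationRing.irreducible_iff_uniformizer π).1 hπ
  obtain ⟨t, ht⟩ := IsDiscreteValuationRing.exists_irreducible A
  have h𝔪t : maximalIdeal A = Ideal.span {t} :=
    (IsDiscreteValuationRing.irreducible_iff_uniformizer t).1 ht
  have hmap : (maximalIdeal A).map (algebraMap A B) = Ideal.span {algebraMap A B t} := by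
    rw [h𝔪t, Ideal.map_span, Set.image_singleton]
  have ht0 : algebraMap A B t ≠ 0 := fun h => ht.ne_zero (hinj (by rw [h, map_zero]))
  have hmapne : (maximalIdeal A).map (algebraMap A B) ≠ ⊥ := by
    rw [hmap, Ne, Ideal.span_singleton_eq_bot]; exact ht0
  obtain ⟨k, hk⟩ := IsDiscreteValuationRing.ideal_eq_span_pow_irreducible hmapne hπ
  have hk' : (maximalIdeal A).map (algebraMap A B) = M ^ k := by
    rw [hk, hMπ, Ideal.span_singleton_pow]
  have hkm : k = Module.finrank A B := by
    have h1 : (maximalIdeal A).ramificationIdx' M = M.ramificationIdx A :=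
      Ideal.ramificationIdx'_eq_ramificationIdx (maximalIdeal A) M
        (by rw [h𝔪t, Ne, Ideal.span_singleton_eq_bot]; exact ht.ne_zero)
    have h2 : (maximalIdeal A).ramificationIdx' M = k := by
      apply Ideal.ramificationIdx'_spec
      · rw [hk']
      · rw [hk']
        intro hle
        have h3 : π ^ k ∈ M ^ (k + 1) :=
          hle (by rw [hMπ, Ideal.span_singleton_pow]; exact Ideal.mem_span_singleton_self _)
        rw [hMπ, Ideal.span_singleton_pow, Ideal.mem_span_singleton] at h3
        obtain ⟨c, hc⟩ := h3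
        have h4 : π ^ k * 1 = π ^ k * (π * c) := by
          rw [mul_one, ← mul_assoc, ← pow_succ]; exact hc
        have h5 := mul_left_cancel₀ (pow_ne_zero k hπ.ne_zero) h4
        exact hπ.not_isUnit (IsUnit.of_mul_eq_one c h5.symm)
    rw [← h2, h1, hram]
  -- completeness
  haveI hcomp : IsAdicComplete (maximalIdeal B) B := by
    haveI := Groth.Agent.Lib.Helper15.FiniteComplete.isAdicComplete_mS A B
    refine isAdicComplete_of_le_of_pow_le ((maximalIdeal A).map (algebraMap A B))
      (maximalIdeal B) ?_ k ?_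
    · rw [hMmax]
      exact Ideal.map_le_iff_le_comap.mpr (le_of_eq hMunder.symm)
    · rw [hMmax, hk']
  have hassoc : Associated (π ^ Module.finrank A B) (algebraMap A B t) := by
    rw [← Ideal.span_singleton_eq_span_singleton, ← hmap, hk', hkm, hMπ, Ideal.span_singleton_pow]
  obtain ⟨ε, hε⟩ := hassoc
  obtain ⟨c, hc⟩ := hres (ε : B)
  have hc0 : c ≠ 0 := by
    rintro rfl
    simp only [map_zero, sub_zero] at hc
    have : (ε : B) ∈ maximalIdeal B := hMmax.symm ▸ hc
    exact (IsLocalRing.notMem_maximalIdeal.2 ε.isUnit) this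
  obtain ⟨d', hd'⟩ := (Ne.isUnit hc0).map (algebraMap K A)
  have hdc : ((d'⁻¹ : Aˣ) : A) * algebraMap K A c = 1 := by rw [← hd']; exact Units.inv_mul d'
  have hε1 : (ε : B) * algebraMap A B ((d'⁻¹ : Aˣ) : A) - 1 ∈ M := by
    have : (ε : B) * algebraMap A B ((d'⁻¹ : Aˣ) : A) - 1 =
        algebraMap A B ((d'⁻¹ : Aˣ) : A) * ((ε : B) - algebraMap A B (algebraMap K A c)) := by
      rw [mul_sub, ← map_mul, hdc, map_one]; ring
    rw [this]; exact M.mul_mem_left _ hc
  have hmB : IsUnit ((Module.finrank A B : ℕ) : B) := by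
    have := hm.map (algebraMap A B); simpa using this
  obtain ⟨η, hηu, hη⟩ := exists_root_oneUnit (Module.finrank A B) hmpos hmB
    ((ε : B) * algebraMap A B ((d'⁻¹ : Aˣ) : A)) (hMmax.symm ▸ hε1)
  have hua : (π * η) ^ Module.finrank A B = algebraMap A B (t * ((d'⁻¹ : Aˣ) : A)) := by
    rw [mul_pow, hη, map_mul, ← hε]; ring
  refine ⟨π * η, ?_, ?_, ⟨_, hua.symm⟩, ?_⟩
  · rw [hMπ]; exact Ideal.mul_mem_right _ _ (Ideal.mem_span_singleton_self π)
  · rw [hMπ, Ideal.span_singleton_pow, Ideal.mem_span_singleton]
    rintro ⟨b, hb⟩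
    have h1 : π * η = π * (π * b) := by rw [hb]; ring
    have h2 := mul_left_cancel₀ hπ.ne_zero h1
    rw [h2] at hηu
    exact hπ.not_isUnit (isUnit_of_mul_isUnit_left hηu)
  · have haeval : Polynomial.aeval (π * η)
        (X ^ Module.finrank A B - C (t * ((d'⁻¹ : Aˣ) : A)) : A[X]) = 0 := by
      simp [hua]
    have hint : IsIntegral A (π * η) := Algebra.IsIntegral.isIntegral _
    have hdvd := minpoly.isIntegrallyClosed_dvd hint haeval
    have hEis : (X ^ Module.finrank A B - C (t * ((d'⁻¹ : Aˣ) : A)) : A[X]).IsEisensteinAt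
        (maximalIdeal A) := by
      refine ⟨?_, ?_, ?_⟩
      · rw [(monic_X_pow_sub_C _ hmpos.ne').leadingCoeff]
        exact fun h => (maximalIdeal.isMaximal A).ne_top ((Ideal.eq_top_iff_one _).2 h)
      · intro n hn
        rw [natDegree_X_pow_sub_C] at hn
        rw [coeff_sub, coeff_X_pow, if_neg hn.ne, coeff_C]
        split_ifs with h0
        · rw [zero_sub]
          exact neg_mem (by
            rw [h𝔪t]; exact Ideal.mul_mem_right _ _ (Ideal.mem_span_singleton_self t))
        · simp
      · rw [coeff_sub, coeff_X_pow, if_neg hmpos.ne, coeff_C_zero, zero_sub, neg_mem_iff,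
          h𝔪t, Ideal.span_singleton_pow, Ideal.mem_span_singleton]
        rintro ⟨b, hb⟩
        have h1 : t * ((d'⁻¹ : Aˣ) : A) = t * (t * b) := by rw [hb]; ring
        have h2 := mul_left_cancel₀ ht.ne_zero h1
        have h3 : IsUnit (t * b) := h2 ▸ (d'⁻¹).isUnit
        exact ht.not_isUnit (isUnit_of_mul_isUnit_left h3)
    have hirr : Irreducible (X ^ Module.finrank A B - C (t * ((d'⁻¹ : Aˣ) : A)) : A[X]) :=
      hEis.irreducible inferInstance (monic_X_pow_sub_C _ hmpos.ne').isPrimitive
        (by rw [natDegree_X_pow_sub_C]; exact hmpos)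
    obtain ⟨h, hh⟩ := hdvd
    rcases hirr.isUnit_or_isUnit hh with hu | hu
    · exact absurd hu (minpoly.not_isUnit A (π * η))
    · have hdeg := congrArg natDegree hh
      rw [natDegree_X_pow_sub_C, natDegree_mul (minpoly.ne_zero hint) hu.ne_zero,
        natDegree_eq_zero_of_isUnit hu, add_zero] at hdeg
      exact hdeg.symm

end Groth.Agent.Lib.Helper9.TameRam
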