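import Mathlib

/-! Todd series: the series `T = t e^t/(e^t-1)` and the identities
`coeff_n (T^(n+1)) = 1`, `coeff_n (e^{mt} T^(n+1)) = C(m+n,n)`. -/

namespace Helper9.Todd
open PowerSeries

noncomputable section

/-- `v = (e^t - 1)/t` -/
def v : ℚ⟦X⟧ := PowerSeries.mk (fun n => (1 : ℚ) / ((n + 1).factorial : ℚ))

def u : ℚ⟦X⟧ := v⁻¹

def T : ℚ⟦X⟧ := exp ℚ * u

lemma hexp (n : ℕ) : coeff n (exp ℚ) = 1 / (n.factorial : ℚ) := by
  rw [coeff_exp]; simp

lemma constantCoeff_v : constantCoeff v = 1 := by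
  simp [v]

lemma v_mul_u : v * u = 1 :=
  PowerSeries.mul_inv_cancel v (by rw [constantCoeff_v]; exact one_ne_zero)

lemma exp_sub_one : exp ℚ - 1 = X * v := by
  ext n
  cases n with
  | zero =>
    rw [coeff_zero_X_mul, map_sub, hexp, coeff_zero_one]; simp
  | succ n =>
    rw [coeff_succ_X_mul, map_sub, hexp, coeff_one, if_neg (Nat.succ_ne_zero n), sub_zero, v,
      coeff_mk]

lemma exp_eq : exp ℚ = v + X * d⁄dX ℚ v := by
  ext n
  cases n with
  | zero =>
    rw [map_add, coeff_zero_X_mul, add_zero, hexp, v, coeff_mk]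
    simp
  | succ n =>
    rw [map_add, coeff_succ_X_mul, coeff_derivative, hexp, v, coeff_mk]
    have hne : ((n + 1).factorial : ℚ) ≠ 0 := by exact_mod_cast Nat.factorial_ne_zero _
    have h2 : ((n + 1 + 1).factorial : ℚ) = ((n : ℚ) + 2) * ((n + 1).factorial : ℚ) := by
      rw [Nat.factorial_succ (n + 1)]; push_cast; ring
    have hne2 : ((n : ℚ) + 2) ≠ 0 := by positivity
    rw [h2]
    field_simp
    ring

lemma key (n j : ℕ) (hj : j ≤ n) :
    coeff n ((X * v) ^ j * exp ℚ * u ^ (n + 1)) = if j = n then 1 else 0 := by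
  have hvu : ∀ i : ℕ, v ^ i * u ^ i = 1 := fun i => by rw [← mul_pow, v_mul_u, one_pow]
  rcases hj.eq_or_lt with rfl | hlt
  · rw [if_pos rfl]
    have h1 : (X * v) ^ j * exp ℚ * u ^ (j + 1) = X ^ j * (1 + X * (u * d⁄dX ℚ v)) := by
      have e0 : (X * v) ^ j * exp ℚ * u ^ (j + 1) = X ^ j * ((v ^ j * u ^ j) * (u * exp ℚ)) := by
        rw [mul_pow, pow_succ]; ring
      rw [e0, hvu, one_mul]
      conv_lhs => rw [exp_eq]
      have e1 : u * v = 1 := by rw [mul_comm]; exact v_mul_u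
      rw [mul_add, e1]; ring
    rw [h1]
    have h2 := coeff_X_pow_mul (1 + X * (u * d⁄dX ℚ v)) j 0
    rw [zero_add] at h2
    rw [h2, map_add, coeff_zero_X_mul, add_zero, coeff_zero_one]
  · rw [if_neg hlt.ne]
    obtain ⟨k, rfl⟩ : ∃ k, n = j + (k + 1) := ⟨n - j - 1, by omega⟩
    have h1 : (X * v) ^ j * exp ℚ * u ^ (j + (k + 1) + 1) =
        X ^ j * (u ^ (k + 1) + X * (u ^ (k + 2) * d⁄dX ℚ v)) := by
      have e1 : u ^ (j + (k + 1) + 1) = u ^ j * u ^ (k + 2) := by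
        rw [← pow_add, show j + (k + 1) + 1 = j + (k + 2) from by omega]
      have e0 : (X * v) ^ j * exp ℚ * u ^ (j + (k + 1) + 1) =
          X ^ j * ((v ^ j * u ^ j) * (u ^ (k + 2) * exp ℚ)) := by
        rw [mul_pow, e1]; ring
      rw [e0, hvu, one_mul]
      conv_lhs => rw [exp_eq]
      have e2 : u ^ (k + 2) * v = u ^ (k + 1) := by
        rw [pow_succ, mul_assoc, mul_comm u v, v_mul_u, mul_one]
      rw [mul_add, e2]; ring
    rw [h1]
    have h2 := coeff_X_pow_mul (u ^ (k + 1) + X * (u ^ (k + 2) * d⁄dX ℚ v)) j (k + 1)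
    rw [show j + (k + 1) = k + 1 + j from by omega, h2, map_add, coeff_succ_X_mul]
    have h3 : d⁄dX ℚ (u ^ (k + 1)) =
        ((k + 1 : ℕ) : ℚ⟦X⟧) * u ^ k * (-u ^ 2 * d⁄dX ℚ v) := by
      rw [derivative_pow, Nat.add_sub_cancel]
      congr 1
      exact derivative_inv' v
    have h4 := coeff_derivative (u ^ (k + 1)) k
    rw [h3] at h4
    have h5 : ((k + 1 : ℕ) : ℚ⟦X⟧) * u ^ k * (-u ^ 2 * d⁄dX ℚ v) =
        C (((k + 1 : ℕ) : ℚ)) * (-(u ^ (k + 2) * d⁄dX ℚ v)) := by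
      rw [map_natCast]; ring
    rw [h5, coeff_C_mul, map_neg] at h4
    push_cast at h4
    have hk : ((k : ℚ) + 1) ≠ 0 := by positivity
    have h6 : ((k : ℚ) + 1) * (coeff k (u ^ (k + 2) * d⁄dX ℚ v) + coeff (k + 1) (u ^ (k + 1))) = 0 := by
      linear_combination (-1 : ℚ) * h4
    rcases mul_eq_zero.mp h6 with h | h
    · exact absurd h hk
    · linarith

lemma coeff_T_pow (n : ℕ) : coeff n (T ^ (n + 1)) = 1 := by
  have hE : exp ℚ = X * v + 1 := by linear_combination exp_sub_one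
  have h0 : T ^ (n + 1) = (X * v + 1) ^ n * (exp ℚ * u ^ (n + 1)) := by
    have : T ^ (n + 1) = (exp ℚ) ^ n * (exp ℚ * u ^ (n + 1)) := by rw [T]; ring
    rw [this]
    congr 1
    rw [← hE]
  have h1 : T ^ (n + 1) = ∑ j ∈ Finset.range (n + 1),
      (n.choose j : ℚ⟦X⟧) * ((X * v) ^ j * exp ℚ * u ^ (n + 1)) := by
    rw [h0, add_pow, Finset.sum_mul]
    refine Finset.sum_congr rfl fun j _ => ?_
    rw [one_pow, mul_one]; ring
  rw [h1, map_sum]
  have h2 : ∀ j ∈ Finset.range (n + 1),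
      coeff n ((n.choose j : ℚ⟦X⟧) * ((X * v) ^ j * exp ℚ * u ^ (n + 1))) =
        if j = n then 1 else 0 := by
    intro j hj
    rw [← map_natCast (C (R := ℚ)), coeff_C_mul,
      key n j (Nat.lt_succ_iff.mp (Finset.mem_range.mp hj))]
    split_ifs with h
    · subst h; simp
    · simp
  rw [Finset.sum_congr rfl h2, Finset.sum_ite_eq']
  simp

lemma T_eq : T * (exp ℚ - 1) = X * exp ℚ := by
  rw [exp_sub_one, T]
  linear_combination (X * exp ℚ) * v_mul_u

lemma eq_T_of_eq (f : ℚ⟦X⟧) (h : f * (exp ℚ - 1) = X * exp ℚ) : f = T := by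
  rw [exp_sub_one] at h
  have h1 : X * (f * v) = X * exp ℚ := by rw [← h]; ring
  have hfv : f * v = exp ℚ := mul_left_cancel₀ X_ne_zero h1
  calc f = f * (v * u) := by rw [v_mul_u, mul_one]
    _ = (f * v) * u := by ring
    _ = T := by rw [hfv, T]

lemma uniq (f g : ℚ⟦X⟧) (hf : ∀ n, coeff n (f ^ (n + 1)) = 1)
    (hg : ∀ n, coeff n (g ^ (n + 1)) = 1) : f = g := by
  have hf0 : coeff 0 f = 1 := by simpa using hf 0
  have hg0 : coeff 0 g = 1 := by simpa using hg 0
  ext n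
  induction n using Nat.strong_induction_on with
  | _ n ih =>
    rcases Nat.eq_zero_or_pos n with rfl | hn
    · rw [hf0, hg0]
    · have hdvd : (X : ℚ⟦X⟧) ^ n ∣ f - g := by
        rw [X_pow_dvd_iff]
        intro m hm
        rw [map_sub, ih m hm, sub_self]
      obtain ⟨h, hh⟩ := hdvd
      have hfg : f = g + X ^ n * h := by rw [← hh]; ring
      obtain ⟨c, hc⟩ := Polynomial.powAddExpansion g (X ^ n * h) (n + 1)
      have h1 := hf n
      rw [hfg, hc, map_add, map_add, hg n] at h1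
      have e1 : ((n + 1 : ℕ) : ℚ⟦X⟧) * g ^ (n + 1 - 1) * (X ^ n * h) =
          X ^ n * (C ((n + 1 : ℕ) : ℚ) * (g ^ n * h)) := by
        rw [map_natCast, Nat.add_sub_cancel]; ring
      have e2 : c * (X ^ n * h) ^ 2 = X ^ (n + 1) * (X ^ (n - 1) * (c * h ^ 2)) := by
        have e3 : (X : ℚ⟦X⟧) ^ (n + 1) * X ^ (n - 1) = (X ^ n) ^ 2 := by
          rw [← pow_add, ← pow_mul]; congr 1; omega
        calc c * (X ^ n * h) ^ 2 = ((X : ℚ⟦X⟧) ^ n) ^ 2 * (c * h ^ 2) := by ring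
          _ = X ^ (n + 1) * X ^ (n - 1) * (c * h ^ 2) := by rw [e3]
          _ = _ := by ring
      have c1 := coeff_X_pow_mul (C ((n + 1 : ℕ) : ℚ) * (g ^ n * h)) n 0
      rw [zero_add] at c1
      have c2 : coeff n (X ^ (n + 1) * (X ^ (n - 1) * (c * h ^ 2))) = 0 := by
        rw [coeff_X_pow_mul', if_neg (by omega)]
      rw [e1, e2, c1, c2, coeff_C_mul, coeff_zero_eq_constantCoeff_apply, map_mul, map_pow,
        ← coeff_zero_eq_constantCoeff_apply g, hg0, one_pow, one_mul] at h1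
      have hh0 : constantCoeff h = 0 := by
        have hk : ((n + 1 : ℕ) : ℚ) ≠ 0 := by exact_mod_cast Nat.succ_ne_zero n
        have : ((n + 1 : ℕ) : ℚ) * constantCoeff h = 0 := by linarith
        exact (mul_eq_zero.mp this).resolve_left hk
      have h3 : coeff n (f - g) = 0 := by
        rw [hh]
        have c3 := coeff_X_pow_mul h n 0
        rw [zero_add] at c3
        rw [c3, coeff_zero_eq_constantCoeff_apply, hh0]
      rw [map_sub, sub_eq_zero] at h3
      exact h3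

theorem s14506 (f : ℚ⟦X⟧) :
    (∀ n : ℕ, coeff n (f ^ (n + 1)) = 1) ↔ f * (exp ℚ - 1) = X * exp ℚ := by
  constructor
  · intro hf
    rw [uniq f T hf coeff_T_pow]
    exact T_eq
  · intro h
    rw [eq_T_of_eq f h]
    exact coeff_T_pow

theorem s14509 (f : ℚ⟦X⟧) (hf : f * (exp ℚ - 1) = X * exp ℚ) (m : ℤ) (n : ℕ) :
    coeff n (rescale (m : ℚ) (exp ℚ) * f ^ (n + 1)) =
      ((Ring.choose (m + n : ℤ) n : ℤ) : ℚ) := by
  rw [eq_T_of_eq f hf]
  have hrec : ∀ (n : ℕ) (m : ℤ),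
      coeff (n + 1) (rescale ((m + 1 : ℤ) : ℚ) (exp ℚ) * T ^ (n + 1 + 1)) =
      coeff (n + 1) (rescale (m : ℚ) (exp ℚ) * T ^ (n + 1 + 1)) +
        coeff n (rescale ((m + 1 : ℤ) : ℚ) (exp ℚ) * T ^ (n + 1)) := by
    intro n m
    have hE : rescale ((m + 1 : ℤ) : ℚ) (exp ℚ) = rescale (m : ℚ) (exp ℚ) * exp ℚ := by
      have := exp_mul_exp_eq_exp_add (A := ℚ) (m : ℚ) 1
      rw [rescale_one, RingHom.id_apply] at this
      rw [this, Int.cast_add, Int.cast_one]
    have hkey : rescale ((m + 1 : ℤ) : ℚ) (exp ℚ) * T ^ (n + 1 + 1) =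
        rescale (m : ℚ) (exp ℚ) * T ^ (n + 1 + 1) +
          X * (rescale ((m + 1 : ℤ) : ℚ) (exp ℚ) * T ^ (n + 1)) := by
      rw [hE]
      linear_combination (rescale (m : ℚ) (exp ℚ) * T ^ (n + 1)) * T_eq
    rw [hkey, map_add, coeff_succ_X_mul]
  have hb0 : ∀ m : ℤ, coeff 0 (rescale (m : ℚ) (exp ℚ) * T ^ (0 + 1)) = 1 := by
    intro m
    have h1 : constantCoeff T = 1 := by
      have := coeff_T_pow 0
      rwa [zero_add, pow_one, coeff_zero_eq_constantCoeff_apply] at this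
    have h2 : constantCoeff (rescale (m : ℚ) (exp ℚ)) = 1 := by
      rw [← coeff_zero_eq_constantCoeff_apply, coeff_rescale, pow_zero, one_mul,
        coeff_zero_eq_constantCoeff_apply, constantCoeff_exp]
    rw [zero_add, pow_one, coeff_zero_eq_constantCoeff_apply, map_mul, h1, h2, mul_one]
  have hn0 : ∀ n : ℕ, coeff n (rescale ((0 : ℤ) : ℚ) (exp ℚ) * T ^ (n + 1)) = 1 := by
    intro n
    rw [Int.cast_zero, rescale_zero_apply, constantCoeff_exp, map_one, one_mul]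
    exact coeff_T_pow n
  have main : ∀ (n : ℕ) (m : ℤ), coeff n (rescale (m : ℚ) (exp ℚ) * T ^ (n + 1)) =
      ((Ring.choose (m + (n : ℤ)) n : ℤ) : ℚ) := by
    intro n
    induction n with
    | zero =>
      intro m
      rw [hb0 m, Ring.choose_zero_right]; simp
    | succ n ih =>
      have hpas : ∀ m : ℤ, ((Ring.choose ((m + 1) + ((n + 1 : ℕ) : ℤ)) (n + 1) : ℤ) : ℚ) =
          ((Ring.choose (m + ((n + 1 : ℕ) : ℤ)) (n + 1) : ℤ) : ℚ) +
            ((Ring.choose ((m + 1) + (n : ℤ)) n : ℤ) : ℚ) := by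
        intro m
        have e1 : (m + 1) + ((n + 1 : ℕ) : ℤ) = (m + ((n + 1 : ℕ) : ℤ)) + 1 := by ring
        have e2 : (m + 1) + (n : ℤ) = m + ((n + 1 : ℕ) : ℤ) := by push_cast; ring
        rw [e1, Ring.choose_succ_succ, e2]; push_cast; ring
      intro m
      refine Int.induction_on m ?_ ?_ ?_
      · rw [hn0 (n + 1), zero_add, Ring.choose_natCast, Nat.choose_self]; simp
      · intro i ih'
        rw [hrec n i, ih', ih (i + 1), hpas i]
      · intro i ih'
        have e : (-(i : ℤ) - 1) + 1 = -(i : ℤ) := by ring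
        have h1 := hrec n (-(i : ℤ) - 1)
        have h2 := hpas (-(i : ℤ) - 1)
        rw [e] at h1 h2
        have h3 := ih (-(i : ℤ))
        linarith
  exact main n m

end

end Helper9.Todd
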