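import Mathlib

/-!
# Bidegree (3,3) forms in `k[x0,x1,y0,y1]`: coordinates (helper9, for S16153)
-/

set_option autoImplicit false
set_option linter.style.haveILetI false

namespace Groth.Agent.Lib.Helper9.TriTan

open MvPolynomial

variable {k : Type*} [Field k]

/-- exponent vector of `x0^(3-i) x1^i y0^(3-j) y1^j`. -/
noncomputable def dvec (i j : ℕ) : Fin 4 →₀ ℕ :=
  Finsupp.single 0 (3 - i) + Finsupp.single 1 i + Finsupp.single 2 (3 - j) + Finsupp.single 3 j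

lemma dvec_apply0 (i j : ℕ) : dvec i j 0 = 3 - i := by simp [dvec]
lemma dvec_apply1 (i j : ℕ) : dvec i j 1 = i := by simp [dvec]
lemma dvec_apply2 (i j : ℕ) : dvec i j 2 = 3 - j := by simp [dvec]
lemma dvec_apply3 (i j : ℕ) : dvec i j 3 = j := by simp [dvec]

lemma monomial_dvec (i j : ℕ) (a : k) :
    monomial (dvec i j) a = C a * (X 0 ^ (3 - i) * X 1 ^ i * X 2 ^ (3 - j) * X 3 ^ j) := by
  rw [dvec, monomial_eq]
  congr 1
  rw [Finsupp.prod_add_index' (by simp) (by intros; rw [pow_add]),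
    Finsupp.prod_add_index' (by simp) (by intros; rw [pow_add]),
    Finsupp.prod_add_index' (by simp) (by intros; rw [pow_add])]
  rw [Finsupp.prod_single_index (h := fun n e => (X n : MvPolynomial (Fin 4) k) ^ e) (pow_zero _),
    Finsupp.prod_single_index (h := fun n e => (X n : MvPolynomial (Fin 4) k) ^ e) (pow_zero _),
    Finsupp.prod_single_index (h := fun n e => (X n : MvPolynomial (Fin 4) k) ^ e) (pow_zero _),
    Finsupp.prod_single_index (h := fun n e => (X n : MvPolynomial (Fin 4) k) ^ e) (pow_zero _)]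

/-- the form with coefficient table `a`. -/
noncomputable def F (a : Fin 4 → Fin 4 → k) : MvPolynomial (Fin 4) k :=
  ∑ i : Fin 4, ∑ j : Fin 4, monomial (dvec i j) (a i j)

lemma F_expand (a : Fin 4 → Fin 4 → k) :
    F a = C (a 0 0) * (X 0 ^ 3 * X 2 ^ 3) + C (a 0 1) * (X 0 ^ 3 * X 2 ^ 2 * X 3)
      + C (a 0 2) * (X 0 ^ 3 * X 2 * X 3 ^ 2) + C (a 0 3) * (X 0 ^ 3 * X 3 ^ 3)
      + C (a 1 0) * (X 0 ^ 2 * X 1 * X 2 ^ 3) + C (a 1 1) * (X 0 ^ 2 * X 1 * X 2 ^ 2 * X 3)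
      + C (a 1 2) * (X 0 ^ 2 * X 1 * X 2 * X 3 ^ 2) + C (a 1 3) * (X 0 ^ 2 * X 1 * X 3 ^ 3)
      + C (a 2 0) * (X 0 * X 1 ^ 2 * X 2 ^ 3) + C (a 2 1) * (X 0 * X 1 ^ 2 * X 2 ^ 2 * X 3)
      + C (a 2 2) * (X 0 * X 1 ^ 2 * X 2 * X 3 ^ 2) + C (a 2 3) * (X 0 * X 1 ^ 2 * X 3 ^ 3)
      + C (a 3 0) * (X 1 ^ 3 * X 2 ^ 3) + C (a 3 1) * (X 1 ^ 3 * X 2 ^ 2 * X 3)
      + C (a 3 2) * (X 1 ^ 3 * X 2 * X 3 ^ 2) + C (a 3 3) * (X 1 ^ 3 * X 3 ^ 3) := by
  simp only [F, Fin.sum_univ_four, monomial_dvec]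
  norm_num
  ring

lemma dvec_injective :
    Function.Injective (fun p : Fin 4 × Fin 4 => dvec (p.1 : ℕ) (p.2 : ℕ)) := by
  rintro ⟨i, j⟩ ⟨i', j'⟩ h
  have h1 := DFunLike.congr_fun h 1
  have h3 := DFunLike.congr_fun h 3
  simp only [dvec_apply1, dvec_apply3] at h1 h3
  ext <;> assumption

/-- Lemma A: a bihomogeneous form of bidegree `(3,3)` is `F` of its coefficient table. -/
lemma eq_F_of_bihomogeneous (f : MvPolynomial (Fin 4) k)
    (h1 : f.IsWeightedHomogeneous (![1, 1, 0, 0] : Fin 4 → ℕ) 3)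
    (h2 : f.IsWeightedHomogeneous (![0, 0, 1, 1] : Fin 4 → ℕ) 3) :
    f = F (fun i j => coeff (dvec (i : ℕ) (j : ℕ)) f) := by
  classical
  have hsupp : f.support ⊆ (Finset.univ : Finset (Fin 4 × Fin 4)).image
      (fun p => dvec (p.1 : ℕ) (p.2 : ℕ)) := by
    intro d hd
    have hc : coeff d f ≠ 0 := mem_support_iff.mp hd
    have h1' := h1 hc
    have h2' := h2 hc
    rw [Finsupp.weight_apply, Finsupp.sum_fintype _ _ (fun _ => by simp)] at h1' h2'
    simp [Fin.sum_univ_four] at h1' h2'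
    rw [Finset.mem_image]
    refine ⟨(⟨d 1, by omega⟩, ⟨d 3, by omega⟩), Finset.mem_univ _, ?_⟩
    ext t
    fin_cases t
    · simp [dvec]; omega
    · simp [dvec]
    · simp [dvec]; omega
    · simp [dvec]
  conv_lhs => rw [f.as_sum]
  rw [Finset.sum_subset hsupp (fun d _ hd => by simp [notMem_support_iff.mp hd]),
    Finset.sum_image (fun x _ y _ h => dvec_injective h), F, ← Finset.sum_product',
    Finset.univ_product_univ]

end Groth.Agent.Lib.Helper9.TriTan
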