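import Mathlib
import Groth.Agent.Lib.Helper9.TriTanA

/-!
# Bidegree (3,3) forms: the involution, the diagonal, and the key identities (helper9, S16153)
-/

set_option autoImplicit false
set_option linter.style.haveILetI false

namespace Groth.Agent.Lib.Helper9.TriTan

open MvPolynomial

variable {k : Type*} [Field k]

/-- the diagonal `l`. -/
noncomputable def lP : MvPolynomial (Fin 4) k := X 0 * X 3 - X 1 * X 2
/-- `h = h1 + h2 + h3`. -/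
noncomputable def hP : MvPolynomial (Fin 4) k :=
  (X 0 * (X 3 - X 2) + X 2 * (X 1 - X 0)) + (X 1 * (X 2 - X 3) + X 3 * (X 0 - X 1))
    + (X 0 * X 3 + X 1 * X 2)
/-- `h13 = h1 - h3`. -/
noncomputable def h13P : MvPolynomial (Fin 4) k :=
  (X 0 * (X 3 - X 2) + X 2 * (X 1 - X 0)) - (X 0 * X 3 + X 1 * X 2)
/-- `h23 = h2 - h3`. -/
noncomputable def h23P : MvPolynomial (Fin 4) k :=
  (X 1 * (X 2 - X 3) + X 3 * (X 0 - X 1)) - (X 0 * X 3 + X 1 * X 2)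
/-- the six-line form `c`. -/
noncomputable def cP : MvPolynomial (Fin 4) k :=
  X 0 * X 1 * (X 0 - X 1) * (X 2 * X 3 * (X 2 - X 3))

lemma rename_iota_F (a : Fin 4 → Fin 4 → k) :
    rename (![2, 3, 0, 1] : Fin 4 → Fin 4) (F a) = F (fun i j => a j i) := by
  rw [F_expand, F_expand]
  simp only [map_add, map_mul, map_pow, rename_C, rename_X]
  simp only [Matrix.cons_val_zero, Matrix.cons_val_one, Matrix.cons_val]
  ring

lemma F_add_div (a a' : Fin 4 → Fin 4 → k) :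
    F (fun i j => (a i j + a' i j) / 2) = C (2⁻¹ : k) * (F a + F a') := by
  rw [F_expand, F_expand, F_expand]
  simp only [div_eq_mul_inv, map_add, map_mul]
  ring

lemma F_sub_div (a a' : Fin 4 → Fin 4 → k) :
    F (fun i j => (a i j - a' i j) / 2) = C (2⁻¹ : k) * (F a - F a') := by
  rw [F_expand, F_expand, F_expand]
  simp only [div_eq_mul_inv, map_sub, map_mul]
  ring

lemma inv_key (b : Fin 4 → Fin 4 → k) (μ₀ μ₁ μ₂ μ₃ : k)
    (e00 : b 0 0 = 0)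
    (e01 : b 0 1 = 0)
    (e02 : b 0 2 = -2 * μ₁ - 2 * μ₂)
    (e03 : b 0 3 = 3 * μ₁)
    (e10 : b 1 0 = 0)
    (e11 : b 1 1 = μ₀ + 4 * μ₁ + 4 * μ₂)
    (e12 : b 1 2 = -μ₀ - 3 * μ₁)
    (e13 : b 1 3 = -2 * μ₁ - 2 * μ₃)
    (e20 : b 2 0 = -2 * μ₁ - 2 * μ₂)
    (e21 : b 2 1 = -μ₀ - 3 * μ₁)
    (e22 : b 2 2 = μ₀ + 4 * μ₁ + 4 * μ₃)
    (e23 : b 2 3 = 0)
    (e30 : b 3 0 = 3 * μ₁)
    (e31 : b 3 1 = -2 * μ₁ - 2 * μ₃)
    (e32 : b 3 2 = 0)
    (e33 : b 3 3 = 0) :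
    F b = μ₀ • cP + μ₁ • (lP ^ 2 * hP) + μ₂ • (lP ^ 2 * h13P) + μ₃ • (lP ^ 2 * h23P) := by
  rw [F_expand, e00, e01, e02, e03, e10, e11, e12, e13, e20, e21, e22, e23, e30, e31, e32, e33]
  simp only [smul_eq_C_mul, cP, lP, hP, h13P, h23P, map_add, map_sub, map_neg, map_mul,
    map_ofNat, map_zero]
  ring

lemma anti_key (b : Fin 4 → Fin 4 → k) (ν₀ ν₁ ν₂ ν₃ ν₄ ν₅ : k)
    (e00 : b 0 0 = 0)
    (e01 : b 0 1 = 4 * ν₀ + 4 * ν₁ + 4 * ν₃)
    (e02 : b 0 2 = -12 * ν₀ - 6 * ν₁)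
    (e03 : b 0 3 = 9 * ν₀)
    (e10 : b 1 0 = -4 * ν₀ - 4 * ν₁ - 4 * ν₃)
    (e11 : b 1 1 = 0)
    (e12 : b 1 2 = 17 * ν₀ + 4 * ν₁ + 4 * ν₂ + 4 * ν₅)
    (e13 : b 1 3 = -12 * ν₀ - 6 * ν₂)
    (e20 : b 2 0 = 12 * ν₀ + 6 * ν₁)
    (e21 : b 2 1 = -17 * ν₀ - 4 * ν₁ - 4 * ν₂ - 4 * ν₅)
    (e22 : b 2 2 = 0)
    (e23 : b 2 3 = 4 * ν₀ + 4 * ν₂ + 4 * ν₄)
    (e30 : b 3 0 = -9 * ν₀)
    (e31 : b 3 1 = 12 * ν₀ + 6 * ν₂)
    (e32 : b 3 2 = -4 * ν₀ - 4 * ν₂ - 4 * ν₄)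
    (e33 : b 3 3 = 0) :
    F b = ν₀ • (lP * hP ^ 2) + ν₁ • (lP * hP * h13P) + ν₂ • (lP * hP * h23P)
      + ν₃ • (lP * h13P ^ 2) + ν₄ • (lP * h23P ^ 2) + ν₅ • (lP * h13P * h23P) := by
  rw [F_expand, e00, e01, e02, e03, e10, e11, e12, e13, e20, e21, e22, e23, e30, e31, e32, e33]
  simp only [smul_eq_C_mul, lP, hP, h13P, h23P, map_add, map_sub, map_neg, map_mul,
    map_ofNat, map_zero]
  ring

/-! ### the restriction to the diagonal -/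

open Polynomial in
lemma sq_dvd_eval (q p : k[X]) (a : k) (hq : q.eval a = 0) (h : q ^ 2 ∣ p) :
    p.eval a = 0 ∧ (Polynomial.derivative p).eval a = 0 := by
  obtain ⟨r, rfl⟩ := h
  constructor
  · simp [hq]
  · simp [hq, Polynomial.derivative_mul, Polynomial.derivative_pow]

open Polynomial in
lemma aeval1_F (b : Fin 4 → Fin 4 → k) :
    aeval (![Polynomial.X, 1] : Fin 2 → k[X]) (rename (![0, 1, 0, 1] : Fin 4 → Fin 2) (F b)) =
      Polynomial.C (b 0 0) * Polynomial.X ^ 6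
      + Polynomial.C (b 0 1 + b 1 0) * Polynomial.X ^ 5
      + Polynomial.C (b 0 2 + b 1 1 + b 2 0) * Polynomial.X ^ 4
      + Polynomial.C (b 0 3 + b 1 2 + b 2 1 + b 3 0) * Polynomial.X ^ 3
      + Polynomial.C (b 1 3 + b 2 2 + b 3 1) * Polynomial.X ^ 2
      + Polynomial.C (b 2 3 + b 3 2) * Polynomial.X
      + Polynomial.C (b 3 3) := by
  rw [F_expand]
  simp only [map_add, map_mul, map_pow, rename_C, rename_X, MvPolynomial.aeval_C, MvPolynomial.aeval_X]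
  simp only [Matrix.cons_val_zero, Matrix.cons_val_one, Matrix.cons_val,
    Polynomial.algebraMap_apply, Algebra.algebraMap_self, RingHom.id_apply]
  ring

open Polynomial in
lemma aeval2_F (b : Fin 4 → Fin 4 → k) :
    aeval (![1, Polynomial.X] : Fin 2 → k[X]) (rename (![0, 1, 0, 1] : Fin 4 → Fin 2) (F b)) =
      Polynomial.C (b 0 0)
      + Polynomial.C (b 0 1 + b 1 0) * Polynomial.X
      + Polynomial.C (b 0 2 + b 1 1 + b 2 0) * Polynomial.X ^ 2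
      + Polynomial.C (b 0 3 + b 1 2 + b 2 1 + b 3 0) * Polynomial.X ^ 3
      + Polynomial.C (b 1 3 + b 2 2 + b 3 1) * Polynomial.X ^ 4
      + Polynomial.C (b 2 3 + b 3 2) * Polynomial.X ^ 5
      + Polynomial.C (b 3 3) * Polynomial.X ^ 6 := by
  rw [F_expand]
  simp only [map_add, map_mul, map_pow, rename_C, rename_X, MvPolynomial.aeval_C, MvPolynomial.aeval_X]
  simp only [Matrix.cons_val_zero, Matrix.cons_val_one, Matrix.cons_val,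
    Polynomial.algebraMap_apply, Algebra.algebraMap_self, RingHom.id_apply]
  ring

/-- The six linear conditions imposed by the doubled diagonal points. -/
lemma conditions_of_dvd (b : Fin 4 → Fin 4 → k)
    (h : ((X 0 * X 1 * (X 0 - X 1)) ^ 2 : MvPolynomial (Fin 2) k) ∣
      rename (![0, 1, 0, 1] : Fin 4 → Fin 2) (F b)) :
    b 0 0 = 0 ∧ b 0 1 + b 1 0 = 0 ∧ b 2 3 + b 3 2 = 0 ∧ b 3 3 = 0 ∧
    (b 0 2 + b 1 1 + b 2 0) + (b 0 3 + b 1 2 + b 2 1 + b 3 0) + (b 1 3 + b 2 2 + b 3 1) = 0 ∧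
    4 * (b 0 2 + b 1 1 + b 2 0) + 3 * (b 0 3 + b 1 2 + b 2 1 + b 3 0)
      + 2 * (b 1 3 + b 2 2 + b 3 1) = 0 := by
  have h1 := map_dvd (aeval (![Polynomial.X, 1] : Fin 2 → Polynomial k)) h
  have h2 := map_dvd (aeval (![1, Polynomial.X] : Fin 2 → Polynomial k)) h
  rw [aeval1_F] at h1
  rw [aeval2_F] at h2
  simp only [map_pow, map_mul, map_sub, MvPolynomial.aeval_X, Matrix.cons_val_zero, Matrix.cons_val_one] at h1 h2
  obtain ⟨a1, a2⟩ := sq_dvd_eval _ _ 0 (by simp) h1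
  obtain ⟨a3, a4⟩ := sq_dvd_eval _ _ 1 (by simp) h1
  obtain ⟨a5, a6⟩ := sq_dvd_eval _ _ 0 (by simp) h2
  simp [Polynomial.derivative_mul, Polynomial.derivative_pow] at a1 a2 a3 a4 a5 a6
  refine ⟨a5, a6, a2, a1, ?_, ?_⟩
  · linear_combination a3 - a5 - a6 - a2 - a1
  · linear_combination a4 - 6 * a5 - 5 * a6 - a2
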