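import Mathlib
import Groth.Agent.Lib.Helper9.TriTanB

/-!
# The two eigenspaces of forms through the doubled diagonal points (helper9, S16153)
-/

set_option autoImplicit false
set_option linter.style.haveILetI false

namespace Groth.Agent.Lib.Helper9.TriTan

open MvPolynomial

variable {k : Type*} [Field k]

local notation "w₁" => (![1, 1, 0, 0] : Fin 4 → ℕ)
local notation "w₂" => (![0, 0, 1, 1] : Fin 4 → ℕ)
local notation "ι" => rename (![2, 3, 0, 1] : Fin 4 → Fin 4)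
local notation "ρ" => rename (![0, 1, 0, 1] : Fin 4 → Fin 2)

lemma IsWH_cast {w : Fin 4 → ℕ} {f : MvPolynomial (Fin 4) k} {m n : ℕ}
    (h : f.IsWeightedHomogeneous w m) (e : m = n) : f.IsWeightedHomogeneous w n := e ▸ h

lemma wh1_X0 : (X 0 : MvPolynomial (Fin 4) k).IsWeightedHomogeneous w₁ 1 :=
  isWeightedHomogeneous_X k w₁ 0
lemma wh1_X1 : (X 1 : MvPolynomial (Fin 4) k).IsWeightedHomogeneous w₁ 1 :=
  isWeightedHomogeneous_X k w₁ 1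
lemma wh1_X2 : (X 2 : MvPolynomial (Fin 4) k).IsWeightedHomogeneous w₁ 0 :=
  isWeightedHomogeneous_X k w₁ 2
lemma wh1_X3 : (X 3 : MvPolynomial (Fin 4) k).IsWeightedHomogeneous w₁ 0 :=
  isWeightedHomogeneous_X k w₁ 3
lemma wh2_X0 : (X 0 : MvPolynomial (Fin 4) k).IsWeightedHomogeneous w₂ 0 :=
  isWeightedHomogeneous_X k w₂ 0
lemma wh2_X1 : (X 1 : MvPolynomial (Fin 4) k).IsWeightedHomogeneous w₂ 0 :=
  isWeightedHomogeneous_X k w₂ 1
lemma wh2_X2 : (X 2 : MvPolynomial (Fin 4) k).IsWeightedHomogeneous w₂ 1 :=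
  isWeightedHomogeneous_X k w₂ 2
lemma wh2_X3 : (X 3 : MvPolynomial (Fin 4) k).IsWeightedHomogeneous w₂ 1 :=
  isWeightedHomogeneous_X k w₂ 3

lemma wh1_l : (lP : MvPolynomial (Fin 4) k).IsWeightedHomogeneous w₁ 1 :=
  IsWH_cast ((wh1_X0.mul wh1_X3).sub (IsWH_cast (wh1_X1.mul wh1_X2) rfl)) rfl
lemma wh2_l : (lP : MvPolynomial (Fin 4) k).IsWeightedHomogeneous w₂ 1 :=
  IsWH_cast ((wh2_X0.mul wh2_X3).sub (IsWH_cast (wh2_X1.mul wh2_X2) rfl)) rfl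

lemma wh1_h1 : (X 0 * (X 3 - X 2) + X 2 * (X 1 - X 0) :
    MvPolynomial (Fin 4) k).IsWeightedHomogeneous w₁ 1 :=
  (IsWH_cast (wh1_X0.mul (wh1_X3.sub wh1_X2)) rfl).add
    (IsWH_cast (wh1_X2.mul (wh1_X1.sub wh1_X0)) rfl)
lemma wh2_h1 : (X 0 * (X 3 - X 2) + X 2 * (X 1 - X 0) :
    MvPolynomial (Fin 4) k).IsWeightedHomogeneous w₂ 1 :=
  (IsWH_cast (wh2_X0.mul (wh2_X3.sub wh2_X2)) rfl).add
    (IsWH_cast (wh2_X2.mul (wh2_X1.sub wh2_X0)) rfl)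
lemma wh1_h2 : (X 1 * (X 2 - X 3) + X 3 * (X 0 - X 1) :
    MvPolynomial (Fin 4) k).IsWeightedHomogeneous w₁ 1 :=
  (IsWH_cast (wh1_X1.mul (wh1_X2.sub wh1_X3)) rfl).add
    (IsWH_cast (wh1_X3.mul (wh1_X0.sub wh1_X1)) rfl)
lemma wh2_h2 : (X 1 * (X 2 - X 3) + X 3 * (X 0 - X 1) :
    MvPolynomial (Fin 4) k).IsWeightedHomogeneous w₂ 1 :=
  (IsWH_cast (wh2_X1.mul (wh2_X2.sub wh2_X3)) rfl).add
    (IsWH_cast (wh2_X3.mul (wh2_X0.sub wh2_X1)) rfl)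
lemma wh1_h3 : (X 0 * X 3 + X 1 * X 2 :
    MvPolynomial (Fin 4) k).IsWeightedHomogeneous w₁ 1 :=
  (IsWH_cast (wh1_X0.mul wh1_X3) rfl).add (IsWH_cast (wh1_X1.mul wh1_X2) rfl)
lemma wh2_h3 : (X 0 * X 3 + X 1 * X 2 :
    MvPolynomial (Fin 4) k).IsWeightedHomogeneous w₂ 1 :=
  (IsWH_cast (wh2_X0.mul wh2_X3) rfl).add (IsWH_cast (wh2_X1.mul wh2_X2) rfl)

lemma wh1_h : (hP : MvPolynomial (Fin 4) k).IsWeightedHomogeneous w₁ 1 :=
  (wh1_h1.add wh1_h2).add wh1_h3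
lemma wh2_h : (hP : MvPolynomial (Fin 4) k).IsWeightedHomogeneous w₂ 1 :=
  (wh2_h1.add wh2_h2).add wh2_h3
lemma wh1_h13 : (h13P : MvPolynomial (Fin 4) k).IsWeightedHomogeneous w₁ 1 :=
  wh1_h1.sub wh1_h3
lemma wh2_h13 : (h13P : MvPolynomial (Fin 4) k).IsWeightedHomogeneous w₂ 1 :=
  wh2_h1.sub wh2_h3
lemma wh1_h23 : (h23P : MvPolynomial (Fin 4) k).IsWeightedHomogeneous w₁ 1 :=
  wh1_h2.sub wh1_h3
lemma wh2_h23 : (h23P : MvPolynomial (Fin 4) k).IsWeightedHomogeneous w₂ 1 :=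
  wh2_h2.sub wh2_h3
lemma wh1_c : (cP : MvPolynomial (Fin 4) k).IsWeightedHomogeneous w₁ 3 :=
  IsWH_cast (((wh1_X0.mul wh1_X1).mul (wh1_X0.sub wh1_X1)).mul
    ((wh1_X2.mul wh1_X3).mul (wh1_X2.sub wh1_X3))) rfl
lemma wh2_c : (cP : MvPolynomial (Fin 4) k).IsWeightedHomogeneous w₂ 3 :=
  IsWH_cast (((wh2_X0.mul wh2_X1).mul (wh2_X0.sub wh2_X1)).mul
    ((wh2_X2.mul wh2_X3).mul (wh2_X2.sub wh2_X3))) rfl

lemma rho_l : ρ (lP : MvPolynomial (Fin 4) k) = 0 := by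
  simp only [lP, map_sub, map_mul, rename_X, Matrix.cons_val_zero, Matrix.cons_val_one,
    Matrix.cons_val]
  ring

lemma rho_c : ρ (cP : MvPolynomial (Fin 4) k) = (X 0 * X 1 * (X 0 - X 1)) ^ 2 := by
  simp only [cP, map_sub, map_mul, rename_X, Matrix.cons_val_zero, Matrix.cons_val_one,
    Matrix.cons_val]
  ring

lemma iota_l : ι (lP : MvPolynomial (Fin 4) k) = -lP := by
  simp only [lP, map_sub, map_mul, rename_X, Matrix.cons_val_zero, Matrix.cons_val_one,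
    Matrix.cons_val]
  ring
lemma iota_h : ι (hP : MvPolynomial (Fin 4) k) = hP := by
  simp only [hP, map_sub, map_add, map_mul, rename_X, Matrix.cons_val_zero, Matrix.cons_val_one,
    Matrix.cons_val]
  ring
lemma iota_h13 : ι (h13P : MvPolynomial (Fin 4) k) = h13P := by
  simp only [h13P, map_sub, map_add, map_mul, rename_X, Matrix.cons_val_zero,
    Matrix.cons_val_one, Matrix.cons_val]
  ring
lemma iota_h23 : ι (h23P : MvPolynomial (Fin 4) k) = h23P := by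
  simp only [h23P, map_sub, map_add, map_mul, rename_X, Matrix.cons_val_zero,
    Matrix.cons_val_one, Matrix.cons_val]
  ring
lemma iota_c : ι (cP : MvPolynomial (Fin 4) k) = cP := by
  simp only [cP, map_sub, map_add, map_mul, rename_X, Matrix.cons_val_zero,
    Matrix.cons_val_one, Matrix.cons_val]
  ring

variable [CharZero k]

/-- the membership condition. -/
def InI (f : MvPolynomial (Fin 4) k) : Prop :=
  f.IsWeightedHomogeneous w₁ 3 ∧ f.IsWeightedHomogeneous w₂ 3 ∧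
    (X 0 * X 1 * (X 0 - X 1)) ^ 2 ∣ ρ f

lemma inI_of_l_mul {g : MvPolynomial (Fin 4) k} (h1 : g.IsWeightedHomogeneous w₁ 2)
    (h2 : g.IsWeightedHomogeneous w₂ 2) : InI (lP * g) := by
  refine ⟨IsWH_cast (wh1_l.mul h1) rfl, IsWH_cast (wh2_l.mul h2) rfl, ?_⟩
  rw [map_mul, rho_l, zero_mul]
  exact dvd_zero _

lemma inI_c : InI (cP : MvPolynomial (Fin 4) k) :=
  ⟨wh1_c, wh2_c, by rw [rho_c]⟩

lemma inI_llh : InI (lP ^ 2 * hP : MvPolynomial (Fin 4) k) := by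
  have := inI_of_l_mul (k := k) (g := lP * hP) (IsWH_cast (wh1_l.mul wh1_h) rfl)
    (IsWH_cast (wh2_l.mul wh2_h) rfl)
  rwa [← mul_assoc, ← pow_two] at this
lemma inI_llh13 : InI (lP ^ 2 * h13P : MvPolynomial (Fin 4) k) := by
  have := inI_of_l_mul (k := k) (g := lP * h13P) (IsWH_cast (wh1_l.mul wh1_h13) rfl)
    (IsWH_cast (wh2_l.mul wh2_h13) rfl)
  rwa [← mul_assoc, ← pow_two] at this
lemma inI_llh23 : InI (lP ^ 2 * h23P : MvPolynomial (Fin 4) k) := by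
  have := inI_of_l_mul (k := k) (g := lP * h23P) (IsWH_cast (wh1_l.mul wh1_h23) rfl)
    (IsWH_cast (wh2_l.mul wh2_h23) rfl)
  rwa [← mul_assoc, ← pow_two] at this

lemma inI_lqq {q q' : MvPolynomial (Fin 4) k} (h1 : q.IsWeightedHomogeneous w₁ 1)
    (h2 : q.IsWeightedHomogeneous w₂ 1) (h1' : q'.IsWeightedHomogeneous w₁ 1)
    (h2' : q'.IsWeightedHomogeneous w₂ 1) : InI (lP * q * q') := by
  rw [mul_assoc]
  exact inI_of_l_mul (IsWH_cast (h1.mul h1') rfl) (IsWH_cast (h2.mul h2') rfl)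

lemma two_inv_smul (f : MvPolynomial (Fin 4) k) : C (2⁻¹ : k) * (f + f) = f := by
  rw [← two_mul, ← mul_assoc, ← map_ofNat (C : k →+* MvPolynomial (Fin 4) k) 2, ← map_mul,
    inv_mul_cancel₀ (two_ne_zero), map_one, one_mul]

/-- The `ι`-invariant part. -/
theorem invariant_part (I : Submodule k (MvPolynomial (Fin 4) k))
    (hI : ∀ f, f ∈ I ↔ InI f) (f : MvPolynomial (Fin 4) k) :
    (f ∈ I ∧ ι f = f) ↔
      f ∈ Submodule.span k ({cP, lP ^ 2 * hP, lP ^ 2 * h13P, lP ^ 2 * h23P} :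
        Set (MvPolynomial (Fin 4) k)) := by
  constructor
  · rintro ⟨hfI, hfi⟩
    obtain ⟨hf1, hf2, hdvd⟩ := (hI f).mp hfI
    obtain ⟨a, ha⟩ : ∃ a : Fin 4 → Fin 4 → k, a = fun (i j : Fin 4) => coeff (dvec (i : ℕ) (j : ℕ)) f :=
      ⟨_, rfl⟩
    have hfa : f = F a := by rw [ha]; exact eq_F_of_bihomogeneous f hf1 hf2
    have hfa' : F (fun i j => a j i) = f := by
      rw [← rename_iota_F, ← hfa, hfi]
    obtain ⟨b, hb⟩ : ∃ b : Fin 4 → Fin 4 → k, b = fun i j => (a i j + a j i) / 2 := ⟨_, rfl⟩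
    have hfb : F b = f := by
      rw [hb, F_add_div a (fun i j => a j i), hfa', ← hfa, two_inv_smul]
    have hsym : ∀ i j, b i j = b j i := by
      intro i j; rw [hb]; simp only; ring
    rw [← hfb] at hdvd
    obtain ⟨c1, c2, c3, c4, c5, c6⟩ := conditions_of_dvd b hdvd
    rw [hsym 1 0] at c2
    rw [hsym 3 2] at c3
    rw [hsym 2 0, hsym 2 1, hsym 3 0, hsym 3 1] at c5 c6
    obtain ⟨μ₀, hμ₀⟩ : ∃ μ : k, μ = 2 * b 0 2 + b 1 1 := ⟨_, rfl⟩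
    obtain ⟨μ₁, hμ₁⟩ : ∃ μ : k, μ = -(2 * b 0 2 + b 1 1 + b 1 2) / 3 := ⟨_, rfl⟩
    obtain ⟨μ₂, hμ₂⟩ : ∃ μ : k, μ = b 0 2 / 6 + b 1 1 / 3 + b 1 2 / 3 := ⟨_, rfl⟩
    obtain ⟨μ₃, hμ₃⟩ : ∃ μ : k, μ = (2 * b 0 2 + b 1 1 + b 1 2) / 3 - b 1 3 / 2 := ⟨_, rfl⟩
    have e00 : b 0 0 = 0 := c1
    have e01 : b 0 1 = 0 := by linear_combination (1 / 2 : k) * c2
    have e02 : b 0 2 = -2 * μ₁ - 2 * μ₂ := by rw [hμ₁, hμ₂]; ring
    have e03 : b 0 3 = 3 * μ₁ := by rw [hμ₁]; linear_combination (1 / 2 : k) * c6 - c5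
    have e11 : b 1 1 = μ₀ + 4 * μ₁ + 4 * μ₂ := by rw [hμ₀, hμ₁, hμ₂]; ring
    have e12 : b 1 2 = -μ₀ - 3 * μ₁ := by rw [hμ₀, hμ₁]; ring
    have e13 : b 1 3 = -2 * μ₁ - 2 * μ₃ := by rw [hμ₁, hμ₃]; ring
    have e22 : b 2 2 = μ₀ + 4 * μ₁ + 4 * μ₃ := by
      rw [hμ₀, hμ₁, hμ₃]; linear_combination 3 * c5 - c6
    have e23 : b 2 3 = 0 := by linear_combination (1 / 2 : k) * c3
    have e33 : b 3 3 = 0 := c4
    have key := inv_key b μ₀ μ₁ μ₂ μ₃ e00 e01 e02 e03 (by rw [hsym, e01]) e11 e12 e13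
      (by rw [hsym, e02]) (by rw [hsym, e12]) e22 e23 (by rw [hsym, e03]) (by rw [hsym, e13])
      (by rw [hsym, e23]) e33
    rw [← hfb, key]
    refine Submodule.add_mem _ (Submodule.add_mem _ (Submodule.add_mem _ ?_ ?_) ?_) ?_ <;>
      exact Submodule.smul_mem _ _ (Submodule.subset_span (by simp))
  · intro hf
    induction hf using Submodule.span_induction with
    | mem x hx =>
      simp only [Set.mem_insert_iff, Set.mem_singleton_iff] at hx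
      rcases hx with rfl | rfl | rfl | rfl
      · exact ⟨(hI _).mpr inI_c, iota_c⟩
      · exact ⟨(hI _).mpr inI_llh, by rw [map_mul, map_pow, iota_l, iota_h]; ring⟩
      · exact ⟨(hI _).mpr inI_llh13, by rw [map_mul, map_pow, iota_l, iota_h13]; ring⟩
      · exact ⟨(hI _).mpr inI_llh23, by rw [map_mul, map_pow, iota_l, iota_h23]; ring⟩
    | zero => exact ⟨I.zero_mem, map_zero _⟩
    | add x y _ _ hx hy => exact ⟨I.add_mem hx.1 hy.1, by rw [map_add, hx.2, hy.2]⟩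
    | smul a x _ hx => exact ⟨I.smul_mem a hx.1, by rw [map_smul, hx.2]⟩

/-- The `ι`-anti-invariant part. -/
theorem antiinvariant_part (I : Submodule k (MvPolynomial (Fin 4) k))
    (hI : ∀ f, f ∈ I ↔ InI f) (f : MvPolynomial (Fin 4) k) :
    (f ∈ I ∧ ι f = -f) ↔
      f ∈ Submodule.span k ({lP * hP ^ 2, lP * hP * h13P, lP * hP * h23P, lP * h13P ^ 2,
        lP * h23P ^ 2, lP * h13P * h23P} : Set (MvPolynomial (Fin 4) k)) := by
  constructor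
  · rintro ⟨hfI, hfi⟩
    obtain ⟨hf1, hf2, -⟩ := (hI f).mp hfI
    obtain ⟨a, ha⟩ : ∃ a : Fin 4 → Fin 4 → k, a = fun (i j : Fin 4) => coeff (dvec (i : ℕ) (j : ℕ)) f :=
      ⟨_, rfl⟩
    have hfa : f = F a := by rw [ha]; exact eq_F_of_bihomogeneous f hf1 hf2
    have hfa' : F (fun i j => a j i) = -f := by
      rw [← rename_iota_F, ← hfa, hfi]
    obtain ⟨b, hb⟩ : ∃ b : Fin 4 → Fin 4 → k, b = fun i j => (a i j - a j i) / 2 := ⟨_, rfl⟩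
    have hfb : F b = f := by
      rw [hb, F_sub_div a (fun i j => a j i), hfa', ← hfa, sub_neg_eq_add, two_inv_smul]
    have hanti : ∀ i j, b i j = -b j i := by
      intro i j; rw [hb]; simp only; ring
    have hdiag : ∀ i, b i i = 0 := by
      intro i; rw [hb]; simp only; ring
    obtain ⟨ν₀, hν₀⟩ : ∃ ν : k, ν = b 0 3 / 9 := ⟨_, rfl⟩
    obtain ⟨ν₁, hν₁⟩ : ∃ ν : k, ν = -(b 0 2) / 6 - 2 * b 0 3 / 9 := ⟨_, rfl⟩
    obtain ⟨ν₂, hν₂⟩ : ∃ ν : k, ν = -2 * b 0 3 / 9 - b 1 3 / 6 := ⟨_, rfl⟩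
    obtain ⟨ν₃, hν₃⟩ : ∃ ν : k, ν = b 0 1 / 4 + b 0 2 / 6 + b 0 3 / 9 := ⟨_, rfl⟩
    obtain ⟨ν₄, hν₄⟩ : ∃ ν : k, ν = b 0 3 / 9 + b 1 3 / 6 + b 2 3 / 4 := ⟨_, rfl⟩
    obtain ⟨ν₅, hν₅⟩ : ∃ ν : k, ν = b 0 2 / 6 - b 0 3 / 36 + b 1 2 / 4 + b 1 3 / 6 := ⟨_, rfl⟩
    have e01 : b 0 1 = 4 * ν₀ + 4 * ν₁ + 4 * ν₃ := by rw [hν₀, hν₁, hν₃]; ring
    have e02 : b 0 2 = -12 * ν₀ - 6 * ν₁ := by rw [hν₀, hν₁]; ring
    have e03 : b 0 3 = 9 * ν₀ := by rw [hν₀]; ring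
    have e12 : b 1 2 = 17 * ν₀ + 4 * ν₁ + 4 * ν₂ + 4 * ν₅ := by rw [hν₀, hν₁, hν₂, hν₅]; ring
    have e13 : b 1 3 = -12 * ν₀ - 6 * ν₂ := by rw [hν₀, hν₂]; ring
    have e23 : b 2 3 = 4 * ν₀ + 4 * ν₂ + 4 * ν₄ := by rw [hν₀, hν₂, hν₄]; ring
    have key := anti_key b ν₀ ν₁ ν₂ ν₃ ν₄ ν₅ (hdiag 0) e01 e02 e03
      (by rw [hanti, e01]; ring) (hdiag 1) e12 e13
      (by rw [hanti, e02]; ring) (by rw [hanti, e12]; ring) (hdiag 2) e23
      (by rw [hanti, e03]; ring) (by rw [hanti, e13]; ring) (by rw [hanti, e23]; ring) (hdiag 3)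
    rw [← hfb, key]
    refine Submodule.add_mem _ (Submodule.add_mem _ (Submodule.add_mem _ (Submodule.add_mem _
      (Submodule.add_mem _ ?_ ?_) ?_) ?_) ?_) ?_ <;>
      exact Submodule.smul_mem _ _ (Submodule.subset_span (by simp))
  · intro hf
    induction hf using Submodule.span_induction with
    | mem x hx =>
      simp only [Set.mem_insert_iff, Set.mem_singleton_iff] at hx
      rcases hx with rfl | rfl | rfl | rfl | rfl | rfl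
      · refine ⟨(hI _).mpr ?_, by rw [map_mul, map_pow, iota_l, iota_h]; ring⟩
        rw [pow_two, ← mul_assoc]
        exact inI_lqq wh1_h wh2_h wh1_h wh2_h
      · exact ⟨(hI _).mpr (inI_lqq wh1_h wh2_h wh1_h13 wh2_h13),
          by rw [map_mul, map_mul, iota_l, iota_h, iota_h13]; ring⟩
      · exact ⟨(hI _).mpr (inI_lqq wh1_h wh2_h wh1_h23 wh2_h23),
          by rw [map_mul, map_mul, iota_l, iota_h, iota_h23]; ring⟩
      · refine ⟨(hI _).mpr ?_, by rw [map_mul, map_pow, iota_l, iota_h13]; ring⟩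
        rw [pow_two, ← mul_assoc]
        exact inI_lqq wh1_h13 wh2_h13 wh1_h13 wh2_h13
      · refine ⟨(hI _).mpr ?_, by rw [map_mul, map_pow, iota_l, iota_h23]; ring⟩
        rw [pow_two, ← mul_assoc]
        exact inI_lqq wh1_h23 wh2_h23 wh1_h23 wh2_h23
      · exact ⟨(hI _).mpr (inI_lqq wh1_h13 wh2_h13 wh1_h23 wh2_h23),
          by rw [map_mul, map_mul, iota_l, iota_h13, iota_h23]; ring⟩
    | zero => exact ⟨I.zero_mem, by rw [map_zero, neg_zero]⟩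
    | add x y _ _ hx hy => exact ⟨I.add_mem hx.1 hy.1, by rw [map_add, hx.2, hy.2]; ring⟩
    | smul a x _ hx => exact ⟨I.smul_mem a hx.1, by rw [map_smul, hx.2, smul_neg]⟩

end Groth.Agent.Lib.Helper9.TriTan
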