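import Mathlib
import Groth.Agent.Lib.Helper9.TriTanB

/-!
# Linear independence of the ten forms (helper9, S16153)
-/

set_option autoImplicit false
set_option linter.style.haveILetI false

namespace Groth.Agent.Lib.Helper9.TriTan

open MvPolynomial

variable {k : Type*} [Field k]

lemma eval_comb (p : Fin 4 → k) (g : Fin 10 → k)
    (hg : g 0 • (cP : MvPolynomial (Fin 4) k) + g 1 • (lP ^ 2 * hP) + g 2 • (lP ^ 2 * h13P)
      + g 3 • (lP ^ 2 * h23P) + g 4 • (lP * hP ^ 2) + g 5 • (lP * hP * h13P)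
      + g 6 • (lP * hP * h23P) + g 7 • (lP * h13P ^ 2) + g 8 • (lP * h23P ^ 2)
      + g 9 • (lP * h13P * h23P) = 0) :
    g 0 * eval p cP + g 1 * (eval p lP ^ 2 * eval p hP) + g 2 * (eval p lP ^ 2 * eval p h13P)
      + g 3 * (eval p lP ^ 2 * eval p h23P) + g 4 * (eval p lP * eval p hP ^ 2)
      + g 5 * (eval p lP * eval p hP * eval p h13P)
      + g 6 * (eval p lP * eval p hP * eval p h23P) + g 7 * (eval p lP * eval p h13P ^ 2)
      + g 8 * (eval p lP * eval p h23P ^ 2)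
      + g 9 * (eval p lP * eval p h13P * eval p h23P) = 0 := by
  have := congrArg (eval p) hg
  simpa only [map_add, smul_eval, map_mul, map_pow, map_zero] using this

variable [CharZero k]

theorem ten_forms_linearIndependent :
    LinearIndependent k ![(cP : MvPolynomial (Fin 4) k), lP ^ 2 * hP, lP ^ 2 * h13P,
      lP ^ 2 * h23P, lP * hP ^ 2, lP * hP * h13P, lP * hP * h23P, lP * h13P ^ 2, lP * h23P ^ 2,
      lP * h13P * h23P] := by
  rw [Fintype.linearIndependent_iff]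
  intro g hg
  have hg' : g 0 • (cP : MvPolynomial (Fin 4) k) + g 1 • (lP ^ 2 * hP) + g 2 • (lP ^ 2 * h13P)
      + g 3 • (lP ^ 2 * h23P) + g 4 • (lP * hP ^ 2) + g 5 • (lP * hP * h13P)
      + g 6 • (lP * hP * h23P) + g 7 • (lP * h13P ^ 2) + g 8 • (lP * h23P ^ 2)
      + g 9 • (lP * h13P * h23P) = 0 := by
    rw [← hg]
    simp only [Fin.sum_univ_succ, Fin.sum_univ_zero, add_zero]
    simp only [← add_assoc]
    rfl
  have q0 := eval_comb (![(-1 : k), -1, -1, 2] : Fin 4 → k) g hg'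
  have v0lP : eval (![(-1 : k), -1, -1, 2] : Fin 4 → k) (lP : MvPolynomial (Fin 4) k) = -3 := by
    simp [lP] <;> norm_num
  have v0hP : eval (![(-1 : k), -1, -1, 2] : Fin 4 → k) (hP : MvPolynomial (Fin 4) k) = -1 := by
    simp [hP] <;> norm_num
  have v0h13P : eval (![(-1 : k), -1, -1, 2] : Fin 4 → k) (h13P : MvPolynomial (Fin 4) k) = -2 := by
    simp [h13P] <;> norm_num
  have v0h23P : eval (![(-1 : k), -1, -1, 2] : Fin 4 → k) (h23P : MvPolynomial (Fin 4) k) = 4 := by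
    simp [h23P] <;> norm_num
  have v0cP : eval (![(-1 : k), -1, -1, 2] : Fin 4 → k) (cP : MvPolynomial (Fin 4) k) = 0 := by
    simp [cP] <;> norm_num
  rw [v0lP, v0hP, v0h13P, v0h23P, v0cP] at q0
  have q1 := eval_comb (![(-1 : k), 2, 1, 1] : Fin 4 → k) g hg'
  have v1lP : eval (![(-1 : k), 2, 1, 1] : Fin 4 → k) (lP : MvPolynomial (Fin 4) k) = -3 := by
    simp [lP] <;> norm_num
  have v1hP : eval (![(-1 : k), 2, 1, 1] : Fin 4 → k) (hP : MvPolynomial (Fin 4) k) = 1 := by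
    simp [hP] <;> norm_num
  have v1h13P : eval (![(-1 : k), 2, 1, 1] : Fin 4 → k) (h13P : MvPolynomial (Fin 4) k) = 2 := by
    simp [h13P] <;> norm_num
  have v1h23P : eval (![(-1 : k), 2, 1, 1] : Fin 4 → k) (h23P : MvPolynomial (Fin 4) k) = -4 := by
    simp [h23P] <;> norm_num
  have v1cP : eval (![(-1 : k), 2, 1, 1] : Fin 4 → k) (cP : MvPolynomial (Fin 4) k) = 0 := by
    simp [cP] <;> norm_num
  rw [v1lP, v1hP, v1h13P, v1h23P, v1cP] at q1
  have q2 := eval_comb (![(0 : k), 1, -1, 0] : Fin 4 → k) g hg'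
  have v2lP : eval (![(0 : k), 1, -1, 0] : Fin 4 → k) (lP : MvPolynomial (Fin 4) k) = 1 := by
    simp [lP] <;> norm_num
  have v2hP : eval (![(0 : k), 1, -1, 0] : Fin 4 → k) (hP : MvPolynomial (Fin 4) k) = -3 := by
    simp [hP] <;> norm_num
  have v2h13P : eval (![(0 : k), 1, -1, 0] : Fin 4 → k) (h13P : MvPolynomial (Fin 4) k) = 0 := by
    simp [h13P] <;> norm_num
  have v2h23P : eval (![(0 : k), 1, -1, 0] : Fin 4 → k) (h23P : MvPolynomial (Fin 4) k) = 0 := by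
    simp [h23P] <;> norm_num
  have v2cP : eval (![(0 : k), 1, -1, 0] : Fin 4 → k) (cP : MvPolynomial (Fin 4) k) = 0 := by
    simp [cP] <;> norm_num
  rw [v2lP, v2hP, v2h13P, v2h23P, v2cP] at q2
  have q3 := eval_comb (![(2 : k), -1, 0, 1] : Fin 4 → k) g hg'
  have v3lP : eval (![(2 : k), -1, 0, 1] : Fin 4 → k) (lP : MvPolynomial (Fin 4) k) = 2 := by
    simp [lP] <;> norm_num
  have v3hP : eval (![(2 : k), -1, 0, 1] : Fin 4 → k) (hP : MvPolynomial (Fin 4) k) = 8 := by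
    simp [hP] <;> norm_num
  have v3h13P : eval (![(2 : k), -1, 0, 1] : Fin 4 → k) (h13P : MvPolynomial (Fin 4) k) = 0 := by
    simp [h13P] <;> norm_num
  have v3h23P : eval (![(2 : k), -1, 0, 1] : Fin 4 → k) (h23P : MvPolynomial (Fin 4) k) = 2 := by
    simp [h23P] <;> norm_num
  have v3cP : eval (![(2 : k), -1, 0, 1] : Fin 4 → k) (cP : MvPolynomial (Fin 4) k) = 0 := by
    simp [cP] <;> norm_num
  rw [v3lP, v3hP, v3h13P, v3h23P, v3cP] at q3
  have q4 := eval_comb (![(0 : k), 2, 1, -1] : Fin 4 → k) g hg'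
  have v4lP : eval (![(0 : k), 2, 1, -1] : Fin 4 → k) (lP : MvPolynomial (Fin 4) k) = -2 := by
    simp [lP] <;> norm_num
  have v4hP : eval (![(0 : k), 2, 1, -1] : Fin 4 → k) (hP : MvPolynomial (Fin 4) k) = 10 := by
    simp [hP] <;> norm_num
  have v4h13P : eval (![(0 : k), 2, 1, -1] : Fin 4 → k) (h13P : MvPolynomial (Fin 4) k) = 0 := by
    simp [h13P] <;> norm_num
  have v4h23P : eval (![(0 : k), 2, 1, -1] : Fin 4 → k) (h23P : MvPolynomial (Fin 4) k) = 4 := by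
    simp [h23P] <;> norm_num
  have v4cP : eval (![(0 : k), 2, 1, -1] : Fin 4 → k) (cP : MvPolynomial (Fin 4) k) = 0 := by
    simp [cP] <;> norm_num
  rw [v4lP, v4hP, v4h13P, v4h23P, v4cP] at q4
  have q5 := eval_comb (![(1 : k), 0, 0, 1] : Fin 4 → k) g hg'
  have v5lP : eval (![(1 : k), 0, 0, 1] : Fin 4 → k) (lP : MvPolynomial (Fin 4) k) = 1 := by
    simp [lP] <;> norm_num
  have v5hP : eval (![(1 : k), 0, 0, 1] : Fin 4 → k) (hP : MvPolynomial (Fin 4) k) = 3 := by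
    simp [hP] <;> norm_num
  have v5h13P : eval (![(1 : k), 0, 0, 1] : Fin 4 → k) (h13P : MvPolynomial (Fin 4) k) = 0 := by
    simp [h13P] <;> norm_num
  have v5h23P : eval (![(1 : k), 0, 0, 1] : Fin 4 → k) (h23P : MvPolynomial (Fin 4) k) = 0 := by
    simp [h23P] <;> norm_num
  have v5cP : eval (![(1 : k), 0, 0, 1] : Fin 4 → k) (cP : MvPolynomial (Fin 4) k) = 0 := by
    simp [cP] <;> norm_num
  rw [v5lP, v5hP, v5h13P, v5h23P, v5cP] at q5
  have q6 := eval_comb (![(2 : k), 2, 0, -1] : Fin 4 → k) g hg'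
  have v6lP : eval (![(2 : k), 2, 0, -1] : Fin 4 → k) (lP : MvPolynomial (Fin 4) k) = -2 := by
    simp [lP] <;> norm_num
  have v6hP : eval (![(2 : k), 2, 0, -1] : Fin 4 → k) (hP : MvPolynomial (Fin 4) k) = -2 := by
    simp [hP] <;> norm_num
  have v6h13P : eval (![(2 : k), 2, 0, -1] : Fin 4 → k) (h13P : MvPolynomial (Fin 4) k) = 0 := by
    simp [h13P] <;> norm_num
  have v6h23P : eval (![(2 : k), 2, 0, -1] : Fin 4 → k) (h23P : MvPolynomial (Fin 4) k) = 4 := by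
    simp [h23P] <;> norm_num
  have v6cP : eval (![(2 : k), 2, 0, -1] : Fin 4 → k) (cP : MvPolynomial (Fin 4) k) = 0 := by
    simp [cP] <;> norm_num
  rw [v6lP, v6hP, v6h13P, v6h23P, v6cP] at q6
  have q7 := eval_comb (![(2 : k), 0, 2, 1] : Fin 4 → k) g hg'
  have v7lP : eval (![(2 : k), 0, 2, 1] : Fin 4 → k) (lP : MvPolynomial (Fin 4) k) = 2 := by
    simp [lP] <;> norm_num
  have v7hP : eval (![(2 : k), 0, 2, 1] : Fin 4 → k) (hP : MvPolynomial (Fin 4) k) = -2 := by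
    simp [hP] <;> norm_num
  have v7h13P : eval (![(2 : k), 0, 2, 1] : Fin 4 → k) (h13P : MvPolynomial (Fin 4) k) = -8 := by
    simp [h13P] <;> norm_num
  have v7h23P : eval (![(2 : k), 0, 2, 1] : Fin 4 → k) (h23P : MvPolynomial (Fin 4) k) = 0 := by
    simp [h23P] <;> norm_num
  have v7cP : eval (![(2 : k), 0, 2, 1] : Fin 4 → k) (cP : MvPolynomial (Fin 4) k) = 0 := by
    simp [cP] <;> norm_num
  rw [v7lP, v7hP, v7h13P, v7h23P, v7cP] at q7
  have q8 := eval_comb (![(1 : k), 2, 1, -1] : Fin 4 → k) g hg'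
  have v8lP : eval (![(1 : k), 2, 1, -1] : Fin 4 → k) (lP : MvPolynomial (Fin 4) k) = -3 := by
    simp [lP] <;> norm_num
  have v8hP : eval (![(1 : k), 2, 1, -1] : Fin 4 → k) (hP : MvPolynomial (Fin 4) k) = 5 := by
    simp [hP] <;> norm_num
  have v8h13P : eval (![(1 : k), 2, 1, -1] : Fin 4 → k) (h13P : MvPolynomial (Fin 4) k) = -2 := by
    simp [h13P] <;> norm_num
  have v8h23P : eval (![(1 : k), 2, 1, -1] : Fin 4 → k) (h23P : MvPolynomial (Fin 4) k) = 4 := by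
    simp [h23P] <;> norm_num
  have v8cP : eval (![(1 : k), 2, 1, -1] : Fin 4 → k) (cP : MvPolynomial (Fin 4) k) = 4 := by
    simp [cP] <;> norm_num
  rw [v8lP, v8hP, v8h13P, v8h23P, v8cP] at q8
  have q9 := eval_comb (![(2 : k), -1, 1, 1] : Fin 4 → k) g hg'
  have v9lP : eval (![(2 : k), -1, 1, 1] : Fin 4 → k) (lP : MvPolynomial (Fin 4) k) = 3 := by
    simp [lP] <;> norm_num
  have v9hP : eval (![(2 : k), -1, 1, 1] : Fin 4 → k) (hP : MvPolynomial (Fin 4) k) = 1 := by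
    simp [hP] <;> norm_num
  have v9h13P : eval (![(2 : k), -1, 1, 1] : Fin 4 → k) (h13P : MvPolynomial (Fin 4) k) = -4 := by
    simp [h13P] <;> norm_num
  have v9h23P : eval (![(2 : k), -1, 1, 1] : Fin 4 → k) (h23P : MvPolynomial (Fin 4) k) = 2 := by
    simp [h23P] <;> norm_num
  have v9cP : eval (![(2 : k), -1, 1, 1] : Fin 4 → k) (cP : MvPolynomial (Fin 4) k) = 0 := by
    simp [cP] <;> norm_num
  rw [v9lP, v9hP, v9h13P, v9h23P, v9cP] at q9
  have r0 : g 0 = 0 := by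
    linear_combination (-1 / 3 : k) * q0 + (5 / 12 : k) * q1 + (9 : k) * q2 + (3 / 2 : k) * q3 + (3 / 8 : k) * q4 + (-81 / 4 : k) * q5 + (-3 / 8 : k) * q6 + (-3 / 32 : k) * q7 + (1 / 4 : k) * q8 + (1 / 3 : k) * q9
  have r1 : g 1 = 0 := by
    linear_combination (-1 / 6 : k) * q2 + (1 / 6 : k) * q5
  have r2 : g 2 = 0 := by
    linear_combination (-1 / 36 : k) * q0 + (1 / 36 : k) * q1 + (11 / 12 : k) * q2 + (1 / 6 : k) * q3 + (1 / 16 : k) * q4 + (-23 / 12 : k) * q5 + (-1 / 48 : k) * q6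
  have r3 : g 3 = 0 := by
    linear_combination (5 / 12 : k) * q2 + (1 / 12 : k) * q3 + (1 / 32 : k) * q4 + (-11 / 12 : k) * q5 + (-1 / 96 : k) * q6
  have r4 : g 4 = 0 := by
    linear_combination (1 / 18 : k) * q2 + (1 / 18 : k) * q5
  have r5 : g 5 = 0 := by
    linear_combination (1 / 108 : k) * q0 + (-5 / 108 : k) * q1 + (-37 / 36 : k) * q2 + (-1 / 6 : k) * q3 + (-1 / 16 : k) * q4 + (37 / 18 : k) * q5 + (1 / 16 : k) * q6 + (1 / 96 : k) * q7 + (-1 / 27 : k) * q9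
  have r6 : g 6 = 0 := by
    linear_combination (-7 / 36 : k) * q2 + (-1 / 96 : k) * q4 + (-1 / 36 : k) * q5 + (1 / 96 : k) * q6
  have r7 : g 7 = 0 := by
    linear_combination (-1 / 108 : k) * q0 + (1 / 54 : k) * q1 + (17 / 36 : k) * q2 + (1 / 12 : k) * q3 + (1 / 32 : k) * q4 + (-71 / 72 : k) * q5 + (-1 / 48 : k) * q6 + (1 / 192 : k) * q7 + (1 / 108 : k) * q9
  have r8 : g 8 = 0 := by
    linear_combination (5 / 36 : k) * q2 + (1 / 24 : k) * q3 + (1 / 96 : k) * q4 + (-19 / 36 : k) * q5 + (-1 / 32 : k) * q6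
  have r9 : g 9 = 0 := by
    linear_combination (1 / 54 : k) * q0 + (1 / 54 : k) * q1 + (13 / 36 : k) * q2 + (1 / 12 : k) * q3 + (5 / 192 : k) * q4 + (-73 / 72 : k) * q5 + (-1 / 16 : k) * q6 + (1 / 192 : k) * q7 + (-1 / 216 : k) * q9
  intro i
  fin_cases i
  exacts [r0, r1, r2, r3, r4, r5, r6, r7, r8, r9]

end Groth.Agent.Lib.Helper9.TriTan
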