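import Mathlib

/-!
# Generators of powers of a maximal ideal modulo a Jacobian ideal (helper9, for S14909)

Abstract ideal arithmetic: in a commutative ring `S` with `M = (p, x, y)` and an ideal `I` such that
`p ∈ M² + I` and `x² ∈ M³ + I`, one has `M^m + I = (y^m, x y^(m-1)) + I` for all `m ≥ 1`
(if `M` lies in the Jacobson radical and `I` is finitely generated).
-/

set_option autoImplicit false
set_option linter.style.haveILetI false

namespace Groth.Agent.Lib.Helper9.TypeII

section Abstract

variable {S : Type*} [CommRing S] (p x y : S) (I M : Ideal S)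

lemma pow_sup_mul_le (a b : ℕ) : (M ^ a ⊔ I) * M ^ b ≤ M ^ (a + b) ⊔ I := by
  rw [Ideal.sup_mul, ← pow_add]
  exact sup_le_sup le_rfl Ideal.mul_le_left

lemma mul_mem_pow_sup {a b : ℕ} {s t : S} (hs : s ∈ M ^ a ⊔ I) (ht : t ∈ M ^ b) :
    s * t ∈ M ^ (a + b) ⊔ I :=
  pow_sup_mul_le I M a b (Ideal.mul_mem_mul hs ht)

variable {p x y I M}

lemma x_mul_pow_mem (hx : x ∈ M) (hy : y ∈ M) {m : ℕ} (hm : 1 ≤ m) :
    x * y ^ (m - 1) ∈ M ^ m := by
  have : M ^ m = M * M ^ (m - 1) := by rw [← pow_succ', Nat.sub_add_cancel hm]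
  rw [this]
  exact Ideal.mul_mem_mul hx (Ideal.pow_mem_pow hy _)

theorem pow_le_step (hM : M = Ideal.span {p, x, y}) (hp : p ∈ M ^ 2 ⊔ I)
    (hx2 : x ^ 2 ∈ M ^ 3 ⊔ I) (m : ℕ) (hm : 1 ≤ m) :
    M ^ m ≤ Ideal.span {y ^ m, x * y ^ (m - 1)} ⊔ (M ^ (m + 1) ⊔ I) := by
  have hpM : p ∈ M := by rw [hM]; exact Ideal.subset_span (by simp)
  have hxM : x ∈ M := by rw [hM]; exact Ideal.subset_span (by simp)
  have hyM : y ∈ M := by rw [hM]; exact Ideal.subset_span (by simp)
  induction m, hm using Nat.le_induction with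
  | base =>
    rw [pow_one]
    nth_rewrite 1 [hM]
    rw [Ideal.span_le]
    intro a ha
    simp only [Set.mem_insert_iff, Set.mem_singleton_iff] at ha
    rcases ha with rfl | rfl | rfl
    · exact Ideal.mem_sup_right hp
    · exact Ideal.mem_sup_left (Ideal.subset_span (by simp))
    · exact Ideal.mem_sup_left (Ideal.subset_span (by simp))
  | succ m hm ih =>
    have h1 : M ^ (m + 1) ≤ M * (Ideal.span {y ^ m, x * y ^ (m - 1)} ⊔ (M ^ (m + 1) ⊔ I)) := by
      have := Ideal.mul_mono_right (I := M) ih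
      rwa [← pow_succ'] at this
    refine h1.trans ?_
    rw [Ideal.mul_sup]
    apply sup_le
    · nth_rewrite 1 [hM]
      rw [Ideal.span_mul_span', Ideal.span_le, Set.mul_subset_iff]
      intro a ha b hb
      simp only [Set.mem_insert_iff, Set.mem_singleton_iff] at ha hb
      have hym : y ^ m ∈ M ^ m := Ideal.pow_mem_pow hyM m
      have hxym : x * y ^ (m - 1) ∈ M ^ m := x_mul_pow_mem hxM hyM hm
      have e1 : m + 1 - 1 = m := by omega
      rcases ha with rfl | rfl | rfl <;> rcases hb with rfl | rfl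
      · apply Ideal.mem_sup_right
        have := mul_mem_pow_sup I M hp hym
        rwa [show 2 + m = m + 1 + 1 by omega] at this
      · apply Ideal.mem_sup_right
        have := mul_mem_pow_sup I M hp hxym
        rwa [show 2 + m = m + 1 + 1 by omega] at this
      · apply Ideal.mem_sup_left
        apply Ideal.subset_span
        rw [e1]; simp
      · apply Ideal.mem_sup_right
        have hpow : y ^ (m - 1) ∈ M ^ (m - 1) := Ideal.pow_mem_pow hyM _
        have := mul_mem_pow_sup I M hx2 hpow
        rw [show 3 + (m - 1) = m + 1 + 1 by omega] at this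
        have e : a * (a * y ^ (m - 1)) = a ^ 2 * y ^ (m - 1) := by ring
        rw [e]; exact this
      · apply Ideal.mem_sup_left
        apply Ideal.subset_span
        rw [← pow_succ']; simp
      · apply Ideal.mem_sup_left
        apply Ideal.subset_span
        rw [e1]
        have : a * (x * a ^ (m - 1)) = x * a ^ m := by
          rw [mul_left_comm, ← pow_succ', Nat.sub_add_cancel hm]
        rw [this]; simp
    · rw [Ideal.mul_sup, ← pow_succ']
      exact le_sup_of_le_right (sup_le_sup le_rfl Ideal.mul_le_right)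

theorem pow_sup_eq (hM : M = Ideal.span {p, x, y}) (hp : p ∈ M ^ 2 ⊔ I)
    (hx2 : x ^ 2 ∈ M ^ 3 ⊔ I) (hJ : M ≤ Ideal.jacobson ⊥) (hI : I.FG) (m : ℕ) (hm : 1 ≤ m) :
    M ^ m ⊔ I = Ideal.span {y ^ m, x * y ^ (m - 1)} ⊔ I := by
  have hxM : x ∈ M := by rw [hM]; exact Ideal.subset_span (by simp)
  have hyM : y ∈ M := by rw [hM]; exact Ideal.subset_span (by simp)
  have hMfg : M.FG := by rw [hM]; exact Submodule.fg_span (Set.toFinite _)
  apply le_antisymm
  · have hfg : (M ^ m ⊔ I).FG := Submodule.FG.sup (Ideal.FG.pow hMfg) hI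
    refine Submodule.le_of_le_smul_of_le_jacobson_bot hfg hJ ?_
    apply sup_le
    · refine (pow_le_step hM hp hx2 m hm).trans ?_
      apply sup_le
      · exact le_sup_of_le_left le_sup_left
      · apply sup_le
        · rw [pow_succ', smul_eq_mul]
          exact le_sup_of_le_right (Ideal.mul_mono_right le_sup_left)
        · exact le_sup_of_le_left le_sup_right
    · exact le_sup_of_le_left le_sup_right
  · apply sup_le _ le_sup_right
    rw [Ideal.span_le]
    intro a ha
    simp only [Set.mem_insert_iff, Set.mem_singleton_iff] at ha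
    rcases ha with rfl | rfl
    · exact Ideal.mem_sup_left (Ideal.pow_mem_pow hyM m)
    · exact Ideal.mem_sup_left (x_mul_pow_mem hxM hyM hm)

end Abstract

end Groth.Agent.Lib.Helper9.TypeII
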