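import Mathlib

/-!
# A test ring for the cotangent computation at a type II Weierstrass point (helper9, for S14909)

`T4 R c = R[Y]/(Y² - c)[X]/(X²)`, free over `R` on `1, Y, X, XY`, with the ideal
`W = {r₀ + r₁Y + r₂X + r₃XY | ϖ^(v+1) ∣ r₀, ϖ^v ∣ r₁, r₂, r₃}` (for `ϖ ∣ c`), and evaluation of
power series at nilpotent elements.
-/

set_option autoImplicit false
set_option linter.style.haveILetI false

namespace Groth.Agent.Lib.Helper9.TypeII

open MvPowerSeries

/-- Evaluation of power series in two variables at nilpotent elements. -/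
noncomputable def evalNil (R T : Type*) [CommRing R] [CommRing T] [Algebra R T] (a : Fin 2 → T)
    (ha : ∀ i, IsNilpotent (a i)) : MvPowerSeries (Fin 2) R →ₐ[R] T := by
  letI : UniformSpace R := ⊥
  letI : UniformSpace T := ⊥
  haveI : DiscreteTopology R := ⟨rfl⟩
  haveI : DiscreteTopology T := ⟨rfl⟩
  haveI : ContinuousSMul R T := ⟨continuous_of_discreteTopology⟩
  exact MvPowerSeries.aeval (a := a) ⟨fun s => (ha s).isTopologicallyNilpotent,
    by rw [Filter.cofinite_eq_bot]; exact Filter.tendsto_bot⟩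

theorem evalNil_X (R T : Type*) [CommRing R] [CommRing T] [Algebra R T] (a : Fin 2 → T)
    (ha : ∀ i, IsNilpotent (a i)) (i : Fin 2) : evalNil R T a ha (X i) = a i := by
  unfold evalNil
  simp [MvPowerSeries.aeval, MvPowerSeries.coe_eval₂Hom]

section T4

variable (R : Type*) [CommRing R] (c : R)

/-- `R[Y]/(Y² - c)[X]/(X²)`. -/
abbrev T4 : Type _ := QuadraticAlgebra (QuadraticAlgebra R c 0) 0 0

/-- the class of `X`. -/
def XT : T4 R c := ⟨0, 1⟩
/-- the class of `Y`. -/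
def YT : T4 R c := ⟨⟨0, 1⟩, 0⟩

lemma algebraMap_T4 (r : R) : algebraMap R (T4 R c) r = ⟨⟨r, 0⟩, 0⟩ := rfl

lemma XT_sq : XT R c * XT R c = 0 := by
  ext <;> simp [XT]

lemma YT_sq : YT R c * YT R c = algebraMap R (T4 R c) c := by
  rw [algebraMap_T4]
  ext <;> simp [YT]

lemma YT_pow_even (k : ℕ) : YT R c ^ (2 * k) = algebraMap R (T4 R c) (c ^ k) := by
  rw [pow_mul, sq, YT_sq, map_pow]

lemma YT_pow_odd (k : ℕ) : YT R c ^ (2 * k + 1) = algebraMap R (T4 R c) (c ^ k) * YT R c := by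
  rw [pow_succ, YT_pow_even]

variable {R c}

/-- The ideal `W`. -/
def W (ϖ : R) (v : ℕ) (hc : ϖ ∣ c) : Ideal (T4 R c) where
  carrier := {t | ϖ ^ (v + 1) ∣ t.re.re ∧ ϖ ^ v ∣ t.re.im ∧ ϖ ^ v ∣ t.im.re ∧ ϖ ^ v ∣ t.im.im}
  add_mem' := by
    rintro s t ⟨h1, h2, h3, h4⟩ ⟨h1', h2', h3', h4'⟩
    exact ⟨by simpa using dvd_add h1 h1', by simpa using dvd_add h2 h2',
      by simpa using dvd_add h3 h3', by simpa using dvd_add h4 h4'⟩
  zero_mem' := by simp
  smul_mem' := by
    rintro s t ⟨h1, h2, h3, h4⟩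
    have hv : ϖ ^ v ∣ t.re.re := (pow_dvd_pow ϖ (Nat.le_succ v)).trans h1
    have hc2 : ϖ ^ (v + 1) ∣ c * t.re.im := by
      rw [pow_succ']; exact mul_dvd_mul hc h2
    have hc3 : ϖ ^ v ∣ c * t.im.im := Dvd.dvd.mul_left h4 c
    simp only [smul_eq_mul, Set.mem_setOf_eq, QuadraticAlgebra.re_mul, QuadraticAlgebra.im_mul,
      zero_mul, add_zero, QuadraticAlgebra.re_add, QuadraticAlgebra.im_add]
    refine ⟨?_, ?_, ?_, ?_⟩
    · refine dvd_add (Dvd.dvd.mul_left h1 _) ?_
      have : c * s.re.im * t.re.im = s.re.im * (c * t.re.im) := by ring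
      rw [this]; exact Dvd.dvd.mul_left hc2 _
    · exact dvd_add (Dvd.dvd.mul_left h2 _) (Dvd.dvd.mul_left hv _)
    · refine dvd_add (dvd_add (Dvd.dvd.mul_left h3 _) ?_) (dvd_add (Dvd.dvd.mul_left hv _) ?_)
      · have : c * s.re.im * t.im.im = s.re.im * (c * t.im.im) := by ring
        rw [this]; exact Dvd.dvd.mul_left hc3 _
      · have : c * s.im.im * t.re.im = s.im.im * c * t.re.im := by ring
        rw [this]; exact Dvd.dvd.mul_left h2 _
    · exact dvd_add (dvd_add (Dvd.dvd.mul_left h4 _) (Dvd.dvd.mul_left h3 _))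
        (dvd_add (Dvd.dvd.mul_left h2 _) (Dvd.dvd.mul_left hv _))

lemma mem_W {ϖ : R} {v : ℕ} {hc : ϖ ∣ c} {t : T4 R c} :
    t ∈ W ϖ v hc ↔
      ϖ ^ (v + 1) ∣ t.re.re ∧ ϖ ^ v ∣ t.re.im ∧ ϖ ^ v ∣ t.im.re ∧ ϖ ^ v ∣ t.im.im := Iff.rfl

end T4

/-- In a ring with `X² = 0`: `(X, Y)^m ≤ (Y^m, X Y^(m-1))`. -/
lemma span_pair_pow_le {T : Type*} [CommRing T] (X Y : T) (hX : X * X = 0) (m : ℕ) (hm : 1 ≤ m) :
    (Ideal.span {X, Y}) ^ m ≤ Ideal.span {Y ^ m, X * Y ^ (m - 1)} := by
  induction m, hm using Nat.le_induction with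
  | base =>
    rw [pow_one, Ideal.span_le]
    intro a ha
    simp only [Set.mem_insert_iff, Set.mem_singleton_iff] at ha
    rcases ha with rfl | rfl
    · exact Ideal.subset_span (by simp)
    · exact Ideal.subset_span (by simp)
  | succ m hm ih =>
    have h1 := Ideal.mul_mono_right (I := Ideal.span {X, Y}) ih
    rw [← pow_succ'] at h1
    refine h1.trans ?_
    rw [Ideal.span_mul_span', Ideal.span_le, Set.mul_subset_iff]
    intro a ha b hb
    simp only [Set.mem_insert_iff, Set.mem_singleton_iff] at ha hb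
    have e1 : m + 1 - 1 = m := by omega
    rcases ha with rfl | rfl <;> rcases hb with rfl | rfl
    · apply Ideal.subset_span
      rw [e1]; simp
    · have : a * (a * Y ^ (m - 1)) = 0 := by rw [← mul_assoc, hX, zero_mul]
      rw [this]; exact Ideal.zero_mem _
    · apply Ideal.subset_span
      rw [← pow_succ']; simp
    · apply Ideal.subset_span
      rw [e1]
      have : a * (X * a ^ (m - 1)) = X * a ^ m := by
        rw [mul_left_comm, ← pow_succ', Nat.sub_add_cancel hm]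
      rw [this]; simp

end Groth.Agent.Lib.Helper9.TypeII
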