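import Mathlib
import Groth.Agent.Lib.Helper9.TypeIIA
import Groth.Agent.Lib.Helper9.TypeIIB

/-!
# The cotangent computation at a type II Weierstrass point in residue characteristic 2
(helper9, for S14909)
-/

set_option autoImplicit false
set_option linter.style.haveILetI false
set_option maxHeartbeats 1000000

universe u

namespace Groth.Agent.Lib.Helper9.TypeII

open MvPowerSeries

theorem main (R : Type u) [CommRing R] [IsDomain R] [IsDiscreteValuationRing R]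
    (ϖ a₁ a₆ : R) (hϖ : Irreducible ϖ) (v : ℕ) (hv : 1 ≤ v) (u₁ u₆ : Rˣ)
    (ha₁ : a₁ = u₁ * ϖ ^ v) (ha₆ : a₆ = u₆ * ϖ)
    (h2 : (2 : R) ∈ IsLocalRing.maximalIdeal R ^ v)
    (x y : MvPowerSeries (Fin 2) R) (hx : x = MvPowerSeries.X 0) (hy : y = MvPowerSeries.X 1)
    (I M : Ideal (MvPowerSeries (Fin 2) R))
    (hI : I = Ideal.span {y ^ 2 + a₁ • (x * y) - x ^ 3 - algebraMap R (MvPowerSeries (Fin 2) R) a₆,
      2 * y + a₁ • x, 3 * x ^ 2 - a₁ • y})
    (hM : M = Ideal.span {algebraMap R (MvPowerSeries (Fin 2) R) ϖ, x, y}) :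
    M ^ (2 * v) ⊔ I = Ideal.span {y ^ (2 * v), x * y ^ (2 * v - 1)} ⊔ I ∧
      ∀ a b : R, a • y ^ (2 * v) + b • (x * y ^ (2 * v - 1)) ∈ M ^ (2 * v + 1) ⊔ I →
        a ∈ IsLocalRing.maximalIdeal R ∧ b ∈ IsLocalRing.maximalIdeal R := by
  classical
  obtain ⟨w, rfl⟩ : ∃ w, v = w + 1 := ⟨v - 1, by omega⟩
  set p : MvPowerSeries (Fin 2) R := algebraMap R (MvPowerSeries (Fin 2) R) ϖ with hp_def
  have hpM : p ∈ M := by rw [hM]; exact Ideal.subset_span (by simp)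
  have hxM : x ∈ M := by rw [hM]; exact Ideal.subset_span (by simp)
  have hyM : y ∈ M := by rw [hM]; exact Ideal.subset_span (by simp)
  have hFI : y ^ 2 + a₁ • (x * y) - x ^ 3 - algebraMap R (MvPowerSeries (Fin 2) R) a₆ ∈ I := by
    rw [hI]; exact Ideal.subset_span (by simp)
  have hGI : 2 * y + a₁ • x ∈ I := by
    rw [hI]; exact Ideal.subset_span (by simp)
  have hHI : 3 * x ^ 2 - a₁ • y ∈ I := by
    rw [hI]; exact Ideal.subset_span (by simp)
  have hdvd2 : ϖ ^ (w + 1) ∣ (2 : R) := by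
    rw [hϖ.maximalIdeal_eq, Ideal.span_singleton_pow, Ideal.mem_span_singleton] at h2
    exact h2
  have hdvda₁ : ϖ ^ (w + 1) ∣ a₁ := ⟨u₁, by rw [ha₁, mul_comm]⟩
  have hc : ϖ ∣ a₆ := ⟨u₆, by rw [ha₆, mul_comm]⟩
  -- `p ∈ M² + I`
  have hp : p ∈ M ^ 2 ⊔ I := by
    have e6 : algebraMap R (MvPowerSeries (Fin 2) R) a₆ = (y ^ 2 + a₁ • (x * y) - x ^ 3) -
        (y ^ 2 + a₁ • (x * y) - x ^ 3 - algebraMap R (MvPowerSeries (Fin 2) R) a₆) := (sub_sub_cancel _ _).symm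
    have hA : y ^ 2 + a₁ • (x * y) - x ^ 3 ∈ M ^ 2 := by
      refine sub_mem (add_mem (Ideal.pow_mem_pow hyM 2) ?_) ?_
      · refine Submodule.smul_of_tower_mem _ a₁ ?_
        rw [sq]; exact Ideal.mul_mem_mul hxM hyM
      · rw [show x ^ 3 = x * x ^ 2 from pow_succ' x 2]
        exact Ideal.mul_mem_left _ x (Ideal.pow_mem_pow hxM 2)
    have h6 : algebraMap R (MvPowerSeries (Fin 2) R) a₆ ∈ M ^ 2 ⊔ I := by
      rw [e6]; exact sub_mem (Ideal.mem_sup_left hA) (Ideal.mem_sup_right hFI)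
    have : p = algebraMap R (MvPowerSeries (Fin 2) R) (↑u₆⁻¹ : R) * algebraMap R (MvPowerSeries (Fin 2) R) a₆ := by
      rw [hp_def, ← map_mul, ha₆, Units.inv_mul_cancel_left]
    rw [this]; exact Ideal.mul_mem_left _ _ h6
  -- `3` is a unit
  have h2m : (2 : R) ∈ IsLocalRing.maximalIdeal R := Ideal.pow_le_self (by omega) h2
  have h3 : IsUnit (3 : R) := by
    by_contra h
    have h3m : (3 : R) ∈ IsLocalRing.maximalIdeal R := (IsLocalRing.mem_maximalIdeal _).mpr h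
    have h1 : (1 : R) ∈ IsLocalRing.maximalIdeal R := by
      have := sub_mem h3m h2m
      have e : (3 : R) - 2 = 1 := by norm_num
      rwa [e] at this
    exact (Ideal.ne_top_iff_one _).mp (IsLocalRing.maximalIdeal.isMaximal R).ne_top h1
  obtain ⟨u₃, hu₃⟩ := h3
  -- `x² ∈ M³ + I`
  have hx2 : x ^ 2 ∈ M ^ 3 ⊔ I := by
    have e3 : (3 : MvPowerSeries (Fin 2) R) * x ^ 2 = (3 * x ^ 2 - a₁ • y) + a₁ • y := (sub_add_cancel _ _).symm
    have hinv : algebraMap R (MvPowerSeries (Fin 2) R) (↑u₃⁻¹ : R) * 3 = 1 := by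
      rw [← map_ofNat (algebraMap R (MvPowerSeries (Fin 2) R)) 3, ← map_mul, ← hu₃, Units.inv_mul, map_one]
    have hay : a₁ • y ∈ M ^ 3 ⊔ I := by
      have hpy : p * y ∈ M ^ (2 + 1) ⊔ I :=
        mul_mem_pow_sup I M hp (by rw [pow_one]; exact hyM)
      have : a₁ • y = (algebraMap R (MvPowerSeries (Fin 2) R) (u₁ : R) * p ^ w) * (p * y) := by
        rw [Algebra.smul_def, ha₁, map_mul, map_pow, pow_succ]
        ring
      rw [this]; exact Ideal.mul_mem_left _ _ hpy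
    have : x ^ 2 = algebraMap R (MvPowerSeries (Fin 2) R) (↑u₃⁻¹ : R) * ((3 * x ^ 2 - a₁ • y) + a₁ • y) := by
      rw [← e3, ← mul_assoc, hinv, one_mul]
    rw [this]
    exact Ideal.mul_mem_left _ _ (add_mem (Ideal.mem_sup_right hHI) hay)
  -- `M` is in the Jacobson radical
  have hJ : M ≤ Ideal.jacobson ⊥ := by
    rw [IsLocalRing.jacobson_eq_maximalIdeal ⊥ bot_ne_top, hM, Ideal.span_le]
    intro a ha
    simp only [Set.mem_insert_iff, Set.mem_singleton_iff] at ha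
    rw [SetLike.mem_coe, IsLocalRing.mem_maximalIdeal, mem_nonunits_iff,
      MvPowerSeries.isUnit_iff_constantCoeff]
    rcases ha with rfl | rfl | rfl
    · have : MvPowerSeries.constantCoeff (algebraMap R (MvPowerSeries (Fin 2) R) ϖ) = ϖ := by
        simp [MvPowerSeries.algebraMap_apply]
      rw [this]; exact hϖ.not_isUnit
    · rw [hx]; simp
    · rw [hy]; simp
  have hIfg : I.FG := by rw [hI]; exact Submodule.fg_span (Set.toFinite _)
  refine ⟨pow_sup_eq hM hp hx2 hJ hIfg (2 * (w + 1)) (by omega), ?_⟩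
  -- Part 2: the test ring
  intro a b hab
  let q : T4 R a₆ →ₐ[R] (T4 R a₆ ⧸ W ϖ (w + 1) hc) := Ideal.Quotient.mkₐ R (W ϖ (w + 1) hc)
  have hq0 : ∀ t, t ∈ W ϖ (w + 1) hc → q t = 0 := fun t ht => by
    rw [Ideal.Quotient.mkₐ_eq_mk]; exact Ideal.Quotient.eq_zero_iff_mem.mpr ht
  have hq0' : ∀ t, q t = 0 → t ∈ W ϖ (w + 1) hc := fun t ht => by
    rw [Ideal.Quotient.mkₐ_eq_mk] at ht; exact Ideal.Quotient.eq_zero_iff_mem.mp ht
  have hXnil : IsNilpotent (q (XT R a₆)) := ⟨2, by rw [sq, ← map_mul, XT_sq, map_zero]⟩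
  have hYnil : IsNilpotent (q (YT R a₆)) := by
    refine ⟨2 * (w + 1 + 1), ?_⟩
    rw [← map_pow, YT_pow_even]
    apply hq0
    rw [mem_W, algebraMap_T4]
    exact ⟨pow_dvd_pow_of_dvd hc _, dvd_zero _, dvd_zero _, dvd_zero _⟩
  let θ := evalNil R (T4 R a₆ ⧸ W ϖ (w + 1) hc) ![q (XT R a₆), q (YT R a₆)]
    (fun i => by fin_cases i <;> simp [hXnil, hYnil])
  have hθx : θ x = q (XT R a₆) := by rw [hx]; exact evalNil_X _ _ _ _ 0
  have hθy : θ y = q (YT R a₆) := by rw [hy]; exact evalNil_X _ _ _ _ 1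
  -- the kernel contains `I`
  have hkerI : I ≤ RingHom.ker θ.toRingHom := by
    rw [hI, Ideal.span_le]
    intro f hf
    simp only [Set.mem_insert_iff, Set.mem_singleton_iff] at hf
    rw [SetLike.mem_coe, RingHom.mem_ker]
    rcases hf with rfl | rfl | rfl
    · have e : θ.toRingHom (y ^ 2 + a₁ • (x * y) - x ^ 3 - algebraMap R (MvPowerSeries (Fin 2) R) a₆) =
          q (YT R a₆ ^ 2 + a₁ • (XT R a₆ * YT R a₆) - XT R a₆ ^ 3 -
            algebraMap R (T4 R a₆) a₆) := by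
        simp only [AlgHom.toRingHom_eq_coe, RingHom.coe_coe, map_sub, map_add, map_pow, map_smul, map_mul, hθx, hθy,
          AlgHom.commutes]
      rw [e]
      apply hq0
      have : YT R a₆ ^ 2 + a₁ • (XT R a₆ * YT R a₆) - XT R a₆ ^ 3 - algebraMap R (T4 R a₆) a₆ =
          (⟨⟨0, 0⟩, ⟨0, a₁⟩⟩ : T4 R a₆) := by
        rw [algebraMap_T4]
        ext <;> simp [XT, YT, pow_succ, QuadraticAlgebra.re_ofNat, QuadraticAlgebra.im_ofNat,
          QuadraticAlgebra.re_one, QuadraticAlgebra.im_one]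
      rw [this, mem_W]
      exact ⟨dvd_zero _, dvd_zero _, dvd_zero _, hdvda₁⟩
    · have e : θ.toRingHom (2 * y + a₁ • x) = q (2 * YT R a₆ + a₁ • XT R a₆) := by
        simp only [AlgHom.toRingHom_eq_coe, RingHom.coe_coe, map_add, map_smul, map_mul, hθx, hθy, map_ofNat]
      rw [e]
      apply hq0
      have : 2 * YT R a₆ + a₁ • XT R a₆ = (⟨⟨0, 2⟩, ⟨a₁, 0⟩⟩ : T4 R a₆) := by
        ext <;> simp [XT, YT, QuadraticAlgebra.re_ofNat, QuadraticAlgebra.im_ofNat,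
          QuadraticAlgebra.re_one, QuadraticAlgebra.im_one]
      rw [this, mem_W]
      exact ⟨dvd_zero _, hdvd2, hdvda₁, dvd_zero _⟩
    · have e : θ.toRingHom (3 * x ^ 2 - a₁ • y) = q (3 * XT R a₆ ^ 2 - a₁ • YT R a₆) := by
        simp only [AlgHom.toRingHom_eq_coe, RingHom.coe_coe, map_sub, map_smul, map_mul, map_pow, hθx, hθy,
          map_ofNat]
      rw [e]
      apply hq0
      have : 3 * XT R a₆ ^ 2 - a₁ • YT R a₆ = (⟨⟨0, -a₁⟩, ⟨0, 0⟩⟩ : T4 R a₆) := by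
        ext <;> simp [XT, YT, pow_succ, QuadraticAlgebra.re_ofNat, QuadraticAlgebra.im_ofNat,
          QuadraticAlgebra.re_one, QuadraticAlgebra.im_one]
      rw [this, mem_W]
      exact ⟨dvd_zero _, (dvd_neg.mpr hdvda₁), dvd_zero _, dvd_zero _⟩
  -- the kernel contains `M^(2v+1)`
  have hkerM : M ^ (2 * (w + 1) + 1) ≤ RingHom.ker θ.toRingHom := by
    have hMle : M ≤ Ideal.comap θ.toRingHom (Ideal.span {q (XT R a₆), q (YT R a₆)}) := by
      rw [hM, Ideal.span_le]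
      intro f hf
      simp only [Set.mem_insert_iff, Set.mem_singleton_iff] at hf
      rw [SetLike.mem_coe, Ideal.mem_comap]
      rcases hf with rfl | rfl | rfl
      · have e : θ.toRingHom (algebraMap R (MvPowerSeries (Fin 2) R) ϖ) =
            q (algebraMap R (T4 R a₆) (↑u₆⁻¹ : R) * YT R a₆) * q (YT R a₆) := by
          have hinv : (↑u₆⁻¹ : R) * a₆ = ϖ := by rw [ha₆, Units.inv_mul_cancel_left]
          rw [← map_mul, mul_assoc, YT_sq, ← map_mul, hinv]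
          simp only [AlgHom.toRingHom_eq_coe, RingHom.coe_coe, AlgHom.commutes]
        rw [e]
        exact Ideal.mul_mem_left _ _ (Ideal.subset_span (by simp))
      · rw [AlgHom.toRingHom_eq_coe, RingHom.coe_coe, hθx]; exact Ideal.subset_span (by simp)
      · rw [AlgHom.toRingHom_eq_coe, RingHom.coe_coe, hθy]; exact Ideal.subset_span (by simp)
    have h1 : M ^ (2 * (w + 1) + 1) ≤ Ideal.comap θ.toRingHom
        ((Ideal.span {q (XT R a₆), q (YT R a₆)}) ^ (2 * (w + 1) + 1)) :=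
      (Ideal.pow_right_mono hMle _).trans (Ideal.le_comap_pow _ _)
    have h2 : (Ideal.span {q (XT R a₆), q (YT R a₆)}) ^ (2 * (w + 1) + 1) = ⊥ := by
      rw [eq_bot_iff]
      refine (span_pair_pow_le _ _ (by rw [← map_mul, XT_sq, map_zero]) _ (by omega)).trans ?_
      rw [Ideal.span_le]
      intro t ht
      simp only [Set.mem_insert_iff, Set.mem_singleton_iff] at ht
      rw [SetLike.mem_coe, Ideal.mem_bot]
      rcases ht with rfl | rfl
      · rw [← map_pow, YT_pow_odd]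
        apply hq0
        have : algebraMap R (T4 R a₆) (a₆ ^ (w + 1)) * YT R a₆ =
            (⟨⟨0, a₆ ^ (w + 1)⟩, ⟨0, 0⟩⟩ : T4 R a₆) := by
          rw [algebraMap_T4]
          ext <;> simp [YT]
        rw [this, mem_W]
        exact ⟨dvd_zero _, pow_dvd_pow_of_dvd hc _, dvd_zero _, dvd_zero _⟩
      · rw [show 2 * (w + 1) + 1 - 1 = 2 * (w + 1) by omega, ← map_pow, ← map_mul, YT_pow_even]
        apply hq0
        have : XT R a₆ * algebraMap R (T4 R a₆) (a₆ ^ (w + 1)) =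
            (⟨⟨0, 0⟩, ⟨a₆ ^ (w + 1), 0⟩⟩ : T4 R a₆) := by
          rw [algebraMap_T4]
          ext <;> simp [XT]
        rw [this, mem_W]
        exact ⟨dvd_zero _, dvd_zero _, pow_dvd_pow_of_dvd hc _, dvd_zero _⟩
    rw [h2] at h1
    exact h1
  have hker := sup_le hkerM hkerI hab
  rw [RingHom.mem_ker] at hker
  have e : θ.toRingHom (a • y ^ (2 * (w + 1)) + b • (x * y ^ (2 * (w + 1) - 1))) =
      q (a • YT R a₆ ^ (2 * (w + 1)) + b • (XT R a₆ * YT R a₆ ^ (2 * w + 1))) := by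
    rw [show 2 * (w + 1) - 1 = 2 * w + 1 by omega]
    simp only [AlgHom.toRingHom_eq_coe, RingHom.coe_coe, map_add, map_smul, map_mul, map_pow, hθx, hθy]
  rw [e] at hker
  have hmem := hq0' _ hker
  have : a • YT R a₆ ^ (2 * (w + 1)) + b • (XT R a₆ * YT R a₆ ^ (2 * w + 1)) =
      (⟨⟨a * a₆ ^ (w + 1), 0⟩, ⟨0, b * a₆ ^ w⟩⟩ : T4 R a₆) := by
    rw [YT_pow_even, YT_pow_odd, algebraMap_T4, algebraMap_T4]
    ext <;> simp [XT, YT]
  rw [this, mem_W] at hmem
  obtain ⟨ha, -, -, hb⟩ := hmem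
  simp only at ha hb
  have hϖ0 : ϖ ≠ 0 := hϖ.ne_zero
  rw [hϖ.maximalIdeal_eq, Ideal.mem_span_singleton, Ideal.mem_span_singleton]
  constructor
  · have e1 : a * a₆ ^ (w + 1) = (a * ((u₆ ^ (w + 1) : Rˣ) : R)) * ϖ ^ (w + 1) := by
      rw [ha₆, mul_pow, Units.val_pow_eq_pow_val]; ring
    rw [e1, pow_succ' ϖ (w + 1), mul_dvd_mul_iff_right (pow_ne_zero _ hϖ0)] at ha
    exact (Units.dvd_mul_right).mp ha
  · have e1 : b * a₆ ^ w = (b * ((u₆ ^ w : Rˣ) : R)) * ϖ ^ w := by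
      rw [ha₆, mul_pow, Units.val_pow_eq_pow_val]; ring
    rw [e1, pow_succ' ϖ w, mul_dvd_mul_iff_right (pow_ne_zero _ hϖ0)] at hb
    exact (Units.dvd_mul_right).mp hb

end Groth.Agent.Lib.Helper9.TypeII
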