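import Mathlib
import Groth.Prelude.Def_W4c5qcohlocdualityLoc

/-!
# Indecomposable injectives in a Grothendieck abelian category are uniform (for S17646)
-/

set_option autoImplicit false
universe w v u
open CategoryTheory CategoryTheory.Limits

namespace Groth.Agent.Lib.Helper9.UniformInj

attribute [local instance] IsFiltered.isConnected

section Abelian

variable {C : Type u} [Category.{v} C] [Abelian C]

theorem eq_bot_of_arrow_eq_zero {E : C} (P : Subobject E) (h : P.arrow = 0) : P = ⊥ := by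
  rw [← Subobject.mk_arrow P]
  exact Subobject.mk_eq_bot_iff_zero.mpr h

theorem arrow_eq_zero_of_eq_bot {E : C} (P : Subobject E) (h : P = ⊥) : P.arrow = 0 := by
  subst h
  exact Subobject.bot_arrow

theorem factors_of_comp_cokernel_eq_zero {E Z : C} (P : Subobject E) (g : Z ⟶ E)
    (hg : g ≫ cokernel.π P.arrow = 0) : P.Factors g := by
  rw [← Abelian.monoLift_comp P.arrow g hg]
  exact Subobject.factors_comp_arrow _

theorem mono_comp_cokernel {E : C} (A X : Subobject E) (h : A ⊓ X = ⊥) :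
    Mono (X.arrow ≫ cokernel.π A.arrow) := by
  apply Preadditive.mono_of_cancel_zero
  intro Z g hg
  have h1 : A.Factors (g ≫ X.arrow) :=
    factors_of_comp_cokernel_eq_zero A _ (by rw [Category.assoc]; exact hg)
  have h2 : X.Factors (g ≫ X.arrow) := Subobject.factors_comp_arrow g
  have h3 : (A ⊓ X).Factors (g ≫ X.arrow) := (Subobject.inf_factors _).mpr ⟨h1, h2⟩
  rw [h, Subobject.bot_factors_iff_zero] at h3
  exact (cancel_mono X.arrow).mp (by rw [h3, zero_comp])

theorem inf_eq_bot_of_mono {E : C} (A X : Subobject E)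
    (hm : Mono (X.arrow ≫ cokernel.π A.arrow)) : A ⊓ X = ⊥ := by
  apply eq_bot_of_arrow_eq_zero
  have hA := Subobject.inf_arrow_factors_left A X
  have hX := Subobject.inf_arrow_factors_right A X
  obtain ⟨u, hu⟩ : ∃ u, u ≫ A.arrow = (A ⊓ X).arrow := ⟨_, Subobject.factorThru_arrow _ _ hA⟩
  obtain ⟨v, hv⟩ : ∃ v, v ≫ X.arrow = (A ⊓ X).arrow := ⟨_, Subobject.factorThru_arrow _ _ hX⟩
  have h0 : v ≫ (X.arrow ≫ cokernel.π A.arrow) = 0 := by
    rw [← Category.assoc, hv, ← hu, Category.assoc, cokernel.condition, comp_zero]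
  have hv0 : v = 0 := (cancel_mono (X.arrow ≫ cokernel.π A.arrow)).mp (by rw [h0, zero_comp])
  rw [← hv, hv0, zero_comp]

end Abelian

section Groth

variable {C : Type u} [Category.{v} C] [Abelian C] [IsGrothendieckAbelian.{w} C]

/-- A small index type for a set of subobjects (only carrying its order). -/
def Idx {E : C} (c : Set (Subobject E)) : Type w := Shrink.{w} c

noncomputable instance {E : C} (c : Set (Subobject E)) : Preorder (Idx c) :=
  inferInstanceAs (Preorder (Shrink.{w} c))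

/-- The subobject attached to an index. -/
noncomputable def Idx.val {E : C} {c : Set (Subobject E)} (j : Idx c) : Subobject E :=
  ((equivShrink c).symm j).1

theorem Idx.val_mem {E : C} {c : Set (Subobject E)} (j : Idx c) : j.val ∈ c :=
  ((equivShrink c).symm j).2

theorem Idx.le_iff {E : C} {c : Set (Subobject E)} (a b : Idx c) : a ≤ b ↔ a.val ≤ b.val :=
  Iff.rfl

/-- The index of a member. -/
noncomputable def Idx.mk {E : C} {c : Set (Subobject E)} (X : Subobject E) (hX : X ∈ c) : Idx c :=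
  equivShrink c ⟨X, hX⟩

theorem Idx.val_mk {E : C} {c : Set (Subobject E)} (X : Subobject E) (hX : X ∈ c) :
    (Idx.mk X hX : Idx c).val = X := by
  unfold Idx.val Idx.mk
  rw [Equiv.symm_apply_apply]

/-- AB5 for chains of subobjects. -/
theorem inf_sSup_eq_bot {E : C} (A : Subobject E) (c : Set (Subobject E))
    (hc : IsChain (· ≤ ·) c) (hne : c.Nonempty) (h : ∀ X ∈ c, A ⊓ X = ⊥) :
    A ⊓ sSup c = ⊥ := by
  classical
  haveI : Nonempty (Idx c) := ⟨Idx.mk hne.some hne.some_mem⟩
  haveI : IsDirected (Idx c) (· ≤ ·) := ⟨fun a b => by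
    rcases hc.total a.val_mem b.val_mem with hab | hba
    · exact ⟨b, (Idx.le_iff a b).mpr hab, le_refl b⟩
    · exact ⟨a, le_refl a, (Idx.le_iff b a).mpr hba⟩⟩
  let G : Idx c ⥤ C :=
    { obj := fun j => (j.val : C)
      map := fun {i j} f => Subobject.ofLE _ _ ((Idx.le_iff i j).mp (leOfHom f))
      map_id := fun j => Subobject.ofLE_refl _
      map_comp := fun f g => (Subobject.ofLE_comp_ofLE _ _ _ _ _).symm }
  let α : G ⟶ (Functor.const (Idx c)).obj E :=
    { app := fun j => j.val.arrow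
      naturality := fun i j f => by
        show Subobject.ofLE _ _ ((Idx.le_iff i j).mp (leOfHom f)) ≫ j.val.arrow =
          i.val.arrow ≫ 𝟙 E
        rw [Subobject.ofLE_arrow, Category.comp_id] }
  let α' : G ⟶ (Functor.const (Idx c)).obj (cokernel A.arrow) :=
    { app := fun j => j.val.arrow ≫ cokernel.π A.arrow
      naturality := fun i j f => by
        show Subobject.ofLE _ _ ((Idx.le_iff i j).mp (leOfHom f)) ≫ j.val.arrow ≫
          cokernel.π A.arrow = (i.val.arrow ≫ cokernel.π A.arrow) ≫ 𝟙 _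
        rw [Subobject.ofLE_arrow_assoc, Category.comp_id] }
  haveI : ∀ j, Mono (α.app j) := fun j => by
    show Mono j.val.arrow
    infer_instance
  haveI : ∀ j, Mono (α'.app j) := fun j => mono_comp_cokernel A _ (h _ j.val_mem)
  haveI := NatTrans.mono_of_mono_app α
  haveI := NatTrans.mono_of_mono_app α'
  let s : colimit G ⟶ E := colimit.desc G ⟨E, α⟩
  have hs : Mono s := colim.map_mono' α (colimit.isColimit G) (isColimitConstCocone (Idx c) E) s
    (fun j => by
      show colimit.ι G j ≫ colimit.desc G ⟨E, α⟩ = α.app j ≫ 𝟙 E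
      rw [colimit.ι_desc]
      exact (Category.comp_id _).symm)
  have hs' : Mono (s ≫ cokernel.π A.arrow) :=
    colim.map_mono' α' (colimit.isColimit G) (isColimitConstCocone (Idx c) _)
      (s ≫ cokernel.π A.arrow) (fun j => by
        show colimit.ι G j ≫ colimit.desc G ⟨E, α⟩ ≫ cokernel.π A.arrow =
          (j.val.arrow ≫ cokernel.π A.arrow) ≫ 𝟙 _
        rw [colimit.ι_desc_assoc, Category.comp_id])
  have hle : sSup c ≤ Subobject.mk s := by
    apply sSup_le
    intro X hX
    have h1 : ∀ j : Idx c, j.val ≤ Subobject.mk s := fun j =>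
      Subobject.le_mk_of_comm (colimit.ι G j) (by simp [s, α])
    have h2 := h1 (Idx.mk X hX)
    rwa [Idx.val_mk] at h2
  have hbot : A ⊓ Subobject.mk s = ⊥ := by
    apply inf_eq_bot_of_mono
    rw [← Subobject.underlyingIso_hom_comp_eq_mk, Category.assoc]
    infer_instance
  exact le_bot_iff.mp (hbot ▸ inf_le_inf_left A hle)

theorem exists_maximal_compl {E : C} (A B : Subobject E) (h : A ⊓ B = ⊥) :
    ∃ M : Subobject E, B ≤ M ∧ A ⊓ M = ⊥ ∧ ∀ X, M ≤ X → A ⊓ X = ⊥ → X ≤ M := by
  have ih : ∀ c ⊆ {X : Subobject E | A ⊓ X = ⊥}, IsChain (· ≤ ·) c → ∀ y ∈ c,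
      ∃ ub ∈ {X : Subobject E | A ⊓ X = ⊥}, ∀ z ∈ c, z ≤ ub := by
    intro c hcs hc y hy
    exact ⟨sSup c, inf_sSup_eq_bot A c hc ⟨y, hy⟩ (fun X hX => hcs hX), fun z hz => le_sSup hz⟩
  obtain ⟨M, hBM, hM⟩ := zorn_le_nonempty₀ {X : Subobject E | A ⊓ X = ⊥} ih B h
  exact ⟨M, hBM, hM.1, fun X hMX hX => hM.2 hX hMX⟩

theorem uniform_of_indecomposable {E : C} [Injective E]
    (hind : ∀ (A B : C), Nonempty (E ≅ A ⊞ B) → IsZero A ∨ IsZero B)
    (A B : Subobject E) (hA : A ≠ ⊥) (hB : B ≠ ⊥) : A ⊓ B ≠ ⊥ := by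
  intro hAB
  obtain ⟨Cm, hBC, hACm, hCmax⟩ := exists_maximal_compl A B hAB
  obtain ⟨D, hAD, hCD, hDmax⟩ := exists_maximal_compl Cm A (by rw [inf_comm]; exact hACm)
  have hCmax' : ∀ X, Cm ≤ X → D ⊓ X = ⊥ → X ≤ Cm := by
    intro X hX hDX
    apply hCmax X hX
    exact le_bot_iff.mp (hDX ▸ inf_le_inf_right X hAD)
  haveI : Mono (D.arrow ≫ cokernel.π Cm.arrow) := mono_comp_cokernel Cm D hCD
  let φ : cokernel Cm.arrow ⟶ E := Injective.factorThru D.arrow (D.arrow ≫ cokernel.π Cm.arrow)
  have hφ : (D.arrow ≫ cokernel.π Cm.arrow) ≫ φ = D.arrow := Injective.comp_factorThru _ _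
  obtain ⟨ψ, hψdef⟩ : ∃ ψ : E ⟶ E, ψ = cokernel.π Cm.arrow ≫ φ := ⟨_, rfl⟩
  have hDψ : D.arrow ≫ ψ = D.arrow := by
    rw [hψdef, ← Category.assoc]; exact hφ
  have hCψ : Cm.arrow ≫ ψ = 0 := by
    rw [hψdef, cokernel.condition_assoc, zero_comp]
  have hfix : ∀ {Z : C} (a : Z ⟶ E), D.Factors a → a ≫ ψ = a := by
    intro Z a ha
    rw [← Subobject.factorThru_arrow D a ha, Category.assoc, hDψ]
  have hkill : ∀ {Z : C} (a : Z ⟶ E), Cm.Factors a → a ≫ ψ = 0 := by
    intro Z a ha
    rw [← Subobject.factorThru_arrow Cm a ha, Category.assoc, hCψ, comp_zero]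
  have hzero : ∀ {Z : C} (a : Z ⟶ E), D.Factors a → Cm.Factors a → a = 0 := by
    intro Z a h1 h2
    have h3 : (Cm ⊓ D).Factors a := (Subobject.inf_factors a).mpr ⟨h2, h1⟩
    rw [hCD] at h3
    exact (Subobject.bot_factors_iff_zero a).mp h3
  have hZ : kernelSubobject (ψ ≫ cokernel.π Cm.arrow) ≤ Cm := by
    apply hCmax'
    · have h0 : Cm.arrow ≫ ψ ≫ cokernel.π Cm.arrow = 0 := by
        rw [← Category.assoc, hCψ, zero_comp]
      exact Subobject.le_of_comm
        ((kernelSubobject _).factorThru Cm.arrow (kernelSubobject_factors _ _ h0))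
        (Subobject.factorThru_arrow _ _ _)
    · apply eq_bot_of_arrow_eq_zero
      have h1 := Subobject.inf_arrow_factors_left D (kernelSubobject (ψ ≫ cokernel.π Cm.arrow))
      have h2 := Subobject.inf_arrow_factors_right D (kernelSubobject (ψ ≫ cokernel.π Cm.arrow))
      have h3 := (kernelSubobject_factors_iff (ψ ≫ cokernel.π Cm.arrow) _).mp h2
      rw [← Category.assoc, hfix _ h1] at h3
      exact hzero _ h1 (factors_of_comp_cokernel_eq_zero Cm _ h3)
  have hI : Cm ⊓ imageSubobject ψ = ⊥ := by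
    apply eq_bot_of_arrow_eq_zero
    have h1 : Cm.Factors (Cm ⊓ imageSubobject ψ).arrow := Subobject.inf_arrow_factors_left _ _
    have h2 : (imageSubobject ψ).Factors (Cm ⊓ imageSubobject ψ).arrow :=
      Subobject.inf_arrow_factors_right _ _
    obtain ⟨v, hv⟩ : ∃ v, v ≫ (imageSubobject ψ).arrow = (Cm ⊓ imageSubobject ψ).arrow :=
      ⟨_, Subobject.factorThru_arrow _ _ h2⟩
    have h3 : pullback.snd v (factorThruImageSubobject ψ) ≫ ψ =
        pullback.fst v (factorThruImageSubobject ψ) ≫ (Cm ⊓ imageSubobject ψ).arrow := by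
      calc pullback.snd v (factorThruImageSubobject ψ) ≫ ψ
          = pullback.snd v (factorThruImageSubobject ψ) ≫
              (factorThruImageSubobject ψ ≫ (imageSubobject ψ).arrow) := by
            rw [imageSubobject_arrow_comp]
        _ = (pullback.snd v (factorThruImageSubobject ψ) ≫ factorThruImageSubobject ψ) ≫
              (imageSubobject ψ).arrow := (Category.assoc _ _ _).symm
        _ = (pullback.fst v (factorThruImageSubobject ψ) ≫ v) ≫ (imageSubobject ψ).arrow := by
            rw [pullback.condition]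
        _ = pullback.fst v (factorThruImageSubobject ψ) ≫ (v ≫ (imageSubobject ψ).arrow) :=
            Category.assoc _ _ _
        _ = _ := by rw [hv]
    have h4 : Cm.Factors (pullback.snd v (factorThruImageSubobject ψ)) := by
      apply Subobject.factors_of_le _ hZ
      apply kernelSubobject_factors
      rw [← Category.assoc, h3, Category.assoc,
        ← Subobject.factorThru_arrow Cm _ h1, Category.assoc, cokernel.condition, comp_zero,
        comp_zero]
    have h5 : pullback.fst v (factorThruImageSubobject ψ) ≫ (Cm ⊓ imageSubobject ψ).arrow = 0 := by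
      rw [← h3]; exact hkill _ h4
    exact (cancel_epi (pullback.fst v (factorThruImageSubobject ψ))).mp (by rw [h5, comp_zero])
  have hID : imageSubobject ψ ≤ D := by
    apply hDmax _ _ hI
    have h1 : (imageSubobject ψ).Factors D.arrow := by
      have h2 := imageSubobject_factors_comp_self (f := ψ) D.arrow
      rwa [hDψ] at h2
    exact Subobject.le_of_comm ((imageSubobject ψ).factorThru _ h1)
      (Subobject.factorThru_arrow _ _ h1)
  have hDfac : D.Factors ψ := by
    apply Subobject.factors_of_le _ hID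
    have h2 := imageSubobject_factors_comp_self (f := ψ) (𝟙 E)
    rwa [Category.id_comp] at h2
  obtain ⟨r, hr⟩ : ∃ r : E ⟶ (D : C), r ≫ D.arrow = ψ := ⟨_, Subobject.factorThru_arrow _ _ hDfac⟩
  have hsec : D.arrow ≫ r = 𝟙 _ := by
    rw [← cancel_mono D.arrow, Category.assoc, hr, hDψ, Category.id_comp]
  let S : ShortComplex C := ShortComplex.mk (kernel.ι r) r (kernel.condition r)
  have hSex : S.Exact := ShortComplex.exact_of_f_is_kernel S (kernelIsKernel r)
  have hmono : Mono S.f := by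
    show Mono (kernel.ι r)
    infer_instance
  let spl : S.Splitting := ShortComplex.Splitting.ofExactOfSection S hSex D.arrow hsec hmono
  have iso : E ≅ kernel r ⊞ (D : C) := spl.isoBinaryBiproduct
  rcases hind _ _ ⟨iso⟩ with hz | hz
  · apply hB
    have h0 : Cm.arrow ≫ r = 0 := by
      rw [← cancel_mono D.arrow, Category.assoc, hr, hCψ, zero_comp]
    have h1 : Cm.arrow = 0 := by
      rw [← kernel.lift_ι r Cm.arrow h0, hz.eq_of_tgt (kernel.lift r Cm.arrow h0) 0, zero_comp]
    have h2 : Cm = ⊥ := eq_bot_of_arrow_eq_zero _ h1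
    exact le_bot_iff.mp (h2 ▸ hBC)
  · apply hA
    have h1 : D.arrow = 0 := hz.eq_of_src _ _
    have h2 : D = ⊥ := eq_bot_of_arrow_eq_zero _ h1
    exact le_bot_iff.mp (h2 ▸ hAD)

theorem main (E : C) [Injective E]
    (hind : ∀ (A B : C), Nonempty (E ≅ A ⊞ B) → IsZero A ∨ IsZero B)
    (S₁ S₂ : ObjectProperty C) (h₁ : GabLoc.IsLocalizing.{w} S₁) (h₂ : GabLoc.IsLocalizing.{w} S₂)
    (ht₁ : GabLoc.HasTorsion S₁ E) (ht₂ : GabLoc.HasTorsion S₂ E) :
    GabLoc.HasTorsion (S₁ ⊓ S₂) E := by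
  obtain ⟨Y₁, hY₁, f₁, hf₁⟩ := ht₁
  obtain ⟨Y₂, hY₂, f₂, hf₂⟩ := ht₂
  haveI := h₁.isSerreClass
  haveI := h₂.isSerreClass
  have hne : ∀ {Y : C} (f : Y ⟶ E), f ≠ 0 → imageSubobject f ≠ ⊥ := by
    intro Y f hf hbot
    apply hf
    rw [← imageSubobject_arrow_comp f, arrow_eq_zero_of_eq_bot _ hbot, comp_zero]
  have hAB := uniform_of_indecomposable hind (imageSubobject f₁) (imageSubobject f₂)
    (hne f₁ hf₁) (hne f₂ hf₂)
  have hS₁ : S₁ ((imageSubobject f₁ : Subobject E) : C) :=
    S₁.prop_of_epi (factorThruImageSubobject f₁) hY₁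
  have hS₂ : S₂ ((imageSubobject f₂ : Subobject E) : C) :=
    S₂.prop_of_epi (factorThruImageSubobject f₂) hY₂
  refine ⟨((imageSubobject f₁ ⊓ imageSubobject f₂ : Subobject E) : C), ?_,
    (imageSubobject f₁ ⊓ imageSubobject f₂).arrow, ?_⟩
  · show S₁ _ ∧ S₂ _
    exact ⟨S₁.prop_of_mono (Subobject.ofLE _ _ inf_le_left) hS₁,
      S₂.prop_of_mono (Subobject.ofLE _ _ inf_le_right) hS₂⟩
  · intro h0
    exact hAB (eq_bot_of_arrow_eq_zero _ h0)

end Groth

end Groth.Agent.Lib.Helper9.UniformInj
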