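import Mathlib

/-!
# Veronese subrings of finitely generated graded rings (EGA II 2.1.6) (helper9)

For an `ℕ`-graded commutative ring `S = ⊕ 𝒜 m` generated over `𝒜 0` by finitely many homogeneous
elements of positive degree: every `𝒜 m` is `𝒜 0 · span T` for a finite set `T ⊆ 𝒜 m`, and there
is `d > 0` with `𝒜 (k d) = (𝒜 d)^k` for all `k ≥ 1`.
-/

set_option autoImplicit false
set_option linter.style.haveILetI false
set_option linter.unusedSectionVars false

universe u v

namespace Groth.Agent.Lib.Helper9.Veronese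

open Pointwise

variable {S : Type u} [CommRing S] (𝒜 : ℕ → AddSubgroup S) [GradedRing 𝒜]

/-- The degree-`m` part as a `ℤ`-submodule. -/
def M (m : ℕ) : Submodule ℤ S := AddSubgroup.toIntSubmodule (𝒜 m)

theorem mem_M {m : ℕ} {x : S} : x ∈ M 𝒜 m ↔ x ∈ 𝒜 m := Iff.rfl

theorem M_mul_le (a b : ℕ) : M 𝒜 a * M 𝒜 b ≤ M 𝒜 (a + b) :=
  Submodule.mul_le.mpr fun x hx y hy =>
    (SetLike.mul_mem_graded (A := 𝒜) (mem_M 𝒜 |>.mp hx) (mem_M 𝒜 |>.mp hy) : x * y ∈ 𝒜 (a + b))

theorem one_mem_M0 : (1 : S) ∈ M 𝒜 0 := SetLike.one_mem_graded 𝒜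

theorem M0_mul (a : ℕ) : M 𝒜 0 * M 𝒜 a = M 𝒜 a := by
  apply le_antisymm
  · have := M_mul_le 𝒜 0 a
    rwa [zero_add] at this
  · intro x hx
    have := Submodule.mul_mem_mul (one_mem_M0 𝒜) hx
    rwa [one_mul] at this

theorem M_pow_le (a : ℕ) : ∀ j : ℕ, M 𝒜 a ^ j ≤ M 𝒜 (j * a) := by
  intro j
  induction j with
  | zero =>
    rw [pow_zero, zero_mul, Submodule.one_le]
    exact one_mem_M0 𝒜
  | succ j ih =>
    rw [pow_succ]
    refine le_trans (mul_le_mul' ih le_rfl) ?_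
    have := M_mul_le 𝒜 (j * a) a
    rwa [← Nat.succ_mul] at this

section Mon

variable (s : Finset S) (n : S → ℕ)

/-- The weight of an exponent vector. -/
def wt (α : S → ℕ) : ℕ := ∑ x ∈ s, α x * n x

/-- The monomial of an exponent vector. -/
def mon (α : S → ℕ) : S := ∏ x ∈ s, x ^ α x

/-- Monomials of weight `m`. -/
def Mon (m : ℕ) : Set S := {y | ∃ α : S → ℕ, wt s n α = m ∧ mon s α = y}

/-- `𝒜 0`-combinations of monomials of weight `m`. -/
def N (m : ℕ) : Submodule ℤ S := M 𝒜 0 * Submodule.span ℤ (Mon s n m)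

theorem prod_mem_graded (hn : ∀ x ∈ s, x ∈ 𝒜 (n x)) (α : S → ℕ) :
    ∀ t : Finset S, t ⊆ s → (∏ x ∈ t, x ^ α x) ∈ 𝒜 (∑ x ∈ t, α x * n x) := by
  classical
  intro t
  induction t using Finset.induction_on with
  | empty =>
    intro _
    rw [Finset.prod_empty, Finset.sum_empty]
    exact SetLike.one_mem_graded 𝒜
  | insert a t ha ih =>
    intro hts
    rw [Finset.prod_insert ha, Finset.sum_insert ha]
    have h1 : a ^ α a ∈ 𝒜 (α a * n a) := by
      have := SetLike.pow_mem_graded (α a) (hn a (hts (Finset.mem_insert_self a t)))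
      rwa [smul_eq_mul] at this
    exact SetLike.mul_mem_graded h1 (ih (fun x hx => hts (Finset.mem_insert_of_mem hx)))

theorem mon_mem (hn : ∀ x ∈ s, x ∈ 𝒜 (n x)) (α : S → ℕ) : mon s α ∈ 𝒜 (wt s n α) :=
  prod_mem_graded 𝒜 s n hn α s (Finset.Subset.refl s)

theorem Mon_subset (hn : ∀ x ∈ s, x ∈ 𝒜 (n x)) (m : ℕ) : Mon s n m ⊆ (𝒜 m : Set S) := by
  rintro y ⟨α, rfl, rfl⟩
  exact mon_mem 𝒜 s n hn α

theorem N_le_M (hn : ∀ x ∈ s, x ∈ 𝒜 (n x)) (m : ℕ) : N 𝒜 s n m ≤ M 𝒜 m := by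
  unfold N
  have h1 : Submodule.span ℤ (Mon s n m) ≤ M 𝒜 m :=
    Submodule.span_le.mpr (Mon_subset 𝒜 s n hn m)
  refine le_trans (mul_le_mul' le_rfl h1) ?_
  rw [M0_mul]

theorem Mon_mul_subset (a b : ℕ) : Mon s n a * Mon s n b ⊆ Mon s n (a + b) := by
  rintro _ ⟨y, ⟨α, rfl, rfl⟩, z, ⟨β, rfl, rfl⟩, rfl⟩
  refine ⟨α + β, ?_, ?_⟩
  · unfold wt
    rw [← Finset.sum_add_distrib]
    apply Finset.sum_congr rfl
    intro x _
    rw [Pi.add_apply, add_mul]
  · unfold mon
    change ∏ x ∈ s, x ^ (α + β) x = (∏ x ∈ s, x ^ α x) * (∏ x ∈ s, x ^ β x)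
    rw [← Finset.prod_mul_distrib]
    apply Finset.prod_congr rfl
    intro x _
    rw [Pi.add_apply, pow_add]

theorem N_mul_le (a b : ℕ) : N 𝒜 s n a * N 𝒜 s n b ≤ N 𝒜 s n (a + b) := by
  unfold N
  rw [mul_mul_mul_comm, Submodule.span_mul_span]
  refine mul_le_mul' ?_ (Submodule.span_mono (Mon_mul_subset s n a b))
  have := M_mul_le 𝒜 0 0
  rwa [zero_add] at this

theorem one_mem_Mon : (1 : S) ∈ Mon s n 0 := by
  refine ⟨0, ?_, ?_⟩
  · unfold wt
    simp
  · unfold mon
    simp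

theorem mem_N_zero {a : S} (ha : a ∈ 𝒜 0) : a ∈ N 𝒜 s n 0 := by
  have := Submodule.mul_mem_mul ((mem_M 𝒜).mpr ha)
    (Submodule.subset_span (one_mem_Mon s n))
  rwa [mul_one] at this

theorem mem_N_gen [DecidableEq S] {x : S} (hx : x ∈ s) : x ∈ N 𝒜 s n (n x) := by
  have hmon : x ∈ Mon s n (n x) := by
    refine ⟨Pi.single x 1, ?_, ?_⟩
    · unfold wt
      rw [Finset.sum_eq_single x]
      · rw [Pi.single_eq_same, one_mul]
      · intro y _ hy
        rw [Pi.single_eq_of_ne hy, zero_mul]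
      · intro h
        exact absurd hx h
    · unfold mon
      rw [Finset.prod_eq_single x]
      · rw [Pi.single_eq_same, pow_one]
      · intro y _ hy
        rw [Pi.single_eq_of_ne hy, pow_zero]
      · intro h
        exact absurd hx h
  have := Submodule.mul_mem_mul (one_mem_M0 𝒜) (Submodule.subset_span hmon)
  rwa [one_mul] at this

theorem iSup_N_eq_top (hs : Algebra.adjoin (𝒜 0) (s : Set S) = ⊤) :
    ⨆ m, N 𝒜 s n m = ⊤ := by
  classical
  rw [eq_top_iff]
  intro b _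
  have hb : b ∈ Algebra.adjoin (𝒜 0) (s : Set S) := by rw [hs]; trivial
  clear hs
  rename_i hbt
  clear hbt
  induction hb using Algebra.adjoin_induction with
  | mem x hx =>
    exact Submodule.mem_iSup_of_mem (n x) (mem_N_gen 𝒜 s n hx)
  | algebraMap a =>
    exact Submodule.mem_iSup_of_mem 0 (mem_N_zero 𝒜 s n a.2)
  | add x y _ _ hx hy => exact Submodule.add_mem _ hx hy
  | mul x y _ _ hx hy =>
    have h1 : x * y ∈ (⨆ m, N 𝒜 s n m) * (⨆ m, N 𝒜 s n m) := Submodule.mul_mem_mul hx hy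
    have h2 : (⨆ m, N 𝒜 s n m) * (⨆ m, N 𝒜 s n m) ≤ ⨆ m, N 𝒜 s n m := by
      rw [Submodule.iSup_mul]
      apply iSup_le
      intro i
      rw [Submodule.mul_iSup]
      apply iSup_le
      intro j
      exact le_iSup_of_le (i + j) (N_mul_le 𝒜 s n i j)
    exact h2 h1

theorem M_le_N (hs : Algebra.adjoin (𝒜 0) (s : Set S) = ⊤) (hn : ∀ x ∈ s, x ∈ 𝒜 (n x))
    (m : ℕ) : M 𝒜 m ≤ N 𝒜 s n m := by
  classical
  intro b hb
  have hb' : b ∈ 𝒜 m := hb
  have htop : b ∈ ⨆ m, N 𝒜 s n m := by rw [iSup_N_eq_top 𝒜 s n hs]; trivial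
  obtain ⟨f, hf, hsum⟩ := (Submodule.mem_iSup_iff_exists_finsupp _ _).mp htop
  have hproj : ∀ i, GradedRing.proj 𝒜 m (f i) = if i = m then f i else 0 := by
    intro i
    have hfi : f i ∈ 𝒜 i := N_le_M 𝒜 s n hn i (hf i)
    rw [GradedRing.proj_apply]
    split_ifs with h
    · subst h
      rw [DirectSum.decompose_of_mem_same 𝒜 hfi]
    · rw [DirectSum.decompose_of_mem_ne 𝒜 hfi h]
  have h1 : GradedRing.proj 𝒜 m b = b := by
    rw [GradedRing.proj_apply, DirectSum.decompose_of_mem_same 𝒜 hb']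
  have h2 : GradedRing.proj 𝒜 m b = f m := by
    rw [← hsum, Finsupp.sum, map_sum]
    simp only [hproj]
    rw [Finset.sum_ite_eq' f.support m]
    split_ifs with h
    · rfl
    · rw [Finsupp.notMem_support_iff] at h
      exact h.symm
  rw [← h1, h2]
  exact hf m

theorem M_eq_N (hs : Algebra.adjoin (𝒜 0) (s : Set S) = ⊤) (hn : ∀ x ∈ s, x ∈ 𝒜 (n x))
    (m : ℕ) : M 𝒜 m = N 𝒜 s n m :=
  le_antisymm (M_le_N 𝒜 s n hs hn m) (N_le_M 𝒜 s n hn m)

theorem Mon_finite (hpos : ∀ x ∈ s, n x ≠ 0) (m : ℕ) : (Mon s n m).Finite := by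
  classical
  let F : (s → Fin (m + 1)) → S := fun β => ∏ x ∈ s.attach, x.1 ^ ((β x : Fin (m + 1)) : ℕ)
  apply Set.Finite.subset (Set.finite_range F)
  rintro y ⟨α, hα, rfl⟩
  have hle : ∀ x ∈ s, α x ≤ m := by
    intro x hx
    have h1 : α x * n x ≤ wt s n α := Finset.single_le_sum (f := fun x => α x * n x)
      (fun _ _ => Nat.zero_le _) hx
    have h2 : α x ≤ α x * n x := Nat.le_mul_of_pos_right _ (Nat.pos_of_ne_zero (hpos x hx))
    omega
  refine ⟨fun x => ⟨α x.1, Nat.lt_succ_of_le (hle x.1 x.2)⟩, ?_⟩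
  change ∏ x ∈ s.attach, x.1 ^ α x.1 = ∏ x ∈ s, x ^ α x
  exact Finset.prod_attach s (fun x => x ^ α x)

/-- Finite generation of each graded piece over `𝒜 0`. -/
theorem exists_finset_M_eq (hs : Algebra.adjoin (𝒜 0) (s : Set S) = ⊤)
    (hn : ∀ x ∈ s, x ∈ 𝒜 (n x)) (hpos : ∀ x ∈ s, n x ≠ 0) (m : ℕ) :
    ∃ T : Finset S, (↑T : Set S) ⊆ (𝒜 m : Set S) ∧
      M 𝒜 m = M 𝒜 0 * Submodule.span ℤ (↑T : Set S) := by
  refine ⟨(Mon_finite s n hpos m).toFinset, ?_, ?_⟩
  · rw [Set.Finite.coe_toFinset]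
    exact Mon_subset 𝒜 s n hn m
  · rw [Set.Finite.coe_toFinset]
    exact M_eq_N 𝒜 s n hs hn m

/-- The key step: large degrees are reached by multiplying with degree `h`. -/
theorem M_le_mul (hs : Algebra.adjoin (𝒜 0) (s : Set S) = ⊤)
    (hn : ∀ x ∈ s, x ∈ 𝒜 (n x)) (hpos : ∀ x ∈ s, n x ≠ 0) {h : ℕ} (hh : 0 < h)
    (hdiv : ∀ x ∈ s, n x ∣ h) (m : ℕ) (hm : (s.card + 1) * h ≤ m) :
    M 𝒜 m ≤ M 𝒜 h * M 𝒜 (m - h) := by
  classical
  rw [M_eq_N 𝒜 s n hs hn m]
  unfold N
  rw [Submodule.mul_le]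
  intro a ha y hy
  induction hy using Submodule.span_induction with
  | mem y hy =>
    obtain ⟨α, hα, rfl⟩ := hy
    -- pigeonhole
    have hex : ∃ x ∈ s, h ≤ α x * n x := by
      by_contra hcon
      push Not at hcon
      have h1 : wt s n α ≤ s.card • (h - 1) := by
        apply Finset.sum_le_card_nsmul
        intro x hx
        have := hcon x hx
        omega
      rw [smul_eq_mul, hα] at h1
      have h2 : s.card * (h - 1) ≤ s.card * h := Nat.mul_le_mul_left _ (Nat.sub_le _ _)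
      have h3 : (s.card + 1) * h = s.card * h + h := by ring
      omega
    obtain ⟨x, hx, hxh⟩ := hex
    obtain ⟨c, hc⟩ := hdiv x hx
    have hnx : 0 < n x := Nat.pos_of_ne_zero (hpos x hx)
    have hcα : c ≤ α x := by
      rw [hc, mul_comm] at hxh
      exact Nat.le_of_mul_le_mul_right hxh hnx
    let α' : S → ℕ := Function.update α x (α x - c)
    have hmon : mon s α = x ^ c * mon s α' := by
      unfold mon
      rw [← Finset.mul_prod_erase s _ hx, ← Finset.mul_prod_erase s (fun y => y ^ α' y) hx]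
      have h1 : α' x = α x - c := Function.update_self ..
      have h2 : ∏ y ∈ s.erase x, y ^ α' y = ∏ y ∈ s.erase x, y ^ α y := by
        apply Finset.prod_congr rfl
        intro y hy
        have hyx : y ≠ x := Finset.ne_of_mem_erase hy
        change y ^ (Function.update α x (α x - c) y) = _
        rw [Function.update_of_ne hyx]
      rw [h1, h2, ← mul_assoc, ← pow_add, Nat.add_sub_cancel' hcα]
    have hwt : wt s n α' = m - h := by
      have h0 : wt s n α = α x * n x + ∑ y ∈ s.erase x, α y * n y := by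
        unfold wt
        rw [Finset.add_sum_erase s (fun y => α y * n y) hx]
      have h0' : wt s n α' = α' x * n x + ∑ y ∈ s.erase x, α' y * n y := by
        unfold wt
        rw [Finset.add_sum_erase s (fun y => α' y * n y) hx]
      have h1 : α' x = α x - c := Function.update_self ..
      have h2 : ∑ y ∈ s.erase x, α' y * n y = ∑ y ∈ s.erase x, α y * n y := by
        apply Finset.sum_congr rfl
        intro y hy
        have hyx : y ≠ x := Finset.ne_of_mem_erase hy
        change (Function.update α x (α x - c) y) * n y = _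
        rw [Function.update_of_ne hyx]
      rw [h0', h1, h2]
      rw [h0] at hα
      have h3 : (α x - c) * n x + h = α x * n x := by
        rw [hc, Nat.sub_mul, mul_comm (n x) c]
        have : c * n x ≤ α x * n x := Nat.mul_le_mul_right _ hcα
        omega
      omega
    have hxc : x ^ c ∈ M 𝒜 h := by
      have := SetLike.pow_mem_graded c (hn x hx)
      rw [smul_eq_mul, mul_comm, ← hc] at this
      exact this
    have hrest : a * mon s α' ∈ M 𝒜 (m - h) := by
      have h1 : mon s α' ∈ M 𝒜 (m - h) := by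
        rw [← hwt]
        exact mon_mem 𝒜 s n hn α'
      have := M_mul_le 𝒜 0 (m - h) (Submodule.mul_mem_mul ha h1)
      rwa [zero_add] at this
    have heq : a * mon s α = x ^ c * (a * mon s α') := by
      rw [hmon]; ring
    rw [heq]
    exact Submodule.mul_mem_mul hxc hrest
  | zero => rw [mul_zero]; exact Submodule.zero_mem _
  | add y z _ _ hy hz => rw [mul_add]; exact Submodule.add_mem _ hy hz
  | smul c y _ hy => rw [mul_smul_comm]; exact Submodule.smul_mem _ c hy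

/-- **EGA II 2.1.6**: the Veronese subring `S^{(d)}` is generated by `S_d` for a suitable `d`. -/
theorem exists_veronese (hs : Algebra.adjoin (𝒜 0) (s : Set S) = ⊤)
    (hn : ∀ x ∈ s, x ∈ 𝒜 (n x)) (hpos : ∀ x ∈ s, n x ≠ 0) :
    ∃ d : ℕ, 0 < d ∧ ∀ k : ℕ, 0 < k → M 𝒜 (k * d) = M 𝒜 d ^ k := by
  classical
  let h := ∏ x ∈ s, n x
  have hh : 0 < h := Finset.prod_pos fun x hx => Nat.pos_of_ne_zero (hpos x hx)
  have hdiv : ∀ x ∈ s, n x ∣ h := fun x hx => Finset.dvd_prod_of_mem n hx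
  let r := s.card + 1
  let d := r * h
  have hd : 0 < d := Nat.mul_pos (Nat.succ_pos _) hh
  have key := M_le_mul 𝒜 s n hs hn hpos hh hdiv
  -- claim 1
  have claim1 : ∀ k : ℕ, 0 < k → ∀ j : ℕ, j ≤ r →
      M 𝒜 ((k + 1) * d) ≤ M 𝒜 h ^ j * M 𝒜 ((k + 1) * d - j * h) := by
    intro k hk j
    induction j with
    | zero =>
      intro _
      rw [pow_zero, one_mul, zero_mul, Nat.sub_zero]
    | succ j ih =>
      intro hj
      have hj' : j ≤ r := Nat.le_of_succ_le hj
      refine le_trans (ih hj') ?_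
      have hidx : r * h ≤ (k + 1) * d - j * h := by
        have h1 : j * h ≤ k * (r * h) := by
          calc j * h ≤ r * h := Nat.mul_le_mul_right _ hj'
            _ ≤ k * (r * h) := Nat.le_mul_of_pos_left _ hk
        have h2 : (k + 1) * d = k * (r * h) + r * h := by
          change (k + 1) * (r * h) = _
          ring
        omega
      have h3 := key ((k + 1) * d - j * h) hidx
      refine le_trans (mul_le_mul' le_rfl h3) ?_
      rw [← mul_assoc, ← pow_succ]
      have h4 : (k + 1) * d - j * h - h = (k + 1) * d - (j + 1) * h := by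
        rw [Nat.sub_sub, Nat.succ_mul j h]
      rw [h4]
  have claim2 : ∀ k : ℕ, 0 < k → M 𝒜 ((k + 1) * d) ≤ M 𝒜 d * M 𝒜 (k * d) := by
    intro k hk
    have h1 := claim1 k hk r le_rfl
    have h2 : (k + 1) * d - r * h = k * d := by
      change (k + 1) * d - d = k * d
      rw [Nat.succ_mul, Nat.add_sub_cancel]
    rw [h2] at h1
    refine le_trans h1 (mul_le_mul' ?_ le_rfl)
    exact M_pow_le 𝒜 h r
  refine ⟨d, hd, ?_⟩
  intro k hk
  induction k with
  | zero => exact absurd hk (lt_irrefl 0)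
  | succ k ih =>
    rcases Nat.eq_zero_or_pos k with rfl | hk'
    · rw [zero_add, one_mul, pow_one]
    · rw [pow_succ', ← ih hk']
      apply le_antisymm (claim2 k hk')
      have := M_mul_le 𝒜 d (k * d)
      rwa [show d + k * d = (k + 1) * d by ring] at this

end Mon

/-- The Veronese property passes to multiples. -/
theorem veronese_mul {d : ℕ} (hd : ∀ k : ℕ, 0 < k → M 𝒜 (k * d) = M 𝒜 d ^ k) (e : ℕ) (he : 0 < e) :
    ∀ k : ℕ, 0 < k → M 𝒜 (k * (e * d)) = M 𝒜 (e * d) ^ k := by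
  intro k hk
  rw [hd e he, ← pow_mul, ← hd (e * k) (Nat.mul_pos he hk)]
  congr 1
  ring

end Groth.Agent.Lib.Helper9.Veronese
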