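import Groth.Agent.Lib.Helper9.VeroneseA

/-!
# Veronese subrings: finite-type graded algebras (helper9)
-/

set_option autoImplicit false
set_option linter.style.haveILetI false
set_option linter.unusedSectionVars false

universe u v

namespace Groth.Agent.Lib.Helper9.Veronese

variable {S : Type u} [CommRing S] (𝒜 : ℕ → AddSubgroup S) [GradedRing 𝒜]

theorem exists_gens {R : Type v} [CommRing R] (φ : R →+* S) (hφ : ∀ r, φ r ∈ 𝒜 0)
    (hft : φ.FiniteType) :
    ∃ (s : Finset S) (n : S → ℕ), Algebra.adjoin (𝒜 0) (s : Set S) = ⊤ ∧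
      (∀ x ∈ s, x ∈ 𝒜 (n x)) ∧ (∀ x ∈ s, n x ≠ 0) := by
  letI := φ.toAlgebra
  let φ₀ : R →+* 𝒜 0 :=
    { toFun := fun r => ⟨φ r, hφ r⟩
      map_one' := Subtype.ext φ.map_one
      map_mul' := fun a b => Subtype.ext (φ.map_mul a b)
      map_zero' := Subtype.ext φ.map_zero
      map_add' := fun a b => Subtype.ext (φ.map_add a b) }
  letI : Algebra R (𝒜 0) := φ₀.toAlgebra
  haveI : IsScalarTower R (𝒜 0) S := IsScalarTower.of_algebraMap_eq (fun r => rfl)
  haveI : Algebra.FiniteType R S := hft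
  haveI : Algebra.FiniteType (𝒜 0) S := Algebra.FiniteType.of_restrictScalars_finiteType R (𝒜 0) S
  obtain ⟨s, h1, h2⟩ := GradedAlgebra.exists_finset_adjoin_eq_top_and_homogeneous_ne_zero 𝒜
  choose! n hn using h2
  exact ⟨s, n, h1, fun x hx => (hn x hx).2, fun x hx => (hn x hx).1⟩

/-- Single graded ring of finite type over a ring mapping to degree zero. -/
theorem exists_veronese_of_finiteType {R : Type v} [CommRing R] (φ : R →+* S)
    (hφ : ∀ r, φ r ∈ 𝒜 0) (hft : φ.FiniteType) :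
    ∃ d : ℕ, 0 < d ∧ (∀ k : ℕ, 0 < k → M 𝒜 (k * d) = M 𝒜 d ^ k) ∧
      ∀ m : ℕ, ∃ T : Finset S, (↑T : Set S) ⊆ (𝒜 m : Set S) ∧
        M 𝒜 m = M 𝒜 0 * Submodule.span ℤ (↑T : Set S) := by
  obtain ⟨s, n, hs, hn, hpos⟩ := exists_gens 𝒜 φ hφ hft
  obtain ⟨d, hd, hv⟩ := exists_veronese 𝒜 s n hs hn hpos
  exact ⟨d, hd, hv, fun m => exists_finset_M_eq 𝒜 s n hs hn hpos m⟩

end Groth.Agent.Lib.Helper9.Veronese
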