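import Mathlib
import Groth.Prelude.Def_W4c6katofiltaWFil
import Groth.Agent.Lib.Helper26.WittTeich
import Groth.Agent.Lib.Helper29.WittFil

/-!
# Graded pieces of the filtration `fil` on truncated Witt vectors of `S((π))` (helper9)
-/

set_option autoImplicit false
universe u

namespace Groth.Agent.Lib.Helper9.WittGr

open WittVector

section Root

variable {S B : Type u} [CommRing S] [IsDomain S] [CommRing B] [Algebra (PowerSeries S) B]
  [IsLocalization.Away (PowerSeries.X : PowerSeries S) B]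

theorem algMap_inj : Function.Injective (algebraMap (PowerSeries S) B) :=
  IsLocalization.injective B
    (powers_le_nonZeroDivisors_of_noZeroDivisors (PowerSeries.X_ne_zero (R := S)))

theorem isUnit_pi : IsUnit (algebraMap (PowerSeries S) B PowerSeries.X) :=
  IsLocalization.Away.algebraMap_isUnit _

theorem root_closed (z : B) (N : ℕ) (hN : N ≠ 0)
    (hz : z ^ N ∈ (algebraMap (PowerSeries S) B).range) :
    z ∈ (algebraMap (PowerSeries S) B).range := by
  obtain ⟨a₀, ha₀⟩ := hz
  obtain ⟨n, a, hna⟩ := IsLocalization.Away.surj (PowerSeries.X : PowerSeries S) z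
  induction n generalizing a with
  | zero => exact ⟨a, by simpa using hna.symm⟩
  | succ n ih =>
    have h1 : a ^ N = a₀ * (PowerSeries.X ^ (n + 1)) ^ N := by
      apply algMap_inj (B := B)
      rw [map_pow, ← hna, mul_pow, ← ha₀, map_mul, map_pow, map_pow]
    have h2 : PowerSeries.constantCoeff a = 0 := by
      have h3 := congrArg (PowerSeries.constantCoeff (R := S)) h1
      rw [map_pow, map_mul, map_pow, map_pow, PowerSeries.constantCoeff_X,
        zero_pow (Nat.succ_ne_zero n), zero_pow hN, mul_zero] at h3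
      exact (pow_eq_zero_iff hN).mp h3
    obtain ⟨a', rfl⟩ := PowerSeries.X_dvd_iff.mpr h2
    apply ih a'
    have hu := isUnit_pi (S := S) (B := B)
    apply hu.mul_left_injective
    show z * algebraMap (PowerSeries S) B PowerSeries.X ^ n * algebraMap (PowerSeries S) B PowerSeries.X
      = algebraMap (PowerSeries S) B a' * algebraMap (PowerSeries S) B PowerSeries.X
    rw [mul_assoc, ← pow_succ, hna, map_mul, mul_comm]

end Root

section Main

variable (p : ℕ) [hp : Fact p.Prime] {S B : Type u} [CommRing S] [IsDomain S] [CharP S p]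
  [CommRing B] [Algebra (PowerSeries S) B] [Algebra S B] [IsScalarTower S (PowerSeries S) B]
  [IsLocalization.Away (PowerSeries.X : PowerSeries S) B]

/-- shorthand for integer powers of a unit, as elements of `B` -/
def Uz (u : Bˣ) (a : ℤ) : B := ((u ^ a : Bˣ) : B)

theorem Uz_add (u : Bˣ) (a b : ℤ) : Uz u (a + b) = Uz u a * Uz u b := by
  unfold Uz; rw [zpow_add, Units.val_mul]

theorem Uz_pow (u : Bˣ) (a : ℤ) (k : ℕ) : Uz u a ^ k = Uz u (a * k) := by
  unfold Uz; rw [zpow_mul, zpow_natCast, Units.val_pow_eq_pow_val]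

theorem Uz_zero (u : Bˣ) : Uz u 0 = 1 := by
  unfold Uz; simp

theorem Uz_nat (u : Bˣ) (hu : (u : B) = algebraMap (PowerSeries S) B PowerSeries.X) (k : ℕ) :
    Uz u (k : ℤ) = algebraMap (PowerSeries S) B (PowerSeries.X ^ k) := by
  unfold Uz; rw [zpow_natCast, Units.val_pow_eq_pow_val, hu, map_pow]

theorem Uz_one (u : Bˣ) (hu : (u : B) = algebraMap (PowerSeries S) B PowerSeries.X) :
    Uz u 1 = algebraMap (PowerSeries S) B PowerSeries.X := by
  unfold Uz; rw [zpow_one, hu]

theorem algS_inj : Function.Injective (algebraMap S B) := by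
  rw [IsScalarTower.algebraMap_eq S (PowerSeries S) B]
  refine (algMap_inj (S := S) (B := B)).comp ?_
  intro a b hab
  have := congrArg (PowerSeries.constantCoeff (R := S)) hab
  simpa [PowerSeries.algebraMap_apply] using this

theorem charP_B (hinj : Function.Injective (algebraMap S B)) : CharP B p :=
  charP_of_injective_algebraMap hinj p

theorem mem_fil (m : ℕ) (c : B) (x : TruncatedWittVector p m B) :
    x ∈ WittFil.fil p m (A := PowerSeries S) c ↔
      ∀ j : Fin m, (TruncatedWittVector.coeff j x) ^ (p ^ (m - 1 - (j : ℕ))) * c ∈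
        (algebraMap (PowerSeries S) B).range := Iff.rfl

theorem vShift_coeff {B : Type u} [CommRing B] (s : ℕ) (v : B)
    (c' : WittVector p B) (j : ℕ) :
    ((WittVector.verschiebung)^[s] (c' * WittVector.teichmuller p v)).coeff j =
      if s ≤ j then c'.coeff (j - s) * v ^ p ^ (j - s) else 0 := by
  split_ifs with h
  · obtain ⟨k, rfl⟩ : ∃ k, j = k + s := ⟨j - s, by omega⟩
    rw [WittVector.iterate_verschiebung_coeff,
      Groth.Agent.Lib.Helper26.WittTeich.mul_teichmuller_coeff, Nat.add_sub_cancel]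
  · exact WittVector.iterate_verschiebung_coeff_eq_zero _ (by omega)

theorem phi_coeff (m s : ℕ) (v : B) (c : WittVector p S) (j : Fin m) :
    (WittFil.vShiftTeich p m s v c).coeff j =
      if s ≤ (j : ℕ) then algebraMap S B (c.coeff ((j : ℕ) - s)) * v ^ p ^ ((j : ℕ) - s) else 0 := by
  unfold WittFil.vShiftTeich
  rw [WittVector.coeff_truncate, vShift_coeff, WittVector.map_coeff]

theorem exp_id (m s j : ℕ) (hsj : s ≤ j) (hj : j < m) (i : ℤ) :
    i * (p : ℤ) ^ (j - s) * ((p ^ (m - 1 - j) : ℕ) : ℤ) = (p : ℤ) ^ (m - 1 - s) * i := by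
  have h : m - 1 - s = (j - s) + (m - 1 - j) := by omega
  rw [h, pow_add]; push_cast; ring

theorem phi_pow (u : Bˣ) (m s : ℕ) (i : ℤ) (c : WittVector p S) (j : Fin m)
    (hsj : s ≤ (j : ℕ)) (M : ℤ) :
    (WittFil.vShiftTeich p m s (Uz u i) c).coeff j ^ p ^ (m - 1 - (j : ℕ)) * Uz u M =
      algebraMap S B (c.coeff ((j : ℕ) - s) ^ p ^ (m - 1 - (j : ℕ))) *
        Uz u ((p : ℤ) ^ (m - 1 - s) * i + M) := by
  rw [phi_coeff, if_pos hsj, mul_pow, ← map_pow, ← pow_mul, Uz_pow, mul_assoc, ← Uz_add]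
  congr 2
  have h := exp_id p m s j hsj j.2 i
  rw [← h]
  push_cast
  ring

theorem part1 (u : Bˣ) (m s : ℕ) (i : ℤ) (c : WittVector p S) :
    WittFil.vShiftTeich p m s (Uz u i) c ∈
      WittFil.fil p m (A := PowerSeries S) (Uz u (-((p : ℤ) ^ (m - 1 - s) * i))) := by
  rw [mem_fil]
  intro j
  by_cases hsj : s ≤ (j : ℕ)
  · rw [phi_pow p u m s i c j hsj, add_neg_cancel, Uz_zero, mul_one,
      IsScalarTower.algebraMap_apply S (PowerSeries S) B]
    exact RingHom.mem_range_self _ _
  · rw [phi_coeff, if_neg hsj, zero_pow (pow_ne_zero _ hp.out.ne_zero), zero_mul]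
    exact Subring.zero_mem _

theorem part2 (u : Bˣ) (hu : (u : B) = algebraMap (PowerSeries S) B PowerSeries.X)
    (m s : ℕ) (hs : s < m) (i : ℤ) (c : WittVector p S) :
    WittFil.vShiftTeich p m s (Uz u i) c ∈
        WittFil.fil p m (A := PowerSeries S) (Uz u (-((p : ℤ) ^ (m - 1 - s) * i) - 1)) ↔
      WittVector.truncate (m - s) c = 0 := by
  rw [mem_fil]
  constructor
  · intro h
    ext l
    rw [WittVector.coeff_truncate, TruncatedWittVector.coeff_zero]
    have hl : (l : ℕ) + s < m := by have := l.2; omega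
    have h1 := h ⟨(l : ℕ) + s, hl⟩
    rw [phi_pow p u m s i c ⟨(l : ℕ) + s, hl⟩ (Nat.le_add_left _ _)] at h1
    obtain ⟨g, hg⟩ := h1
    have e1 : (p : ℤ) ^ (m - 1 - s) * i + (-((p : ℤ) ^ (m - 1 - s) * i) - 1) = -1 := by ring
    rw [e1] at hg
    simp only [Nat.add_sub_cancel] at hg
    have h2 : algebraMap (PowerSeries S) B (g * PowerSeries.X) =
        algebraMap (PowerSeries S) B (PowerSeries.C (c.coeff l ^ p ^ (m - 1 - ((l : ℕ) + s)))) := by
      rw [map_mul, hg, mul_assoc, ← Uz_one u hu, ← Uz_add, neg_add_cancel, Uz_zero, mul_one,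
        IsScalarTower.algebraMap_apply S (PowerSeries S) B, PowerSeries.algebraMap_apply]
      rfl
    have h3 := congrArg (PowerSeries.constantCoeff (R := S)) (algMap_inj (B := B) h2)
    rw [map_mul, PowerSeries.constantCoeff_X, mul_zero, PowerSeries.constantCoeff_C] at h3
    exact (pow_eq_zero_iff (pow_ne_zero _ hp.out.ne_zero)).mp h3.symm
  · intro h j
    by_cases hsj : s ≤ (j : ℕ)
    · have hl : (j : ℕ) - s < m - s := by have := j.2; omega
      have h1 := congrArg (fun x => TruncatedWittVector.coeff ⟨(j : ℕ) - s, hl⟩ x) h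
      simp only [WittVector.coeff_truncate, TruncatedWittVector.coeff_zero] at h1
      rw [phi_coeff, if_pos hsj, h1, map_zero, zero_mul,
        zero_pow (pow_ne_zero _ hp.out.ne_zero), zero_mul]
      exact Subring.zero_mem _
    · rw [phi_coeff, if_neg hsj, zero_pow (pow_ne_zero _ hp.out.ne_zero), zero_mul]
      exact Subring.zero_mem _

theorem fil_zero (m : ℕ) (c : B) : (0 : TruncatedWittVector p m B) ∈
    WittFil.fil p m (A := PowerSeries S) c := by
  rw [mem_fil]
  intro j
  rw [TruncatedWittVector.coeff_zero, zero_pow (pow_ne_zero _ hp.out.ne_zero), zero_mul]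
  exact Subring.zero_mem _

theorem fil_sub (m : ℕ) (c : B) {a b : TruncatedWittVector p m B}
    (ha : a ∈ WittFil.fil p m (A := PowerSeries S) c)
    (hb : b ∈ WittFil.fil p m (A := PowerSeries S) c) :
    a - b ∈ WittFil.fil p m (A := PowerSeries S) c := by
  haveI : CharP B p := charP_B p (algS_inj (S := S) (B := B))
  rw [mem_fil] at ha hb ⊢
  intro j
  exact Groth.Agent.Lib.Helper29.WittIso.fil_sub_mem p (algebraMap (PowerSeries S) B).range
    (fun z k hz => root_closed z (p ^ k) (pow_ne_zero _ hp.out.ne_zero) hz) m c a b ha hb j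

theorem fil_add (m : ℕ) (c : B) {a b : TruncatedWittVector p m B}
    (ha : a ∈ WittFil.fil p m (A := PowerSeries S) c)
    (hb : b ∈ WittFil.fil p m (A := PowerSeries S) c) :
    a + b ∈ WittFil.fil p m (A := PowerSeries S) c := by
  have h0 : (0 : TruncatedWittVector p m B) - b ∈ WittFil.fil p m (A := PowerSeries S) c :=
    fil_sub p m c (fil_zero p m c) hb
  have h1 := fil_sub p m c ha h0
  have e : a - (0 - b) = a + b := by ring
  rwa [e] at h1

/-- strictness in the low coordinates -/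
theorem strict_of_lt (u : Bˣ) (hu : (u : B) = algebraMap (PowerSeries S) B PowerSeries.X)
    (m s : ℕ) (hs : s < m) (i : ℤ) (hpi : ¬ ((p : ℤ) ∣ i)) (j : ℕ) (hj : j < s) (y : B)
    (hy : y ^ p ^ (m - 1 - j) * Uz u (-((p : ℤ) ^ (m - 1 - s) * i)) ∈
      (algebraMap (PowerSeries S) B).range) :
    y ^ p ^ (m - 1 - j) * Uz u (-((p : ℤ) ^ (m - 1 - s) * i) - 1) ∈
      (algebraMap (PowerSeries S) B).range := by
  have hp0 : p ≠ 0 := hp.out.ne_zero
  obtain ⟨q, hq⟩ : ∃ q, q = p ^ (m - 1 - s) := ⟨_, rfl⟩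
  obtain ⟨Q', hQ'⟩ : ∃ Q', Q' = p ^ (s - j - 1) := ⟨_, rfl⟩
  have hq0 : q ≠ 0 := by rw [hq]; exact pow_ne_zero _ hp0
  have hqQ : p ^ (m - 1 - j) = (Q' * p) * q := by
    rw [hq, hQ', ← pow_succ, ← pow_add]; congr 1; omega
  have hqz : ((p : ℤ) ^ (m - 1 - s)) = (q : ℤ) := by rw [hq]; push_cast; rfl
  rw [hqz] at hy ⊢
  -- remainder
  have hpz : (0 : ℤ) < p := by exact_mod_cast hp.out.pos
  have hρ0 : 0 < i % p := (Int.emod_pos_of_not_dvd hpi).resolve_left (by exact_mod_cast hp0)
  have hρp : i % p < p := Int.emod_lt_of_pos i hpz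
  obtain ⟨ρ, hρ⟩ := Int.eq_ofNat_of_zero_le hρ0.le
  have hρpos : 0 < ρ := by
    rw [hρ] at hρ0; exact_mod_cast hρ0
  have hρlt : ρ < p := by
    rw [hρ] at hρp; exact_mod_cast hρp
  have hi : i = (p : ℤ) * (i / p) + ρ := by
    rw [← hρ]; exact (Int.mul_ediv_add_emod i p).symm
  obtain ⟨l, hl⟩ : ∃ l, l = i / p := ⟨_, rfl⟩
  rw [← hl] at hi
  -- w = y^(Q' p) * u^(-i) lies in A
  have hw : (y ^ (Q' * p) * Uz u (-i)) ^ q ∈ (algebraMap (PowerSeries S) B).range := by
    rw [mul_pow, ← pow_mul, Uz_pow, ← hqQ]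
    have e : -i * (q : ℤ) = -((q : ℤ) * i) := by ring
    rw [e]; exact hy
  obtain ⟨w', hw'⟩ := root_closed _ q hq0 hw
  -- t = y^Q' * u^(-l)
  have ht : (y ^ Q' * Uz u (-l)) ^ p ∈ (algebraMap (PowerSeries S) B).range := by
    refine ⟨w' * PowerSeries.X ^ ρ, ?_⟩
    rw [map_mul, hw', ← Uz_nat u hu, mul_assoc, ← Uz_add, mul_pow, ← pow_mul, Uz_pow]
    congr 2
    rw [hi]; ring
  obtain ⟨t', ht'⟩ := root_closed _ p hp0 ht
  have h1 : t' ^ p = w' * PowerSeries.X ^ ρ := by
    apply algMap_inj (B := B)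
    rw [map_pow, ht', map_mul, hw', ← Uz_nat u hu, mul_assoc, ← Uz_add, mul_pow, ← pow_mul, Uz_pow]
    congr 2
    rw [hi]; ring
  have h2 : PowerSeries.constantCoeff t' = 0 := by
    have h3 := congrArg (PowerSeries.constantCoeff (R := S)) h1
    rw [map_pow, map_mul, map_pow, PowerSeries.constantCoeff_X, zero_pow hρpos.ne', mul_zero] at h3
    exact (pow_eq_zero_iff hp0).mp h3
  obtain ⟨t'', rfl⟩ := PowerSeries.X_dvd_iff.mpr h2
  have h4 : w' = PowerSeries.X * (PowerSeries.X ^ (p - ρ - 1) * t'' ^ p) := by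
    have hX : (PowerSeries.X : PowerSeries S) ^ ρ ≠ 0 := pow_ne_zero _ PowerSeries.X_ne_zero
    apply mul_right_cancel₀ hX
    rw [← h1, mul_pow]
    have e' : (PowerSeries.X : PowerSeries S) ^ p =
        PowerSeries.X * PowerSeries.X ^ (p - ρ - 1) * PowerSeries.X ^ ρ := by
      rw [← pow_succ', ← pow_add]; congr 1; omega
    rw [e']; ring
  -- conclude
  obtain ⟨W, hW⟩ : ∃ W, W = PowerSeries.X ^ (p - ρ - 1) * t'' ^ p := ⟨_, rfl⟩
  rw [← hW] at h4
  have e1 : y ^ p ^ (m - 1 - j) * Uz u (-((q : ℤ) * i) - 1) =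
      (y ^ (Q' * p) * Uz u (-i)) ^ q * Uz u (-1) := by
    rw [mul_pow, ← pow_mul, Uz_pow, ← hqQ, mul_assoc, ← Uz_add]
    congr 2
    ring
  have e3 : algebraMap (PowerSeries S) B PowerSeries.X * Uz u (-1) = 1 := by
    rw [← Uz_one u hu, ← Uz_add, add_neg_cancel, Uz_zero]
  obtain ⟨q', rfl⟩ : ∃ q', q = q' + 1 := Nat.exists_eq_succ_of_ne_zero hq0
  refine ⟨PowerSeries.X ^ q' * W ^ (q' + 1), ?_⟩
  rw [e1, ← hw', h4, map_mul, map_mul _ PowerSeries.X, mul_pow, map_pow, map_pow,
    pow_succ (algebraMap (PowerSeries S) B PowerSeries.X)]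
  calc algebraMap (PowerSeries S) B PowerSeries.X ^ q' * algebraMap (PowerSeries S) B W ^ (q' + 1)
      = algebraMap (PowerSeries S) B PowerSeries.X ^ q' * algebraMap (PowerSeries S) B W ^ (q' + 1)
          * (algebraMap (PowerSeries S) B PowerSeries.X * Uz u (-1)) := by rw [e3, mul_one]
    _ = _ := by ring

theorem map_comp_eq (c : WittVector p S) (h : ∀ a : S, algebraMap S B a =
    algebraMap (PowerSeries S) B (PowerSeries.C a)) :
    WittVector.map (algebraMap S B) c =
      WittVector.map (algebraMap (PowerSeries S) B) (WittVector.map PowerSeries.C c) := by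
  ext k
  rw [WittVector.map_coeff, WittVector.map_coeff, WittVector.map_coeff, h]

theorem part3 (u : Bˣ) (hu : (u : B) = algebraMap (PowerSeries S) B PowerSeries.X)
    (m s : ℕ) (hs : s < m) (i : ℤ) (hsi : s = 0 ∨ ¬ ((p : ℤ) ∣ i))
    (y : TruncatedWittVector p m B)
    (hy : y ∈ WittFil.fil p m (A := PowerSeries S) (Uz u (-((p : ℤ) ^ (m - 1 - s) * i)))) :
    ∃ c : WittVector p S, y - WittFil.vShiftTeich p m s (Uz u i) c ∈
      WittFil.fil p m (A := PowerSeries S) (Uz u (-((p : ℤ) ^ (m - 1 - s) * i) - 1)) := by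
  have hp0 : p ≠ 0 := hp.out.ne_zero
  obtain ⟨yt, rfl⟩ := WittVector.truncate_surjective (p := p) m B y
  rw [mem_fil] at hy
  -- the high coordinates are `A`-multiples of powers of `u`
  have hf : ∀ j : ℕ, ∃ f : PowerSeries S, s ≤ j → j < m →
      yt.coeff j = algebraMap (PowerSeries S) B f * Uz u (i * (p : ℤ) ^ (j - s)) := by
    intro j
    by_cases h : s ≤ j ∧ j < m
    · obtain ⟨hsj, hjm⟩ := h
      have h1 := hy ⟨j, hjm⟩
      rw [WittVector.coeff_truncate] at h1
      have h2 : (yt.coeff j * Uz u (-(i * (p : ℤ) ^ (j - s)))) ^ p ^ (m - 1 - j) ∈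
          (algebraMap (PowerSeries S) B).range := by
        rw [mul_pow, Uz_pow, neg_mul, exp_id p m s j hsj hjm i]
        exact h1
      obtain ⟨f, hf⟩ := root_closed _ _ (pow_ne_zero _ hp0) h2
      refine ⟨f, fun _ _ => ?_⟩
      rw [hf, mul_assoc, ← Uz_add, neg_add_cancel, Uz_zero, mul_one]
    · exact ⟨0, fun h1 h2 => absurd ⟨h1, h2⟩ h⟩
  choose f hf using hf
  obtain ⟨f', hf'⟩ : ∃ f' : WittVector p (PowerSeries S), f' = WittVector.mk p (fun l => f (l + s)) :=
    ⟨_, rfl⟩
  obtain ⟨c, hc⟩ : ∃ c : WittVector p S, c = WittVector.map PowerSeries.constantCoeff f' := ⟨_, rfl⟩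
  refine ⟨c, ?_⟩
  obtain ⟨d, hd⟩ : ∃ d : WittVector p (PowerSeries S), d = f' - WittVector.map PowerSeries.C c :=
    ⟨_, rfl⟩
  obtain ⟨L, hL⟩ : ∃ L : WittVector p B, L = WittVector.mk p (fun j => if j < s then yt.coeff j else 0) :=
    ⟨_, rfl⟩
  obtain ⟨t, ht⟩ : ∃ t : WittVector p B, t = WittVector.teichmuller p (Uz u i) := ⟨_, rfl⟩
  obtain ⟨H, hH⟩ : ∃ H : WittVector p B,
      H = WittVector.verschiebung^[s] (WittVector.map (algebraMap (PowerSeries S) B) f' * t) :=
    ⟨_, rfl⟩
  obtain ⟨D, hD⟩ : ∃ D : WittVector p B,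
      D = WittVector.verschiebung^[s] (WittVector.map (algebraMap (PowerSeries S) B) d * t) :=
    ⟨_, rfl⟩
  have hHc : ∀ j, H.coeff j = if s ≤ j then algebraMap (PowerSeries S) B (f j) *
      Uz u i ^ p ^ (j - s) else 0 := by
    intro j
    rw [hH, ht, vShift_coeff, WittVector.map_coeff, hf', WittVector.coeff_mk]
    split_ifs with h
    · rw [Nat.sub_add_cancel h]
    · rfl
  have hDc : ∀ j, D.coeff j = if s ≤ j then algebraMap (PowerSeries S) B (d.coeff (j - s)) *
      Uz u i ^ p ^ (j - s) else 0 := by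
    intro j
    rw [hD, ht, vShift_coeff, WittVector.map_coeff]
  have hLc : ∀ j, L.coeff j = if j < s then yt.coeff j else 0 := by
    intro j; rw [hL, WittVector.coeff_mk]
  -- y = L + H after truncation
  have hLH : WittVector.truncate m yt = WittVector.truncate m (L + H) := by
    ext j
    rw [WittVector.coeff_truncate, WittVector.coeff_truncate, WittVector.coeff_add_of_disjoint]
    · rw [hLc, hHc]
      by_cases hjs : (j : ℕ) < s
      · rw [if_pos hjs, if_neg (by omega), add_zero]
      · rw [if_neg hjs, if_pos (by omega), zero_add, hf j (by omega) j.2, Uz_pow, Nat.cast_pow]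
    · intro k
      rw [hLc, hHc]
      by_cases hks : k < s
      · right; rw [if_neg (by omega)]
      · left; rw [if_neg hks]
  -- y - Φ(c) = L + D after truncation
  have hsub : WittVector.truncate m yt - WittFil.vShiftTeich p m s (Uz u i) c =
      WittVector.truncate m L + WittVector.truncate m D := by
    have hΦ : WittFil.vShiftTeich p m s (Uz u i) c = WittVector.truncate m
        (WittVector.verschiebung^[s]
          (WittVector.map (algebraMap (PowerSeries S) B) (WittVector.map PowerSeries.C c) * t)) := by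
      unfold WittFil.vShiftTeich
      rw [ht, map_comp_eq p c (fun a => by
        rw [IsScalarTower.algebraMap_apply S (PowerSeries S) B, PowerSeries.algebraMap_apply]; rfl)]
    have hDH : D = H - WittVector.verschiebung^[s]
          (WittVector.map (algebraMap (PowerSeries S) B) (WittVector.map PowerSeries.C c) * t) := by
      rw [hD, hH, ← iterate_map_sub, ← sub_mul, ← map_sub, hd]
    rw [hLH, hΦ, hDH, map_add, map_sub]
    ring
  rw [hsub]
  -- all coefficients of `d` are divisible by `X`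
  have hdX : ∀ k, ∃ g : PowerSeries S, d.coeff k = PowerSeries.X * g := by
    intro k
    have h0 : WittVector.map (PowerSeries.constantCoeff (R := S)) d = 0 := by
      rw [hd, map_sub, ← hc]
      have : WittVector.map (PowerSeries.constantCoeff (R := S)) (WittVector.map PowerSeries.C c) = c := by
        ext k
        rw [WittVector.map_coeff, WittVector.map_coeff, PowerSeries.constantCoeff_C]
      rw [this, sub_self]
    have h1 := congrArg (fun x => WittVector.coeff x k) h0
    simp only [WittVector.map_coeff, WittVector.zero_coeff] at h1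
    exact PowerSeries.X_dvd_iff.mpr h1
  apply fil_add
  · -- low part
    rw [mem_fil]
    intro j
    rw [WittVector.coeff_truncate, hLc]
    by_cases hjs : (j : ℕ) < s
    · rw [if_pos hjs]
      have hs0 : s ≠ 0 := by omega
      have hpi : ¬ ((p : ℤ) ∣ i) := hsi.resolve_left hs0
      have h1 := hy j
      rw [WittVector.coeff_truncate] at h1
      exact strict_of_lt p u hu m s hs i hpi j hjs _ h1
    · rw [if_neg hjs, zero_pow (pow_ne_zero _ hp0), zero_mul]
      exact Subring.zero_mem _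
  · -- high part
    rw [mem_fil]
    intro j
    rw [WittVector.coeff_truncate, hDc]
    by_cases hsj : s ≤ (j : ℕ)
    · rw [if_pos hsj]
      obtain ⟨g, hg⟩ := hdX ((j : ℕ) - s)
      obtain ⟨q, hq⟩ : ∃ q, q = p ^ (m - 1 - (j : ℕ)) := ⟨_, rfl⟩
      have hq0 : q ≠ 0 := by rw [hq]; exact pow_ne_zero _ hp0
      rw [← hq, hg, mul_pow, ← pow_mul, Uz_pow, mul_assoc, ← Uz_add]
      have e : i * ((p ^ ((j : ℕ) - s) * q : ℕ) : ℤ) + (-((p : ℤ) ^ (m - 1 - s) * i) - 1) = -1 := by
        have h := exp_id p m s j hsj j.2 i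
        rw [hq]
        push_cast at h ⊢
        linarith
      rw [e]
      obtain ⟨q', rfl⟩ : ∃ q', q = q' + 1 := Nat.exists_eq_succ_of_ne_zero hq0
      have e3 : algebraMap (PowerSeries S) B PowerSeries.X * Uz u (-1) = 1 := by
        rw [← Uz_one u hu, ← Uz_add, add_neg_cancel, Uz_zero]
      refine ⟨PowerSeries.X ^ q' * g ^ (q' + 1), ?_⟩
      rw [map_mul, map_pow, map_pow, map_mul, mul_pow,
        pow_succ (algebraMap (PowerSeries S) B PowerSeries.X)]
      calc algebraMap (PowerSeries S) B PowerSeries.X ^ q' * algebraMap (PowerSeries S) B g ^ (q' + 1)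
          = algebraMap (PowerSeries S) B PowerSeries.X ^ q' * algebraMap (PowerSeries S) B g ^ (q' + 1)
              * (algebraMap (PowerSeries S) B PowerSeries.X * Uz u (-1)) := by rw [e3, mul_one]
        _ = _ := by ring
    · rw [if_neg hsj, zero_pow (pow_ne_zero _ hp0), zero_mul]
      exact Subring.zero_mem _

end Main

end Groth.Agent.Lib.Helper9.WittGr
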