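import Mathlib
import Groth.Agent.S17241

set_option autoImplicit false

namespace Groth.Agent.Lib.Helper9.WronHyp

open Polynomial Module

section abstract
variable {k : Type*} [Field k] {M : Type*} [AddCommGroup M] [Module k M]

theorem finrank_hyp_inf (V V₁ X : Submodule k M) [FiniteDimensional k V]
    (h1 : V₁ ≤ V) (hX : X ≤ V) (hfin : finrank k V₁ + 1 = finrank k V) :
    (¬ X ≤ V₁ → finrank k ↥(V₁ ⊓ X) + 1 = finrank k X) ∧
    (X ≤ V₁ → finrank k ↥(V₁ ⊓ X) = finrank k X) := by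
  haveI : FiniteDimensional k V₁ := Submodule.finiteDimensional_of_le h1
  haveI : FiniteDimensional k X := Submodule.finiteDimensional_of_le hX
  constructor
  · intro hn
    have h2 := Submodule.finrank_sup_add_finrank_inf_eq V₁ X
    have h3 : V₁ < V₁ ⊔ X := by
      refine lt_of_le_of_ne le_sup_left ?_
      intro heq
      exact hn (le_sup_right.trans heq.ge)
    have h4 : finrank k V₁ < finrank k ↥(V₁ ⊔ X) := Submodule.finrank_lt_finrank_of_lt h3
    have h5 : finrank k ↥(V₁ ⊔ X) ≤ finrank k V := Submodule.finrank_mono (sup_le h1 hX)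
    omega
  · intro hle
    rw [inf_eq_right.2 hle]

theorem threshold (V V₁ : Submodule k M) [FiniteDimensional k V] (F : ℕ → Submodule k M)
    (hanti : Antitone F) (h1 : V₁ ≤ V) (hfin : finrank k V₁ + 1 = finrank k V)
    (n₁ n₂ : ℕ) (hlo : ∀ n, n < n₁ → ¬ V ⊓ F n ≤ V₁) (hhi : V ⊓ F n₂ ≤ V₁) :
    ∃ n₀, n₁ ≤ n₀ ∧ n₀ ≤ n₂ ∧ ∀ n, finrank k ↥(V₁ ⊓ F n) + (if n < n₀ then 1 else 0) =
      finrank k ↥(V ⊓ F n) := by
  classical
  have hex : ∃ n, V ⊓ F n ≤ V₁ := ⟨n₂, hhi⟩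
  refine ⟨Nat.find hex, ?_, Nat.find_min' hex hhi, ?_⟩
  · by_contra hlt
    exact hlo _ (not_le.1 hlt) (Nat.find_spec hex)
  · intro n
    have hVF : V₁ ⊓ (V ⊓ F n) = V₁ ⊓ F n := by
      rw [← inf_assoc, inf_eq_left.2 h1]
    obtain ⟨hA, hB⟩ := finrank_hyp_inf V V₁ (V ⊓ F n) h1 inf_le_left hfin
    rw [hVF] at hA hB
    by_cases hn : n < Nat.find hex
    · rw [if_pos hn]
      exact hA (Nat.find_min hex hn)
    · rw [if_neg hn, add_zero]
      apply hB
      exact (inf_le_inf_left V (hanti (not_lt.1 hn))).trans (Nat.find_spec hex)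

theorem sum_shift (f g : ℕ → ℕ) (n₀ : ℕ)
    (h : ∀ n, g n + (if n < n₀ then 1 else 0) = f n) (d : ℕ) :
    ∑ n ∈ Finset.range d, g (n + 1) + min d (n₀ - 1) = ∑ n ∈ Finset.range d, f (n + 1) := by
  induction d with
  | zero => simp
  | succ d ih =>
    rw [Finset.sum_range_succ, Finset.sum_range_succ, ← ih, ← h (d + 1)]
    by_cases hd : d + 1 < n₀
    · rw [if_pos hd]
      have e1 : min (d + 1) (n₀ - 1) = d + 1 := by omega
      have e2 : min d (n₀ - 1) = d := by omega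
      omega
    · rw [if_neg hd]
      have e1 : min (d + 1) (n₀ - 1) = n₀ - 1 := by omega
      have e2 : min d (n₀ - 1) = n₀ - 1 := by omega
      omega

theorem sum_f_aux (N e : ℕ) (he : e ≤ N) : ∀ d, d ≤ N →
    ∑ n ∈ Finset.range d, (if n + 1 ≤ e then N - (n + 1) else N + 1 - (n + 1)) =
      ∑ n ∈ Finset.range d, (N - 1 - n) + (d - e) := by
  intro d
  induction d with
  | zero => intro _; simp
  | succ d ih =>
    intro hd
    rw [Finset.sum_range_succ, Finset.sum_range_succ, ih (by omega)]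
    by_cases h1 : d + 1 ≤ e
    · rw [if_pos h1]; omega
    · rw [if_neg h1]; omega

theorem sum_f_total (N e : ℕ) (he : e ≤ N) (d : ℕ) (hd : N ≤ d) :
    ∑ n ∈ Finset.range d, (if n + 1 ≤ e then N - (n + 1) else N + 1 - (n + 1)) =
      N.choose 2 + (N - e) := by
  have h1 : ∑ n ∈ Finset.range N, (if n + 1 ≤ e then N - (n + 1) else N + 1 - (n + 1)) =
      ∑ n ∈ Finset.range d, (if n + 1 ≤ e then N - (n + 1) else N + 1 - (n + 1)) := by
    apply Finset.sum_subset (Finset.range_subset_range.2 hd)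
    intro x hx hx'
    rw [Finset.mem_range] at hx hx'
    have h2 : ¬ x + 1 ≤ e := by omega
    rw [if_neg h2]; omega
  rw [← h1, sum_f_aux N e he N le_rfl, Finset.sum_range_reflect (fun n => n) N,
    Finset.sum_range_id, Nat.choose_two_right]

theorem weight_sum (V V₁ : Submodule k M) [FiniteDimensional k V] (F : ℕ → Submodule k M)
    (hanti : Antitone F) (h1 : V₁ ≤ V) (N e : ℕ) (hVN : finrank k V = N)
    (hfin : finrank k V₁ + 1 = N) (he : e ≤ N)
    (hf : ∀ n, finrank k ↥(V ⊓ F n) = if n ≤ e then N - n else N + 1 - n)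
    (d : ℕ) (hd : N ≤ d + 1) (hd0 : finrank k ↥(V ⊓ F (d + 1)) = 0)
    (n₁ n₂ : ℕ) (hn1 : 1 ≤ n₁) (hn2 : n₂ ≤ N + 1)
    (hlo : ¬ V ⊓ F (n₁ - 1) ≤ V₁) (hhi : V ⊓ F n₂ ≤ V₁) :
    ∃ n₀, n₁ ≤ n₀ ∧ n₀ ≤ n₂ ∧
      ∑ n ∈ Finset.range d, finrank k ↥(V₁ ⊓ F (n + 1)) + (n₀ - 1) = N.choose 2 + (N - e) := by
  obtain ⟨n₀, h1', h2', hg⟩ := threshold V V₁ F hanti h1 (by omega) n₁ n₂
    (fun n hn hle => hlo ((inf_le_inf_left V (hanti (by omega))).trans hle)) hhi
  refine ⟨n₀, h1', h2', ?_⟩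
  have hs := sum_shift (fun n => finrank k ↥(V ⊓ F n)) (fun n => finrank k ↥(V₁ ⊓ F n)) n₀ hg
    (d + 1)
  have hgd : finrank k ↥(V₁ ⊓ F (d + 1)) = 0 := by
    have := hg (d + 1)
    omega
  have hf' : ∑ n ∈ Finset.range (d + 1), finrank k ↥(V ⊓ F (n + 1)) = N.choose 2 + (N - e) := by
    rw [Finset.sum_congr rfl (fun n _ => hf (n + 1))]
    exact sum_f_total N e he (d + 1) hd
  beta_reduce at hs
  rw [hf', Finset.sum_range_succ, hgd, add_zero] at hs
  have e1 : min (d + 1) (n₀ - 1) = n₀ - 1 := by omega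
  omega

theorem finrank_inf_ker (V : Submodule k M) [FiniteDimensional k V] (φ : M →ₗ[k] k)
    (h : ∃ x ∈ V, φ x ≠ 0) : finrank k ↥(V ⊓ LinearMap.ker φ) + 1 = finrank k V := by
  have h1 := LinearMap.finrank_range_add_finrank_ker (φ.domRestrict V)
  have hker : LinearMap.ker (φ.domRestrict V) =
      Submodule.comap V.subtype (V ⊓ LinearMap.ker φ) := by
    ext ⟨x, hx⟩
    rw [LinearMap.mem_ker, Submodule.mem_comap]
    show φ x = 0 ↔ x ∈ V ⊓ LinearMap.ker φ
    rw [Submodule.mem_inf, LinearMap.mem_ker]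
    exact ⟨fun h => ⟨hx, h⟩, fun h => h.2⟩
  rw [hker, (Submodule.comapSubtypeEquivOfLe (inf_le_left : V ⊓ LinearMap.ker φ ≤ V)).finrank_eq]
    at h1
  have h2 : finrank k ↥(LinearMap.range (φ.domRestrict V)) = 1 := by
    have h3 : LinearMap.range (φ.domRestrict V) = ⊤ := by
      obtain ⟨x, hx, hne⟩ := h
      rw [LinearMap.range_eq_top]
      intro c
      refine ⟨(c / φ x) • ⟨x, hx⟩, ?_⟩
      rw [map_smul]
      show (c / φ x) • φ x = c
      rw [smul_eq_mul, div_mul_cancel₀ _ hne]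
    rw [h3, finrank_top, Module.finrank_self]
  omega

end abstract

section poly
variable {k : Type*} [Field k]

theorem anti_root (q : k) :
    Antitone (fun n => (Ideal.span {(X - C q) ^ n}).restrictScalars k) := by
  intro n₁ n₂ h12 h hh
  have hh' : h ∈ (Ideal.span {(X - C q) ^ n₂}).restrictScalars k := hh
  show h ∈ (Ideal.span {(X - C q) ^ n₁}).restrictScalars k
  rw [Submodule.restrictScalars_mem, Ideal.mem_span_singleton] at hh' ⊢
  exact (pow_dvd_pow _ h12).trans hh'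

theorem anti_inf (d : ℕ) : Antitone (fun n => degreeLT k (d + 1 - n)) :=
  fun _ _ h => degreeLT_mono (by omega)

theorem mem_root {q : k} {n : ℕ} {h : k[X]} :
    h ∈ (Ideal.span {(X - C q) ^ n}).restrictScalars k ↔ (X - C q) ^ n ∣ h := by
  rw [Submodule.restrictScalars_mem, Ideal.mem_span_singleton]

theorem exists_ne_zero_of_finrank_pos (S : Submodule k k[X]) (h : 0 < finrank k S) :
    ∃ x ∈ S, x ≠ 0 := by
  by_contra hall
  push Not at hall
  have h0 : S = ⊥ := (Submodule.eq_bot_iff _).2 hall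
  rw [h0, finrank_bot] at h
  omega

theorem choose_pred (N : ℕ) (hN : 1 ≤ N) : N.choose 2 = (N - 1).choose 2 + (N - 1) := by
  obtain ⟨N', rfl⟩ : ∃ N', N = N' + 1 := ⟨N - 1, by omega⟩
  rw [Nat.add_sub_cancel]
  have h : (N' + 1).choose 2 = N'.choose 1 + N'.choose 2 := Nat.choose_succ_succ' N' 1
  rw [Nat.choose_one_right] at h
  omega

theorem natDegree_prodA (m : ℕ) (r : Fin m → k) (a : Fin m → ℕ) (s : Finset (Fin m)) :
    (∏ j ∈ s, (X - C (r j)) ^ (a j)).natDegree = ∑ j ∈ s, a j := by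
  rw [natDegree_prod_of_monic _ _ (fun j _ => (monic_X_sub_C _).pow _)]
  refine Finset.sum_congr rfl fun j _ => ?_
  rw [(monic_X_sub_C (r j)).natDegree_pow, natDegree_X_sub_C, mul_one]

theorem ord_bound [CharZero k] (m : ℕ) (r : Fin m → k) (hr : Function.Injective r)
    (a : Fin m → ℕ) (ha : ∀ j, 1 ≤ a j) (b : ℕ) (V : Submodule k k[X])
    (hV : V = (degreeLT k b).map (LinearMap.mulLeft k (∏ j, (X - C (r j)) ^ (a j + 1))) ⊔
      ⨆ i, (degreeLT k (a i)).map
        (LinearMap.mulLeft k (∏ j ∈ Finset.univ.erase i, (X - C (r j)) ^ (a j + 1))))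
    (i : Fin m) (h : k[X]) (hh : h ∈ V) (hne : h ≠ 0) :
    rootMultiplicity (r i) h ≤ (∑ j, a j) + b ∧ rootMultiplicity (r i) h ≠ a i := by
  classical
  obtain ⟨A, hA⟩ : ∃ A : k[X], A = ∏ j, (X - C (r j)) ^ (a j) := ⟨_, rfl⟩
  obtain ⟨B, hB⟩ : ∃ B : k[X], B = ∏ j, (X - C (r j)) := ⟨_, rfl⟩
  have hVW : V ≤ S17242.W A B ((∑ j, a j) + b) :=
    S17241.V_le_W m r a ha b _ rfl V hV A B hA hB
  have hAnat : A.natDegree = ∑ j, a j := by
    rw [hA]; exact natDegree_prodA m r a Finset.univ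
  obtain ⟨A₁, hA₁⟩ : ∃ A₁ : k[X], A₁ = ∏ j ∈ Finset.univ.erase i, (X - C (r j)) ^ (a j) :=
    ⟨_, rfl⟩
  obtain ⟨B₁, hB₁⟩ : ∃ B₁ : k[X], B₁ = ∏ j ∈ Finset.univ.erase i, (X - C (r j)) := ⟨_, rfl⟩
  have hAi : A = (X - C (r i)) ^ (a i) * A₁ := by
    rw [hA, hA₁]
    exact (Finset.mul_prod_erase Finset.univ (fun j => (X - C (r j)) ^ (a j))
      (Finset.mem_univ i)).symm
  have hBi : B = (X - C (r i)) * B₁ := by
    rw [hB, hB₁]
    exact (Finset.mul_prod_erase Finset.univ (fun j => (X - C (r j)))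
      (Finset.mem_univ i)).symm
  have hA₁q : A₁.eval (r i) ≠ 0 := by
    rw [hA₁, eval_prod]
    refine Finset.prod_ne_zero_iff.2 fun j hj => ?_
    rw [eval_pow, eval_sub, eval_X, eval_C]
    exact pow_ne_zero _ (sub_ne_zero.2 (fun h => (Finset.mem_erase.1 hj).1 (hr h).symm))
  have hB₁q : B₁.eval (r i) ≠ 0 := by
    rw [hB₁, eval_prod]
    refine Finset.prod_ne_zero_iff.2 fun j hj => ?_
    rw [eval_sub, eval_X, eval_C]
    exact sub_ne_zero.2 (fun h => (Finset.mem_erase.1 hj).1 (hr h).symm)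
  obtain ⟨E, hEdeg, hRel⟩ := S17242.mem_W.1 (hVW hh)
  rw [hAi, hBi] at hRel
  refine S17241.order_marked (r i) (a i) _ A₁ B₁ E h hA₁q hB₁q ?_ hEdeg hRel hne
  rw [← hAi, hAnat]; omega

/-- the polynomial `G = B A' / A` -/
noncomputable def Gp (m : ℕ) (r : Fin m → k) (a : Fin m → ℕ) : k[X] :=
  ∑ j, C (a j : k) * ∏ l ∈ Finset.univ.erase j, (X - C (r l))

theorem Gp_mul (m : ℕ) (r : Fin m → k) (a : Fin m → ℕ) :
    Gp m r a * (∏ j, (X - C (r j)) ^ (a j)) =
      (∏ j, (X - C (r j))) * derivative (∏ j, (X - C (r j)) ^ (a j)) := by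
  classical
  rw [derivative_prod_finset, Gp, Finset.sum_mul, Finset.mul_sum]
  refine Finset.sum_congr rfl fun j _ => ?_
  have hA := (Finset.mul_prod_erase Finset.univ (fun l => (X - C (r l)) ^ (a l))
    (Finset.mem_univ j)).symm
  have hB := (Finset.mul_prod_erase Finset.univ (fun l => (X - C (r l)))
    (Finset.mem_univ j)).symm
  rw [hA, hB]
  have e := S17242.euler (r j) (a j)
  linear_combination (-((∏ l ∈ Finset.univ.erase j, (X - C (r l))) *
    ∏ l ∈ Finset.univ.erase j, (X - C (r l)) ^ (a l))) * e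

noncomputable def Lmap (B G : k[X]) : k[X] →ₗ[k] k[X] :=
  (LinearMap.mulLeft k B).comp derivative - LinearMap.mulLeft k G

theorem Lmap_apply (B G E : k[X]) : Lmap B G E = B * derivative E - G * E := rfl

theorem V_eq_map [CharZero k] (m : ℕ) (r : Fin m → k) (hr : Function.Injective r)
    (a : Fin m → ℕ) (ha : ∀ j, 1 ≤ a j) (b : ℕ) (hb : 1 ≤ b) (N d : ℕ)
    (hN : N = (∑ j, a j) + b) (hd : d + 1 = (∑ j, (a j + 1)) + b)
    (V : Submodule k k[X])
    (hV : V = (degreeLT k b).map (LinearMap.mulLeft k (∏ j, (X - C (r j)) ^ (a j + 1))) ⊔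
      ⨆ i, (degreeLT k (a i)).map
        (LinearMap.mulLeft k (∏ j ∈ Finset.univ.erase i, (X - C (r j)) ^ (a j + 1)))) :
    V = (degreeLT k (N + 1)).map (Lmap (∏ j, (X - C (r j))) (Gp m r a)) := by
  classical
  obtain ⟨hVN, -, -⟩ := S17241.result k m r hr a ha b hb N d hN hd V hV
  obtain ⟨A, hA⟩ : ∃ A : k[X], A = ∏ j, (X - C (r j)) ^ (a j) := ⟨_, rfl⟩
  obtain ⟨B, hB⟩ : ∃ B : k[X], B = ∏ j, (X - C (r j)) := ⟨_, rfl⟩
  have hGA : Gp m r a * A = B * derivative A := by rw [hA, hB]; exact Gp_mul m r a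
  have hVW : V ≤ S17242.W A B N := S17241.V_le_W m r a ha b N hN V hV A B hA hB
  have hAmonic : A.Monic := by
    rw [hA]; exact monic_prod_of_monic _ _ fun j _ => (monic_X_sub_C _).pow _
  have hA0 : A ≠ 0 := hAmonic.ne_zero
  have hAnat : A.natDegree = ∑ j, a j := by
    rw [hA]; exact natDegree_prodA m r a Finset.univ
  rw [← hB]
  have hle : V ≤ (degreeLT k (N + 1)).map (Lmap B (Gp m r a)) := by
    intro h hh
    obtain ⟨E, hEdeg, hRel⟩ := S17242.mem_W.1 (hVW hh)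
    refine Submodule.mem_map.2 ⟨E, ?_, ?_⟩
    · rw [mem_degreeLT]
      exact lt_of_le_of_lt degree_le_natDegree (by exact_mod_cast Nat.lt_succ_of_le hEdeg)
    · rw [Lmap_apply]
      apply mul_right_cancel₀ hA0
      rw [hRel]
      linear_combination (-E) * hGA
  have hrank : finrank k ↥((degreeLT k (N + 1)).map (Lmap B (Gp m r a))) ≤ N := by
    rw [← LinearMap.range_domRestrict]
    have h1 := LinearMap.finrank_range_add_finrank_ker
      ((Lmap B (Gp m r a)).domRestrict (degreeLT k (N + 1)))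
    rw [S17241.finrank_degreeLT] at h1
    have hAmem : A ∈ degreeLT k (N + 1) := by
      rw [mem_degreeLT]
      exact lt_of_le_of_lt degree_le_natDegree
        (by exact_mod_cast (by omega : A.natDegree < N + 1))
    have hker : 0 < finrank k
        ↥(LinearMap.ker ((Lmap B (Gp m r a)).domRestrict (degreeLT k (N + 1)))) := by
      by_contra hk
      have hk0 : finrank k
          ↥(LinearMap.ker ((Lmap B (Gp m r a)).domRestrict (degreeLT k (N + 1)))) = 0 := by
        omega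
      rw [Submodule.finrank_eq_zero] at hk0
      have hmem : (⟨A, hAmem⟩ : degreeLT k (N + 1)) ∈
          LinearMap.ker ((Lmap B (Gp m r a)).domRestrict (degreeLT k (N + 1))) := by
        rw [LinearMap.mem_ker, LinearMap.domRestrict_apply, Lmap_apply]
        linear_combination -hGA
      rw [hk0, Submodule.mem_bot] at hmem
      exact hA0 (congrArg Subtype.val hmem)
    omega
  haveI : FiniteDimensional k ↥((degreeLT k (N + 1)).map (Lmap B (Gp m r a))) :=
    inferInstance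
  exact Submodule.eq_of_le_of_finrank_le hle (by rw [hVN]; exact hrank)

end poly

end Groth.Agent.Lib.Helper9.WronHyp
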