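import Mathlib
import Groth.Agent.Lib.Helper9.WronHyp

set_option autoImplicit false

namespace Groth.Agent.Lib.Helper9.WronHyp

open Polynomial Module

variable {k : Type*} [Field k]

theorem natDegree_prodD (m : ℕ) (r : Fin m → k) (a : Fin m → ℕ) (s : Finset (Fin m)) :
    (∏ j ∈ s, (X - C (r j)) ^ (a j + 1)).natDegree = ∑ j ∈ s, (a j + 1) :=
  natDegree_prodA m r (fun j => a j + 1) s

theorem main44 [CharZero k] (m : ℕ) (r : Fin m → k) (hr : Function.Injective r)
    (a : Fin m → ℕ) (ha : ∀ j, 1 ≤ a j) (b : ℕ) (hb : 1 ≤ b) (N d : ℕ)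
    (hN : N = (∑ j, a j) + b) (hd : d + 1 = (∑ j, (a j + 1)) + b)
    (V : Submodule k (Polynomial k))
    (hV : V = (Polynomial.degreeLT k b).map (LinearMap.mulLeft k (∏ j, (X - C (r j)) ^ (a j + 1))) ⊔
      ⨆ i, (Polynomial.degreeLT k (a i)).map
        (LinearMap.mulLeft k (∏ j ∈ Finset.univ.erase i, (X - C (r j)) ^ (a j + 1))))
    (V₁ : Submodule k (Polynomial k)) (hV₁ : V₁ ≤ V) (hfin : Module.finrank k ↥V₁ + 1 = N)
    (hU : (Polynomial.degreeLT k (b - 2)).map (LinearMap.mulLeft k (∏ j, (X - C (r j)) ^ (a j + 1))) ⊔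
      (⨆ i, (Polynomial.degreeLT k (a i)).map
        (LinearMap.mulLeft k (∏ j ∈ Finset.univ.erase i, (X - C (r j)) ^ (a j + 1)))) ≤ V₁) :
    (∀ i : Fin m, ∃ ε : ℕ, ε ≤ 1 ∧
      (∑ n ∈ Finset.range d, Module.finrank k ↥(V₁ ⊓ (Ideal.span {(X - C (r i)) ^ (n + 1)}).restrictScalars k)) + 1 =
        (N - 1).choose 2 + (N - a i) + ε) ∧
    (∃ ε : ℕ, ε ≤ 1 ∧
      (∑ n ∈ Finset.range d, Module.finrank k ↥(V₁ ⊓ Polynomial.degreeLT k (d - n))) =
        (N - 1).choose 2 + (N - b) + (N - 2) + ε) := by
  classical
  obtain ⟨hVN, hroot, hinfty⟩ := S17241.result k m r hr a ha b hb N d hN hd V hV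
  haveI : FiniteDimensional k V := Module.finite_of_finrank_pos (by omega)
  haveI : FiniteDimensional k V₁ := Submodule.finiteDimensional_of_le hV₁
  obtain ⟨U, hUdef⟩ : ∃ U : Submodule k k[X], U =
      (Polynomial.degreeLT k (b - 2)).map (LinearMap.mulLeft k (∏ j, (X - C (r j)) ^ (a j + 1))) ⊔
      (⨆ i, (Polynomial.degreeLT k (a i)).map
        (LinearMap.mulLeft k (∏ j ∈ Finset.univ.erase i, (X - C (r j)) ^ (a j + 1)))) := ⟨_, rfl⟩
  rw [← hUdef] at hU
  haveI : FiniteDimensional k U := Submodule.finiteDimensional_of_le (hU.trans hV₁)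
  have hUrank : (∑ j, a j) + (b - 2) ≤ finrank k U :=
    S17241.finrank_ge m r hr a (b - 2) U hUdef
  have hsum1 : ∑ j : Fin m, (a j + 1) = (∑ j, a j) + m := by
    rw [Finset.sum_add_distrib]; simp
  have hdN : d + 1 = N + m := by omega
  have hN1 : 1 ≤ N := by omega
  have hch := choose_pred N hN1
  have hma : m ≤ ∑ j, a j := by
    calc m = ∑ _j : Fin m, 1 := by simp
      _ ≤ ∑ j, a j := Finset.sum_le_sum fun j _ => ha j
  have hUV₁rank : finrank k U ≤ finrank k V₁ := Submodule.finrank_mono hU
  constructor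
  · intro i
    have hai : a i + b ≤ N := by
      have h1 := Finset.single_le_sum (fun j _ => Nat.zero_le (a j)) (Finset.mem_univ i)
      omega
    have hm1 : 1 ≤ m := i.pos
    have hordU := ord_bound m r hr a ha (b - 2) U hUdef i
    have hd0 : finrank k ↥(V ⊓ (Ideal.span {(X - C (r i)) ^ (d + 1)}).restrictScalars k) = 0 := by
      rw [hroot i (d + 1)]; split_ifs <;> omega
    have hhi : V ⊓ (Ideal.span {(X - C (r i)) ^ (N + 1)}).restrictScalars k ≤ V₁ := by
      have h0 : finrank k ↥(V ⊓ (Ideal.span {(X - C (r i)) ^ (N + 1)}).restrictScalars k) = 0 := by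
        rw [hroot i (N + 1)]; split_ifs <;> omega
      rw [Submodule.finrank_eq_zero] at h0
      rw [h0]; exact bot_le
    have hlo : ¬ V ⊓ (Ideal.span {(X - C (r i)) ^ (N - 1)}).restrictScalars k ≤ V₁ := by
      intro hle
      by_cases hb2 : 2 ≤ b
      · have hf2 : finrank k
            ↥(V ⊓ (Ideal.span {(X - C (r i)) ^ (N - 1)}).restrictScalars k) = 2 := by
          rw [hroot i (N - 1)]; split_ifs <;> omega
        have hdisj : (V ⊓ (Ideal.span {(X - C (r i)) ^ (N - 1)}).restrictScalars k) ⊓ U = ⊥ := by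
          rw [eq_bot_iff]
          intro h hh
          obtain ⟨hh1, hhU⟩ := Submodule.mem_inf.1 hh
          obtain ⟨-, hhF⟩ := Submodule.mem_inf.1 hh1
          rw [Submodule.mem_bot]
          by_contra hne
          have h1 := (hordU h hhU hne).1
          rw [mem_root, ← le_rootMultiplicity_iff hne] at hhF
          omega
        have h2 := Submodule.finrank_sup_add_finrank_inf_eq
          (V ⊓ (Ideal.span {(X - C (r i)) ^ (N - 1)}).restrictScalars k) U
        rw [hdisj, finrank_bot, hf2] at h2
        have h3 : finrank k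
            ↥((V ⊓ (Ideal.span {(X - C (r i)) ^ (N - 1)}).restrictScalars k) ⊔ U) ≤
            finrank k V₁ := Submodule.finrank_mono (sup_le hle hU)
        omega
      · have hb1 : b = 1 := by omega
        have hUV₁ : U = V₁ := Submodule.eq_of_le_of_finrank_le hU (by omega)
        by_cases hai2 : a i + 1 < N
        · have hfN : 0 < finrank k
              ↥(V ⊓ (Ideal.span {(X - C (r i)) ^ N}).restrictScalars k) := by
            rw [hroot i N]; split_ifs <;> omega
          obtain ⟨h, hh, hne⟩ := exists_ne_zero_of_finrank_pos _ hfN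
          obtain ⟨hhV, hhF⟩ := Submodule.mem_inf.1 hh
          have hhU : h ∈ U := by
            rw [hUV₁]; apply hle
            exact ⟨hhV, anti_root (r i) (Nat.sub_le N 1) hhF⟩
          have h1 := (hordU h hhU hne).1
          rw [mem_root, ← le_rootMultiplicity_iff hne] at hhF
          omega
        · have hfN : 0 < finrank k
              ↥(V ⊓ (Ideal.span {(X - C (r i)) ^ (N - 1)}).restrictScalars k) := by
            rw [hroot i (N - 1)]; split_ifs <;> omega
          obtain ⟨h, hh, hne⟩ := exists_ne_zero_of_finrank_pos _ hfN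
          obtain ⟨hhV, hhF⟩ := Submodule.mem_inf.1 hh
          have hhU : h ∈ U := by rw [hUV₁]; exact hle hh
          have h1 := hordU h hhU hne
          rw [mem_root, ← le_rootMultiplicity_iff hne] at hhF
          omega
    obtain ⟨n₀, hn1, hn2, hsum⟩ := weight_sum V V₁
      (fun n => (Ideal.span {(X - C (r i)) ^ n}).restrictScalars k) (anti_root (r i)) hV₁ N (a i)
      hVN hfin (by omega) (hroot i) d (by omega) hd0 N (N + 1) hN1 le_rfl hlo hhi
    refine ⟨N + 1 - n₀, by omega, ?_⟩
    have hsum' : (∑ n ∈ Finset.range d, finrank k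
        ↥(V₁ ⊓ (Ideal.span {(X - C (r i)) ^ (n + 1)}).restrictScalars k)) + (n₀ - 1) =
        N.choose 2 + (N - a i) := hsum
    omega
  · by_cases hN1' : N = 1
    · have hd0 : d = 0 := by omega
      have hb1 : b = 1 := by omega
      refine ⟨0, by omega, ?_⟩
      rw [hd0, Finset.range_zero, Finset.sum_empty, hN1', hb1]
      simp
    · have hN2 : 2 ≤ N := by omega
      have hm0 : m = 0 → ∑ j, a j = 0 := by
        intro h; subst h; simp
      have hd0 : finrank k ↥(V ⊓ degreeLT k (d + 1 - (d + 1))) = 0 := by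
        rw [hinfty (d + 1)]
        by_cases hmz : m = 0
        · have := hm0 hmz
          split_ifs <;> omega
        · split_ifs <;> omega
      have hlo : ¬ V ⊓ degreeLT k (d + 1 - (1 - 1)) ≤ V₁ := by
        intro hle
        have h1 := Submodule.finrank_mono hle
        rw [hinfty (1 - 1)] at h1
        split_ifs at h1 <;> omega
      have hUV : U ≤ V := by
        rw [hUdef, hV]
        exact sup_le_sup (Submodule.map_mono (degreeLT_mono (by omega))) le_rfl
      have hUdeg : U ≤ degreeLT k (d + 1 - 2) := by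
        rw [hUdef]
        refine sup_le ?_ (iSup_le fun j => ?_)
        · rw [Submodule.map_le_iff_le_comap]
          intro q hq
          show (∏ j, (X - C (r j)) ^ (a j + 1)) * q ∈ degreeLT k (d + 1 - 2)
          by_cases hq0 : q = 0
          · rw [hq0, mul_zero]; exact Submodule.zero_mem _
          · have hqn : q.natDegree < b - 2 :=
              (natDegree_lt_iff_degree_lt hq0).2 (mem_degreeLT.1 hq)
            rw [mem_degreeLT]
            refine lt_of_le_of_lt degree_le_natDegree ?_
            have h1 : ((∏ j, (X - C (r j)) ^ (a j + 1)) * q).natDegree ≤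
                (∑ j, (a j + 1)) + q.natDegree := by
              refine natDegree_mul_le.trans ?_
              rw [natDegree_prodD m r a Finset.univ]
            exact_mod_cast (by omega : ((∏ j, (X - C (r j)) ^ (a j + 1)) * q).natDegree <
              d + 1 - 2)
        · rw [Submodule.map_le_iff_le_comap]
          intro q hq
          show (∏ l ∈ Finset.univ.erase j, (X - C (r l)) ^ (a l + 1)) * q ∈
            degreeLT k (d + 1 - 2)
          by_cases hq0 : q = 0
          · rw [hq0, mul_zero]; exact Submodule.zero_mem _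
          · have hqn : q.natDegree < a j :=
              (natDegree_lt_iff_degree_lt hq0).2 (mem_degreeLT.1 hq)
            rw [mem_degreeLT]
            refine lt_of_le_of_lt degree_le_natDegree ?_
            have h1 : ((∏ l ∈ Finset.univ.erase j, (X - C (r l)) ^ (a l + 1)) * q).natDegree ≤
                (∑ l ∈ Finset.univ.erase j, (a l + 1)) + q.natDegree := by
              refine natDegree_mul_le.trans ?_
              rw [natDegree_prodD m r a (Finset.univ.erase j)]
            have h2 : (a j + 1) + ∑ l ∈ Finset.univ.erase j, (a l + 1) = ∑ l, (a l + 1) :=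
              Finset.add_sum_erase Finset.univ (fun l => a l + 1) (Finset.mem_univ j)
            exact_mod_cast (by omega :
              ((∏ l ∈ Finset.univ.erase j, (X - C (r l)) ^ (a l + 1)) * q).natDegree <
              d + 1 - 2)
      have hhi : V ⊓ degreeLT k (d + 1 - 2) ≤ V₁ := by
        have h1 : finrank k ↥(V ⊓ degreeLT k (d + 1 - 2)) ≤ finrank k U := by
          rw [hinfty 2]; split_ifs <;> omega
        have h2 : U = V ⊓ degreeLT k (d + 1 - 2) :=
          Submodule.eq_of_le_of_finrank_le (le_inf hUV hUdeg) h1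
        rw [← h2]; exact hU
      obtain ⟨n₀, hn1, hn2, hsum⟩ := weight_sum V V₁ (fun n => degreeLT k (d + 1 - n))
        (anti_inf d) hV₁ N b hVN hfin (by omega) hinfty d (by omega) hd0 1 2 le_rfl (by omega)
        hlo hhi
      refine ⟨2 - n₀, by omega, ?_⟩
      have hsum' : (∑ n ∈ Finset.range d, finrank k ↥(V₁ ⊓ degreeLT k (d + 1 - (n + 1)))) +
          (n₀ - 1) = N.choose 2 + (N - b) := hsum
      have hcongr : ∑ n ∈ Finset.range d, finrank k ↥(V₁ ⊓ degreeLT k (d - n)) =
          ∑ n ∈ Finset.range d, finrank k ↥(V₁ ⊓ degreeLT k (d + 1 - (n + 1))) :=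
        Finset.sum_congr rfl fun n _ => by rw [show d + 1 - (n + 1) = d - n by omega]
      rw [hcongr]
      omega

end Groth.Agent.Lib.Helper9.WronHyp
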