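import Mathlib
import Groth.Agent.Lib.Helper9.WronHyp2

set_option autoImplicit false

namespace Groth.Agent.Lib.Helper9.WronHyp

open Polynomial Module

variable {k : Type*} [Field k]

theorem exists_root [CharZero k] (m : ℕ) (r : Fin m → k) (hr : Function.Injective r)
    (a : Fin m → ℕ) (ha : ∀ j, 1 ≤ a j) (b : ℕ) (hb : 1 ≤ b) (N d : ℕ)
    (hN : N = (∑ j, a j) + b) (hd : d + 1 = (∑ j, (a j + 1)) + b)
    (V : Submodule k (Polynomial k))
    (hV : V = (Polynomial.degreeLT k b).map (LinearMap.mulLeft k (∏ j, (X - C (r j)) ^ (a j + 1))) ⊔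
      ⨆ i, (Polynomial.degreeLT k (a i)).map
        (LinearMap.mulLeft k (∏ j ∈ Finset.univ.erase i, (X - C (r j)) ^ (a j + 1))))
    (p : k) (hp : ∀ j, p ≠ r j) (i : Fin m) :
    ∃ h ∈ V, h ∈ (Ideal.span {(X - C (r i)) ^ (N - 1)}).restrictScalars k ∧ h.eval p ≠ 0 := by
  classical
  have hVmap := V_eq_map m r hr a ha b hb N d hN hd V hV
  obtain ⟨B, hB⟩ : ∃ B : k[X], B = ∏ j, (X - C (r j)) := ⟨_, rfl⟩
  obtain ⟨B₁, hB₁⟩ : ∃ B₁ : k[X], B₁ = ∏ j ∈ Finset.univ.erase i, (X - C (r j)) := ⟨_, rfl⟩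
  have hBi : B = (X - C (r i)) * B₁ := by
    rw [hB, hB₁]
    exact (Finset.mul_prod_erase Finset.univ (fun j => (X - C (r j)))
      (Finset.mem_univ i)).symm
  rw [← hB] at hVmap
  have hN1 : 1 ≤ N := by omega
  obtain ⟨N', hN'⟩ : ∃ N', N = N' + 1 := ⟨N - 1, by omega⟩
  have hmemV : ∀ t, t ≤ N → Lmap B (Gp m r a) ((X - C (r i)) ^ t) ∈ V := by
    intro t ht
    rw [hVmap]
    refine Submodule.mem_map.2 ⟨_, ?_, rfl⟩
    rw [mem_degreeLT]
    refine lt_of_le_of_lt degree_le_natDegree ?_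
    rw [(monic_X_sub_C (r i)).natDegree_pow, natDegree_X_sub_C, mul_one]
    exact_mod_cast Nat.lt_succ_of_le ht
  have hform : ∀ t : ℕ, Lmap B (Gp m r a) ((X - C (r i)) ^ t) =
      (X - C (r i)) ^ t * (C ((t : ℕ) : k) * B₁ - Gp m r a) := by
    intro t
    rw [Lmap_apply, hBi]
    have e := S17242.euler (r i) t
    linear_combination B₁ * e
  have hB₁p : B₁.eval p ≠ 0 := by
    rw [hB₁, eval_prod]
    refine Finset.prod_ne_zero_iff.2 fun j _ => ?_
    rw [eval_sub, eval_X, eval_C]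
    exact sub_ne_zero.2 (hp j)
  have hpi : (p - r i) ≠ 0 := sub_ne_zero.2 (hp i)
  have hdvd : ∀ t, N - 1 ≤ t → Lmap B (Gp m r a) ((X - C (r i)) ^ t) ∈
      (Ideal.span {(X - C (r i)) ^ (N - 1)}).restrictScalars k := by
    intro t ht
    rw [mem_root, hform]
    exact Dvd.dvd.mul_right (pow_dvd_pow _ ht) _
  by_cases h1 : (Lmap B (Gp m r a) ((X - C (r i)) ^ N)).eval p = 0
  · refine ⟨_, hmemV (N - 1) (by omega), hdvd (N - 1) le_rfl, ?_⟩
    intro h2
    rw [hform, eval_mul, eval_pow, eval_sub, eval_X, eval_C, eval_sub, eval_mul, eval_C] at h1 h2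
    have h1' := (mul_eq_zero.1 h1).resolve_left (pow_ne_zero _ hpi)
    have h2' := (mul_eq_zero.1 h2).resolve_left (pow_ne_zero _ hpi)
    apply hB₁p
    rw [hN', Nat.add_sub_cancel] at h2'
    rw [hN'] at h1'
    push_cast at h1'
    linear_combination h1' - h2'
  · exact ⟨_, hmemV N le_rfl, hdvd N (Nat.sub_le N 1), h1⟩

theorem exists_inf [CharZero k] (m : ℕ) (r : Fin m → k) (hr : Function.Injective r)
    (a : Fin m → ℕ) (ha : ∀ j, 1 ≤ a j) (b : ℕ) (hb : 1 ≤ b) (N d : ℕ)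
    (hN : N = (∑ j, a j) + b) (hd : d + 1 = (∑ j, (a j + 1)) + b)
    (V : Submodule k (Polynomial k))
    (hV : V = (Polynomial.degreeLT k b).map (LinearMap.mulLeft k (∏ j, (X - C (r j)) ^ (a j + 1))) ⊔
      ⨆ i, (Polynomial.degreeLT k (a i)).map
        (LinearMap.mulLeft k (∏ j ∈ Finset.univ.erase i, (X - C (r j)) ^ (a j + 1))))
    (p : k) (hp : ∀ j, p ≠ r j) :
    ∃ h ∈ V, h ∈ degreeLT k (m + 1) ∧ h.eval p ≠ 0 := by
  classical
  have hVmap := V_eq_map m r hr a ha b hb N d hN hd V hV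
  obtain ⟨B, hB⟩ : ∃ B : k[X], B = ∏ j, (X - C (r j)) := ⟨_, rfl⟩
  rw [← hB] at hVmap
  have hN1 : 1 ≤ N := by omega
  have hBnat : B.natDegree = m := by
    rw [hB, natDegree_prod_of_monic _ _ (fun j _ => monic_X_sub_C _)]
    simp [natDegree_X_sub_C]
  have hBp : B.eval p ≠ 0 := by
    rw [hB, eval_prod]
    refine Finset.prod_ne_zero_iff.2 fun j _ => ?_
    rw [eval_sub, eval_X, eval_C]
    exact sub_ne_zero.2 (hp j)
  have hterm : ∀ j : Fin m, (∏ l ∈ Finset.univ.erase j, (X - C (r l))).natDegree + 1 = m := by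
    intro j
    rw [natDegree_prod_of_monic _ _ (fun l _ => monic_X_sub_C _)]
    have hm1 : 1 ≤ m := j.pos
    simp [natDegree_X_sub_C]
    omega
  have hGnat : (Gp m r a).natDegree ≤ m := by
    refine natDegree_sum_le_of_forall_le _ _ fun j _ => ?_
    refine (natDegree_C_mul_le _ _).trans ?_
    have := hterm j
    omega
  have hGXnat : (Gp m r a * X).natDegree ≤ m := by
    rw [Gp, Finset.sum_mul]
    refine natDegree_sum_le_of_forall_le _ _ fun j _ => ?_
    refine natDegree_mul_le.trans ?_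
    rw [natDegree_X]
    have h1 := natDegree_C_mul_le ((a j : k)) (∏ l ∈ Finset.univ.erase j, (X - C (r l)))
    have := hterm j
    omega
  have h1form : Lmap B (Gp m r a) 1 = - Gp m r a := by
    rw [Lmap_apply, derivative_one, mul_zero, mul_one, zero_sub]
  have hXform : Lmap B (Gp m r a) X = B - Gp m r a * X := by
    rw [Lmap_apply, derivative_X, mul_one]
  have hmem1 : Lmap B (Gp m r a) 1 ∈ V := by
    rw [hVmap]
    refine Submodule.mem_map.2 ⟨1, ?_, rfl⟩
    rw [mem_degreeLT, degree_one]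
    exact_mod_cast Nat.succ_pos N
  have hmemX : Lmap B (Gp m r a) X ∈ V := by
    rw [hVmap]
    refine Submodule.mem_map.2 ⟨X, ?_, rfl⟩
    rw [mem_degreeLT, degree_X]
    exact_mod_cast (by omega : 1 < N + 1)
  by_cases hG : (Gp m r a).eval p = 0
  · refine ⟨_, hmemX, ?_, ?_⟩
    · rw [hXform, mem_degreeLT]
      refine lt_of_le_of_lt degree_le_natDegree ?_
      have h1 : (B - Gp m r a * X).natDegree ≤ m :=
        (natDegree_sub_le _ _).trans (max_le hBnat.le hGXnat)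
      exact_mod_cast Nat.lt_succ_of_le h1
    · rw [hXform, eval_sub, eval_mul, hG, zero_mul, sub_zero]
      exact hBp
  · refine ⟨_, hmem1, ?_, ?_⟩
    · rw [h1form, mem_degreeLT, degree_neg]
      refine lt_of_le_of_lt degree_le_natDegree ?_
      exact_mod_cast Nat.lt_succ_of_le hGnat
    · rw [h1form, eval_neg]
      exact neg_ne_zero.2 hG

theorem main46 [CharZero k] (m : ℕ) (r : Fin m → k) (hr : Function.Injective r)
    (a : Fin m → ℕ) (ha : ∀ j, 1 ≤ a j) (b : ℕ) (hb : 1 ≤ b) (N d : ℕ)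
    (hN : N = (∑ j, a j) + b) (hd : d + 1 = (∑ j, (a j + 1)) + b)
    (V : Submodule k (Polynomial k))
    (hV : V = (Polynomial.degreeLT k b).map (LinearMap.mulLeft k (∏ j, (X - C (r j)) ^ (a j + 1))) ⊔
      ⨆ i, (Polynomial.degreeLT k (a i)).map
        (LinearMap.mulLeft k (∏ j ∈ Finset.univ.erase i, (X - C (r j)) ^ (a j + 1))))
    (p : k) (hp : ∀ j, p ≠ r j) (V₁ : Submodule k (Polynomial k))
    (hV₁ : V₁ = V ⊓ (Ideal.span {X - C p}).restrictScalars k) :
    (∀ i : Fin m, ∃ ε : ℕ, ε ≤ 1 ∧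
      (∑ n ∈ Finset.range d, Module.finrank k ↥(V₁ ⊓ (Ideal.span {(X - C (r i)) ^ (n + 1)}).restrictScalars k)) + 1 =
        (N - 1).choose 2 + (N - a i) + ε) ∧
    (∃ ε : ℕ, ε ≤ 1 ∧
      (∑ n ∈ Finset.range d, Module.finrank k ↥(V₁ ⊓ Polynomial.degreeLT k (d - n))) + 1 =
        (N - 1).choose 2 + (N - b) + ε) := by
  classical
  obtain ⟨hVN, hroot, hinfty⟩ := S17241.result k m r hr a ha b hb N d hN hd V hV
  haveI : FiniteDimensional k V := Module.finite_of_finrank_pos (by omega)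
  have hker : (Ideal.span {X - C p}).restrictScalars k = LinearMap.ker (leval p) := by
    ext h
    rw [Submodule.restrictScalars_mem, Ideal.mem_span_singleton, dvd_iff_isRoot,
      LinearMap.mem_ker]
    rfl
  obtain ⟨hI, hhIV, hhIF, hhIp⟩ := exists_inf m r hr a ha b hb N d hN hd V hV p hp
  have hV₁le : V₁ ≤ V := by rw [hV₁]; exact inf_le_left
  have hfin : finrank k V₁ + 1 = N := by
    rw [hV₁, hker, finrank_inf_ker V (leval p) ⟨hI, hhIV, hhIp⟩, hVN]
  have hnot : ∀ h ∈ V₁, h.eval p = 0 := by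
    intro h hh
    rw [hV₁, hker] at hh
    exact hh.2
  have hsum1 : ∑ j : Fin m, (a j + 1) = (∑ j, a j) + m := by
    rw [Finset.sum_add_distrib]; simp
  have hdN : d + 1 = N + m := by omega
  have hN1 : 1 ≤ N := by omega
  have hch := choose_pred N hN1
  constructor
  · intro i
    have hai : a i + b ≤ N := by
      have h1 := Finset.single_le_sum (fun j _ => Nat.zero_le (a j)) (Finset.mem_univ i)
      omega
    have hm1 : 1 ≤ m := i.pos
    obtain ⟨h, hhV, hhF, hhp⟩ := exists_root m r hr a ha b hb N d hN hd V hV p hp i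
    have hlo : ¬ V ⊓ (Ideal.span {(X - C (r i)) ^ (N - 1)}).restrictScalars k ≤ V₁ :=
      fun hle => hhp (hnot h (hle ⟨hhV, hhF⟩))
    have hd0 : finrank k ↥(V ⊓ (Ideal.span {(X - C (r i)) ^ (d + 1)}).restrictScalars k) = 0 := by
      rw [hroot i (d + 1)]; split_ifs <;> omega
    have hhi : V ⊓ (Ideal.span {(X - C (r i)) ^ (N + 1)}).restrictScalars k ≤ V₁ := by
      have h0 : finrank k ↥(V ⊓ (Ideal.span {(X - C (r i)) ^ (N + 1)}).restrictScalars k) = 0 := by
        rw [hroot i (N + 1)]; split_ifs <;> omega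
      rw [Submodule.finrank_eq_zero] at h0
      rw [h0]; exact bot_le
    obtain ⟨n₀, hn1, hn2, hsum⟩ := weight_sum V V₁
      (fun n => (Ideal.span {(X - C (r i)) ^ n}).restrictScalars k) (anti_root (r i)) hV₁le N (a i)
      hVN hfin (by omega) (hroot i) d (by omega) hd0 N (N + 1) hN1 le_rfl hlo hhi
    refine ⟨N + 1 - n₀, by omega, ?_⟩
    have hsum' : (∑ n ∈ Finset.range d, finrank k
        ↥(V₁ ⊓ (Ideal.span {(X - C (r i)) ^ (n + 1)}).restrictScalars k)) + (n₀ - 1) =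
        N.choose 2 + (N - a i) := hsum
    omega
  · have hm0 : m = 0 → ∑ j, a j = 0 := by
      intro h; subst h; simp
    have hd0 : finrank k ↥(V ⊓ degreeLT k (d + 1 - (d + 1))) = 0 := by
      rw [hinfty (d + 1)]
      by_cases hmz : m = 0
      · have := hm0 hmz
        split_ifs <;> omega
      · split_ifs <;> omega
    have hlo : ¬ V ⊓ degreeLT k (d + 1 - (N - 1)) ≤ V₁ := by
      intro hle
      apply hhIp
      apply hnot
      apply hle
      refine ⟨hhIV, ?_⟩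
      rw [show d + 1 - (N - 1) = m + 1 by omega]
      exact hhIF
    have hhi : V ⊓ degreeLT k (d + 1 - (N + 1)) ≤ V₁ := by
      have h0 : finrank k ↥(V ⊓ degreeLT k (d + 1 - (N + 1))) = 0 := by
        rw [hinfty (N + 1)]; split_ifs <;> omega
      rw [Submodule.finrank_eq_zero] at h0
      rw [h0]; exact bot_le
    obtain ⟨n₀, hn1, hn2, hsum⟩ := weight_sum V V₁ (fun n => degreeLT k (d + 1 - n))
      (anti_inf d) hV₁le N b hVN hfin (by omega) hinfty d (by omega) hd0 N (N + 1) hN1 le_rfl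
      hlo hhi
    refine ⟨N + 1 - n₀, by omega, ?_⟩
    have hsum' : (∑ n ∈ Finset.range d, finrank k ↥(V₁ ⊓ degreeLT k (d + 1 - (n + 1)))) +
        (n₀ - 1) = N.choose 2 + (N - b) := hsum
    have hcongr : ∑ n ∈ Finset.range d, finrank k ↥(V₁ ⊓ degreeLT k (d - n)) =
        ∑ n ∈ Finset.range d, finrank k ↥(V₁ ⊓ degreeLT k (d + 1 - (n + 1))) :=
      Finset.sum_congr rfl fun n _ => by rw [show d + 1 - (n + 1) = d - n by omega]
    rw [hcongr]
    omega

end Groth.Agent.Lib.Helper9.WronHyp
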